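import Cfsg.Agent.H80.PSolvable

set_option autoImplicit false
set_option linter.style.haveILetI false
set_option linter.unusedVariables false

namespace Cfsg.Agent.H80

open Cfsg
open scoped Pointwise

variable {G : Type*} [Group G]

/-- `[M ⊔ K : M] = [K : M ⊓ K]` for `K` normal. -/
theorem relIndex_sup_eq_inf_relIndex [Finite G] (M K : Subgroup G) [K.Normal] :
    M.relIndex (M ⊔ K) = (M ⊓ K).relIndex K := by
  have h3 : K.relIndex (M ⊔ K) = (M ⊓ K).relIndex M := by
    rw [Subgroup.relIndex_sup_right, Subgroup.inf_relIndex_left]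
  have h4 : Nat.card M = Nat.card (M ⊓ K : Subgroup G) * (M ⊓ K).relIndex M :=
    card_eq_card_mul_relIndex inf_le_left
  have h5 : Nat.card K = Nat.card (M ⊓ K : Subgroup G) * (M ⊓ K).relIndex K :=
    card_eq_card_mul_relIndex inf_le_right
  have h1 : Nat.card (M ⊔ K : Subgroup G) = Nat.card M * M.relIndex (M ⊔ K) :=
    card_eq_card_mul_relIndex le_sup_left
  have h2 : Nat.card (M ⊔ K : Subgroup G) = Nat.card K * K.relIndex (M ⊔ K) :=
    card_eq_card_mul_relIndex le_sup_right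
  have hpos : 0 < Nat.card (M ⊓ K : Subgroup G) * (M ⊓ K).relIndex M := by
    rw [← h4]; exact Nat.card_pos
  have h6 : Nat.card (M ⊓ K : Subgroup G) * (M ⊓ K).relIndex M * M.relIndex (M ⊔ K) =
      Nat.card (M ⊓ K : Subgroup G) * (M ⊓ K).relIndex M * (M ⊓ K).relIndex K := by
    calc Nat.card (M ⊓ K : Subgroup G) * (M ⊓ K).relIndex M * M.relIndex (M ⊔ K)
        = Nat.card M * M.relIndex (M ⊔ K) := by rw [h4]
      _ = Nat.card (M ⊔ K : Subgroup G) := h1.symm
      _ = Nat.card K * K.relIndex (M ⊔ K) := h2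
      _ = Nat.card (M ⊓ K : Subgroup G) * (M ⊓ K).relIndex K * (M ⊓ K).relIndex M := by
          rw [h3, h5]
      _ = Nat.card (M ⊓ K : Subgroup G) * (M ⊓ K).relIndex M * (M ⊓ K).relIndex K := by ring
  exact Nat.eq_of_mul_eq_mul_left hpos h6

theorem conj_mem_normalizer_conj_smul (g v : G) (T : Subgroup G)
    (hv : v ∈ Subgroup.normalizer (T : Set G)) :
    g * v * g⁻¹ ∈ Subgroup.normalizer ((MulAut.conj g • T : Subgroup G) : Set G) := by
  rw [Subgroup.mem_normalizer_iff]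
  intro x
  rw [mem_conj_smul_iff, mem_conj_smul_iff]
  have h1 := Subgroup.mem_normalizer_iff.mp hv (g⁻¹ * x * g)
  rw [h1]
  have : v * (g⁻¹ * x * g) * v⁻¹ = g⁻¹ * (g * v * g⁻¹ * x * (g * v * g⁻¹)⁻¹) * g := by group
  rw [this]

/-- A `q`-subgroup `Q` normalizes some Sylow `p`-subgroup of a normal `q'`-subgroup `K`. -/
theorem exists_sylow_normalized [Finite G] (p q : ℕ) [Fact p.Prime] [Fact q.Prime]
    (K : Subgroup G) [K.Normal] (hK : (Nat.card K).Coprime q) (Q : Subgroup G)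
    (hQ : IsPGroup q Q) :
    ∃ S : Sylow p K,
      Q ≤ Subgroup.normalizer (((S : Subgroup K).map K.subtype : Subgroup G) : Set G) := by
  have hq : q.Prime := Fact.out
  obtain ⟨S₀⟩ : Nonempty (Sylow p K) := inferInstance
  set S₀' : Subgroup G := (S₀ : Subgroup K).map K.subtype with hS₀'
  have hfr : Subgroup.normalizer (S₀' : Set G) ⊔ K = ⊤ := Sylow.normalizer_sup_eq_top S₀
  have hidx : ¬ q ∣ (Subgroup.normalizer (S₀' : Set G)).index := by
    intro hdvd
    have h1 := hdvd.trans (index_dvd_card_of_sup_eq_top _ K hfr)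
    exact (Nat.Prime.coprime_iff_not_dvd hq).mp hK.symm h1
  obtain ⟨Q₁⟩ : Nonempty (Sylow q (Subgroup.normalizer (S₀' : Set G))) := inferInstance
  obtain ⟨Q₁', hQ₁'⟩ := exists_sylow_of_sylow_subgroup q _ hidx Q₁
  have hQ₁'le : (Q₁' : Subgroup G) ≤ Subgroup.normalizer (S₀' : Set G) := by
    rw [hQ₁']; exact Subgroup.map_subtype_le _
  obtain ⟨Q₂, hQ₂⟩ := hQ.exists_le_sylow
  obtain ⟨g, hg⟩ := MulAction.exists_smul_eq G Q₁' Q₂
  -- the conjugate Sylow subgroup of K
  have hle : MulAut.conj g • S₀' ≤ K := conj_smul_le_normal K g S₀' (Subgroup.map_subtype_le _)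
  have hcard : Nat.card ((MulAut.conj g • S₀').subgroupOf K) = p ^ (Nat.card K).factorization p := by
    rw [Nat.card_congr (Subgroup.subgroupOfEquivOfLe hle).toEquiv, card_conj_smul, hS₀',
      Subgroup.card_map_of_injective K.subtype_injective, Sylow.card_eq_multiplicity]
  refine ⟨Sylow.ofCard _ hcard, ?_⟩
  rw [Sylow.coe_ofCard, Subgroup.map_subgroupOf_eq_of_le hle]
  intro u hu
  have hu2 : u ∈ (Q₂ : Subgroup G) := hQ₂ hu
  rw [← hg, Sylow.coe_subgroup_smul, mem_conj_smul_iff] at hu2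
  have h3 := conj_mem_normalizer_conj_smul g _ S₀' (hQ₁'le hu2)
  have : g * (g⁻¹ * u * g) * g⁻¹ = u := by group
  rwa [this] at h3

/-- If a `q`-element `y` normalizes `T = k T' k⁻¹` (`k` in a normal `q'`-subgroup `K`) and
centralizes `T'`, then `y` centralizes `T`. -/
theorem centralizes_of_normalizes [Finite G] (q : ℕ) [Fact q.Prime] (K : Subgroup G) [hKn : K.Normal]
    (hK : (Nat.card K).Coprime q) (T T' : Subgroup G) (k : G) (hk : k ∈ K)
    (hT : T = MulAut.conj k • T') (y : G) (hy : ∃ j : ℕ, orderOf y = q ^ j)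
    (hyT : y ∈ Subgroup.normalizer (T : Set G))
    (hyT' : y ∈ Subgroup.centralizer (T' : Set G)) : y ∈ Subgroup.centralizer (T : Set G) := by
  set C := Subgroup.centralizer (T : Set G) with hC
  -- z = k y k⁻¹ centralizes T
  have hz : k * y * k⁻¹ ∈ C := by
    rw [hC, Subgroup.mem_centralizer_iff]
    intro t ht
    have ht' : k⁻¹ * t * k ∈ T' := by
      have : t ∈ MulAut.conj k • T' := hT ▸ ht
      exact (mem_conj_smul_iff k t T').mp this
    have h1 := Subgroup.mem_centralizer_iff.mp hyT' _ ht'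
    have e1 : t * (k * y * k⁻¹) = k * ((k⁻¹ * t * k) * y) * k⁻¹ := by group
    have e2 : k * y * k⁻¹ * t = k * (y * (k⁻¹ * t * k)) * k⁻¹ := by group
    rw [e1, e2, h1]
  -- d = z⁻¹ y ∈ K normalizes T
  set d := (k * y * k⁻¹)⁻¹ * y with hd
  have hdK : d ∈ K := by
    have : d = k * (y⁻¹ * k⁻¹ * y⁻¹⁻¹) := by rw [hd]; group
    rw [this]
    exact K.mul_mem hk (hKn.conj_mem _ (K.inv_mem hk) y⁻¹)
  have hCN : C ≤ Subgroup.normalizer (T : Set G) := by
    intro c hc
    rw [Subgroup.mem_normalizer_iff]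
    intro t
    have hc' := Subgroup.mem_centralizer_iff.mp hc
    constructor
    · intro ht
      have := hc' t ht
      have e : c * t * c⁻¹ = t := by rw [← this]; group
      rw [e]; exact ht
    · intro ht
      have := hc' _ ht
      have e : c * t * c⁻¹ = t := by
        have h2 : c * t * c⁻¹ * c = c * (c * t * c⁻¹) := this
        have h3 : c * t * c⁻¹ * c = c * t := by group
        rw [h3] at h2
        exact (mul_left_cancel h2).symm
      rw [e] at ht; exact ht
  have hdN : d ∈ Subgroup.normalizer (T : Set G) :=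
    Subgroup.mul_mem _ (Subgroup.inv_mem _ (hCN hz)) hyT
  -- d normalizes C
  have hdC : ∀ m : ℕ, ∀ c ∈ C, d ^ m * c * (d ^ m)⁻¹ ∈ C := by
    intro m c hc
    have hdm : d ^ m ∈ Subgroup.normalizer (T : Set G) := Subgroup.pow_mem _ hdN m
    rw [hC, Subgroup.mem_centralizer_iff]
    intro t ht
    have ht' : (d ^ m)⁻¹ * t * (d ^ m) ∈ T := by
      have := (Subgroup.mem_normalizer_iff.mp (Subgroup.inv_mem _ hdm) t).mp ht
      simpa using this
    have h1 := Subgroup.mem_centralizer_iff.mp hc _ ht'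
    have e1 : t * (d ^ m * c * (d ^ m)⁻¹) = d ^ m * (((d ^ m)⁻¹ * t * d ^ m) * c) * (d ^ m)⁻¹ := by group
    have e2 : d ^ m * c * (d ^ m)⁻¹ * t = d ^ m * (c * ((d ^ m)⁻¹ * t * d ^ m)) * (d ^ m)⁻¹ := by group
    rw [e1, e2, h1]
  have hyzd : y = (k * y * k⁻¹) * d := by rw [hd]; group
  have hpow : ∀ m : ℕ, y ^ m * (d ^ m)⁻¹ ∈ C := by
    intro m
    induction m with
    | zero => simp
    | succ m ih =>
      have e : y ^ (m + 1) * (d ^ (m + 1))⁻¹ =
          (y ^ m * (d ^ m)⁻¹) * (d ^ m * (k * y * k⁻¹) * (d ^ m)⁻¹) := by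
        rw [pow_succ, pow_succ]
        nth_rewrite 2 [hyzd]
        group
      rw [e]
      exact C.mul_mem ih (hdC m _ hz)
  have hdone : d ^ Nat.card K = 1 := by
    have h1 : (⟨d, hdK⟩ : K) ^ Nat.card K = 1 := pow_card_eq_one'
    have h2 : ((⟨d, hdK⟩ : K) ^ Nat.card K : K).1 = ((1 : K) : G) := congrArg Subtype.val h1
    rw [Subgroup.coe_pow] at h2
    exact h2
  have hyC : y ^ Nat.card K ∈ C := by
    have := hpow (Nat.card K)
    rwa [hdone, inv_one, mul_one] at this
  obtain ⟨j, hj⟩ := hy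
  have hcop : (Nat.card K).Coprime (orderOf y) := by
    rw [hj]; exact Nat.Coprime.pow_right j hK
  obtain ⟨m, hm⟩ := exists_pow_eq_self_of_coprime hcop
  rw [← hm]
  exact C.pow_mem hyC m

/-- Relative Frattini argument: if `Q` is a Sylow `q`-subgroup of `G` lying in `X`, then
`N_G(X) ≤ X (N_G(Q) ∩ N_G(X))`. -/
theorem normalizer_le_sup_of_sylow [Finite G] (q : ℕ) [Fact q.Prime] (X : Subgroup G)
    (Q : Sylow q G) (hQX : (Q : Subgroup G) ≤ X) :
    Subgroup.normalizer (X : Set G) ≤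
      X ⊔ (Subgroup.normalizer ((Q : Subgroup G) : Set G) ⊓ Subgroup.normalizer (X : Set G)) := by
  intro x hx
  have hxQ : ((x • Q : Sylow q G) : Subgroup G) ≤ X := by
    rw [Sylow.coe_subgroup_smul]
    calc MulAut.conj x • (Q : Subgroup G) ≤ MulAut.conj x • X :=
          Subgroup.pointwise_smul_le_pointwise_smul_iff.mpr hQX
      _ = X := conj_smul_eq_of_mem_normalizer x X hx
  obtain ⟨k, hk⟩ := MulAction.exists_smul_eq X (Q.subtype hQX) ((x • Q).subtype hxQ)
  rw [Sylow.smul_subtype] at hk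
  have hk' : (k : G) • Q = x • Q := Sylow.subtype_injective hk
  have h1 : ((k : G)⁻¹ * x) • Q = Q := by
    rw [mul_smul, ← hk', inv_smul_smul]
  have h2 : (k : G)⁻¹ * x ∈ Subgroup.normalizer ((Q : Subgroup G) : Set G) :=
    Sylow.smul_eq_iff_mem_normalizer.mp h1
  have h3 : (k : G)⁻¹ * x ∈ Subgroup.normalizer (X : Set G) :=
    Subgroup.mul_mem _ (Subgroup.inv_mem _ (Subgroup.le_normalizer k.2)) hx
  have : x = (k : G) * ((k : G)⁻¹ * x) := by group
  rw [this]
  exact Subgroup.mul_mem_sup k.2 ⟨h2, h3⟩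

end Cfsg.Agent.H80
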