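import Mathlib
import Cfsg.Agent.H88.SUnE

/-!
# S2546-SYL / S2547-SYL: the unitriangular subgroup of `UG n φ` is a Sylow `p`-subgroup

Team pieces for helper88 (`Cfsg.Agent.H80.StU.ug_sylow`) and helper12
(`Cfsg.Agent.H80.StU.so_sylow`), both through `sylow_of_root`, whose only hypothesis is the
existence of simple root elements. `norm_upper_of_root` repeats helper88's `norm_upper` with that
hypothesis in place of `Good φ`; `root_id` repeats `exists_root` for `φ = id`, `n` odd.
-/

set_option autoImplicit false
set_option linter.unusedSectionVars false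
set_option linter.unusedVariables false

namespace Cfsg.Agent.H80.StU

open Matrix Cfsg.Agent.H88.Un

section

variable {n : ℕ} {K : Type*} [Field K] [Fintype K] {φ : K →+* K}

/-- An element conjugating the unitriangular subgroup into itself is triangular (root-element
hypothesis instead of `Good φ`). -/
theorem norm_upper_of_root
    (hroot : ∀ i j : Fin n, j.val = i.val + 1 → ∃ x : UG n φ, x ∈ EL φ (rk n) ∧ x.1.1 i j ≠ 0)
    (g : UG n φ)
    (hg : ∀ u ∈ EL φ (rk n), g * u * g⁻¹ ∈ EL φ (rk n)) : g ∈ PL φ (rk n) := by
  have key : ∀ d : ℕ, ∀ k : Fin n, n - 1 - k.val = d → ∀ l : Fin n, l < k → g.1.1 k l = 0 := by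
    intro d
    induction d using Nat.strong_induction_on with
    | _ d ihd =>
      intro k hk
      have hrows : ∀ r : Fin n, k < r → ∀ l : Fin n, l < r → g.1.1 r l = 0 := by
        intro r hr l hl
        have hr' : k.val < r.val := hr
        exact ihd (n - 1 - r.val) (by have := r.2; omega) r rfl l hl
      have inner : ∀ e : ℕ, ∀ l : Fin n, l.val = e → l < k → g.1.1 k l = 0 := by
        intro e
        induction e using Nat.strong_induction_on with
        | _ e ihe =>
          intro l hl hlk
          have hlk' : l.val < k.val := hlk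
          let j : Fin n := ⟨l.val + 1, by have := k.2; omega⟩
          obtain ⟨x, hxU, hx0⟩ := hroot l j rfl
          have hu := hg x hxU
          have heq : g.1.1 * x.1.1 = (g * x * g⁻¹).1.1 * g.1.1 := by
            rw [← mul_val, ← mul_val, inv_mul_cancel_right]
          have h1 := congrFun (congrFun heq k) j
          rw [Matrix.mul_apply, Matrix.mul_apply] at h1
          have hlj : l ≠ j := fun e' => by
            have := congrArg Fin.val e'
            simp only [j] at this
            omega
          have h2 : ∑ r, g.1.1 k r * x.1.1 r j = g.1.1 k l * x.1.1 l j + g.1.1 k j * x.1.1 j j := by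
            apply Finset.sum_eq_add l j hlj
            · intro r _ hr
              by_cases hrl : r.val < l.val
              · rw [ihe r.val (by omega) r rfl (lt_trans hrl hlk), zero_mul]
              · have hrj : j.val < r.val := by
                  have h3 : r.val ≠ l.val := fun e' => hr.1 (Fin.ext e')
                  have h4 : r.val ≠ j.val := fun e' => hr.2 (Fin.ext e')
                  simp only [j] at h4 ⊢
                  omega
                rw [hxU r j (le_of_lt hrj), Matrix.one_apply_ne (fun e' => by
                  rw [e'] at hrj; exact lt_irrefl _ hrj), mul_zero]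
            · intro h; exact absurd (Finset.mem_univ _) h
            · intro h; exact absurd (Finset.mem_univ _) h
          have h3 : ∑ r, (g * x * g⁻¹).1.1 k r * g.1.1 r j = g.1.1 k j := by
            rw [Finset.sum_eq_single k]
            · rw [hu k k le_rfl, Matrix.one_apply_eq, one_mul]
            · intro r _ hr
              by_cases hrk : r.val < k.val
              · rw [hu k r (le_of_lt hrk), Matrix.one_apply_ne (Ne.symm hr), zero_mul]
              · have hkr : k < r := by
                  have h4 : r.val ≠ k.val := fun e' => hr (Fin.ext e')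
                  show k.val < r.val
                  omega
                rw [hrows r hkr j (by
                  show j.val < r.val
                  have : k.val < r.val := hkr
                  simp only [j]
                  omega), mul_zero]
            · intro h; exact absurd (Finset.mem_univ _) h
          rw [h2, h3, hxU j j le_rfl, Matrix.one_apply_eq, mul_one] at h1
          have h4 : g.1.1 k l * x.1.1 l j = 0 := by linear_combination h1
          exact (mul_eq_zero.1 h4).resolve_right hx0
      intro l hl
      exact inner l.val l rfl hl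
  intro k l hkl
  exact key _ k rfl l hkl

/-- `U = EL φ (rk n)` is a `p`-group of index prime to `p` in `UG n φ`, given simple root
elements. -/
theorem sylow_of_root
    (hroot : ∀ i j : Fin n, j.val = i.val + 1 → ∃ x : UG n φ, x ∈ EL φ (rk n) ∧ x.1.1 i j ≠ 0)
    (p : ℕ) [Fact p.Prime] [CharP K p] :
    IsPGroup p (EL φ (rk n) : Subgroup (UG n φ)) ∧
      ¬ p ∣ (EL φ (rk n) : Subgroup (UG n φ)).index := by
  obtain ⟨f, -, hK⟩ := FiniteField.card K p
  have hU : IsPGroup p (EL φ (rk n) : Subgroup (UG n φ)) := by
    intro u
    exact ⟨(f : ℕ) * ∑ j : Fin n, (j : ℕ), Subtype.ext (U_pow p hK u.2)⟩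
  refine ⟨hU, ?_⟩
  obtain ⟨P, hP⟩ := hU.exists_le_sylow
  have hPU : (P : Subgroup (UG n φ)) = EL φ (rk n) := by
    by_contra hne
    have hnil : Group.IsNilpotent P := P.isPGroup'.isNilpotent
    have hH : (EL φ (rk n)).subgroupOf P < ⊤ := by
      rw [lt_top_iff_ne_top]
      intro e
      exact hne (le_antisymm (Subgroup.subgroupOf_eq_top.1 e) hP)
    have hnc := Group.normalizerCondition_of_isNilpotent (G := P) _ hH
    obtain ⟨y, hyN, hyH⟩ := SetLike.exists_of_lt hnc
    apply hyH
    rw [Subgroup.mem_subgroupOf]
    have hconj : ∀ x ∈ EL φ (rk n), (y : UG n φ) * x * (y : UG n φ)⁻¹ ∈ EL φ (rk n) := by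
      intro x hx
      have h1 : (⟨x, hP hx⟩ : P) ∈ (EL φ (rk n)).subgroupOf P := by
        rw [Subgroup.mem_subgroupOf]
        exact hx
      have h2 := (Subgroup.mem_normalizer_iff.1 hyN ⟨x, hP hx⟩).1 h1
      rw [Subgroup.mem_subgroupOf] at h2
      exact h2
    have hgB : (y : UG n φ) ∈ PL φ (rk n) := norm_upper_of_root hroot _ hconj
    obtain ⟨k, hk⟩ := P.isPGroup' y
    have hk' : (y : UG n φ) ^ (p ^ k) = 1 := by
      have h0 := congrArg Subtype.val hk
      simpa using h0
    have hd : ∀ i, ((y : UG n φ).1.1 i i) ^ (p ^ k) = 1 := by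
      intro i
      rw [← diag_pow hgB, hk', one_val, Matrix.one_apply_eq]
    have hall : ∀ i, (y : UG n φ).1.1 i i = 1 := by
      intro i
      have h1 : ((y : UG n φ).1.1 i i - 1) ^ (p ^ k) = 0 := by
        rw [sub_pow_char_pow, hd, one_pow, sub_self]
      exact sub_eq_zero.1 ((pow_eq_zero_iff (pow_pos (Fact.out : p.Prime).pos k).ne').1 h1)
    obtain ⟨t, u, ht, hu, hgtu⟩ := exists_torus hgB
    have ht1 : t = 1 := by
      apply ext_val
      rw [ht, one_val, ← Matrix.diagonal_one]
      congr 1
      funext i
      exact hall i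
    rw [hgtu, ht1, one_mul]
    exact hu
  rw [← hPU]
  exact P.not_dvd_index

/-- `S2546-SYL`: `U = EL φ (rk n)` is a `p`-group of index prime to `p` in `UG n φ`. -/
theorem ug_sylow {n : ℕ} {K : Type*} [Field K] [Fintype K] {φ : K →+* K} [Invol φ] (hG : Good φ)
    (p : ℕ) [Fact p.Prime] [CharP K p] :
    IsPGroup p (EL φ (rk n) : Subgroup (UG n φ)) ∧
      ¬ p ∣ (EL φ (rk n) : Subgroup (UG n φ)).index :=
  sylow_of_root (fun i j hj => exists_root hG i j hj) p

/-- The posted statement of `S2546-SYL`, verbatim. -/
example {n : ℕ} {K : Type*} [Field K] [Fintype K] {φ : K →+* K} [Invol φ] (hG : Good φ)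
    (p : ℕ) [Fact p.Prime] [CharP K p] :
    IsPGroup p (EL φ (rk n) : Subgroup (UG n φ)) ∧
      ¬ p ∣ (EL φ (rk n) : Subgroup (UG n φ)).index :=
  ug_sylow hG p

end

/-- The identity is an involution. -/
theorem invol_id {F : Type*} [Field F] : Invol (RingHom.id F) := ⟨fun _ => rfl⟩

attribute [local instance] invol_id

/-- A simple root element with nonzero entry at `(i, i+1)`, for `φ = id`, `n` odd, `2 ≠ 0`. -/
theorem root_id {F : Type*} [Field F] [Fintype F] (h2 : (2 : F) ≠ 0) (m : ℕ)
    (i j : Fin (2 * m + 1)) (hj : j.val = i.val + 1) :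
    ∃ x : UG (2 * m + 1) (RingHom.id F), x ∈ EL (RingHom.id F) (rk (2 * m + 1)) ∧
      x.1.1 i j ≠ 0 := by
  obtain ⟨θ, hθ⟩ : ∃ θ : F, θ + (RingHom.id F) θ = 1 := by
    refine ⟨1 / 2, ?_⟩
    rw [RingHom.id_apply]
    field_simp
    norm_num
  have hij : i ≠ j := fun e => by rw [e] at hj; omega
  have hri : i.rev.val = 2 * m + 1 - 1 - i.val := rev_val i
  have hrj : j.rev.val = 2 * m + 1 - 1 - j.val := rev_val j
  have hin : i.val < 2 * m + 1 := i.2
  have hjn : j.val < 2 * m + 1 := j.2
  by_cases hi : i = i.rev
  · -- `i` is the middle index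
    have hk : j.rev ≠ i := by
      intro e
      have := congrArg Fin.val e
      have := congrArg Fin.val hi
      omega
    refine ⟨xb hi.symm hk 1 (-θ) (xb_one_param hθ), ?_, ?_⟩
    · apply xb_mem_EL
      · show j.rev.val < i.val
        have := congrArg Fin.val hi
        omega
      · show i.val < j.rev.rev.val
        rw [Fin.rev_rev]
        omega
    · rw [xb_apply, Matrix.one_apply_ne hij, if_neg (fun h => hk h.1.symm), Fin.rev_rev,
        if_pos ⟨rfl, rfl⟩, if_neg (fun h => hk h.1.symm), map_one]
      norm_num
  · by_cases hjm : j = j.rev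
    · refine ⟨xb hjm.symm hij 1 (-θ) (xb_one_param hθ), ?_, ?_⟩
      · apply xb_mem_EL
        · show i.val < j.val
          omega
        · show j.val < i.rev.val
          have := congrArg Fin.val hjm
          omega
      · have h1 : j ≠ i.rev := by
          intro e
          have := congrArg Fin.val e
          have := congrArg Fin.val hjm
          omega
        rw [xb_apply, Matrix.one_apply_ne hij, if_pos ⟨rfl, rfl⟩, if_neg (fun h => hij h.1),
          if_neg (fun h => h1 h.2)]
        norm_num
    · refine ⟨xs hij hi hjm 1, ?_, ?_⟩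
      · apply xs_mem_EL
        · show i.val < j.val
          omega
        · show j.rev.val < i.rev.val
          omega
      · rw [xs_apply, Matrix.one_apply_ne hij, if_pos ⟨rfl, rfl⟩, zero_add]
        have h1 : ¬ (i = j.rev ∧ j = i.rev) := by
          rintro ⟨e1, -⟩
          have := congrArg Fin.val e1
          omega
        rw [if_neg h1, sub_zero]
        exact one_ne_zero

/-- `S2547-SYL`: the unitriangular subgroup of `SO_{2m+1}` is a Sylow `p`-subgroup. -/
theorem so_sylow {F : Type*} [Field F] [Fintype F] (p : ℕ) [Fact p.Prime] [CharP F p]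
    (h2 : (2 : F) ≠ 0) (m : ℕ) :
    IsPGroup p (EL (RingHom.id F) (rk (2 * m + 1)) : Subgroup (UG (2 * m + 1) (RingHom.id F))) ∧
    ¬ p ∣ (EL (RingHom.id F) (rk (2 * m + 1)) : Subgroup (UG (2 * m + 1) (RingHom.id F))).index :=
  sylow_of_root (fun i j hj => root_id h2 m i j hj) p

/-- The posted statement of `S2547-SYL`, verbatim. -/
example {F : Type*} [Field F] [Fintype F] (p : ℕ) [Fact p.Prime] [CharP F p]
    (h2 : (2 : F) ≠ 0) (m : ℕ) :
    IsPGroup p (EL (RingHom.id F) (rk (2 * m + 1)) : Subgroup (UG (2 * m + 1) (RingHom.id F))) ∧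
    ¬ p ∣ (EL (RingHom.id F) (rk (2 * m + 1)) : Subgroup (UG (2 * m + 1) (RingHom.id F))).index :=
  so_sylow p h2 m

end Cfsg.Agent.H80.StU
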