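import Cfsg.Agent.H80.AutIrr

set_option autoImplicit false
set_option linter.unusedSectionVars false
set_option linter.style.haveILetI false

/-!
# helper80: block idempotents of subgroups inside `ℂ[G]` and normal inclusion of Brauer pairs

* `zB K f = extZero K (blockElt f)`: the idempotent of a set of characters of `K`, in `ℂ[G]`.
* `zB_mem_brRing`: for a `P`-stable block `f` of `K ⊇ C_G(P)`, `zB K f ∈ brRing P`.
* `exists_stable_block`: existence of a `P`-stable block `f` of `K` with `brLam P ξ (zB K f) ≡ 1`.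
* `brLam_radical`, `step_congr`, `step_up`, `step_down`: the passage between a normal subpair
  `(R, g) ◁ (P, e)` and central characters of truncations to `C_G(R)`.
-/

namespace Cfsg.Agent.H80

open Cfsg Cfsg.Agent.H20 Cfsg.Agent.H4

universe u

variable {G : Type u} [Group G] [Fintype G] {M : Ideal AlgInt}

/-- The idempotent of a set of irreducible characters of the subgroup `K`, inside `ℂ[G]`. -/
noncomputable def zB (K : Subgroup G) [Fintype K] (f : Set (IrrCharacter K)) :
    MonoidAlgebra ℂ G := extZero K (blockElt f)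

section zB

variable (K : Subgroup G) [Fintype K]

theorem zB_mul_self (f : Set (IrrCharacter K)) : zB K f * zB K f = zB K f := by
  unfold zB
  rw [← extZero_mul, blockElt_mul_self]

theorem zB_mul_of_ne (hM : M.IsPrime) {f f' : Set (IrrCharacter K)} (hf : IsPBlock M f)
    (hf' : IsPBlock M f') (hne : f ≠ f') : zB K f * zB K f' = 0 := by
  unfold zB
  rw [← extZero_mul, blockElt_mul_blockElt, blocks_inter_eq_empty hM hf hf' hne, blockElt_empty]
  exact map_zero _

open scoped Classical in
theorem sum_zB (hM : M.IsPrime) : ∑ f ∈ blocksFinset M K, zB K f = 1 := by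
  unfold zB
  rw [← extZero_sum, sum_blockElt_blocks hM, extZero_one]

theorem truncTo_zB (f : Set (IrrCharacter K)) : truncTo K (zB K f) = blockElt f :=
  truncTo_extZero K _

theorem isInv_zB_self (f : Set (IrrCharacter K)) : IsInv K (zB K f) :=
  isInv_extZero (isCF_blockElt f)

theorem coeff_zB_memLocalRing (hM : M.IsPrime) {f : Set (IrrCharacter K)} (hf : IsPBlock M f)
    (g : G) : MemLocalRing M ((zB K f).coeff g) := by
  obtain ⟨χ, rfl⟩ := hf
  exact coeff_extZero_mem_of K _ (localRing M hM).toAddSubgroup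
    (fun k => by rw [coeff_blockElt]; exact blockCoeff_memLocalRing hM χ k) g

theorem brauerOmega_subgroupBlockCoeff (P : Subgroup G)
    [Fintype (Subgroup.centralizer (P : Set G))] (f : Set (IrrCharacter K))
    (ξ : Subgroup.centralizer (P : Set G) → ℂ) :
    brauerOmega P (subgroupBlockCoeff K f) ξ = brLam P ξ (zB K f) :=
  brauerOmega_eq P _ (zB K f) (fun g => subgroupBlockCoeff_eq K f g) ξ

/-- A block of `K` stabilized by the elements of `P` has a `P`-invariant idempotent. -/
theorem isInv_zB_of_stab (hM : M.IsPrime) {f : Set (IrrCharacter K)} (hf : IsPBlock M f)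
    (P : Subgroup G) (hstab : ∀ x ∈ P, StabilizesBlock K f x) : IsInv P (zB K f) := by
  intro x hx g
  obtain ⟨hxn, hfix⟩ := (stabilizesBlock_iff hM K hf x⁻¹).mp (hstab _ (inv_mem hx))
  have h := coeff_extZero_blockElt_autIrr K x⁻¹ hxn f g
  rw [hfix, inv_inv] at h
  exact h.symm

theorem zB_mem_brRing (hM : M.IsPrime) {f : Set (IrrCharacter K)} (hf : IsPBlock M f)
    (P : Subgroup G) (hCK : Subgroup.centralizer (P : Set G) ≤ K)
    (hstab : ∀ x ∈ P, StabilizesBlock K f x) : zB K f ∈ brRing P hM :=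
  mem_brRing.mpr ⟨isInv_zB_of_stab K hM hf P hstab, isInv_mono hCK (isInv_zB_self K f),
    coeff_zB_memLocalRing K hM hf⟩

end zB

/-! ### Truncation through an intermediate subgroup -/

theorem truncTo_extZero_truncTo {C K : Subgroup G} (hCK : C ≤ K) (z : MonoidAlgebra ℂ G) :
    truncTo C (extZero K (truncTo K z)) = truncTo C z := by
  apply truncTo_ext
  intro c
  have h := coeff_extZero_coe K (truncTo K z) ⟨(c : G), hCK c.2⟩
  rw [coeff_truncTo] at h
  exact h

theorem isInv_extZero_truncTo {P K : Subgroup G} (hPK : P ≤ Subgroup.normalizer (K : Set G))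
    {z : MonoidAlgebra ℂ G} (hz : IsInv P z) : IsInv P (extZero K (truncTo K z)) := by
  intro x hx g
  have hxn := hPK hx
  by_cases hg : g ∈ K
  · have hg' : x * g * x⁻¹ ∈ K := (Subgroup.mem_normalizer_iff.mp hxn g).mp hg
    have e1 := coeff_extZero_coe K (truncTo K z) ⟨g, hg⟩
    have e2 := coeff_extZero_coe K (truncTo K z) ⟨x * g * x⁻¹, hg'⟩
    rw [coeff_truncTo] at e1 e2
    simp only at e1 e2
    rw [e1, e2, hz x hx]
  · have hg' : x * g * x⁻¹ ∉ K := fun h => hg ((Subgroup.mem_normalizer_iff.mp hxn g).mpr h)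
    rw [coeff_extZero_of_not_mem K _ hg, coeff_extZero_of_not_mem K _ hg']

theorem extZero_truncTo_mem_brRing (hM : M.IsPrime) {P K : Subgroup G} [Fintype K]
    (hPK : P ≤ Subgroup.normalizer (K : Set G)) (hCK : Subgroup.centralizer (P : Set G) ≤ K)
    {z : MonoidAlgebra ℂ G} (hz : z ∈ brRing P hM) (hzK : IsInv K z) :
    extZero K (truncTo K z) ∈ brRing P hM := by
  have hz' := mem_brRing.mp hz
  refine mem_brRing.mpr ⟨isInv_extZero_truncTo hPK hz'.1,
    isInv_mono hCK (isInv_extZero (isCF_truncTo hzK)), fun g => ?_⟩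
  exact coeff_extZero_mem_of K _ (localRing M hM).toAddSubgroup
    (fun k => by rw [coeff_truncTo]; exact hz'.2.2 _) g

/-! ### Existence of a stable block -/

section Exists

variable (p : ℕ) [Fact p.Prime] (P : Subgroup G)
  [Fintype (Subgroup.centralizer (P : Set G))] (K : Subgroup G) [Fintype K]

/-- For a `p`-subgroup `P` normalizing `K ⊇ C_G(P)` and an irreducible character `ξ` of `C_G(P)`
there is a `P`-stable block `f` of `K` with `brLam P ξ (zB K f) ≡ 1`. -/
theorem exists_stable_block (hM : IsPModular p M) (hP : IsPGroup p P) (hPK : P ≤ Subgroup.normalizer (K : Set G))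
    (hCK : Subgroup.centralizer (P : Set G) ≤ K)
    (ξ : IrrCharacter (Subgroup.centralizer (P : Set G))) :
    ∃ f : Set (IrrCharacter K), IsPBlock M f ∧ (∀ x ∈ P, StabilizesBlock K f x) ∧
      MemLocalIdeal M (brLam P ξ.1 (zB K f) - 1) := by
  classical
  have hMp := isPrime_of_isPModular hM
  -- the action of `P` on the characters of `K`
  obtain ⟨φ, hφ⟩ : ∃ φ : P →* MulAut K, φ = K.normalizerMonoidHom.comp (Subgroup.inclusion hPK) :=
    ⟨_, rfl⟩
  have hφx : ∀ u : P, φ u = conjAut K (u : G) (hPK u.2) := fun u => by rw [hφ]; rfl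
  -- the weight
  obtain ⟨w, hw⟩ : ∃ w : Set (IrrCharacter K) → ℂ, w = fun A => brLam P ξ.1 (zB K A) := ⟨_, rfl⟩
  have hwinv : ∀ (A : Set (IrrCharacter K)) (u : P), w (autIrr (φ u) '' A) = w A := by
    intro A u
    rw [hw]
    show omega ξ.1 (truncTo _ _) = omega ξ.1 (truncTo _ _)
    congr 1
    apply truncTo_ext
    intro c
    rw [hφx]
    unfold zB
    rw [coeff_extZero_blockElt_autIrr]
    congr 1
    have hc := Subgroup.mem_centralizer_iff.mp c.2 (u : G) u.2
    calc (u : G)⁻¹ * (c : G) * (u : G) = (u : G)⁻¹ * ((c : G) * (u : G)) := by group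
      _ = (u : G)⁻¹ * ((u : G) * (c : G)) := by rw [hc]
      _ = (c : G) := by group
  have hwR : ∀ A ∈ blocksFinset M K, MemLocalRing M (w A) := by
    intro A hA
    rw [hw]
    have hA' := mem_blocksFinset.mp hA
    have : truncTo (Subgroup.centralizer (P : Set G)) (zB K A)
        ∈ cfSubring (Subgroup.centralizer (P : Set G)) (localRing M hMp) :=
      truncTo_mem_cfSubring ⟨isInv_mono hCK (isInv_zB_self K A), coeff_zB_memLocalRing K hMp hA'⟩
    exact omega_memLocalRing hMp ξ this
  have hnon := sum_nonfixed_blocks_mem p hP φ hMp w hwinv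
    (fun A hA => memLocalIdeal_mul_right hMp (memLocalIdeal_natCast_self hM) (hwR A hA))
  have htot : ∑ A ∈ blocksFinset M K, w A = 1 := by
    rw [hw]
    show ∑ A ∈ blocksFinset M K, brLam P ξ.1 (zB K A) = 1
    rw [← brLam_sum, sum_zB K hMp, brLam_one]
  rw [← Finset.sum_filter_add_sum_filter_not (blocksFinset M K)
    (fun A => ∀ u : P, autIrr (φ u) '' A = A)] at htot
  have hfixsum : MemLocalIdeal M (∑ A ∈ (blocksFinset M K).filter
      (fun A => ∀ u : P, autIrr (φ u) '' A = A), brLam P ξ.1 (zB K A) - 1) := by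
    have e : ∑ A ∈ (blocksFinset M K).filter
        (fun A => ∀ u : P, autIrr (φ u) '' A = A), brLam P ξ.1 (zB K A) - 1
        = -(∑ A ∈ (blocksFinset M K).filter
          (fun A => ¬ ∀ u : P, autIrr (φ u) '' A = A), w A) := by
      rw [← htot, hw]; ring
    rw [e]
    convert memLocalIdeal_neg hnon
  obtain ⟨f, hf, hfn⟩ := exists_brLam_not_mem P hMp _ (fun A => zB K A) ξ.1 hfixsum
  rw [Finset.mem_filter, mem_blocksFinset] at hf
  have hstab : ∀ x ∈ P, StabilizesBlock K f x := by
    intro x hx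
    rw [stabilizesBlock_iff hMp K hf.1]
    refine ⟨hPK hx, ?_⟩
    have := hf.2 ⟨x, hx⟩
    rwa [hφx] at this
  refine ⟨f, hf.1, hstab, ?_⟩
  exact brLam_idem P p hM hP (zB_mem_brRing K hMp hf.1 P hCK hstab) (zB_mul_self K f) ξ hfn

/-- Two distinct `P`-stable blocks of `K` cannot both have `brLam P ξ (zB K f) ≡ 1`. -/
theorem stable_block_unique (hM : IsPModular p M) (hP : IsPGroup p P) (hCK : Subgroup.centralizer (P : Set G) ≤ K)
    (ξ : IrrCharacter (Subgroup.centralizer (P : Set G))) {f f' : Set (IrrCharacter K)}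
    (hf : IsPBlock M f) (hf' : IsPBlock M f') (hstab : ∀ x ∈ P, StabilizesBlock K f x)
    (hstab' : ∀ x ∈ P, StabilizesBlock K f' x)
    (h : MemLocalIdeal M (brLam P ξ.1 (zB K f) - 1))
    (h' : MemLocalIdeal M (brLam P ξ.1 (zB K f') - 1)) : f = f' := by
  have hMp := isPrime_of_isPModular hM
  by_contra hne
  exact brLam_orth P p hM hP (zB_mem_brRing K hMp hf P hCK hstab)
    (zB_mem_brRing K hMp hf' P hCK hstab') (zB_mul_of_ne K hMp hf hf' hne) ξ h h'

end Exists

end Cfsg.Agent.H80
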