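import Cfsg.Agent.H80.MaxPair
import Cfsg.Agent.H20.MinMax
import Cfsg.Agent.S0906

set_option autoImplicit false
set_option linter.unusedSectionVars false
set_option linter.style.haveILetI false

/-!
# helper80: a maximal Brauer pair sits on a defect group
-/

namespace Cfsg.Agent.H80

open Cfsg Cfsg.Agent.H20 Cfsg.Agent.H4

universe u

variable {G : Type u} [Group G] [Fintype G] {M : Ideal AlgInt}

/-- The sum of the elements of the `N`-conjugation orbit of `g`. -/
noncomputable def orbElt (N : Subgroup G) (g : G) : MonoidAlgebra ℂ G := by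
  classical exact ∑ y ∈ Finset.univ.filter (fun y => ∃ n ∈ N, n * g * n⁻¹ = y),
    MonoidAlgebra.single y 1

open scoped Classical in
theorem coeff_orbElt (N : Subgroup G) (g y : G) :
    (orbElt N g).coeff y = if ∃ n ∈ N, n * g * n⁻¹ = y then 1 else 0 := by
  unfold orbElt
  rw [MonoidAlgebra.coeff_sum, Finsupp.finsetSum_apply]
  simp only [MonoidAlgebra.coeff_single, Finsupp.single_apply]
  rw [Finset.sum_ite_eq']
  simp

theorem isInv_orbElt (N : Subgroup G) (g : G) : IsInv N (orbElt N g) := by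
  classical
  intro m hm y
  rw [coeff_orbElt, coeff_orbElt]
  have : (∃ n ∈ N, n * g * n⁻¹ = m * y * m⁻¹) ↔ (∃ n ∈ N, n * g * n⁻¹ = y) := by
    constructor
    · rintro ⟨n, hn, h⟩
      refine ⟨m⁻¹ * n, mul_mem (inv_mem hm) hn, ?_⟩
      calc m⁻¹ * n * g * (m⁻¹ * n)⁻¹ = m⁻¹ * (n * g * n⁻¹) * m := by group
        _ = m⁻¹ * (m * y * m⁻¹) * m := by rw [h]
        _ = y := by group
    · rintro ⟨n, hn, rfl⟩
      refine ⟨m * n, mul_mem hm hn, ?_⟩
      group
  rw [if_congr this rfl rfl]

section Main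

variable (p : ℕ) [Fact p.Prime]

open scoped Classical in
/-- There is an `N_G(P)`-class in `C_G(P)` on which the orbit idempotent of `e` and the sum of
`ξ₀ / ξ₀ 1` are both outside the local ideal. -/
theorem exists_orbit_class (hM : IsPModular p M) (P : Subgroup G)
    [Fintype (Subgroup.centralizer (P : Set G))]
    {e : Set (IrrCharacter (Subgroup.centralizer (P : Set G)))} (he : IsPBlock M e)
    (ξ₀ : IrrCharacter (Subgroup.centralizer (P : Set G))) (hξ₀ : ξ₀ ∈ e) :
    ∃ g : G, ¬ MemLocalIdeal M ((zB (Subgroup.centralizer (P : Set G))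
        (orbitSet (Subgroup.normalizer (P : Set G)) (Subgroup.centralizer (P : Set G)) e)).coeff g) ∧
      ¬ MemLocalIdeal M (∑ y ∈ Finset.univ.filter
        (fun y => ∃ n ∈ Subgroup.normalizer (P : Set G), n * g * n⁻¹ = y),
          extFun (Subgroup.centralizer (P : Set G)) ξ₀.1 y) := by
  have hMp := isPrime_of_isPModular hM
  have hNC := normalizer_le_normalizer_centralizer P
  have hPN : P ≤ Subgroup.normalizer (P : Set G) := Subgroup.le_normalizer
  have hCN : Subgroup.centralizer (P : Set G) ≤ Subgroup.normalizer (P : Set G) :=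
    Subgroup.centralizer_le_normalizer _
  have hOmem := blockElt_mem_of_union hMp _
    (orbitSet_block hMp (Subgroup.normalizer (P : Set G)) (Subgroup.centralizer (P : Set G)) he)
  obtain ⟨σ, hσ⟩ : ∃ σ : MonoidAlgebra ℂ G, σ = zB (Subgroup.centralizer (P : Set G))
    (orbitSet (Subgroup.normalizer (P : Set G)) (Subgroup.centralizer (P : Set G)) e) := ⟨_, rfl⟩
  rw [← hσ]
  have hσinv : IsInv (Subgroup.normalizer (P : Set G)) σ := by
    rw [hσ]; exact isInv_zB_orbitSet _ _ hNC e
  have hσloc : ∀ g, MemLocalRing M (σ.coeff g) := by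
    intro g
    rw [hσ]
    exact coeff_extZero_mem_of _ _ (localRing M hMp).toAddSubgroup hOmem.2 g
  have htot : ∑ y : G, σ.coeff y * extFun (Subgroup.centralizer (P : Set G)) ξ₀.1 y = 1 := by
    rw [← omega_truncTo_eq_sum, hσ, truncTo_zB, omega_blockElt,
      if_pos (subset_orbitSet _ _ e hξ₀)]
  by_contra hcon
  push Not at hcon
  have h1 : (∑ y : G, σ.coeff y * extFun (Subgroup.centralizer (P : Set G)) ξ₀.1 y)
      ∈ localIdeal M hMp := by
    apply sum_mem_of_subgroup_conj_orbits (Subgroup.normalizer (P : Set G)) (localIdeal M hMp)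
    intro g
    have e1 : ∑ y ∈ Finset.univ.filter
          (fun y => ∃ n ∈ Subgroup.normalizer (P : Set G), n * g * n⁻¹ = y),
          σ.coeff y * extFun (Subgroup.centralizer (P : Set G)) ξ₀.1 y
        = σ.coeff g * ∑ y ∈ Finset.univ.filter
          (fun y => ∃ n ∈ Subgroup.normalizer (P : Set G), n * g * n⁻¹ = y),
          extFun (Subgroup.centralizer (P : Set G)) ξ₀.1 y := by
      rw [Finset.mul_sum]
      apply Finset.sum_congr rfl
      intro y hy
      obtain ⟨n, hn, rfl⟩ := (Finset.mem_filter.mp hy).2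
      rw [hσinv n hn g]
    rw [e1]
    have hW : MemLocalRing M (∑ y ∈ Finset.univ.filter
        (fun y => ∃ n ∈ Subgroup.normalizer (P : Set G), n * g * n⁻¹ = y),
        extFun (Subgroup.centralizer (P : Set G)) ξ₀.1 y) := by
      have e2 : ∑ y ∈ Finset.univ.filter
          (fun y => ∃ n ∈ Subgroup.normalizer (P : Set G), n * g * n⁻¹ = y),
          extFun (Subgroup.centralizer (P : Set G)) ξ₀.1 y
          = brLam P ξ₀.1 (orbElt (Subgroup.normalizer (P : Set G)) g) := by
        unfold brLam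
        rw [omega_truncTo_eq_sum, Finset.sum_filter]
        apply Finset.sum_congr rfl
        intro y _
        rw [coeff_orbElt]
        split_ifs <;> simp
      rw [e2]
      apply brLam_memLocalRing P (hM := hMp) (mem_brRing.mpr
        ⟨isInv_mono hPN (isInv_orbElt _ g), isInv_mono hCN (isInv_orbElt _ g), fun y => ?_⟩) ξ₀
      rw [coeff_orbElt]
      split_ifs
      · exact memLocalRing_one hMp
      · exact memLocalRing_zero hMp
    by_cases hg : MemLocalIdeal M (σ.coeff g)
    · exact memLocalIdeal_mul_right hMp hg hW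
    · exact memLocalIdeal_mul_left hMp (hσloc g) (hcon g hg)
  rw [htot] at h1
  exact not_memLocalIdeal_one hMp h1

open scoped Classical in
/-- Orbit counting: if a `p`-subgroup `Q ≤ N` centralizes `g` and the orbit idempotent of `e` has
a coefficient outside the local ideal at `g`, then some conjugate of `e` is fixed by `Q` and has
its idempotent coefficient at `g` outside the local ideal. -/
theorem exists_fixed_conj_of_coeff (hM : IsPModular p M) (N K : Subgroup G) [Fintype K]
    (hNK : N ≤ Subgroup.normalizer (K : Set G)) {e : Set (IrrCharacter K)} (he : IsPBlock M e)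
    (Q : Subgroup G) (hQ : IsPGroup p Q) (hQN : Q ≤ N) (g : G) (hQg : ∀ y ∈ Q, y * g = g * y)
    (hg : ¬ MemLocalIdeal M ((zB K (orbitSet N K e)).coeff g)) :
    ∃ x ∈ N, (∀ y ∈ Q, autIrr (conjAut' K y) '' (autIrr (conjAut' K x) '' e)
        = autIrr (conjAut' K x) '' e) ∧
      ¬ MemLocalIdeal M ((zB K e).coeff (x⁻¹ * g * x)) := by
  have hMp := isPrime_of_isPModular hM
  obtain ⟨φ, hφdef⟩ : ∃ φ : Q →* MulAut K,
      φ = K.normalizerMonoidHom.comp (Subgroup.inclusion (hQN.trans hNK)) := ⟨_, rfl⟩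
  have hφ : ∀ y : Q, φ y = conjAut' K (y : G) := fun y => by
    rw [conjAut'_eq K (hNK (hQN y.2)), hφdef]; rfl
  obtain ⟨w, hw⟩ : ∃ w : Set (IrrCharacter K) → ℂ,
      w = fun A => if A ⊆ orbitSet N K e then (zB K A).coeff g else 0 := ⟨_, rfl⟩
  have hsub : ∀ (A : Set (IrrCharacter K)) (y : Q),
      autIrr (conjAut' K (y : G)) '' A ⊆ orbitSet N K e ↔ A ⊆ orbitSet N K e := by
    intro A y
    constructor
    · intro h θ hθ
      have h1 : autIrr (conjAut' K (y : G)) θ ∈ orbitSet N K e := h ⟨θ, hθ, rfl⟩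
      rw [← orbitSet_stable N K hNK e (hQN y.2)] at h1
      obtain ⟨ψ, hψ, hψe⟩ := h1
      rw [← autIrr_injective _ hψe]
      exact hψ
    · intro h
      rintro _ ⟨θ, hθ, rfl⟩
      rw [← orbitSet_stable N K hNK e (hQN y.2)]
      exact ⟨θ, h hθ, rfl⟩
  have hwinv : ∀ (A : Set (IrrCharacter K)) (y : Q), w (autIrr (φ y) '' A) = w A := by
    intro A y
    rw [hw, hφ]
    by_cases hA : A ⊆ orbitSet N K e
    · simp only [if_pos ((hsub A y).mpr hA), if_pos hA]
      rw [coeff_zB_conjAut' K (hNK (hQN y.2)) A g]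
      congr 1
      have := hQg y y.2
      calc (y : G)⁻¹ * g * (y : G) = (y : G)⁻¹ * (g * (y : G)) := by group
        _ = (y : G)⁻¹ * ((y : G) * g) := by rw [this]
        _ = g := by group
    · simp only [if_neg (fun h => hA ((hsub A y).mp h)), if_neg hA]
  have hwloc : ∀ A ∈ blocksFinset M K, MemLocalRing M (w A) := by
    intro A hA
    rw [hw]
    by_cases hAO : A ⊆ orbitSet N K e
    · simp only [if_pos hAO]
      exact coeff_zB_memLocalRing K hMp (mem_blocksFinset.mp hA) g
    · simp only [if_neg hAO]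
      exact memLocalRing_zero hMp
  have hnon := sum_nonfixed_blocks_mem p hQ φ hMp w hwinv
    (fun A hA => memLocalIdeal_mul_right hMp (memLocalIdeal_natCast_self hM) (hwloc A hA))
  have htot : ∑ A ∈ blocksFinset M K, w A = (zB K (orbitSet N K e)).coeff g := by
    rw [hw]
    simp only
    rw [← Finset.sum_filter]
    unfold zB
    rw [blockElt_union_eq_sum hMp _ (orbitSet_block hMp N K he), extZero_sum,
      MonoidAlgebra.coeff_sum, Finsupp.finsetSum_apply]
  have hsplit := Finset.sum_filter_add_sum_filter_not (blocksFinset M K)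
    (fun A => ∀ γ : Q, autIrr (φ γ) '' A = A) w
  have hfixsum : ¬ MemLocalIdeal M (∑ A ∈ (blocksFinset M K).filter
      (fun A => ∀ γ : Q, autIrr (φ γ) '' A = A), w A) := by
    intro hfix
    apply hg
    rw [← htot, ← hsplit]
    refine memLocalIdeal_add hMp hfix ?_
    convert hnon
  obtain ⟨A, hA, hAw⟩ : ∃ A ∈ (blocksFinset M K).filter
      (fun A => ∀ γ : Q, autIrr (φ γ) '' A = A), ¬ MemLocalIdeal M (w A) := by
    by_contra hcon
    push Not at hcon
    exact hfixsum (memLocalIdeal_sum hMp _ _ hcon)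
  rw [Finset.mem_filter, mem_blocksFinset] at hA
  have hAO : A ⊆ orbitSet N K e := by
    by_contra h
    apply hAw
    rw [hw]
    simp only [if_neg h]
    exact memLocalIdeal_zero hMp
  have hAw' : ¬ MemLocalIdeal M ((zB K A).coeff g) := by
    rw [hw] at hAw
    simp only [if_pos hAO] at hAw
    exact hAw
  obtain ⟨x, hx, hAx⟩ := eq_conj_of_subset_orbitSet hMp N K he hA.1 hAO
  refine ⟨x, hx, fun y hy => ?_, ?_⟩
  · have := hA.2 ⟨y, hy⟩
    rw [hφ, hAx] at this
    exact this
  · rw [← coeff_zB_conjAut' K (hNK hx) e g, ← hAx]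
    exact hAw'

end Main

section Main2

variable (p : ℕ) [Fact p.Prime]

theorem mem_map_conj_inv_iff (Q : Subgroup G) (x r : G) :
    r ∈ Q.map (MulAut.conj x⁻¹).toMonoidHom ↔ x * r * x⁻¹ ∈ Q := by
  constructor
  · rintro ⟨y, hy, rfl⟩
    have e : x * ((MulAut.conj x⁻¹).toMonoidHom y) * x⁻¹ = y := by
      show x * (x⁻¹ * y * x⁻¹⁻¹) * x⁻¹ = y
      group
    rw [e]; exact hy
  · intro h
    refine ⟨x * r * x⁻¹, h, ?_⟩
    show x⁻¹ * (x * r * x⁻¹) * x⁻¹⁻¹ = r
    group

/-- If `P ≤ Q ≤ N_G(P)`, `Q` centralizes `g` and the orbit idempotent of `e` has a coefficient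
outside the local ideal at `g`, then `Q = P` (under the maximality hypothesis `hmax`). -/
theorem eq_of_le_normalizer_of_coeff (hM : IsPModular p M) (P : Subgroup G)
    [Fintype (Subgroup.centralizer (P : Set G))]
    {e : Set (IrrCharacter (Subgroup.centralizer (P : Set G)))} (he : IsPBlock M e)
    (hmax : ∀ R : Subgroup G, IsPGroup p R → P ≤ R → R ≤ Subgroup.normalizer (P : Set G) →
      (∀ x ∈ R, StabilizesBlock (Subgroup.centralizer (P : Set G)) e x) →
      ∀ g' ∈ Subgroup.centralizer (R : Set G),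
        ¬ MemLocalIdeal M ((zB (Subgroup.centralizer (P : Set G)) e).coeff g') → R = P)
    (g : G) (hg : ¬ MemLocalIdeal M ((zB (Subgroup.centralizer (P : Set G))
      (orbitSet (Subgroup.normalizer (P : Set G)) (Subgroup.centralizer (P : Set G)) e)).coeff g))
    (Q : Subgroup G) (hQ : IsPGroup p Q) (hPQ : P ≤ Q)
    (hQN : Q ≤ Subgroup.normalizer (P : Set G)) (hQg : ∀ y ∈ Q, y * g = g * y) : Q = P := by
  have hMp := isPrime_of_isPModular hM
  have hNC := normalizer_le_normalizer_centralizer P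
  obtain ⟨x, hx, hfix, hcoef⟩ := exists_fixed_conj_of_coeff p hM _ _ hNC he Q hQ hQN g hQg hg
  have hxN := hNC hx
  have hR : IsPGroup p (Q.map (MulAut.conj x⁻¹).toMonoidHom) := hQ.map _
  have hPR : P ≤ Q.map (MulAut.conj x⁻¹).toMonoidHom := by
    intro u hu
    rw [mem_map_conj_inv_iff]
    exact hPQ ((Subgroup.mem_normalizer_iff.mp hx u).mp hu)
  have hRN : Q.map (MulAut.conj x⁻¹).toMonoidHom ≤ Subgroup.normalizer (P : Set G) := by
    intro r hr
    rw [mem_map_conj_inv_iff] at hr
    have h1 := mul_mem (mul_mem (inv_mem hx) (hQN hr)) hx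
    have e1 : x⁻¹ * (x * r * x⁻¹) * x = r := by group
    rwa [e1] at h1
  have hstab : ∀ r ∈ Q.map (MulAut.conj x⁻¹).toMonoidHom,
      StabilizesBlock (Subgroup.centralizer (P : Set G)) e r := by
    intro r hr
    rw [mem_map_conj_inv_iff] at hr
    have hyN := hNC (hQN hr)
    have hrN := hNC (hRN ((mem_map_conj_inv_iff Q x r).mpr hr))
    rw [stabilizesBlock_iff hMp _ he]
    refine ⟨hrN, ?_⟩
    rw [← conjAut'_eq _ hrN]
    have e1 : conjAut' (Subgroup.centralizer (P : Set G)) r
        = conjAut' (Subgroup.centralizer (P : Set G)) x⁻¹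
          * (conjAut' (Subgroup.centralizer (P : Set G)) (x * r * x⁻¹)
            * conjAut' (Subgroup.centralizer (P : Set G)) x) := by
      rw [← conjAut'_mul _ hyN hxN, ← conjAut'_mul _ (inv_mem hxN) (mul_mem hyN hxN)]
      congr 1
      group
    rw [e1, ← autIrr_image_image, ← autIrr_image_image, hfix _ hr, autIrr_image_image,
      conjAut'_inv_mul _ hxN, autIrr_one_image]
  have hg' : x⁻¹ * g * x ∈ Subgroup.centralizer
      ((Q.map (MulAut.conj x⁻¹).toMonoidHom : Subgroup G) : Set G) := by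
    rw [Subgroup.mem_centralizer_iff]
    intro r hr
    have hr' : x * r * x⁻¹ ∈ Q := (mem_map_conj_inv_iff Q x r).mp hr
    have h := hQg _ hr'
    calc r * (x⁻¹ * g * x) = x⁻¹ * ((x * r * x⁻¹) * g) * x := by group
      _ = x⁻¹ * (g * (x * r * x⁻¹)) * x := by rw [h]
      _ = x⁻¹ * g * x * r := by group
  have hRP := hmax _ hR hPR hRN hstab _ hg' hcoef
  have hcard : Nat.card Q = Nat.card P := by
    rw [← hRP, Subgroup.card_map_of_injective (MulEquiv.injective _)]
  exact (Subgroup.eq_of_le_of_card_ge hPQ hcard.le).symm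

/-- `P` is a maximal `p`-subgroup of the centralizer of `g`. -/
theorem eq_of_centralizes_of_coeff (hM : IsPModular p M) (P : Subgroup G)
    [Fintype (Subgroup.centralizer (P : Set G))]
    {e : Set (IrrCharacter (Subgroup.centralizer (P : Set G)))} (he : IsPBlock M e)
    (hmax : ∀ R : Subgroup G, IsPGroup p R → P ≤ R → R ≤ Subgroup.normalizer (P : Set G) →
      (∀ x ∈ R, StabilizesBlock (Subgroup.centralizer (P : Set G)) e x) →
      ∀ g' ∈ Subgroup.centralizer (R : Set G),
        ¬ MemLocalIdeal M ((zB (Subgroup.centralizer (P : Set G)) e).coeff g') → R = P)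
    (g : G) (hg : ¬ MemLocalIdeal M ((zB (Subgroup.centralizer (P : Set G))
      (orbitSet (Subgroup.normalizer (P : Set G)) (Subgroup.centralizer (P : Set G)) e)).coeff g))
    (Q : Subgroup G) (hQ : IsPGroup p Q) (hPQ : P ≤ Q) (hQg : ∀ y ∈ Q, y * g = g * y) :
    Q = P := by
  by_contra hne
  obtain ⟨Q₁, hlt, hQ₁Q, hQ₁N⟩ := exists_normalizing_lt Q P hQ hPQ (fun h => hne h.symm)
  have := eq_of_le_normalizer_of_coeff p hM P he hmax g hg Q₁ (hQ.to_le hQ₁Q) hlt.le hQ₁N
    (fun y hy => hQg y (hQ₁Q hy))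
  exact hlt.ne this.symm

open scoped Pointwise in
/-- If `P` is a maximal `p`-subgroup of `C_G(g)`, then conjugates of `g` centralizing `P` are
conjugate to `g` under `N_G(P)`. -/
theorem exists_normalizer_conj (P : Subgroup G) (hP : IsPGroup p P) (g : G)
    (hgC : g ∈ Subgroup.centralizer (P : Set G))
    (hsyl : ∀ Q : Subgroup G, IsPGroup p Q → P ≤ Q → (∀ y ∈ Q, y * g = g * y) → Q = P)
    (t : G) (ht : t * g * t⁻¹ ∈ Subgroup.centralizer (P : Set G)) :
    ∃ n ∈ Subgroup.normalizer (P : Set G), n * g * n⁻¹ = t * g * t⁻¹ := by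
  have hPg : P ≤ Subgroup.centralizer ({g} : Set G) := by
    intro u hu
    rw [Subgroup.mem_centralizer_iff]
    intro h hh
    rw [Set.mem_singleton_iff] at hh
    subst hh
    exact (Subgroup.mem_centralizer_iff.mp hgC u hu).symm
  have hPtg : P ≤ Subgroup.centralizer ({t * g * t⁻¹} : Set G) := by
    intro u hu
    rw [Subgroup.mem_centralizer_iff]
    intro h hh
    rw [Set.mem_singleton_iff] at hh
    subst hh
    exact (Subgroup.mem_centralizer_iff.mp ht u hu).symm
  have h1 := map_conj_inv_le_centralizer P t g hPtg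
  obtain ⟨S, hS⟩ := exists_sylow_centralizer_ge g P hP hPg
  have hSP : (S : Subgroup (Subgroup.centralizer ({g} : Set G))).map
      (Subgroup.centralizer ({g} : Set G)).subtype = P := by
    apply hsyl _ (S.isPGroup'.map _) hS
    rintro _ ⟨y, -, rfl⟩
    exact (Subgroup.mem_centralizer_iff.mp y.2 g (Set.mem_singleton g)).symm
  obtain ⟨S', hS'⟩ := exists_sylow_centralizer_ge g _ (hP.map (MulAut.conj t⁻¹).toMonoidHom) h1
  obtain ⟨c, hc⟩ := MulAction.exists_smul_eq (Subgroup.centralizer ({g} : Set G)) S S'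
  have hcg : (c : G) * g * (c : G)⁻¹ = g := by
    have := Subgroup.mem_centralizer_iff.mp c.2 g (Set.mem_singleton g)
    rw [← this, mul_inv_cancel_right]
  refine ⟨t * (c : G), ?_, ?_⟩
  · have hle : P.map (MulAut.conj (t * (c : G))⁻¹).toMonoidHom ≤ P := by
      rintro _ ⟨u, hu, rfl⟩
      have h2 : t⁻¹ * u * t⁻¹⁻¹ ∈ (S' : Subgroup (Subgroup.centralizer ({g} : Set G))).map
          (Subgroup.centralizer ({g} : Set G)).subtype := hS' ⟨u, hu, rfl⟩
      obtain ⟨s, hs, hs'⟩ := h2
      rw [← hc] at hs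
      have hs2 : s ∈ MulAut.conj c • (S : Subgroup (Subgroup.centralizer ({g} : Set G))) := by
        rw [← Sylow.coe_subgroup_smul]
        exact hs
      obtain ⟨d, hd, hd'⟩ := (Subgroup.mem_smul_pointwise_iff_exists _ _ _).mp hs2
      have h3 : (s : G) = (c : G) * (d : G) * (c : G)⁻¹ := by
        rw [← hd']
        rfl
      have h4 : (s : G) = t⁻¹ * u * t⁻¹⁻¹ := hs'
      have hdP : (d : G) ∈ P := by
        rw [← hSP]
        exact ⟨d, hd, rfl⟩
      have e : (MulAut.conj (t * (c : G))⁻¹).toMonoidHom u = (d : G) := by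
        show (t * (c : G))⁻¹ * u * (t * (c : G))⁻¹⁻¹ = (d : G)
        calc (t * (c : G))⁻¹ * u * (t * (c : G))⁻¹⁻¹
            = (c : G)⁻¹ * (t⁻¹ * u * t⁻¹⁻¹) * (c : G) := by group
          _ = (c : G)⁻¹ * ((c : G) * (d : G) * (c : G)⁻¹) * (c : G) := by rw [← h4, h3]
          _ = (d : G) := by group
      rw [e]
      exact hdP
    have heq : P.map (MulAut.conj (t * (c : G))⁻¹).toMonoidHom = P :=
      Subgroup.eq_of_le_of_card_ge hle
        (by rw [Subgroup.card_map_of_injective (MulEquiv.injective _)])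
    have hinv : (t * (c : G))⁻¹ ∈ Subgroup.normalizer (P : Set G) :=
      Subgroup.mem_normalizer_iff_map_conj_eq.mpr heq
    exact inv_mem_iff.mp hinv
  · calc t * (c : G) * g * (t * (c : G))⁻¹ = t * ((c : G) * g * (c : G)⁻¹) * t⁻¹ := by group
      _ = t * g * t⁻¹ := by rw [hcg]

end Main2

section Final

variable (p : ℕ) [Fact p.Prime]

omit [Fintype G] in
/-- A `p`-subgroup of `C_G(h)` is no larger than a Sylow `p`-subgroup of `C_G(h)`. -/
theorem card_le_card_sylow_centralizer [Finite G] (h : G) (Q : Subgroup G) (hQ : IsPGroup p Q)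
    (hQh : Q ≤ Subgroup.centralizer ({h} : Set G))
    (S : Sylow p (Subgroup.centralizer ({h} : Set G))) :
    Nat.card Q ≤ Nat.card (S : Subgroup (Subgroup.centralizer ({h} : Set G))) := by
  obtain ⟨S', hS'⟩ := exists_sylow_centralizer_ge h Q hQ hQh
  have h1 := Subgroup.card_le_of_le hS'
  rw [Subgroup.card_map_of_injective (Subgroup.subtype_injective _)] at h1
  have h2 : Nat.card (S' : Subgroup (Subgroup.centralizer ({h} : Set G)))
      = Nat.card (S : Subgroup (Subgroup.centralizer ({h} : Set G))) := by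
    have a := Sylow.card_eq_multiplicity S'
    have b := Sylow.card_eq_multiplicity S
    exact a.trans b.symm
  rw [← h2]
  exact h1

open scoped Classical in
/-- **A maximal Brauer pair of `B` sits on a defect group of `B`.** -/
theorem isDefectGroup_of_maximal (hM : IsPModular p M) (B : Set (IrrCharacter G))
    (P : Subgroup G) (e : Set (IrrCharacter (Subgroup.centralizer (P : Set G))))
    (hmax : IsMaximalBrauerPair p M B P e) : IsDefectGroup p M B P := by
  haveI : Fintype (Subgroup.centralizer (P : Set G)) := Fintype.ofFinite _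
  have hMp := isPrime_of_isPModular hM
  obtain ⟨⟨⟨hP, he⟩, hB, hlam⟩, hmaxR⟩ := hmax
  have hNC := normalizer_le_normalizer_centralizer P
  obtain ⟨ξ₀, hξ₀e⟩ : ∃ ξ₀ : IrrCharacter (Subgroup.centralizer (P : Set G)), ξ₀ ∈ e := by
    obtain ⟨ξ, rfl⟩ := he
    exact ⟨ξ, mem_blockOf_self hMp ξ⟩
  have h1 : MemLocalIdeal M (brLam P ξ₀.1 (blockElt B) - 1) := by
    have := hlam ξ₀ hξ₀e
    rw [brauerOmega_eq P (blockCoeff B) (blockElt B) (fun g => (coeff_blockElt B g).symm)] at this
    exact this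
  have hmaxB : ∀ R : Subgroup G, IsPGroup p R → P ≤ R → R ≤ Subgroup.normalizer (P : Set G) →
      (∀ x ∈ R, StabilizesBlock (Subgroup.centralizer (P : Set G)) e x) →
      ∀ g' ∈ Subgroup.centralizer (R : Set G),
        ¬ MemLocalIdeal M ((zB (Subgroup.centralizer (P : Set G)) e).coeff g') → R = P := by
    intro R hR hPR hRN hstab g' hg' hcoef
    obtain ⟨f, hf⟩ := exists_normalSubpair_of_coeff p hM hR hPR hRN he hstab g' hg'
      (by rw [subgroupBlockCoeff_eq]; exact hcoef)
    have hpair := (Cfsg.Agent.S4658.step p M hM P R e f hf B hB).mpr ⟨⟨hP, he⟩, hB, hlam⟩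
    exact hmaxR R f hpair
      (Relation.ReflTransGen.single (show NormalSubpairRel p M ⟨P, e⟩ ⟨R, f⟩ from hf))
  obtain ⟨χ₀, rfl⟩ := hB
  have hB : IsPBlock M (blockOf M χ₀.1) := ⟨χ₀, rfl⟩
  have hχ₀ : χ₀ ∈ blockOf M χ₀.1 := mem_blockOf_self hMp χ₀
  obtain ⟨g, hgσ, hgW⟩ := exists_orbit_class p hM P he ξ₀ hξ₀e
  have hgC : g ∈ Subgroup.centralizer (P : Set G) := by
    by_contra hg
    apply hgσ
    unfold zB
    rw [coeff_extZero_of_not_mem _ _ hg]
    exact memLocalIdeal_zero hMp
  have hsyl : ∀ Q : Subgroup G, IsPGroup p Q → P ≤ Q → (∀ y ∈ Q, y * g = g * y) → Q = P :=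
    fun Q hQ hPQ hQg => eq_of_centralizes_of_coeff p hM P he hmaxB g hgσ Q hQ hPQ hQg
  -- Step 6: `ω_χ₀` of the class of `g` is a unit
  have hkey : brLam P ξ₀.1 (classSum g) = ∑ y ∈ Finset.univ.filter
      (fun y => ∃ n ∈ Subgroup.normalizer (P : Set G), n * g * n⁻¹ = y),
      extFun (Subgroup.centralizer (P : Set G)) ξ₀.1 y := by
    unfold brLam
    rw [omega_truncTo_eq_sum, Finset.sum_filter]
    apply Finset.sum_congr rfl
    intro y _
    rw [coeff_classSum]
    by_cases hy : y ∈ Subgroup.centralizer (P : Set G)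
    · have hiff : IsConj g y ↔ ∃ n ∈ Subgroup.normalizer (P : Set G), n * g * n⁻¹ = y := by
        constructor
        · intro hc
          obtain ⟨t, rfl⟩ := isConj_iff.mp hc
          exact exists_normalizer_conj p P hP g hgC hsyl t hy
        · rintro ⟨n, -, rfl⟩
          exact isConj_iff.mpr ⟨n, rfl⟩
      rw [if_congr hiff rfl rfl]
      split_ifs <;> simp
    · rw [extFun_of_not_mem _ _ hy]
      simp
  have hcc : ¬ MemLocalIdeal M (centralChar (χ₀ : G → ℂ) g) := by
    intro hcon
    apply hgW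
    rw [← hkey]
    have h2 := brLam_sub_omega_mem p hM P hP hB ξ₀ h1 (classSum_mem (localRing M hMp) g) hχ₀
    rw [omega_classSum _ (irr_isClassFunction χ₀)] at h2
    have h3 := memLocalIdeal_add hMp h2 hcon
    rwa [sub_add_cancel] at h3
  -- Step 7: compare with a defect class
  obtain ⟨g₀, hg₀⟩ := Cfsg.Agent.S0906.result p M hM (blockOf M χ₀.1) hB
  obtain ⟨D₀⟩ : Nonempty (Sylow p (Subgroup.centralizer ({g₀} : Set G))) := inferInstance
  have hD : IsPGroup p ((D₀ : Subgroup (Subgroup.centralizer ({g₀} : Set G))).map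
      (Subgroup.centralizer ({g₀} : Set G)).subtype) := D₀.isPGroup'.map _
  have hDg₀ : (D₀ : Subgroup (Subgroup.centralizer ({g₀} : Set G))).map
      (Subgroup.centralizer ({g₀} : Set G)).subtype ≤ Subgroup.centralizer ({g₀} : Set G) :=
    Subgroup.map_subtype_le _
  have hDcard : Nat.card ((D₀ : Subgroup (Subgroup.centralizer ({g₀} : Set G))).map
      (Subgroup.centralizer ({g₀} : Set G)).subtype)
      = Nat.card (D₀ : Subgroup (Subgroup.centralizer ({g₀} : Set G))) :=
    Subgroup.card_map_of_injective (Subgroup.subtype_injective _)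
  have hPg : P ≤ Subgroup.centralizer ({g} : Set G) := by
    intro u hu
    rw [Subgroup.mem_centralizer_iff]
    intro h hh
    rw [Set.mem_singleton_iff] at hh
    subst hh
    exact (Subgroup.mem_centralizer_iff.mp hgC u hu).symm
  -- (7a) `|D| ≤ |P|`
  have hle1 : Nat.card (D₀ : Subgroup (Subgroup.centralizer ({g₀} : Set G))) ≤ Nat.card P := by
    obtain ⟨x, hconj, hDx⟩ := exists_conj_centralized_of_block hM χ₀ g g₀ hcc hg₀.2.1 _ hD hDg₀
    obtain ⟨t, rfl⟩ := isConj_iff.mp hconj
    have h2 := map_conj_inv_le_centralizer _ t g hDx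
    obtain ⟨S, hS⟩ := exists_sylow_centralizer_ge g P hP hPg
    have hSP : (S : Subgroup (Subgroup.centralizer ({g} : Set G))).map
        (Subgroup.centralizer ({g} : Set G)).subtype = P := by
      apply hsyl _ (S.isPGroup'.map _) hS
      rintro _ ⟨y, -, rfl⟩
      exact (Subgroup.mem_centralizer_iff.mp y.2 g (Set.mem_singleton g)).symm
    have h3 := card_le_card_sylow_centralizer p g _ (hD.map (MulAut.conj t⁻¹).toMonoidHom) h2 S
    rw [Subgroup.card_map_of_injective (MulEquiv.injective _), hDcard] at h3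
    rw [← hSP, Subgroup.card_map_of_injective (Subgroup.subtype_injective _)]
    exact h3
  -- (7b) a conjugate of `g₀` centralizes `P`
  obtain ⟨c, hconjc, hcC⟩ : ∃ c : G, IsConj g₀ c ∧ c ∈ Subgroup.centralizer (P : Set G) := by
    by_contra hcon
    push Not at hcon
    have h2 := brLam_sub_omega_mem p hM P hP hB ξ₀ h1 (classSum_mem (localRing M hMp) g₀) hχ₀
    rw [omega_classSum _ (irr_isClassFunction χ₀)] at h2
    have h0 : brLam P ξ₀.1 (classSum g₀) = 0 := by
      unfold brLam
      rw [omega_truncTo_eq_sum]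
      apply Finset.sum_eq_zero
      intro y _
      rw [coeff_classSum]
      by_cases hy : IsConj g₀ y
      · rw [extFun_of_not_mem _ _ (hcon y hy), mul_zero]
      · rw [if_neg hy, zero_mul]
    rw [h0, zero_sub] at h2
    have h3 := memLocalIdeal_neg h2
    rw [neg_neg] at h3
    exact hg₀.2.2 χ₀ hχ₀ h3
  have hPc : P ≤ Subgroup.centralizer ({c} : Set G) := by
    intro u hu
    rw [Subgroup.mem_centralizer_iff]
    intro h hh
    rw [Set.mem_singleton_iff] at hh
    subst hh
    exact (Subgroup.mem_centralizer_iff.mp hcC u hu).symm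
  -- (7c) `P` is a conjugate of `D`
  obtain ⟨x, hx⟩ := exists_le_conj_sylow_centralizer P hP g₀ c hconjc hPc D₀
  have hcardPD : Nat.card P = Nat.card (D₀ : Subgroup (Subgroup.centralizer ({g₀} : Set G))) := by
    apply le_antisymm _ hle1
    have h2 := Subgroup.card_le_of_le hx
    rwa [Subgroup.card_map_of_injective (MulEquiv.injective _), hDcard] at h2
  have hPeq : P = ((D₀ : Subgroup (Subgroup.centralizer ({g₀} : Set G))).map
      (Subgroup.centralizer ({g₀} : Set G)).subtype).map (MulAut.conj x).toMonoidHom := by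
    apply Subgroup.eq_of_le_of_card_ge hx
    rw [Subgroup.card_map_of_injective (MulEquiv.injective _), hDcard, hcardPD]
  -- (7e) conclusion
  have hPx : P ≤ Subgroup.centralizer ({x * g₀ * x⁻¹} : Set G) := by
    intro u hu
    rw [hPeq] at hu
    obtain ⟨d, hd, rfl⟩ := hu
    have hd' := Subgroup.mem_centralizer_iff.mp (hDg₀ hd) g₀ (Set.mem_singleton g₀)
    rw [Subgroup.mem_centralizer_iff]
    intro h hh
    rw [Set.mem_singleton_iff] at hh
    subst hh
    show x * g₀ * x⁻¹ * (x * d * x⁻¹) = x * d * x⁻¹ * (x * g₀ * x⁻¹)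
    calc x * g₀ * x⁻¹ * (x * d * x⁻¹) = x * (g₀ * d) * x⁻¹ := by group
      _ = x * (d * g₀) * x⁻¹ := by rw [hd']
      _ = x * d * x⁻¹ * (x * g₀ * x⁻¹) := by group
  obtain ⟨S, hS⟩ := exists_sylow_centralizer_ge (x * g₀ * x⁻¹) P hP hPx
  refine ⟨x * g₀ * x⁻¹, isDefectClass_conj hg₀ x, S, ?_⟩
  apply Subgroup.eq_of_le_of_card_ge hS
  have h2 := map_conj_inv_le_centralizer
    ((S : Subgroup (Subgroup.centralizer ({x * g₀ * x⁻¹} : Set G))).map
      (Subgroup.centralizer ({x * g₀ * x⁻¹} : Set G)).subtype) x g₀ (Subgroup.map_subtype_le _)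
  have h3 := card_le_card_sylow_centralizer p g₀ _
    ((S.isPGroup'.map _).map (MulAut.conj x⁻¹).toMonoidHom) h2 D₀
  rw [Subgroup.card_map_of_injective (MulEquiv.injective _)] at h3
  rw [hcardPD]
  exact h3

end Final

end Cfsg.Agent.H80
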