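import Cfsg.Agent.H80.AugNil
import Cfsg.Agent.H80.Block

set_option autoImplicit false
set_option linter.unusedSectionVars false
set_option linter.style.haveILetI false

/-!
# helper80: central characters vanish mod `M` on classes missing `C_G(P)`, `P` a normal `p`-subgroup

* `classSum_pow_coeff_dvd`: some power of the integral class sum has all coefficients divisible
  by `p`.
* `centralChar_memLocalIdeal_of_not_centralizer`: `centralChar χ g` lies in the local ideal when no
  conjugate of `g` centralizes the normal `p`-subgroup `P`.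
-/

namespace Cfsg.Agent.H80

open Cfsg Cfsg.Agent.H20 Cfsg.Agent.H4

universe u

variable {G : Type u} [Group G] [Fintype G]

theorem omega_pow (χ : IrrCharacter G) {z : MonoidAlgebra ℂ G} (hz : IsCF z) (n : ℕ) :
    omega (χ : G → ℂ) (z ^ n) = omega (χ : G → ℂ) z ^ n := by
  induction n with
  | zero => rw [pow_zero, pow_zero, omega_one_irr]
  | succ n ih => rw [pow_succ', pow_succ', omega_mul χ hz, ih]

/-- If `P` is normal, an element outside `C_G(P)` has no conjugate in `C_G(P)`. -/
theorem not_mem_centralizer_of_isConj (P : Subgroup G) [P.Normal] {g : G}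
    (hg : g ∉ Subgroup.centralizer (P : Set G)) (x : G) (hx : IsConj g x) :
    x ∉ Subgroup.centralizer (P : Set G) := by
  intro hmem
  obtain ⟨c, hc⟩ := isConj_iff.mp hx
  apply hg
  have h1 := (Subgroup.normal_centralizer (H := P)).conj_mem x hmem c⁻¹
  have h2 : c⁻¹ * x * c⁻¹⁻¹ = g := by rw [← hc]; group
  rwa [h2] at h1

open scoped Classical in
/-- Some power of the class sum of `g` has all coefficients in `p ℤ`, when no conjugate of `g`
centralizes the normal `p`-subgroup `P`. -/
theorem classSum_pow_coeff (p : ℕ) [Fact p.Prime] (P : Subgroup G) [P.Normal] (hP : IsPGroup p P)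
    (g : G) (hg : ∀ x, IsConj g x → x ∉ Subgroup.centralizer (P : Set G)) :
    ∃ n : ℕ, ∀ x : G, ∃ k : ℤ, ((classSum g) ^ n).coeff x = ((p : ℤ) * k : ℤ) := by
  obtain ⟨T, hT⟩ : ∃ T : Finset G, T = Finset.univ.filter (fun x => IsConj g x) := ⟨_, rfl⟩
  have hnil : IsNilpotent (∑ x ∈ T, MonoidAlgebra.single x (1 : ZMod p) : MonoidAlgebra (ZMod p) G) := by
    apply isNilpotent_of_mapDomain_eq_zero (ZMod p) p P hP
    apply mapDomain_sum_eq_zero (ZMod p) p P hP
    · intro x hx u _
      rw [hT, Finset.mem_filter] at hx ⊢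
      exact ⟨Finset.mem_univ _, hx.2.trans (isConj_iff.mpr ⟨u, rfl⟩)⟩
    · intro x hx
      rw [hT, Finset.mem_filter] at hx
      exact hg x hx.2
  obtain ⟨n, hn⟩ := hnil
  refine ⟨n, fun x => ?_⟩
  obtain ⟨Kz, hKz⟩ : ∃ Kz : MonoidAlgebra ℤ G, Kz = ∑ x ∈ T, MonoidAlgebra.single x (1 : ℤ) :=
    ⟨_, rfl⟩
  have h1 : MonoidAlgebra.mapRingHom G (Int.castRingHom (ZMod p)) Kz
      = ∑ x ∈ T, MonoidAlgebra.single x (1 : ZMod p) := by
    rw [hKz, map_sum]
    apply Finset.sum_congr rfl
    intro y _
    rw [MonoidAlgebra.mapRingHom_single, map_one]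
  have h2 : MonoidAlgebra.mapRingHom G (Int.castRingHom ℂ) Kz = classSum g := by
    rw [hKz, map_sum, classSum, ← hT]
    apply Finset.sum_congr rfl
    intro y _
    rw [MonoidAlgebra.mapRingHom_single, map_one]
  have h3 : MonoidAlgebra.mapRingHom G (Int.castRingHom (ZMod p)) (Kz ^ n) = 0 := by
    rw [map_pow, h1, hn]
  have h4 : ((Kz ^ n).coeff x : ZMod p) = 0 := by
    have h5 : (MonoidAlgebra.mapRingHom G (Int.castRingHom (ZMod p)) (Kz ^ n)).coeff x = 0 := by
      rw [h3]; rfl
    rw [MonoidAlgebra.coeff_mapRingHom] at h5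
    exact h5
  obtain ⟨k, hk⟩ := (ZMod.intCast_zmod_eq_zero_iff_dvd _ _).mp h4
  refine ⟨k, ?_⟩
  rw [← h2, ← map_pow, MonoidAlgebra.coeff_mapRingHom, hk]
  rfl

/-- The central character of every irreducible character lies in the local ideal on a class
missing the centralizer of a normal `p`-subgroup. -/
theorem centralChar_memLocalIdeal_of_not_centralizer (p : ℕ) [Fact p.Prime] {M : Ideal AlgInt}
    (hM : IsPModular p M) (P : Subgroup G) [P.Normal] (hP : IsPGroup p P) (g : G)
    (hg : ∀ x, IsConj g x → x ∉ Subgroup.centralizer (P : Set G)) (χ : IrrCharacter G) :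
    MemLocalIdeal M (centralChar (χ : G → ℂ) g) := by
  have hMp := isPrime_of_isPModular hM
  obtain ⟨n, hn⟩ := classSum_pow_coeff p P hP g hg
  have hcf : IsCF (classSum g) := (classSum_mem ⊤ g).1
  have hcfn : IsCF ((classSum g) ^ n) := ((cfSubring G ⊤).pow_mem (classSum_mem ⊤ g) n).1
  have h1 : MemLocalIdeal M (omega (χ : G → ℂ) ((classSum g) ^ n)) := by
    apply omega_mem_of_coeff _ (irr_isClassFunction χ) (localIdeal M hMp) hcfn
    intro x
    obtain ⟨k, hk⟩ := hn x
    rw [hk]
    apply memLocalIdeal_mul_right hMp _ (centralChar_memLocalRing hMp χ x)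
    exact (memLocalIdeal_intCast_iff hM _).mpr ⟨k, rfl⟩
  rw [omega_pow χ hcf, omega_classSum _ (irr_isClassFunction χ)] at h1
  exact memLocalIdeal_of_pow hMp (centralChar_memLocalRing hMp χ g) n h1

end Cfsg.Agent.H80
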