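import Cfsg.Agent.H80.MaxConj

set_option autoImplicit false
set_option linter.unusedSectionVars false
set_option linter.style.haveILetI false

/-!
# helper80: every Brauer pair of `B` is conjugate to a pair below a given maximal pair

* `isDefectGroup_conj_eq`: defect groups of a block are conjugate.
* `exists_maximal_ge`: every Brauer pair of `B` lies below a maximal one.
* `exists_conj_subpairLE`: conjugacy into a given maximal pair.
-/

namespace Cfsg.Agent.H80

open Cfsg Cfsg.Agent.H20 Cfsg.Agent.H4

universe u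

variable {G : Type u} [Group G] [Fintype G] {M : Ideal AlgInt}

section Main

variable (p : ℕ) [Fact p.Prime]

/-- Any two defect groups of a block are conjugate. -/
theorem isDefectGroup_conj_eq (hM : IsPModular p M) {B : Set (IrrCharacter G)}
    (hB : IsPBlock M B) {D D' : Subgroup G} (hD : IsDefectGroup p M B D)
    (hD' : IsDefectGroup p M B D') : ∃ x : G, D.map (MulAut.conj x).toMonoidHom = D' := by
  classical
  have hMp := isPrime_of_isPModular hM
  obtain ⟨χ₀, rfl⟩ := hB
  have hχ₀ : χ₀ ∈ blockOf M χ₀.1 := mem_blockOf_self hMp χ₀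
  have key : ∀ (g g' : G), IsDefectClass M (blockOf M χ₀.1) g →
      IsDefectClass M (blockOf M χ₀.1) g' →
      ∀ (S : Sylow p (Subgroup.centralizer ({g} : Set G)))
        (S' : Sylow p (Subgroup.centralizer ({g'} : Set G))),
      ∃ t : G, (S' : Subgroup (Subgroup.centralizer ({g'} : Set G))).map
          (Subgroup.centralizer ({g'} : Set G)).subtype
        ≤ ((S : Subgroup (Subgroup.centralizer ({g} : Set G))).map
          (Subgroup.centralizer ({g} : Set G)).subtype).map (MulAut.conj t).toMonoidHom := by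
    intro g g' hg hg' S S'
    obtain ⟨x, hconj, hle⟩ := exists_conj_centralized_of_block hM χ₀ g g' (hg.2.2 χ₀ hχ₀)
      hg'.2.1 _ (S'.isPGroup'.map _) (Subgroup.map_subtype_le _)
    exact exists_le_conj_sylow_centralizer _ (S'.isPGroup'.map _) g x hconj hle S
  obtain ⟨g, hg, S, rfl⟩ := hD
  obtain ⟨g', hg', S', rfl⟩ := hD'
  obtain ⟨t, ht⟩ := key g g' hg hg' S S'
  obtain ⟨t', ht'⟩ := key g' g hg' hg S' S
  have c1 := Subgroup.card_le_of_le ht
  have c2 := Subgroup.card_le_of_le ht'
  rw [Subgroup.card_map_of_injective (f := (MulAut.conj t).toMonoidHom)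
    (MulEquiv.injective _)] at c1
  rw [Subgroup.card_map_of_injective (f := (MulAut.conj t').toMonoidHom)
    (MulEquiv.injective _)] at c2
  refine ⟨t, (Subgroup.eq_of_le_of_card_ge ht ?_).symm⟩
  rw [Subgroup.card_map_of_injective (f := (MulAut.conj t).toMonoidHom) (MulEquiv.injective _)]
  exact c2

/-- Every Brauer pair of `B` lies below a maximal Brauer pair of `B`. -/
theorem exists_maximal_ge {B : Set (IrrCharacter G)} :
    ∀ (n : ℕ) (Q : Subgroup G) (f : Set (IrrCharacter (Subgroup.centralizer (Q : Set G)))),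
      IsBrauerPairOf p M B Q f → Nat.card G - Nat.card Q = n →
      ∃ (P : Subgroup G) (e : Set (IrrCharacter (Subgroup.centralizer (P : Set G)))),
        IsMaximalBrauerPair p M B P e ∧ SubpairLE p M Q f P e := by
  intro n
  induction n using Nat.strong_induction_on with
  | _ n ih =>
    intro Q f hQf hn
    by_cases hmax : ∀ (R : Subgroup G) (g : Set (IrrCharacter (Subgroup.centralizer (R : Set G)))),
        IsBrauerPairOf p M B R g → SubpairLE p M Q f R g → R = Q
    · exact ⟨Q, f, ⟨hQf, hmax⟩, Relation.ReflTransGen.refl⟩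
    · push Not at hmax
      obtain ⟨R, g, hRg, hle, hne⟩ := hmax
      have hQR : Q ≤ R := subpairLE_le hle
      have hc1 : Nat.card Q < Nat.card R := by
        by_contra hcon
        push Not at hcon
        exact hne (Subgroup.eq_of_le_of_card_ge hQR hcon).symm
      have hc2 : Nat.card R ≤ Nat.card G := Subgroup.card_le_card_group R
      obtain ⟨P, e, hPe, hle'⟩ := ih (Nat.card G - Nat.card R) (by omega) R g hRg rfl
      exact ⟨P, e, hPe, Relation.ReflTransGen.trans hle hle'⟩

theorem brLam_of_isBrauerPairOf {B : Set (IrrCharacter G)} {P : Subgroup G}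
    [Fintype (Subgroup.centralizer (P : Set G))]
    {e : Set (IrrCharacter (Subgroup.centralizer (P : Set G)))}
    (h : IsBrauerPairOf p M B P e) :
    ∀ ξ ∈ e, MemLocalIdeal M (brLam P ξ.1 (blockElt B) - 1) := by
  intro ξ hξ
  have := h.2.2 ξ hξ
  rw [brauerOmega_eq P (blockCoeff B) (blockElt B) (fun g => (coeff_blockElt B g).symm)] at this
  exact this

theorem exists_snd_of_fst_eq (a : BrauerPairIdx G) {P : Subgroup G} (h : a.1 = P) :
    ∃ e : Set (IrrCharacter (Subgroup.centralizer (P : Set G))), a = ⟨P, e⟩ := by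
  obtain ⟨Q, f⟩ := a
  simp only at h
  subst h
  exact ⟨f, rfl⟩

/-- Any two maximal Brauer pairs of `B` are conjugate. -/
theorem exists_conjPair_eq_of_maximal (hM : IsPModular p M) {B : Set (IrrCharacter G)}
    {P P' : Subgroup G} {e : Set (IrrCharacter (Subgroup.centralizer (P : Set G)))}
    {e' : Set (IrrCharacter (Subgroup.centralizer (P' : Set G)))}
    (hmax : IsMaximalBrauerPair p M B P e) (hmax' : IsMaximalBrauerPair p M B P' e') :
    ∃ x : G, conjPair x ⟨P', e'⟩ = ⟨P, e⟩ := by
  haveI : Fintype (Subgroup.centralizer (P : Set G)) := Fintype.ofFinite _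
  have hD := isDefectGroup_of_maximal p hM B P e hmax
  have hD' := isDefectGroup_of_maximal p hM B P' e' hmax'
  have hB := hmax.1.2.1
  obtain ⟨x, hx⟩ := isDefectGroup_conj_eq p hM hB hD' hD
  obtain ⟨e'', he''⟩ := exists_snd_of_fst_eq (conjPair x ⟨P', e'⟩) hx
  have hpair'' : IsBrauerPairOf p M B P e'' := by
    have h1 : IsBrauerPairOf p M B (conjPair x ⟨P', e'⟩).1 (conjPair x ⟨P', e'⟩).2 :=
      isBrauerPairOf_conj p x hmax'.1
    rw [he''] at h1
    exact h1
  obtain ⟨n, hn, hee⟩ := exists_normalizer_conj_block p hM hB P hmax.1.1.1 hmax.1.1.2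
    hpair''.1.2 (maxB_of_maximal p hM hmax) (brLam_of_isBrauerPairOf p hmax.1)
    (brLam_of_isBrauerPairOf p hpair'')
  have h1 : conjPair n ⟨P, e⟩ = conjPair x ⟨P', e'⟩ := by
    rw [conjPair_of_mem_normalizer P hn e, he'', hee]
  refine ⟨n⁻¹ * x, ?_⟩
  rw [← conjPair_mul, ← h1, conjPair_mul, inv_mul_cancel, conjPair_one]

/-- **Conjugacy.** Every Brauer pair of `B` has a conjugate below a given maximal Brauer pair. -/
theorem exists_conj_subpairLE (hM : IsPModular p M) {B : Set (IrrCharacter G)}
    {P Q : Subgroup G} {e : Set (IrrCharacter (Subgroup.centralizer (P : Set G)))}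
    {f : Set (IrrCharacter (Subgroup.centralizer (Q : Set G)))}
    (hmax : IsMaximalBrauerPair p M B P e) (hQf : IsBrauerPairOf p M B Q f) :
    ∃ x : G, Relation.ReflTransGen (NormalSubpairRel p M) (conjPair x ⟨Q, f⟩) ⟨P, e⟩ := by
  obtain ⟨P', e', hmax', hle⟩ := exists_maximal_ge p _ Q f hQf rfl
  obtain ⟨x, hx⟩ := exists_conjPair_eq_of_maximal p hM hmax hmax'
  refine ⟨x, ?_⟩
  have h3 := subpairLE_conj p x hle
  rw [hx] at h3
  exact h3

end Main

end Cfsg.Agent.H80
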