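import Cfsg.Agent.H26.CIT3

set_option autoImplicit false
set_option linter.style.haveILetI false
set_option linter.unusedSectionVars false
set_option linter.unusedVariables false

/-! S2202-CITBIG (layer 1): a CIT group with noncyclic non-normal Sylow 2-subgroup has no
odd-order subgroup with at least as many elements as the group has involutions. -/

namespace Cfsg.Agent.H80.AIC

open Subgroup Cfsg.Agent.H26

/-- an element of an odd-order subgroup whose square is one is trivial -/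
theorem citbig_odd_sq {X : Type*} [Group X] (Y : Subgroup X) (hY : Odd (Nat.card Y)) {z : X}
    (hz : z ∈ Y) (h2 : z * z = 1) : z = 1 := by
  have h1 : orderOf z ∣ 2 := orderOf_dvd_of_pow_eq_one (by rw [pow_two]; exact h2)
  have h3 : Odd (orderOf z) := hY.of_dvd_nat (Y.orderOf_dvd_natCard hz)
  rcases (Nat.dvd_prime Nat.prime_two).mp h1 with h | h
  · exact orderOf_eq_one_iff.mp h
  · rw [h] at h3; exact absurd h3 (by decide)

section CIT

variable {X : Type*} [Group X] [Finite X] (T : Sylow 2 X)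
  (hnc : ¬ IsCyclic (T : Subgroup X)) (hnn : ¬ (T : Subgroup X).Normal) (hC : CITHyp X)
include hnc hnn hC

/-- involution count: at least `|X : N| * (q - 1)` -/
theorem citbig_inv_count :
    Nat.card (X ⧸ NT T) * (Nat.card (T : Subgroup X) - 1) ≤
      Nat.card {t : X // orderOf t = 2} := by
  classical
  have h2 := Nat.card_congr (Equiv.optionSubtypeNe (1 : (T : Subgroup X)))
  rw [Finite.card_option] at h2
  have h3 : Nat.card {t : (T : Subgroup X) // t ≠ 1} = Nat.card (T : Subgroup X) - 1 := by omega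
  rw [← h3, ← Nat.card_prod]
  let f : (X ⧸ NT T) × {t : (T : Subgroup X) // t ≠ 1} → {t : X // orderOf t = 2} := fun p =>
    ⟨Quotient.out p.1 * (p.2.1 : X) * (Quotient.out p.1)⁻¹, by
      rw [orderOf_conj_eq]
      exact cit_orderOf T hnc hC p.2.1.2 (fun h => p.2.2 (Subtype.ext h))⟩
  apply Nat.card_le_card_of_injective f
  rintro ⟨c, ⟨t, ht1⟩⟩ ⟨c', ⟨t', ht1'⟩⟩ h
  have h' : Quotient.out c * (t : X) * (Quotient.out c)⁻¹ =
      Quotient.out c' * (t' : X) * (Quotient.out c')⁻¹ := congrArg Subtype.val h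
  have hmem : (Quotient.out c)⁻¹ * Quotient.out c' ∈ NT T := by
    apply cit_TI T hnc hC t.2 (fun h => ht1 (Subtype.ext h))
    have : ((Quotient.out c)⁻¹ * Quotient.out c')⁻¹ * (t : X) *
        ((Quotient.out c)⁻¹ * Quotient.out c') = (t' : X) := by
      calc ((Quotient.out c)⁻¹ * Quotient.out c')⁻¹ * (t : X) *
            ((Quotient.out c)⁻¹ * Quotient.out c')
          = (Quotient.out c')⁻¹ * (Quotient.out c * (t : X) * (Quotient.out c)⁻¹) *
              Quotient.out c' := by group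
        _ = (Quotient.out c')⁻¹ * (Quotient.out c' * (t' : X) * (Quotient.out c')⁻¹) *
              Quotient.out c' := by rw [h']
        _ = (t' : X) := by group
    rw [this]; exact t'.2
  have hcc : c = c' := by
    rw [← QuotientGroup.out_eq' c, ← QuotientGroup.out_eq' c']
    exact QuotientGroup.eq.mpr hmem
  subst hcc
  have htt : (t : X) = (t' : X) := by
    have := congrArg (fun x => (Quotient.out c)⁻¹ * x * Quotient.out c) h'
    simpa [mul_assoc] using this
  have : t = t' := Subtype.ext htt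
  subst this
  rfl

theorem cit_no_odd_big' (Y : Subgroup X) (hY : Odd (Nat.card Y))
    (hbig : Nat.card {t : X // orderOf t = 2} ≤ Nat.card Y) : False := by
  classical
  have hne : ∃ g : X, g ∉ NT T := by
    by_contra h
    simp only [not_exists, not_not] at h
    exact hnn (Subgroup.normalizer_eq_top_iff.mp ((Subgroup.eq_top_iff' _).mpr h))
  obtain ⟨g0, hg0⟩ := hne
  have hq := cit_Dg_card T hnc hnn hC hg0
  have hcN := cit_card_N T hnc hnn hC
  have hI := citbig_inv_count T hnc hnn hC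
  have hm2 : 1 < Nat.card (Dg (NT T) g0) := by
    obtain ⟨d, hd, hd1⟩ := cit_Dg_exists_ne T hnc hnn hC hg0
    rw [Subgroup.one_lt_card_iff_ne_bot]
    intro hbot
    rw [hbot, Subgroup.mem_bot] at hd
    exact hd1 hd
  generalize hqdef : Nat.card (T : Subgroup X) = q at hq hcN hI
  generalize hmdef : Nat.card (Dg (NT T) g0) = m at hq hm2
  have hodd1 : ∀ z : X, z ∈ Y → z * z = 1 → z = 1 := fun z hz h2 => citbig_odd_sq Y hY hz h2
  -- `Y0 = Y ∩ N` has at most `m = q - 1` elements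
  have hY0le : Nat.card (Y ⊓ NT T : Subgroup X) ≤ m := by
    let f : (Y ⊓ NT T : Subgroup X) × (T : Subgroup X) → NT T := fun p =>
      ⟨(p.1 : X) * (p.2 : X), (NT T).mul_mem p.1.2.2 (Subgroup.le_normalizer p.2.2)⟩
    have hf : Function.Injective f := by
      rintro ⟨y, t⟩ ⟨y', t'⟩ h
      have h' : (y : X) * (t : X) = (y' : X) * (t' : X) := congrArg Subtype.val h
      have hz : (y' : X)⁻¹ * (y : X) = (t' : X) * (t : X)⁻¹ := by
        calc (y' : X)⁻¹ * (y : X) = (y' : X)⁻¹ * ((y : X) * (t : X)) * (t : X)⁻¹ := by group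
          _ = (y' : X)⁻¹ * ((y' : X) * (t' : X)) * (t : X)⁻¹ := by rw [h']
          _ = (t' : X) * (t : X)⁻¹ := by group
      have hzT : (y' : X)⁻¹ * (y : X) ∈ (T : Subgroup X) := by
        rw [hz]; exact (T : Subgroup X).mul_mem t'.2 ((T : Subgroup X).inv_mem t.2)
      have hzY : (y' : X)⁻¹ * (y : X) ∈ Y := Y.mul_mem (Y.inv_mem y'.2.1) y.2.1
      have h1 := hodd1 _ hzY (cit_T_sq T hnc hC hzT)
      have hyy : (y : X) = (y' : X) := (inv_mul_eq_one.mp h1).symm
      have htt : (t : X) = (t' : X) := by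
        rw [hyy] at h'
        exact mul_left_cancel h'
      exact Prod.ext (Subtype.ext hyy) (Subtype.ext htt)
    have h1 := Nat.card_le_card_of_injective f hf
    rw [Nat.card_prod, hcN, hqdef] at h1
    have hqpos : 0 < q := by omega
    have h2 : Nat.card (Y ⊓ NT T : Subgroup X) * q ≤ (q - 1) * q := by
      rw [Nat.mul_comm (q - 1) q]; exact h1
    have h3 := Nat.le_of_mul_le_mul_right h2 hqpos
    omega
  -- the action of `Y` on `X ⧸ N`
  have hstab : ∀ y : ↥Y, y ∈ MulAction.stabilizer (↥Y) (((1 : X) : X ⧸ NT T)) ↔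
      (y : X) ∈ NT T := by
    intro y
    rw [MulAction.mem_stabilizer_iff]
    change (y : X) • (((1 : X) : X ⧸ NT T)) = (((1 : X) : X ⧸ NT T)) ↔ _
    rw [MulAction.Quotient.smul_mk, QuotientGroup.eq]
    simp
  have hos : Nat.card (MulAction.orbit (↥Y) (((1 : X) : X ⧸ NT T))) *
      Nat.card (MulAction.stabilizer (↥Y) (((1 : X) : X ⧸ NT T))) = Nat.card Y := by
    rw [← Nat.card_prod]
    exact Nat.card_congr (MulAction.orbitProdStabilizerEquivGroup (↥Y) _)
  have horb : Nat.card (MulAction.orbit (↥Y) (((1 : X) : X ⧸ NT T))) ≤ Nat.card (X ⧸ NT T) :=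
    Finite.card_subtype_le _
  have hstabY0 : Nat.card (MulAction.stabilizer (↥Y) (((1 : X) : X ⧸ NT T))) ≤
      Nat.card (Y ⊓ NT T : Subgroup X) := by
    let f : MulAction.stabilizer (↥Y) (((1 : X) : X ⧸ NT T)) → (Y ⊓ NT T : Subgroup X) :=
      fun y => ⟨((y.1 : ↥Y) : X), ⟨y.1.2, (hstab y.1).mp y.2⟩⟩
    apply Nat.card_le_card_of_injective f
    intro y y' h
    have : ((f y : (Y ⊓ NT T : Subgroup X)) : X) = ((f y' : (Y ⊓ NT T : Subgroup X)) : X) :=
      congrArg Subtype.val h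
    exact Subtype.ext (Subtype.ext this)
  have hnpos : 0 < Nat.card (X ⧸ NT T) := Nat.card_pos
  have hmpos : 0 < m := by omega
  have hqm : q - 1 = m := by omega
  rw [hqm] at hI
  have hchain : Nat.card (X ⧸ NT T) * m ≤
      Nat.card (MulAction.orbit (↥Y) (((1 : X) : X ⧸ NT T))) *
        Nat.card (MulAction.stabilizer (↥Y) (((1 : X) : X ⧸ NT T))) := by
    rw [hos]; exact hI.trans hbig
  have horb_eq : Nat.card (X ⧸ NT T) ≤
      Nat.card (MulAction.orbit (↥Y) (((1 : X) : X ⧸ NT T))) := by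
    have h1 : Nat.card (MulAction.orbit (↥Y) (((1 : X) : X ⧸ NT T))) *
        Nat.card (MulAction.stabilizer (↥Y) (((1 : X) : X ⧸ NT T))) ≤
        Nat.card (MulAction.orbit (↥Y) (((1 : X) : X ⧸ NT T))) * m :=
      Nat.mul_le_mul_left _ (hstabY0.trans hY0le)
    exact Nat.le_of_mul_le_mul_right (hchain.trans h1) hmpos
  have hY0ge : m ≤ Nat.card (Y ⊓ NT T : Subgroup X) := by
    have h1 : Nat.card (MulAction.orbit (↥Y) (((1 : X) : X ⧸ NT T))) *
        Nat.card (MulAction.stabilizer (↥Y) (((1 : X) : X ⧸ NT T))) ≤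
        Nat.card (X ⧸ NT T) * Nat.card (Y ⊓ NT T : Subgroup X) :=
      Nat.mul_le_mul horb hstabY0
    exact Nat.le_of_mul_le_mul_left (hchain.trans h1) hnpos
  have htrans : ∀ c : X ⧸ NT T, c ∈ MulAction.orbit (↥Y) (((1 : X) : X ⧸ NT T)) := by
    have hbij := Function.Injective.bijective_of_nat_card_le
      (f := (Subtype.val : MulAction.orbit (↥Y) (((1 : X) : X ⧸ NT T)) → X ⧸ NT T))
      Subtype.val_injective horb_eq
    intro c
    obtain ⟨⟨c', hc'⟩, rfl⟩ := hbij.2 c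
    exact hc'
  -- a nontrivial element `y1` of `Y0`
  have hex : ∃ y1 ∈ (Y ⊓ NT T : Subgroup X), y1 ≠ 1 := by
    by_contra h
    simp only [not_exists, not_and, not_not] at h
    have hbot : (Y ⊓ NT T : Subgroup X) = ⊥ := (Subgroup.eq_bot_iff_forall _).mpr h
    have : Nat.card (Y ⊓ NT T : Subgroup X) = 1 := Subgroup.card_eq_one.mpr hbot
    omega
  obtain ⟨y1, hy1, hy1ne⟩ := hex
  have hy1Y : y1 ∈ Y := hy1.1
  have hy1N : y1 ∈ NT T := hy1.2
  obtain ⟨d0, hd0, t0, ht0, hdt⟩ := cit_N_eq_DgT T hnc hnn hC hg0 hy1N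
  have hd0ne : d0 ≠ 1 := by
    intro h
    rw [h, one_mul] at hdt
    apply hy1ne
    apply hodd1 y1 hy1Y
    rw [hdt]; exact cit_T_sq T hnc hC ht0
  have hd0N : d0 ∈ NT T := ((mem_Dg _ _ _).mp hd0).1
  have hnormal : ∀ s ∈ (T : Subgroup X), d0⁻¹ * s * d0 ∈ (T : Subgroup X) := by
    intro s hs
    have := (Subgroup.mem_normalizer_iff.mp ((NT T).inv_mem hd0N) s).mp hs
    rw [inv_inv] at this
    exact this
  let ψ : ↥(T : Subgroup X) → ↥(T : Subgroup X) := fun s =>
    ⟨d0⁻¹ * s * d0 * (s : X)⁻¹, (T : Subgroup X).mul_mem (hnormal s s.2)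
      ((T : Subgroup X).inv_mem s.2)⟩
  have hinj : Function.Injective ψ := by
    intro s s' h
    have h' : d0⁻¹ * s * d0 * (s : X)⁻¹ = d0⁻¹ * s' * d0 * (s' : X)⁻¹ := congrArg Subtype.val h
    have hr : (s' : X)⁻¹ * s ∈ (T : Subgroup X) :=
      (T : Subgroup X).mul_mem ((T : Subgroup X).inv_mem s'.2) s.2
    have hc1 : (d0⁻¹ * s' * d0)⁻¹ * (d0⁻¹ * s * d0) = (s' : X)⁻¹ * s := by
      calc (d0⁻¹ * s' * d0)⁻¹ * (d0⁻¹ * s * d0)
          = (d0⁻¹ * s' * d0)⁻¹ * (d0⁻¹ * s * d0 * (s : X)⁻¹) * s := by group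
        _ = (d0⁻¹ * s' * d0)⁻¹ * (d0⁻¹ * s' * d0 * (s' : X)⁻¹) * s := by rw [h']
        _ = (s' : X)⁻¹ * s := by group
    have hc2 : d0 * ((s' : X)⁻¹ * s) = ((s' : X)⁻¹ * s) * d0 := by
      have : (d0⁻¹ * s' * d0)⁻¹ * (d0⁻¹ * s * d0) = d0⁻¹ * ((s' : X)⁻¹ * s) * d0 := by group
      rw [this] at hc1
      calc d0 * ((s' : X)⁻¹ * s) = d0 * (d0⁻¹ * ((s' : X)⁻¹ * s) * d0) := by rw [hc1]
        _ = ((s' : X)⁻¹ * s) * d0 := by group
    by_contra hne
    have hr1 : (s' : X)⁻¹ * s ≠ 1 := by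
      intro h1
      apply hne
      apply Subtype.ext
      exact (inv_mul_eq_one.mp h1).symm
    exact hd0ne (cit_Dg_free T hnc hnn hC hg0 hd0 hr hr1 hc2)
  obtain ⟨s, hs⟩ := Finite.surjective_of_injective hinj ⟨t0, ht0⟩
  have hs' : d0⁻¹ * s * d0 * (s : X)⁻¹ = t0 := congrArg Subtype.val hs
  have hconj : (s : X) * d0 * (s : X)⁻¹ = y1 := by
    rw [hdt, ← hs']; group
  have hsN : (s : X) ∈ NT T := Subgroup.le_normalizer s.2
  have hg1 : (s : X) * g0 ∉ NT T := by
    intro h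
    apply hg0
    have := (NT T).mul_mem ((NT T).inv_mem hsN) h
    simpa using this
  have hy1D : y1 ∈ Dg (NT T) ((s : X) * g0) := by
    rw [mem_Dg]
    refine ⟨hy1N, ?_⟩
    have : ((s : X) * g0)⁻¹ * y1 * ((s : X) * g0) = g0⁻¹ * d0 * g0 := by
      rw [← hconj]; group
    rw [this]; exact ((mem_Dg _ _ _).mp hd0).2
  obtain ⟨u1, hu1, hu1N, hu1g⟩ := cit_exists_inv_coset T hnc hnn hC hg1
  have hDeq : Dg (NT T) ((s : X) * g0) = Dg (NT T) u1 :=
    Dg_congr _ (by have := (NT T).inv_mem hu1g; simpa using this)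
  rw [hDeq] at hy1D
  -- `Y0 ≤ D1`
  have hY0D : (Y ⊓ NT T : Subgroup X) ≤ Dg (NT T) u1 := by
    intro y2 hy2
    have hc := cit_comm_mem_T T hnc hnn hC hu1N hy2.2 hy1D
    have hcY : y2 * y1 * y2⁻¹ * y1⁻¹ ∈ Y :=
      Y.mul_mem (Y.mul_mem (Y.mul_mem hy2.1 hy1Y) (Y.inv_mem hy2.1)) (Y.inv_mem hy1Y)
    have h1 := hodd1 _ hcY (cit_T_sq T hnc hC hc)
    have hcomm : y2 * y1 = y1 * y2 := by
      have := congrArg (fun x => x * y1 * y2) h1
      simp only [one_mul] at this
      rw [← this]; group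
    exact cit_centralizer_in_N T hnc hnn hC hu1N hy1D hy1ne hy2.2 hcomm
  have hD1card := cit_Dg_card T hnc hnn hC hu1N
  rw [hqdef] at hD1card
  have hY0eq : (Y ⊓ NT T : Subgroup X) = Dg (NT T) u1 :=
    Subgroup.eq_of_le_of_card_ge hY0D (by omega)
  -- pick `y ∈ Y` in the coset `u1 N`
  obtain ⟨y, hy⟩ := MulAction.mem_orbit_iff.mp (htrans ((u1 : X) : X ⧸ NT T))
  have hyu : (y : X)⁻¹ * u1 ∈ NT T := by
    change (y : X) • (((1 : X) : X ⧸ NT T)) = ((u1 : X) : X ⧸ NT T) at hy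
    rw [MulAction.Quotient.smul_mk, QuotientGroup.eq] at hy
    simpa using hy
  have huy : u1⁻¹ * (y : X) ∈ NT T := by
    have := (NT T).inv_mem hyu
    simpa using this
  have hDeq2 : Dg (NT T) u1 = Dg (NT T) (y : X) := Dg_congr _ huy
  have hconjmem : ∀ d ∈ Dg (NT T) u1, (y : X)⁻¹ * d * (y : X) ∈ Dg (NT T) u1 := by
    intro d hd
    have hdY : d ∈ Y := by rw [← hY0eq] at hd; exact hd.1
    have h1 : (y : X)⁻¹ * d * (y : X) ∈ NT T := by
      rw [hDeq2] at hd; exact ((mem_Dg _ _ _).mp hd).2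
    have h2 : (y : X)⁻¹ * d * (y : X) ∈ Y := Y.mul_mem (Y.mul_mem (Y.inv_mem y.2) hdY) y.2
    rw [← hY0eq]; exact ⟨h2, h1⟩
  have hynorm : (y : X) ∈ Subgroup.normalizer ((Dg (NT T) u1 : Subgroup X) : Set X) := by
    have hinv : (y : X)⁻¹ ∈ Subgroup.normalizer ((Dg (NT T) u1 : Subgroup X) : Set X) := by
      rw [Subgroup.mem_normalizer_iff]
      intro h
      rw [inv_inv]
      constructor
      · exact hconjmem h
      · intro hh
        let c : Dg (NT T) u1 → Dg (NT T) u1 := fun d =>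
          ⟨(y : X)⁻¹ * d * (y : X), hconjmem d d.2⟩
        have hcinj : Function.Injective c := by
          intro d d' hdd
          have : (y : X)⁻¹ * (d : X) * (y : X) = (y : X)⁻¹ * (d' : X) * (y : X) :=
            congrArg Subtype.val hdd
          apply Subtype.ext
          exact mul_left_cancel (mul_right_cancel this)
        obtain ⟨d, hd⟩ := Finite.surjective_of_injective hcinj ⟨_, hh⟩
        have : (y : X)⁻¹ * (d : X) * (y : X) = (y : X)⁻¹ * h * (y : X) := congrArg Subtype.val hd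
        have hdh : (d : X) = h := mul_left_cancel (mul_right_cancel this)
        rw [← hdh]; exact d.2
    have := Subgroup.inv_mem _ hinv
    rwa [inv_inv] at this
  have hunorm := cit_u_mem_normalizer T hu1
  have hd : u1⁻¹ * (y : X) ∈ Dg (NT T) u1 :=
    cit_normalizer_in_N T hnc hnn hC hu1N huy
      (Subgroup.mul_mem _ (Subgroup.inv_mem _ hunorm) hynorm)
  have hinvd := cit_D_inverted T hnc hnn hC hu1 hu1N hd
  have hyy : (y : X) * (y : X) = 1 := by
    have huu : u1 * u1 = 1 := inv_sq hu1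
    have h1 : (y : X) * u1⁻¹ = (y : X)⁻¹ * u1 := by
      have : u1 * (u1⁻¹ * (y : X)) * u1⁻¹ = (y : X) * u1⁻¹ := by group
      rw [this] at hinvd
      rw [hinvd]; group
    calc (y : X) * (y : X) = (y : X) * ((y : X) * u1⁻¹) * u1 := by group
      _ = (y : X) * ((y : X)⁻¹ * u1) * u1 := by rw [h1]
      _ = u1 * u1 := by group
      _ = 1 := huu
  have hy1' := hodd1 _ y.2 hyy
  apply hu1N
  rw [hy1', inv_one, one_mul] at hyu
  exact hyu

end CIT

theorem cit_no_odd_big {X : Type*} [Group X] [Finite X] (T : Sylow 2 X)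
    (hnc : ¬ IsCyclic (T : Subgroup X)) (hnn : ¬ (T : Subgroup X).Normal) (hC : CITHyp X)
    (Y : Subgroup X) (hY : Odd (Nat.card Y))
    (hbig : Nat.card {t : X // orderOf t = 2} ≤ Nat.card Y) : False :=
  cit_no_odd_big' T hnc hnn hC Y hY hbig

example {X : Type*} [Group X] [Finite X] (T : Sylow 2 X)
    (hnc : ¬ IsCyclic (T : Subgroup X)) (hnn : ¬ (T : Subgroup X).Normal) (hC : CITHyp X)
    (Y : Subgroup X) (hY : Odd (Nat.card Y))
    (hbig : Nat.card {t : X // orderOf t = 2} ≤ Nat.card Y) : False :=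
  cit_no_odd_big T hnc hnn hC Y hY hbig

end Cfsg.Agent.H80.AIC
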