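import Cfsg.Agent.H26.AIC.Basic

set_option autoImplicit false
set_option linter.style.haveILetI false
set_option linter.unusedSectionVars false
set_option linter.unusedVariables false

/-! S2202-QGOOD (layer 1). -/

namespace Cfsg.Agent.H80.AIC

open Subgroup Cfsg.Agent.H26 Cfsg.Agent.H26.AIC

variable {G : Type*} [Group G] [Finite G]

theorem quot_good (hH : Hyp G) (P : Sylow 2 G) (hP : Good P) (N : Subgroup G) [N.Normal]
    (hodd : Odd (Nat.card N)) (hN : N ≤ NT P) : ∃ T : Sylow 2 (G ⧸ N), Good T := by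
  haveI : Fact (Nat.Prime 2) := ⟨Nat.prime_two⟩
  have hsurj : Function.Surjective (QuotientGroup.mk' N) := QuotientGroup.mk'_surjective N
  -- `P ⊓ N = ⊥`
  have hPN : (P : Subgroup G) ⊓ N = ⊥ := by
    apply Disjoint.eq_bot
    apply Subgroup.disjoint_of_coprime_natCard
    obtain ⟨n, hn⟩ := IsPGroup.iff_card.mp P.2
    rw [hn]
    exact Nat.Coprime.pow_left n (Nat.coprime_two_left.mpr hodd)
  refine ⟨P.mapSurjective hsurj, ?_, ?_⟩
  · -- not cyclic
    intro hc
    apply hP.1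
    rw [Sylow.coe_mapSurjective] at hc
    obtain ⟨⟨t, ht⟩, hgen⟩ := hc.exists_generator
    obtain ⟨g, hg, rfl⟩ := ht
    refine ⟨⟨⟨g, hg⟩, fun x => ?_⟩⟩
    have hx : (⟨QuotientGroup.mk' N x.1, Subgroup.mem_map_of_mem _ x.2⟩ :
        ↥((P : Subgroup G).map (QuotientGroup.mk' N))) ∈
        Subgroup.zpowers (⟨QuotientGroup.mk' N g, Subgroup.mem_map_of_mem _ hg⟩ :
          ↥((P : Subgroup G).map (QuotientGroup.mk' N))) := hgen _
    obtain ⟨k, hk⟩ := Subgroup.mem_zpowers_iff.mp hx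
    have hk' : (QuotientGroup.mk' N g) ^ k = QuotientGroup.mk' N x.1 := by
      have := congrArg Subtype.val hk
      simpa using this
    rw [← map_zpow] at hk'
    have hmem : (g ^ k)⁻¹ * x.1 ∈ N := QuotientGroup.eq.mp hk'
    have hmemP : (g ^ k)⁻¹ * x.1 ∈ (P : Subgroup G) :=
      Subgroup.mul_mem _ (Subgroup.inv_mem _ (Subgroup.zpow_mem _ hg k)) x.2
    have h1 : (g ^ k)⁻¹ * x.1 = 1 := by
      have : (g ^ k)⁻¹ * x.1 ∈ (P : Subgroup G) ⊓ N := ⟨hmemP, hmem⟩
      rw [hPN, Subgroup.mem_bot] at this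
      exact this
    refine ⟨k, Subtype.ext ?_⟩
    change ((⟨g, hg⟩ : ↥(P : Subgroup G)) ^ k : ↥(P : Subgroup G)).1 = x.1
    rw [Subgroup.coe_zpow]
    exact (inv_mul_eq_one.mp h1)
  · -- not normal
    intro hn
    apply hP.2
    rw [Sylow.coe_mapSurjective] at hn
    haveI hK : (((P : Subgroup G).map (QuotientGroup.mk' N)).comap (QuotientGroup.mk' N)).Normal :=
      Subgroup.Normal.comap hn _
    have hPK : (P : Subgroup G) ≤
        ((P : Subgroup G).map (QuotientGroup.mk' N)).comap (QuotientGroup.mk' N) :=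
      Subgroup.le_comap_map _ _
    have hKN : ((P : Subgroup G).map (QuotientGroup.mk' N)).comap (QuotientGroup.mk' N) ≤ NT P := by
      rw [Subgroup.comap_map_eq, QuotientGroup.ker_mk']
      exact sup_le Subgroup.le_normalizer hN
    have hfr := Sylow.normalizer_sup_eq_top' P hPK
    have htop : Subgroup.normalizer ((P : Subgroup G) : Set G) = ⊤ := by
      rw [eq_top_iff, ← hfr]
      exact sup_le le_rfl hKN
    exact Subgroup.normalizer_eq_top_iff.mp htop

example (hH : Hyp G) (P : Sylow 2 G) (hP : Good P) (N : Subgroup G) [N.Normal]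
    (hodd : Odd (Nat.card N)) (hN : N ≤ NT P) : ∃ T : Sylow 2 (G ⧸ N), Good T :=
  quot_good hH P hP N hodd hN

end Cfsg.Agent.H80.AIC
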