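import Cfsg.Agent.H26.AIC.Basic

set_option autoImplicit false
set_option linter.style.haveILetI false
set_option linter.unusedSectionVars false
set_option linter.unusedVariables false

/-! S2202-SUBGOOD (layer 1). -/

namespace Cfsg.Agent.H80.AIC

open Subgroup Cfsg.Agent.H26 Cfsg.Agent.H26.AIC

variable {G : Type*} [Group G] [Finite G]

theorem sub_good (hH : Hyp G) (L : Subgroup G) (P Q : Sylow 2 G) (hP : Good P) (hPQ : P ≠ Q)
    (hPL : (P : Subgroup G) ≤ L) (hQL : (Q : Subgroup G) ≤ L) :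
    ∃ T : Sylow 2 L, Good T ∧ ∀ x : L, x ∈ (T : Subgroup L) ↔ (x : G) ∈ (P : Subgroup G) := by
  haveI : Fact (Nat.Prime 2) := ⟨Nat.prime_two⟩
  refine ⟨P.subtype hPL, ⟨?_, ?_⟩, fun x => ?_⟩
  · -- not cyclic
    intro hc
    apply hP.1
    rw [Sylow.coe_subtype] at hc
    exact ((Subgroup.subgroupOfEquivOfLe hPL).isCyclic).mp hc
  · -- not normal
    intro hn
    apply hPQ
    haveI : ((P.subtype hPL : Sylow 2 L) : Subgroup L).Normal := hn
    obtain ⟨l, hl⟩ := MulAction.exists_smul_eq L (P.subtype hPL) (Q.subtype hQL)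
    rw [Sylow.smul_eq_of_normal] at hl
    exact Sylow.subtype_injective hl
  · rw [Sylow.coe_subtype, Subgroup.mem_subgroupOf]

example (hH : Hyp G) (L : Subgroup G) (P Q : Sylow 2 G) (hP : Good P) (hPQ : P ≠ Q)
    (hPL : (P : Subgroup G) ≤ L) (hQL : (Q : Subgroup G) ≤ L) :
    ∃ T : Sylow 2 L, Good T ∧ ∀ x : L, x ∈ (T : Subgroup L) ↔ (x : G) ∈ (P : Subgroup G) :=
  sub_good hH L P Q hP hPQ hPL hQL

end Cfsg.Agent.H80.AIC
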