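import Mathlib

/-!
# Homocyclic subgroup of index 2 with a swapping element: wreathed structure

Team piece `S1238-P2` for helper76: `Cfsg.Agent.H80.Wr.wreathed_of_swap`.
-/

set_option autoImplicit false
set_option linter.style.haveILetI false

namespace Cfsg.Agent.H80.Wr

/-- Elements of additive order dividing `2` in `ZMod (2 ^ (m + 1))` are multiples of `2 ^ m`. -/
theorem zmod_half (m : ℕ) (u : ZMod (2 ^ (m + 1))) (hu : u + u = 0) :
    ∃ c : ZMod (2 ^ (m + 1)), (2 ^ m) • c = u := by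
  haveI : NeZero (2 ^ (m + 1)) := ⟨by positivity⟩
  have h1 : ((u.val + u.val : ℕ) : ZMod (2 ^ (m + 1))) = 0 := by
    push_cast
    rw [ZMod.natCast_zmod_val]
    exact hu
  rw [ZMod.natCast_eq_zero_iff] at h1
  have h2 : 2 ^ m ∣ u.val := by
    have h3 : 2 * 2 ^ m ∣ 2 * u.val := by
      rw [two_mul u.val, ← pow_succ']
      exact h1
    exact Nat.dvd_of_mul_dvd_mul_left (by norm_num) h3
  obtain ⟨c, hc⟩ := h2
  refine ⟨(c : ZMod (2 ^ (m + 1))), ?_⟩
  have h4 := congrArg (Nat.cast : ℕ → ZMod (2 ^ (m + 1))) hc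
  rw [ZMod.natCast_zmod_val] at h4
  rw [h4, nsmul_eq_mul]
  push_cast
  rfl

/-- The unique involution of a cyclic group of order `2 ^ (m + 1)`. -/
theorem inv_unique {W : Type*} [Group W] (a : W) (m : ℕ) (ha : orderOf a = 2 ^ (m + 1)) (x : W)
    (hx : x ∈ Subgroup.zpowers a) (hx2 : x * x = 1) (hx1 : x ≠ 1) : x = a ^ 2 ^ m := by
  have hfin : IsOfFinOrder a := by
    rw [← orderOf_pos_iff, ha]; positivity
  obtain ⟨i, rfl⟩ := (hfin.mem_powers_iff_mem_zpowers).mpr hx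
  have h1 : a ^ (i * 2) = 1 := by
    rw [pow_mul, pow_two]; exact hx2
  have h2 : 2 ^ (m + 1) ∣ i * 2 := by
    rw [← ha]; exact orderOf_dvd_of_pow_eq_one h1
  have h3 : 2 ^ m ∣ i := by
    rw [pow_succ] at h2
    exact Nat.dvd_of_mul_dvd_mul_right (by norm_num) h2
  obtain ⟨c, rfl⟩ := h3
  have hu2 : (a ^ 2 ^ m) ^ 2 = 1 := by
    rw [← pow_mul, ← pow_succ, ← ha]; exact pow_orderOf_eq_one a
  obtain ⟨d, rfl | rfl⟩ := Nat.even_or_odd' c
  · exfalso
    apply hx1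
    show a ^ (2 ^ m * (2 * d)) = 1
    rw [pow_mul, pow_mul, hu2, one_pow]
  · show a ^ (2 ^ m * (2 * d + 1)) = a ^ 2 ^ m
    rw [pow_mul, pow_add, pow_mul, hu2, one_pow, one_mul, pow_one]

/-- A nontrivial element of `2`-power order has a power which is an involution. -/
theorem exists_inv_pow {W : Type*} [Group W] (x : W) (hx : x ≠ 1) (N : ℕ) (hxN : x ^ 2 ^ N = 1) :
    ∃ k, x ^ 2 ^ k ≠ 1 ∧ x ^ 2 ^ k * x ^ 2 ^ k = 1 := by
  classical
  have hex : ∃ k, x ^ 2 ^ k = 1 := ⟨N, hxN⟩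
  have hspec := Nat.find_spec hex
  cases hk : Nat.find hex with
  | zero =>
    rw [hk] at hspec
    rw [pow_zero, pow_one] at hspec
    exact absurd hspec hx
  | succ k =>
    refine ⟨k, Nat.find_min hex (by rw [hk]; exact Nat.lt_succ_self k), ?_⟩
    rw [hk] at hspec
    rw [← pow_two, ← pow_mul, ← pow_succ]
    exact hspec

/-- `S1238-P2`: a homocyclic subgroup `Q` of index `2` with a swapping element gives the
wreathed structure. -/
theorem wreathed_of_swap {W : Type*} [Group W] [Finite W] (Q : Subgroup W) (n : ℕ) (hn : 1 ≤ n)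
    (e : Q ≃* Multiplicative (ZMod (2 ^ n) × ZMod (2 ^ n))) (s : W) (hs : s ∉ Q)
    (hQ : ∀ w : W, w ∈ Q ∨ s⁻¹ * w ∈ Q) (hnorm : ∀ q ∈ Q, s * q * s⁻¹ ∈ Q)
    (z' : W) (hz'Q : z' ∈ Q) (hz' : z' * z' = 1) (hsz : s * z' * s⁻¹ ≠ z') :
    (∃ a b t : W, orderOf a = 2 ^ n ∧ a * b = b * a ∧
        Subgroup.zpowers a ⊓ Subgroup.zpowers b = ⊥ ∧ orderOf t = 2 ∧ t * a * t⁻¹ = b) ∧
      Nat.card W = 2 ^ (2 * n + 1) ∧
      (2 ≤ n → ∀ A : Subgroup W, (∀ x ∈ A, ∀ y ∈ A, x * y = y * x) →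
        Nat.card A = Nat.card Q → A = Q) := by
  obtain ⟨m, rfl⟩ : ∃ m, n = m + 1 := ⟨n - 1, by omega⟩
  haveI : Fact (Nat.Prime 2) := ⟨Nat.prime_two⟩
  -- `Q` is abelian
  have hQc : ∀ x ∈ Q, ∀ y ∈ Q, x * y = y * x := by
    intro x hx y hy
    have h1 : (⟨x, hx⟩ : Q) * ⟨y, hy⟩ = ⟨y, hy⟩ * ⟨x, hx⟩ := by
      apply e.injective
      rw [map_mul, map_mul, mul_comm]
    exact congrArg Subtype.val h1
  have hQcard : Nat.card Q = 2 ^ (m + 1) * 2 ^ (m + 1) := by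
    rw [Nat.card_congr e.toEquiv]
    show Nat.card (ZMod (2 ^ (m + 1)) × ZMod (2 ^ (m + 1))) = _
    rw [Nat.card_prod, Nat.card_zmod]
  have hz'1 : z' ≠ 1 := by
    rintro rfl
    apply hsz
    simp
  -- an element `a` with `a ^ 2 ^ m = z'`
  obtain ⟨a, haQ, ha⟩ : ∃ a ∈ Q, a ^ 2 ^ m = z' := by
    obtain ⟨ζ, hζ⟩ : ∃ ζ, ζ = e ⟨z', hz'Q⟩ := ⟨_, rfl⟩
    have hζ2 : ζ * ζ = 1 := by
      have h0 : (⟨z', hz'Q⟩ : Q) * ⟨z', hz'Q⟩ = 1 := Subtype.ext hz'
      rw [hζ, ← map_mul, h0, map_one]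
    have h1 : (Multiplicative.toAdd ζ).1 + (Multiplicative.toAdd ζ).1 = 0 := by
      have h0 := congrArg (fun t => (Multiplicative.toAdd t).1) hζ2
      simpa using h0
    have h2 : (Multiplicative.toAdd ζ).2 + (Multiplicative.toAdd ζ).2 = 0 := by
      have h0 := congrArg (fun t => (Multiplicative.toAdd t).2) hζ2
      simpa using h0
    obtain ⟨c1, hc1⟩ := zmod_half m _ h1
    obtain ⟨c2, hc2⟩ := zmod_half m _ h2
    refine ⟨(e.symm (Multiplicative.ofAdd (c1, c2)) : Q), (e.symm _).2, ?_⟩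
    have h3 : (Multiplicative.ofAdd (c1, c2)) ^ 2 ^ m = ζ := by
      rw [← ofAdd_nsmul]
      apply Multiplicative.toAdd.injective
      rw [toAdd_ofAdd]
      exact Prod.ext hc1 hc2
    rw [← Subgroup.coe_pow, ← map_pow, h3, hζ, e.symm_apply_apply]
  have hz'2 : z' ^ 2 = 1 := by rw [pow_two]; exact hz'
  have haord : orderOf a = 2 ^ (m + 1) := by
    apply orderOf_eq_prime_pow
    · rw [ha]; exact hz'1
    · rw [pow_succ, pow_mul, ha]; exact hz'2
  have ha1 : a ^ 2 ^ (m + 1) = 1 := by rw [← haord]; exact pow_orderOf_eq_one a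
  obtain ⟨b, hb⟩ : ∃ b, b = s * a * s⁻¹ := ⟨_, rfl⟩
  have hbQ : b ∈ Q := hb ▸ hnorm a haQ
  have hbpow : b ^ 2 ^ m = s * z' * s⁻¹ := by rw [hb, conj_pow, ha]
  have hbord : orderOf b = 2 ^ (m + 1) := by
    apply orderOf_eq_prime_pow
    · rw [hbpow]
      intro h
      apply hz'1
      have h0 := congrArg (fun t => s⁻¹ * t * s) h
      simpa [mul_assoc] using h0
    · rw [pow_succ, pow_mul, hbpow, pow_two]
      calc s * z' * s⁻¹ * (s * z' * s⁻¹) = s * (z' * z') * s⁻¹ := by group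
        _ = 1 := by rw [hz']; group
  have hb1 : b ^ 2 ^ (m + 1) = 1 := by rw [← hbord]; exact pow_orderOf_eq_one b
  have hab : a * b = b * a := hQc a haQ b hbQ
  have habc : Commute a b := hab
  have hdisj : Subgroup.zpowers a ⊓ Subgroup.zpowers b = ⊥ := by
    rw [eq_bot_iff]
    intro x hx
    rw [Subgroup.mem_bot]
    by_contra hx1
    have hxN : x ^ 2 ^ (m + 1) = 1 := by
      obtain ⟨i, rfl⟩ := Subgroup.mem_zpowers_iff.mp hx.1
      rw [← zpow_natCast, ← zpow_mul, mul_comm, zpow_mul, zpow_natCast, ha1, one_zpow]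
    obtain ⟨k, hk1, hk2⟩ := exists_inv_pow x hx1 (m + 1) hxN
    have h1 := inv_unique a m haord (x ^ 2 ^ k) (Subgroup.pow_mem _ hx.1 _) hk2 hk1
    have h2 := inv_unique b m hbord (x ^ 2 ^ k) (Subgroup.pow_mem _ hx.2 _) hk2 hk1
    rw [ha] at h1
    rw [hbpow] at h2
    exact hsz (h2.symm.trans h1)
  have hssQ : s * s ∈ Q := by
    rcases hQ (s * s) with h | h
    · exact h
    · exfalso
      apply hs
      simpa using h
  have hsb : s * b * s⁻¹ = a := by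
    have h1 := hQc (s * s) hssQ a haQ
    rw [hb]
    calc s * (s * a * s⁻¹) * s⁻¹ = (s * s) * a * (s * s)⁻¹ := by group
      _ = a * (s * s) * (s * s)⁻¹ := by rw [h1]
      _ = a := by group
  -- every element of `Q` is `a ^ i * b ^ j`
  have hdec : ∀ g ∈ Q, ∃ i j : ℤ, g = a ^ i * b ^ j := by
    obtain ⟨f, hf⟩ : ∃ f : Subgroup.zpowers a × Subgroup.zpowers b → Q,
        ∀ p, ((f p : Q) : W) = (p.1 : W) * (p.2 : W) :=
      ⟨fun p => ⟨(p.1 : W) * (p.2 : W), Q.mul_mem ((Subgroup.zpowers_le.mpr haQ) p.1.2)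
        ((Subgroup.zpowers_le.mpr hbQ) p.2.2)⟩, fun p => rfl⟩
    have hfinj : Function.Injective f := by
      rintro ⟨x1, y1⟩ ⟨x2, y2⟩ h
      have h1 : (x1 : W) * y1 = x2 * y2 := by
        have h0 := congrArg (fun t : Q => (t : W)) h
        simpa only [hf] using h0
      have h2 : (x2 : W)⁻¹ * x1 = y2 * (y1 : W)⁻¹ := by
        calc (x2 : W)⁻¹ * x1 = (x2 : W)⁻¹ * ((x1 : W) * y1) * (y1 : W)⁻¹ := by group
          _ = (x2 : W)⁻¹ * ((x2 : W) * y2) * (y1 : W)⁻¹ := by rw [h1]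
          _ = y2 * (y1 : W)⁻¹ := by group
      have h3 : (x2 : W)⁻¹ * x1 ∈ Subgroup.zpowers a ⊓ Subgroup.zpowers b :=
        Subgroup.mem_inf.mpr ⟨Subgroup.mul_mem _ (Subgroup.inv_mem _ x2.2) x1.2, by
          rw [h2]; exact Subgroup.mul_mem _ y2.2 (Subgroup.inv_mem _ y1.2)⟩
      rw [hdisj, Subgroup.mem_bot, inv_mul_eq_one] at h3
      have h5 : (y1 : W) = y2 := by
        rw [← h3] at h1
        exact mul_left_cancel h1
      exact Prod.ext (Subtype.ext h3.symm) (Subtype.ext h5)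
    have hcard : Nat.card Q ≤ Nat.card (Subgroup.zpowers a × Subgroup.zpowers b) := by
      rw [Nat.card_prod, Nat.card_zpowers, Nat.card_zpowers, haord, hbord, hQcard]
    have hbij := hfinj.bijective_of_nat_card_le hcard
    intro g hg
    obtain ⟨⟨x, y⟩, hxy⟩ := hbij.2 ⟨g, hg⟩
    obtain ⟨i, hi⟩ := Subgroup.mem_zpowers_iff.mp x.2
    obtain ⟨j, hj⟩ := Subgroup.mem_zpowers_iff.mp y.2
    refine ⟨i, j, ?_⟩
    have h0 := congrArg (fun t : Q => (t : W)) hxy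
    rw [hi, hj]
    simpa only [hf] using h0.symm
  have hconj : ∀ i j : ℤ, s * (a ^ i * b ^ j) * s⁻¹ = a ^ j * b ^ i := by
    intro i j
    have h1 : s * (a ^ i * b ^ j) * s⁻¹ = (s * a * s⁻¹) ^ i * (s * b * s⁻¹) ^ j := by
      rw [conj_zpow, conj_zpow]; group
    rw [h1, ← hb, hsb]
    exact ((habc.zpow_zpow j i).eq).symm
  have hfixed : ∀ i j : ℤ, a ^ i * b ^ j = a ^ j * b ^ i → a ^ i = a ^ j ∧ b ^ i = b ^ j := by
    intro i j h
    have h1 : a ^ (i - j) = b ^ (i - j) := by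
      calc a ^ (i - j) = a ^ (-j) * (a ^ i * b ^ j) * b ^ (-j) := by group
        _ = a ^ (-j) * (a ^ j * b ^ i) * b ^ (-j) := by rw [h]
        _ = b ^ (i - j) := by group
    have h2 : a ^ (i - j) ∈ Subgroup.zpowers a ⊓ Subgroup.zpowers b :=
      Subgroup.mem_inf.mpr ⟨Subgroup.zpow_mem _ (Subgroup.mem_zpowers a) _, by
        rw [h1]; exact Subgroup.zpow_mem _ (Subgroup.mem_zpowers b) _⟩
    rw [hdisj, Subgroup.mem_bot] at h2
    have h3 : b ^ (i - j) = 1 := by rw [← h1]; exact h2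
    rw [zpow_sub, mul_inv_eq_one] at h2 h3
    exact ⟨h2, h3⟩
  obtain ⟨i, j, hij⟩ := hdec (s * s) hssQ
  have hss : s * s = a ^ i * b ^ i := by
    have h1 : s * (s * s) * s⁻¹ = s * s := by group
    rw [hij, hconj] at h1
    obtain ⟨h2, h3⟩ := hfixed j i h1
    rw [hij, h3]
  obtain ⟨t, ht⟩ : ∃ t, t = a ^ (-i) * s := ⟨_, rfl⟩
  have htt : t * t = 1 := by
    have h4 : s * a ^ (-i) * s⁻¹ = b ^ (-i) := by rw [hb, conj_zpow]
    have hc : b ^ (-i) * a ^ i = a ^ i * b ^ (-i) := ((habc.zpow_zpow i (-i)).eq).symm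
    calc t * t = a ^ (-i) * (s * a ^ (-i) * s⁻¹) * (s * s) := by rw [ht]; group
      _ = a ^ (-i) * b ^ (-i) * (a ^ i * b ^ i) := by rw [h4, hss]
      _ = a ^ (-i) * (b ^ (-i) * a ^ i) * b ^ i := by group
      _ = a ^ (-i) * (a ^ i * b ^ (-i)) * b ^ i := by rw [hc]
      _ = 1 := by group
  have ht1 : t ≠ 1 := by
    intro h
    apply hs
    have h0 : s = a ^ i := by
      calc s = a ^ i * (a ^ (-i) * s) := by group
        _ = a ^ i := by rw [← ht, h, mul_one]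
    rw [h0]
    exact Q.zpow_mem haQ i
  have htord : orderOf t = 2 := orderOf_eq_prime (by rw [pow_two]; exact htt) ht1
  have hta : t * a * t⁻¹ = b := by
    have hc : b * a ^ i = a ^ i * b := ((habc.zpow_left i).eq).symm
    calc t * a * t⁻¹ = a ^ (-i) * ((s * a * s⁻¹) * a ^ i) := by rw [ht]; group
      _ = a ^ (-i) * (b * a ^ i) := by rw [← hb]
      _ = a ^ (-i) * (a ^ i * b) := by rw [hc]
      _ = b := by group
  have hsinv : s⁻¹ ∉ Q := fun h => hs (by simpa using Q.inv_mem h)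
  have hidx : Q.index = 2 := by
    rw [Subgroup.index_eq_two_iff]
    refine ⟨s⁻¹, fun w => ?_⟩
    by_cases hw : w ∈ Q
    · right
      refine ⟨hw, fun h' => hsinv ?_⟩
      have h0 := Q.mul_mem (Q.inv_mem hw) h'
      simpa using h0
    · left
      refine ⟨?_, hw⟩
      have h0 := hnorm _ ((hQ w).resolve_left hw)
      simpa [mul_assoc] using h0
  refine ⟨⟨a, b, t, haord, hab, hdisj, htord, hta⟩, ?_, ?_⟩
  · rw [← Subgroup.card_mul_index Q, hidx, hQcard]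
    ring
  · intro hn2 A hAc hAcard
    by_contra hne
    have hAQ : ¬ A ≤ Q := fun hle => hne (Subgroup.eq_of_le_of_card_ge hle (by rw [hAcard]))
    obtain ⟨g, hgA, hgQ⟩ := SetLike.not_le_iff_exists.mp hAQ
    have hle : A ⊓ Q ≤ Subgroup.zpowers (a * b) := by
      intro q hq
      obtain ⟨i', j', hqij⟩ := hdec q hq.2
      have hgq : g * q = q * g := hAc g hgA q hq.1
      have hq0 : s⁻¹ * g ∈ Q := (hQ g).resolve_left hgQ
      have h1 : s * q * s⁻¹ = q := by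
        have h2 := hQc (s⁻¹ * g) hq0 q hq.2
        calc s * q * s⁻¹ = s * (q * (s⁻¹ * g)) * g⁻¹ := by group
          _ = s * (s⁻¹ * g * q) * g⁻¹ := by rw [h2]
          _ = g * q * g⁻¹ := by group
          _ = q := by rw [hgq]; group
      rw [hqij, hconj] at h1
      obtain ⟨h2, h3⟩ := hfixed j' i' h1
      rw [hqij, h3, ← habc.mul_zpow]
      exact Subgroup.zpow_mem _ (Subgroup.mem_zpowers _) _
    have hcard1 : Nat.card (A ⊓ Q : Subgroup W) ≤ 2 ^ (m + 1) := by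
      have h1 := Subgroup.card_le_of_le hle
      rw [Nat.card_zpowers] at h1
      have h2 : (a * b) ^ 2 ^ (m + 1) = 1 := by
        rw [habc.mul_pow, ha1, hb1, one_mul]
      exact h1.trans (Nat.le_of_dvd (by positivity) (orderOf_dvd_of_pow_eq_one h2))
    have hcard2 : Nat.card A ≤ Nat.card (A ⊓ Q : Subgroup W) * 2 := by
      haveI : Q.Normal := Subgroup.normal_of_index_eq_two hidx
      have h1 := Subgroup.card_mul_index (Q.subgroupOf A)
      have h2 : Nat.card (Q.subgroupOf A) = Nat.card (A ⊓ Q : Subgroup W) := by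
        rw [← Subgroup.inf_subgroupOf_left Q A]
        exact Nat.card_congr (Subgroup.subgroupOfEquivOfLe (inf_le_left : A ⊓ Q ≤ A)).toEquiv
      have h3 : (Q.subgroupOf A).index ≤ 2 := by
        have h4 : Q.relIndex A ∣ Q.index := Subgroup.relIndex_dvd_index_of_normal Q A
        rw [hidx] at h4
        exact Nat.le_of_dvd (by norm_num) h4
      rw [← h1, h2]
      exact Nat.mul_le_mul_left _ h3
    have h5 : 2 ^ (m + 1) * 2 ^ (m + 1) ≤ 2 ^ (m + 1) * 2 := by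
      rw [← hQcard, ← hAcard]
      exact hcard2.trans (Nat.mul_le_mul_right _ hcard1)
    have h6 : 2 ^ (m + 1) ≤ 2 := Nat.le_of_mul_le_mul_left h5 (by positivity)
    have h7 : 2 ^ 2 ≤ 2 ^ (m + 1) := Nat.pow_le_pow_right (by norm_num) hn2
    omega

/-- The posted statement, verbatim. -/
example {W : Type*} [Group W] [Finite W] (Q : Subgroup W) (n : ℕ) (hn : 1 ≤ n)
    (e : Q ≃* Multiplicative (ZMod (2 ^ n) × ZMod (2 ^ n))) (s : W) (hs : s ∉ Q)
    (hQ : ∀ w : W, w ∈ Q ∨ s⁻¹ * w ∈ Q) (hnorm : ∀ q ∈ Q, s * q * s⁻¹ ∈ Q)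
    (z' : W) (hz'Q : z' ∈ Q) (hz' : z' * z' = 1) (hsz : s * z' * s⁻¹ ≠ z') :
    (∃ a b t : W, orderOf a = 2 ^ n ∧ a * b = b * a ∧
        Subgroup.zpowers a ⊓ Subgroup.zpowers b = ⊥ ∧ orderOf t = 2 ∧ t * a * t⁻¹ = b) ∧
      Nat.card W = 2 ^ (2 * n + 1) ∧
      (2 ≤ n → ∀ A : Subgroup W, (∀ x ∈ A, ∀ y ∈ A, x * y = y * x) →
        Nat.card A = Nat.card Q → A = Q) :=
  wreathed_of_swap Q n hn e s hs hQ hnorm z' hz'Q hz' hsz

end Cfsg.Agent.H80.Wr
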