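import Mathlib
import Cfsg.Agent.H7.RTDefs0

/-!
# RT-FOURCYC (S2359, helper7): a four-group normalizing a cyclic `r`-group, `r` odd, contains a
non-trivial element centralizing it
-/

set_option autoImplicit false

namespace Cfsg.Agent.H80.RT

open Cfsg.Agent.H7.RT

universe u

theorem fourCyc : StFourCyc.{u} := by
  intro G _ _ r _ R V hr2 hR hcyc hV hexp hnorm
  classical
  have hr : r.Prime := Fact.out
  obtain ⟨g0, hg0⟩ := hcyc.exists_generator
  obtain ⟨g, hgdef⟩ : ∃ g : G, g = (g0 : G) := ⟨_, rfl⟩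
  have hgR : g ∈ R := hgdef ▸ g0.2
  have hgen : ∀ y ∈ R, ∃ i : ℤ, g ^ i = y := by
    intro y hy
    obtain ⟨i, hi⟩ := Subgroup.mem_zpowers_iff.1 (hg0 ⟨y, hy⟩)
    refine ⟨i, ?_⟩
    have h1 := congrArg Subtype.val hi
    rw [hgdef]
    simpa using h1
  obtain ⟨k, hk⟩ := IsPGroup.iff_card.1 hR
  have hord : orderOf g = r ^ k := by
    rw [hgdef, Subgroup.orderOf_coe, orderOf_eq_card_of_forall_mem_zpowers hg0, hk]
  have hrZ : Prime (r : ℤ) := Nat.prime_iff_prime_int.1 hr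
  -- each `v ∈ V` centralizes or inverts `g`
  have hkey : ∀ v ∈ V, v * g * v⁻¹ = g ∨ v * g * v⁻¹ = g⁻¹ := by
    intro v hv
    have hv2 := hexp v hv
    obtain ⟨j, hj⟩ := hgen _ (hnorm v hv g hgR)
    have h1 : g ^ (j * j) = g := by
      rw [zpow_mul, hj, conj_zpow, hj]
      have : v * (v * g * v⁻¹) * v⁻¹ = (v * v) * g * (v * v)⁻¹ := by group
      rw [this, hv2]
      group
    have h2 : g ^ (j * j - 1) = 1 := by
      rw [zpow_sub, h1, zpow_one, mul_inv_cancel]
    have h3 : ((r ^ k : ℕ) : ℤ) ∣ j * j - 1 := by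
      rw [← hord]
      exact orderOf_dvd_iff_zpow_eq_one.2 h2
    have h4 : ((r : ℤ) ^ k) ∣ (j - 1) * (j + 1) := by
      have e : (j - 1) * (j + 1) = j * j - 1 := by ring
      rw [e]
      exact_mod_cast h3
    by_cases hB : (r : ℤ) ∣ j + 1
    · right
      have hA : ¬ (r : ℤ) ∣ j - 1 := by
        intro hA
        have h5 : (r : ℤ) ∣ 2 := by
          have := dvd_sub hB hA
          have e : j + 1 - (j - 1) = 2 := by ring
          rwa [e] at this
        have h6 : r ∣ 2 := by exact_mod_cast h5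
        have h7 := Nat.le_of_dvd (by norm_num) h6
        have h8 := hr.two_le
        omega
      have hcop : IsCoprime ((r : ℤ) ^ k) (j - 1) :=
        IsCoprime.pow_left ((Prime.coprime_iff_not_dvd hrZ).2 hA)
      have h5 : ((r : ℤ) ^ k) ∣ j + 1 := hcop.dvd_of_dvd_mul_left h4
      have h6 : g ^ (j + 1) = 1 := by
        apply orderOf_dvd_iff_zpow_eq_one.1
        rw [hord]
        exact_mod_cast h5
      rw [← hj]
      have : g ^ j = g ^ (j + 1) * g⁻¹ := by
        rw [zpow_add, zpow_one, mul_inv_cancel_right]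
      rw [this, h6, one_mul]
    · left
      have hcop : IsCoprime ((r : ℤ) ^ k) (j + 1) :=
        IsCoprime.pow_left ((Prime.coprime_iff_not_dvd hrZ).2 hB)
      have h5 : ((r : ℤ) ^ k) ∣ j - 1 := hcop.dvd_of_dvd_mul_right h4
      have h6 : g ^ (j - 1) = 1 := by
        apply orderOf_dvd_iff_zpow_eq_one.1
        rw [hord]
        exact_mod_cast h5
      rw [← hj]
      have : g ^ j = g ^ (j - 1) * g := by
        rw [zpow_sub, zpow_one, inv_mul_cancel_right]
      rw [this, h6, one_mul]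
  have hcentR : ∀ v : G, v * g * v⁻¹ = g → ∀ y ∈ R, v * y = y * v := by
    intro v hvg y hy
    obtain ⟨i, rfl⟩ := hgen y hy
    have hc : Commute v g := by
      have : v * g = (v * g * v⁻¹) * v := by group
      rw [Commute, SemiconjBy, this, hvg]
    exact (hc.zpow_right i).eq
  -- two distinct involutions of `V`
  obtain ⟨v₁, hv₁, hv₁1⟩ : ∃ v ∈ V, v ≠ 1 := by
    by_contra hcon
    push Not at hcon
    have h1 : V = ⊥ := (Subgroup.eq_bot_iff_forall _).2 hcon
    rw [h1, Subgroup.card_bot] at hV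
    omega
  obtain ⟨v₂, hv₂, hv₂1, hv₂v₁⟩ : ∃ v ∈ V, v ≠ 1 ∧ v ≠ v₁ := by
    by_contra hcon
    push Not at hcon
    have hsub : (V : Set G) ⊆ {1, v₁} := by
      intro v hv
      by_cases h : v = 1
      · left; exact h
      · right; exact hcon v hv h
    have h1 : (V : Set G).ncard ≤ ({1, v₁} : Set G).ncard :=
      Set.ncard_le_ncard hsub (Set.toFinite _)
    have h2 : ({1, v₁} : Set G).ncard ≤ 2 := by
      have := Set.ncard_insert_le (1 : G) ({v₁} : Set G)
      rw [Set.ncard_singleton] at this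
      exact this
    have h3 : (V : Set G).ncard = 4 := by
      rw [← Nat.card_coe_set_eq]; exact hV
    omega
  rcases hkey v₁ hv₁ with h1 | h1
  · exact ⟨v₁, hv₁, hv₁1, hcentR v₁ h1⟩
  rcases hkey v₂ hv₂ with h2 | h2
  · exact ⟨v₂, hv₂, hv₂1, hcentR v₂ h2⟩
  refine ⟨v₁ * v₂, V.mul_mem hv₁ hv₂, ?_, hcentR _ ?_⟩
  · intro h
    apply hv₂v₁
    have h3 := hexp v₁ hv₁
    have : v₂ = v₁ * (v₁ * v₂) := by rw [← mul_assoc, h3, one_mul]
    rw [this, h, mul_one]
  · have e : v₁ * v₂ * g * (v₁ * v₂)⁻¹ = v₁ * (v₂ * g * v₂⁻¹) * v₁⁻¹ := by group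
    rw [e, h2]
    have e2 : v₁ * g⁻¹ * v₁⁻¹ = (v₁ * g * v₁⁻¹)⁻¹ := by group
    rw [e2, h1, inv_inv]

example : Cfsg.Agent.H7.RT.StFourCyc.{u} := Cfsg.Agent.H80.RT.fourCyc.{u}

end Cfsg.Agent.H80.RT
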