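import Mathlib
import Cfsg.Agent.H7.RTDefs0

/-!
# RT-INVCONJ (S2359, helper7): if the Sylow 2-subgroups are elementary abelian of order 8,
self-centralizing, with normalizer of order 168, then all involutions are conjugate
-/

set_option autoImplicit false

namespace Cfsg.Agent.H80.RT

open Cfsg.Agent.H7.RT
open scoped Pointwise

universe u

theorem invConj : StInvConj.{u} := by
  intro G _ _ h1 h2 u v hu1 hu2 hv1 hv2
  classical
  obtain ⟨S⟩ : Nonempty (Sylow 2 G) := inferInstance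
  obtain ⟨hS8, hSexp⟩ := h1 S
  obtain ⟨hSC, hSN⟩ := h2 S
  have h7 : (7 : ℕ) ∣ Nat.card ↥(Subgroup.normalizer ((S : Subgroup G) : Set G)) := by
    rw [hSN]; norm_num
  have hp7 : Fact (Nat.Prime 7) := ⟨by norm_num⟩
  obtain ⟨g0, hg0⟩ := exists_prime_orderOf_dvd_card' 7 h7
  obtain ⟨g, hgdef⟩ : ∃ g : G, g = (g0 : G) := ⟨_, rfl⟩
  have hg7 : orderOf g = 7 := by rw [hgdef, Subgroup.orderOf_coe]; exact hg0
  have hgN : g ∈ Subgroup.normalizer ((S : Subgroup G) : Set G) := hgdef ▸ g0.2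
  have hgS : g ∉ (S : Subgroup G) := by
    intro h
    have h3 := hSexp g h
    have h4 : orderOf g ∣ 2 := orderOf_dvd_of_pow_eq_one (by rw [pow_two]; exact h3)
    rw [hg7] at h4
    have := Nat.le_of_dvd (by norm_num) h4
    omega
  have hgC : g ∉ Subgroup.centralizer ((S : Subgroup G) : Set G) := by
    rw [hSC]; exact hgS
  obtain ⟨u₀, hu₀S, hu₀g⟩ : ∃ s ∈ (S : Subgroup G), s * g ≠ g * s := by
    by_contra hcon
    push Not at hcon
    exact hgC (Subgroup.mem_centralizer_iff.2 hcon)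
  have hu₀1 : u₀ ≠ 1 := by
    rintro rfl
    simp at hu₀g
  have hconjS : ∀ i : ℕ, g ^ i * u₀ * (g ^ i)⁻¹ ∈ (S : Subgroup G) := by
    intro i
    have h3 : g ^ i ∈ Subgroup.normalizer ((S : Subgroup G) : Set G) :=
      Subgroup.pow_mem _ hgN i
    exact (Subgroup.mem_normalizer_iff.1 h3 u₀).1 hu₀S
  have hlt : ∀ i j : ℕ, i < j → j < 7 →
      g ^ i * u₀ * (g ^ i)⁻¹ ≠ g ^ j * u₀ * (g ^ j)⁻¹ := by
    intro i j hij hj h
    have e : g ^ j = g ^ i * g ^ (j - i) := by rw [← pow_add]; congr 1; omega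
    have hc : Commute (g ^ (j - i)) u₀ := by
      have h3 : u₀ = g ^ (j - i) * u₀ * (g ^ (j - i))⁻¹ := by
        have h4 : g ^ (j - i) * u₀ * (g ^ (j - i))⁻¹ =
            (g ^ i)⁻¹ * (g ^ j * u₀ * (g ^ j)⁻¹) * g ^ i := by rw [e]; group
        rw [h4, ← h]; group
      show g ^ (j - i) * u₀ = u₀ * g ^ (j - i)
      calc g ^ (j - i) * u₀ = (g ^ (j - i) * u₀ * (g ^ (j - i))⁻¹) * g ^ (j - i) := by group
        _ = u₀ * g ^ (j - i) := by rw [← h3]
    have hcop : Nat.Coprime (j - i) (orderOf g) := by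
      rw [hg7]
      apply Nat.Coprime.symm
      rw [Nat.Prime.coprime_iff_not_dvd (by norm_num)]
      intro hd
      have := Nat.le_of_dvd (by omega) hd
      omega
    obtain ⟨m, hm⟩ := exists_pow_eq_self_of_coprime hcop
    have hc2 : Commute g u₀ := by rw [← hm]; exact hc.pow_left m
    exact hu₀g hc2.eq.symm
  have hall : ∀ s ∈ (S : Subgroup G), s ≠ 1 → ∃ i : ℕ, g ^ i * u₀ * (g ^ i)⁻¹ = s := by
    have hφinj : Function.Injective
        (fun i : Fin 7 => g ^ (i : ℕ) * u₀ * (g ^ (i : ℕ))⁻¹) := by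
      intro i j h
      rcases lt_trichotomy (i : ℕ) (j : ℕ) with h3 | h3 | h3
      · exact absurd h (hlt _ _ h3 j.2)
      · exact Fin.ext h3
      · exact absurd h.symm (hlt _ _ h3 i.2)
    have hφS : Set.range (fun i : Fin 7 => g ^ (i : ℕ) * u₀ * (g ^ (i : ℕ))⁻¹) ⊆
        ((S : Subgroup G) : Set G) \ {1} := by
      rintro _ ⟨i, rfl⟩
      refine ⟨hconjS i, ?_⟩
      rw [Set.mem_singleton_iff, conj_eq_one_iff]
      exact hu₀1
    have hcard : (((S : Subgroup G) : Set G) \ {1}).ncard = 7 := by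
      rw [Set.ncard_sdiff_singleton_of_mem (Subgroup.one_mem _), ← Nat.card_coe_set_eq]
      have h3 : Nat.card ↥((S : Subgroup G) : Set G) = 8 := hS8
      rw [h3]
    have hrange : Set.range (fun i : Fin 7 => g ^ (i : ℕ) * u₀ * (g ^ (i : ℕ))⁻¹) =
        ((S : Subgroup G) : Set G) \ {1} := by
      apply Set.eq_of_subset_of_ncard_le hφS _ (Set.toFinite _)
      rw [hcard, ← Nat.card_coe_set_eq, Nat.card_range_of_injective hφinj, Nat.card_fin]
    intro s hs hs1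
    have h3 : s ∈ Set.range (fun i : Fin 7 => g ^ (i : ℕ) * u₀ * (g ^ (i : ℕ))⁻¹) := by
      rw [hrange]; exact ⟨hs, hs1⟩
    obtain ⟨i, hi⟩ := h3
    exact ⟨i, hi⟩
  have hinv : ∀ w : G, w ≠ 1 → w * w = 1 → ∃ a : G, a * u₀ * a⁻¹ = w := by
    intro w hw1 hw2
    have hpg : IsPGroup 2 (Subgroup.zpowers w) := by
      have h3 : orderOf w = 2 := orderOf_eq_prime (by rw [pow_two]; exact hw2) hw1
      exact IsPGroup.of_card (n := 1) (by rw [Nat.card_zpowers, h3, pow_one])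
    obtain ⟨S', hS'⟩ := hpg.exists_le_sylow
    obtain ⟨h, rfl⟩ := MulAction.exists_smul_eq G S S'
    have hwS' : w ∈ ((h • S : Sylow 2 G) : Subgroup G) := hS' (Subgroup.mem_zpowers w)
    rw [Sylow.coe_subgroup_smul, Subgroup.mem_pointwise_smul_iff_inv_smul_mem] at hwS'
    have hw' : h⁻¹ * w * h ∈ (S : Subgroup G) := by
      simpa [MulAut.smul_def] using hwS'
    have hw'1 : h⁻¹ * w * h ≠ 1 := by
      intro e
      apply hw1
      have h3 : w = h * (h⁻¹ * w * h) * h⁻¹ := by group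
      rw [h3, e]; group
    obtain ⟨i, hi⟩ := hall _ hw' hw'1
    refine ⟨h * g ^ i, ?_⟩
    have h3 : h * g ^ i * u₀ * (h * g ^ i)⁻¹ = h * (g ^ i * u₀ * (g ^ i)⁻¹) * h⁻¹ := by group
    rw [h3, hi]; group
  obtain ⟨a, ha⟩ := hinv u hu1 hu2
  obtain ⟨b, hb⟩ := hinv v hv1 hv2
  refine ⟨b * a⁻¹, ?_⟩
  rw [← ha, ← hb]; group

example : Cfsg.Agent.H7.RT.StInvConj.{u} := Cfsg.Agent.H80.RT.invConj.{u}

end Cfsg.Agent.H80.RT
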