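import Mathlib
import Cfsg.Agent.H7.RTDefs0

/-!
# RT-INVSYL (S2359, helper7): a 2-group `V` normalizing a subgroup `K` of odd order normalizes a
Sylow `r`-subgroup of `K`
-/

set_option autoImplicit false

namespace Cfsg.Agent.H80.RT

open Cfsg.Agent.H7.RT
open scoped Pointwise

universe u

theorem invSyl : StInvSyl.{u} := by
  intro G _ _ r _ K V hKodd hV hnorm
  classical
  have hr : r.Prime := Fact.out
  have hVN : V ≤ Subgroup.normalizer (K : Set G) := by
    intro v hv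
    exact Subgroup.mem_normalizer_fintype (fun k hk => hnorm v hv k hk)
  have hodd : ¬ 2 ∣ Nat.card (Sylow r ↥K) := by
    intro h2
    obtain ⟨Q0⟩ : Nonempty (Sylow r ↥K) := inferInstance
    have h1 : Nat.card (Sylow r ↥K) ∣ Nat.card ↥K :=
      (Sylow.card_dvd_index Q0).trans (Subgroup.index_dvd_card _)
    have h3 : 2 ∣ Nat.card ↥K := h2.trans h1
    exact (Nat.not_even_iff_odd.2 hKodd) (even_iff_two_dvd.2 h3)
  have hV' : IsPGroup 2 ↥(V.subgroupOf (Subgroup.normalizer (K : Set G))) := hV.comap_subtype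
  obtain ⟨Q, hQ⟩ := hV'.nonempty_fixed_point_of_prime_not_dvd_card (Sylow r ↥K) hodd
  refine ⟨(Q : Subgroup ↥K).map K.subtype, Subgroup.map_subtype_le _,
    Q.isPGroup'.map K.subtype, ?_, ?_⟩
  · have h1 : Nat.card ((Q : Subgroup ↥K).map K.subtype) = Nat.card (Q : Subgroup ↥K) :=
      Subgroup.card_map_of_injective K.subtype_injective
    rw [h1, Sylow.card_eq_multiplicity Q, hr.factorization_pow, Finsupp.single_eq_same]
  · intro v hv y hy
    obtain ⟨q, hq, rfl⟩ := Subgroup.mem_map.1 hy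
    have hfix := MulAction.mem_fixedPoints.1 hQ
      ⟨⟨v, hVN hv⟩, Subgroup.mem_subgroupOf.2 hv⟩
    have h1 : (⟨v, hVN hv⟩ : ↥(Subgroup.normalizer (K : Set G))) • q ∈
        ((⟨v, hVN hv⟩ : ↥(Subgroup.normalizer (K : Set G))) • (Q : Subgroup ↥K)) :=
      Subgroup.smul_mem_pointwise_smul _ _ _ hq
    have h2 : ((⟨v, hVN hv⟩ : ↥(Subgroup.normalizer (K : Set G))) • (Q : Subgroup ↥K)) =
        (Q : Subgroup ↥K) := congrArg (fun S : Sylow r ↥K => (S : Subgroup ↥K)) hfix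
    rw [h2] at h1
    exact Subgroup.mem_map.2 ⟨_, h1, rfl⟩

example : Cfsg.Agent.H7.RT.StInvSyl.{u} := Cfsg.Agent.H80.RT.invSyl.{u}

end Cfsg.Agent.H80.RT
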