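import Cfsg.Agent.H80.Lift

set_option autoImplicit false
set_option linter.unusedSectionVars false
set_option linter.style.haveILetI false

/-!
# helper80: maximal Brauer pairs above a given pair, inside its centralizer

* `stab_of_conjPair_eq`, `conjPair_eq_of_stab`: `conjPair y (P, e) = (P, e)` iff `y` lies in the
  stabilizer of `(P, e)`.
* `isMaximal_conjPair`: conjugates of maximal pairs are maximal.
* `exists_centralizer_conj_of_maximal`: two maximal pairs of `B` above `(Q, f)` whose subgroups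
  centralize `Q` are conjugate under `C_G(Q)`.
* `relIndex_eq_of_mul`: an index computation.
-/

namespace Cfsg.Agent.H80

open Cfsg Cfsg.Agent.H20 Cfsg.Agent.H4

universe u

variable {G : Type u} [Group G] [Fintype G] {M : Ideal AlgInt}

theorem map_conj_eq_iff_mem_normalizer (P : Subgroup G) (y : G) :
    P.map (MulAut.conj y).toMonoidHom = P ↔ y ∈ Subgroup.normalizer (P : Set G) := by
  constructor
  · intro h
    rw [Subgroup.mem_normalizer_iff]
    intro q
    constructor
    · intro hq
      have := conj_mem_map_conj P y hq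
      rwa [h] at this
    · intro hq
      rw [← h, mem_map_conj_iff] at hq
      have e : y⁻¹ * (y * q * y⁻¹) * y = q := by group
      rwa [e] at hq
  · intro hn
    ext g
    rw [mem_map_conj_iff]
    have h1 := (Subgroup.mem_normalizer_iff.mp (inv_mem hn) g)
    rw [inv_inv] at h1
    exact h1.symm

theorem stab_of_conjPair_eq (hM : M.IsPrime) {P : Subgroup G}
    {e : Set (IrrCharacter (Subgroup.centralizer (P : Set G)))} (he : IsPBlock M e) {y : G}
    (h : conjPair y ⟨P, e⟩ = ⟨P, e⟩) :
    y ∈ Subgroup.normalizer (P : Set G) ∧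
      StabilizesBlock (Subgroup.centralizer (P : Set G)) e y := by
  have hfst : P.map (MulAut.conj y).toMonoidHom = P := congrArg Sigma.fst h
  have hn := (map_conj_eq_iff_mem_normalizer P y).mp hfst
  refine ⟨hn, ?_⟩
  rw [conjPair_of_mem_normalizer P hn e, Sigma.mk.inj_iff] at h
  have h2 := eq_of_heq h.2
  have hnC := normalizer_le_normalizer_centralizer P hn
  rw [stabilizesBlock_iff hM _ he]
  refine ⟨hnC, ?_⟩
  rw [← conjAut'_eq _ hnC]
  exact h2

theorem conjPair_eq_of_stab (hM : M.IsPrime) {P : Subgroup G}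
    {e : Set (IrrCharacter (Subgroup.centralizer (P : Set G)))} (he : IsPBlock M e) {y : G}
    (hn : y ∈ Subgroup.normalizer (P : Set G))
    (hst : StabilizesBlock (Subgroup.centralizer (P : Set G)) e y) :
    conjPair y ⟨P, e⟩ = ⟨P, e⟩ := by
  rw [conjPair_of_mem_normalizer P hn e]
  obtain ⟨hnC, h⟩ := (stabilizesBlock_iff hM _ he y).mp hst
  rw [conjAut'_eq _ hnC, h]

section Main

variable (p : ℕ) [Fact p.Prime]

/-- Conjugates of maximal Brauer pairs are maximal. -/
theorem isMaximal_conjPair {B : Set (IrrCharacter G)} {P : Subgroup G}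
    {e : Set (IrrCharacter (Subgroup.centralizer (P : Set G)))}
    (hmax : IsMaximalBrauerPair p M B P e) (x : G) :
    IsMaximalBrauerPair p M B (conjPair x ⟨P, e⟩).1 (conjPair x ⟨P, e⟩).2 := by
  refine ⟨isBrauerPairOf_conj p x hmax.1, fun R g hRg hle => ?_⟩
  have h1 := subpairLE_conj p x⁻¹ hle
  have e1 : conjPair x⁻¹ (conjPair x ⟨P, e⟩) = ⟨P, e⟩ := by
    rw [conjPair_mul, inv_mul_cancel, conjPair_one]
  have h1' : Relation.ReflTransGen (NormalSubpairRel p M) (conjPair x⁻¹ (conjPair x ⟨P, e⟩))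
      (conjPair x⁻¹ ⟨R, g⟩) := h1
  rw [e1] at h1'
  have h2 : IsBrauerPairOf p M B (conjPair x⁻¹ ⟨R, g⟩).1 (conjPair x⁻¹ ⟨R, g⟩).2 :=
    isBrauerPairOf_conj p x⁻¹ hRg
  have h3 : R.map (MulAut.conj x⁻¹).toMonoidHom = P := hmax.2 _ _ h2 h1'
  show R = P.map (MulAut.conj x).toMonoidHom
  rw [← h3, map_conj_mul, mul_inv_cancel, map_conj_one]

/-- Two maximal Brauer pairs of `B` above `(Q, f)` whose subgroups centralize `Q` are conjugate
under `C_G(Q)`. -/
theorem exists_centralizer_conj_of_maximal (hM : IsPModular p M) {B : Set (IrrCharacter G)}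
    {P : Subgroup G} {e : Set (IrrCharacter (Subgroup.centralizer (P : Set G)))}
    (hmax : IsMaximalBrauerPair p M B P e) (b : BrauerPairIdx G)
    (hmax' : IsMaximalBrauerPair p M B b.1 b.2) {Q : Subgroup G}
    {f : Set (IrrCharacter (Subgroup.centralizer (Q : Set G)))} (hf : IsPBlock M f)
    (hle : SubpairLE p M Q f P e)
    (hle' : Relation.ReflTransGen (NormalSubpairRel p M) ⟨Q, f⟩ b)
    (hPC : P ≤ Subgroup.centralizer (Q : Set G)) (hPC' : b.1 ≤ Subgroup.centralizer (Q : Set G)) :
    ∃ c ∈ Subgroup.centralizer (Q : Set G), conjPair c b = ⟨P, e⟩ := by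
  classical
  have hMp := isPrime_of_isPModular hM
  haveI : Fintype ↥(Subgroup.centralizer (Q : Set G)) := Fintype.ofFinite _
  obtain ⟨P', e'⟩ := b
  simp only at hmax' hPC'
  have hβ : ∀ x : Subgroup.centralizer (Q : Set G),
      subgroupBlockCoeff (Subgroup.centralizer (Q : Set G)) f (x : G) = blockCoeff f x := by
    intro x
    unfold subgroupBlockCoeff
    rw [dif_pos x.2]
  -- a general construction for a maximal pair above `(Q, f)` inside `C_G(Q)`
  have key : ∀ (P₁ : Subgroup G) (e₁ : Set (IrrCharacter (Subgroup.centralizer (P₁ : Set G)))),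
      IsMaximalBrauerPair p M B P₁ e₁ → SubpairLE p M Q f P₁ e₁ →
      P₁ ≤ Subgroup.centralizer (Q : Set G) →
      ∃ a : BrauerPairIdx (Subgroup.centralizer (Q : Set G)),
        Subgroup.centralizer (((a.1.map (Subgroup.centralizer (Q : Set G)).subtype : Subgroup G))
          : Set G) ≤ Subgroup.centralizer (Q : Set G) ∧
        upPair (Subgroup.centralizer (Q : Set G)) a = ⟨P₁, e₁⟩ ∧
        IsMaximalBrauerPair p M f a.1 a.2 := by
    intro P₁ e₁ hmax₁ hle₁ hPC₁
    have hQP₁ : Q ≤ P₁ := subpairLE_le hle₁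
    have hCP₁ : Subgroup.centralizer (P₁ : Set G) ≤ Subgroup.centralizer (Q : Set G) :=
      Subgroup.centralizer_le hQP₁
    obtain ⟨a, -, hup⟩ := exists_upPair_eq (Subgroup.centralizer (Q : Set G)) hPC₁ hCP₁ e₁
    have hfst : a.1.map (Subgroup.centralizer (Q : Set G)).subtype = P₁ := congrArg Sigma.fst hup
    have ha : Subgroup.centralizer (((a.1.map (Subgroup.centralizer (Q : Set G)).subtype
        : Subgroup G)) : Set G) ≤ Subgroup.centralizer (Q : Set G) := by
      rw [hfst]; exact hCP₁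
    have hnorm : IsNormalSubpair p M Q f P₁ e₁ :=
      normalSubpair_of_le_of_le p hM hmax₁.1.1 hQP₁
        (hPC₁.trans (Subgroup.centralizer_le_normalizer _)) hle₁ Relation.ReflTransGen.refl
    have hpairOf : IsBrauerPairOf p M f a.1 a.2 := by
      apply isBrauerPairOf_of_up (Subgroup.centralizer (Q : Set G)) p hf
        (subgroupBlockCoeff (Subgroup.centralizer (Q : Set G)) f) hβ a ha
      · rw [hup]; exact hmax₁.1.1
      · rw [hup]; exact hnorm.2.2.2.2.2
    exact ⟨a, ha, hup, isMaximal_of_up (Subgroup.centralizer (Q : Set G)) p hM hmax₁ a ha hup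
      hpairOf⟩
  obtain ⟨⟨R, g⟩, ha, hup, hmaxa⟩ := key P e hmax hle hPC
  obtain ⟨⟨R', g'⟩, ha', hup', hmaxa'⟩ := key P' e' hmax' hle' hPC'
  obtain ⟨c, hc⟩ := exists_conjPair_eq_of_maximal p hM hmaxa hmaxa'
  refine ⟨(c : G), c.2, ?_⟩
  have h1 := congrArg (upPair (Subgroup.centralizer (Q : Set G))) hc
  rw [conjPair_up _ c ⟨R', g'⟩ ha', hup', hup] at h1
  exact h1

end Main

/-- If `A` and `C` are subgroups of `T`, `A` normalizes `C` and every element of `T` is a product
of an element of `A` and an element of `C`, then `|T : C| = |A : A ∩ C|`. -/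
theorem relIndex_eq_of_mul {G : Type*} [Group G] (A C T : Subgroup G) (hAT : A ≤ T) (hCT : C ≤ T)
    (hAN : A ≤ Subgroup.normalizer (C : Set G))
    (hT : ∀ x ∈ T, ∃ y ∈ A, ∃ c ∈ C, x = y * c) : C.relIndex T = C.relIndex A := by
  have hTeq : T = A ⊔ C := by
    apply le_antisymm
    · intro x hx
      obtain ⟨y, hy, c, hc, rfl⟩ := hT x hx
      exact mul_mem ((le_sup_left : A ≤ A ⊔ C) hy) ((le_sup_right : C ≤ A ⊔ C) hc)
    · exact sup_le hAT hCT
  have hCN : C ≤ Subgroup.normalizer (C : Set G) := Subgroup.le_normalizer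
  have hTN : T ≤ Subgroup.normalizer (C : Set G) := by
    rw [hTeq]; exact sup_le hAN hCN
  rw [← Subgroup.relIndex_subgroupOf (H := C) hTN, ← Subgroup.relIndex_subgroupOf (H := C) hAN, hTeq,
    Subgroup.subgroupOf_sup hAN hCN, Subgroup.relIndex_sup_right]

end Cfsg.Agent.H80
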