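import Cfsg.Agent.H80.CentricNil
import Cfsg.Agent.H79.Covering
import Cfsg.Agent.H79.ExtFirstMain
import Cfsg.Agent.H79.NormalBlocks
import Cfsg.Agent.Lib.ItoConv

set_option autoImplicit false
set_option linter.unusedSectionVars false
set_option linter.style.haveILetI false

/-!
# helper80: nilpotent blocks and normal subgroups of `p`-power index

Let `N` be a normal subgroup of `G` of `p`-power index, `c` a `G`-stable block of `N` and `B` the
block of `G` with the idempotent of `c`.  Then `c` is nilpotent iff `B` is nilpotent.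

* `mem_of_inv_mul_mem`: the coprime-order trick in a subgroup `T ⊇ L`.
* `mem_centralizer_of_coprime`: a `p`-regular element of `N` normalizing a `p`-group `R` and
  centralizing `R ⊓ N` centralizes `R`.
* `cK`, `cL`, `cEqv`: `K = C_G(R)`, `L = K ⊓ N` and the isomorphism `C_N(R') ≃* L`.
-/

namespace Cfsg.Agent.H80

open Cfsg Cfsg.Agent.H20 Cfsg.Agent.H4

universe u

section Group

variable {G : Type*} [Group G]

theorem mem_normalizer_inf {A C : Subgroup G} {y : G}
    (hA : y ∈ Subgroup.normalizer (A : Set G)) (hC : y ∈ Subgroup.normalizer (C : Set G)) :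
    y ∈ Subgroup.normalizer ((A ⊓ C : Subgroup G) : Set G) := by
  rw [Subgroup.mem_normalizer_iff] at hA hC ⊢
  intro h
  rw [Subgroup.mem_inf, Subgroup.mem_inf, hA h, hC h]

/-- Let `L ≤ T`, let `x` and `k` normalize `L` and commute modulo `L`, with `k ^ m ∈ L` and
`m` prime to the order of `x`.  If `x⁻¹ k ∈ T` then `x ∈ T`. -/
theorem mem_of_inv_mul_mem (L T : Subgroup G) (hLT : L ≤ T) (x k : G)
    (hx : x ∈ Subgroup.normalizer (L : Set G)) (hk : k ∈ Subgroup.normalizer (L : Set G))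
    (hcomm : x * k * x⁻¹ * k⁻¹ ∈ L) (m : ℕ) (hkm : k ^ m ∈ L)
    (hcop : m.Coprime (orderOf x)) (hy : x⁻¹ * k ∈ T) : x ∈ T := by
  haveI hnormal : (L.subgroupOf (Subgroup.normalizer (L : Set G))).Normal :=
    Subgroup.normal_in_normalizer
  obtain ⟨xw, hxw⟩ : ∃ xw : Subgroup.normalizer (L : Set G), xw = ⟨x, hx⟩ := ⟨_, rfl⟩
  obtain ⟨kw, hkw⟩ : ∃ kw : Subgroup.normalizer (L : Set G), kw = ⟨k, hk⟩ := ⟨_, rfl⟩
  have hcomm' : Commute
      (QuotientGroup.mk xw : _ ⧸ L.subgroupOf (Subgroup.normalizer (L : Set G)))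
      (QuotientGroup.mk kw) := by
    have h1 : (QuotientGroup.mk (xw * kw * xw⁻¹ * kw⁻¹) :
        _ ⧸ L.subgroupOf (Subgroup.normalizer (L : Set G))) = 1 := by
      rw [QuotientGroup.eq_one_iff, Subgroup.mem_subgroupOf, hxw, hkw]
      exact hcomm
    have h2 : (QuotientGroup.mk xw : _ ⧸ L.subgroupOf (Subgroup.normalizer (L : Set G)))
        * QuotientGroup.mk kw * (QuotientGroup.mk xw)⁻¹ * (QuotientGroup.mk kw)⁻¹ = 1 := h1
    show _ * _ = _ * _
    calc (QuotientGroup.mk xw : _ ⧸ L.subgroupOf (Subgroup.normalizer (L : Set G)))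
          * QuotientGroup.mk kw
        = (QuotientGroup.mk xw * QuotientGroup.mk kw * (QuotientGroup.mk xw)⁻¹
            * (QuotientGroup.mk kw)⁻¹) * QuotientGroup.mk kw * QuotientGroup.mk xw := by group
      _ = QuotientGroup.mk kw * QuotientGroup.mk xw := by rw [h2, one_mul]
  have hkm' : (QuotientGroup.mk kw : _ ⧸ L.subgroupOf (Subgroup.normalizer (L : Set G))) ^ m
      = 1 := by
    rw [← QuotientGroup.mk_pow, QuotientGroup.eq_one_iff, Subgroup.mem_subgroupOf, hkw]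
    exact hkm
  have h3 : (QuotientGroup.mk ((xw⁻¹ * kw) ^ m) :
      _ ⧸ L.subgroupOf (Subgroup.normalizer (L : Set G))) = QuotientGroup.mk ((xw⁻¹) ^ m) := by
    rw [QuotientGroup.mk_pow, QuotientGroup.mk_mul, QuotientGroup.mk_inv,
      (hcomm'.inv_left).mul_pow, hkm', mul_one, QuotientGroup.mk_pow, QuotientGroup.mk_inv]
  have h4 := QuotientGroup.eq.mp h3
  rw [Subgroup.mem_subgroupOf, hxw, hkw] at h4
  have h5 : ((x⁻¹ * k) ^ m)⁻¹ * (x⁻¹) ^ m ∈ L := h4
  have h6 : (x⁻¹) ^ m ∈ T := by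
    have e : (x⁻¹) ^ m = (x⁻¹ * k) ^ m * (((x⁻¹ * k) ^ m)⁻¹ * (x⁻¹) ^ m) := by group
    rw [e]
    exact mul_mem (pow_mem hy m) (hLT h5)
  have h7 : x ^ m ∈ T := by
    have e : x ^ m = ((x⁻¹) ^ m)⁻¹ := by rw [inv_pow, inv_inv]
    rw [e]
    exact inv_mem h6
  obtain ⟨j, hj⟩ := exists_pow_eq_self_of_coprime hcop
  rw [← hj]
  exact pow_mem h7 j

/-- A `p`-regular element `x ∈ N` (`N` normal) normalizing a `p`-group `R` and centralizing
`R ⊓ N` centralizes `R`. -/
theorem mem_centralizer_of_coprime (p : ℕ) [Fact p.Prime] (N R : Subgroup G) [N.Normal]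
    (hR : IsPGroup p R) (x : G) (hxN : x ∈ N) (hxR : x ∈ Subgroup.normalizer (R : Set G))
    (hxc : x ∈ Subgroup.centralizer ((R ⊓ N : Subgroup G) : Set G)) (hreg : ¬ p ∣ orderOf x) :
    x ∈ Subgroup.centralizer (R : Set G) := by
  have hpp := (Fact.out : p.Prime)
  rw [Subgroup.mem_centralizer_iff]
  intro r hr
  obtain ⟨z, hz⟩ : ∃ z : G, z = r⁻¹ * (x * r * x⁻¹) := ⟨_, rfl⟩
  have hzR : z ∈ R := by
    rw [hz]
    exact mul_mem (inv_mem hr) ((Subgroup.mem_normalizer_iff.mp hxR r).mp hr)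
  have hzN : z ∈ N := by
    have e : z = (r⁻¹ * x * r⁻¹⁻¹) * x⁻¹ := by rw [hz]; group
    rw [e]
    exact mul_mem (Subgroup.Normal.conj_mem inferInstance x hxN r⁻¹) (inv_mem hxN)
  have hzx : z * x = x * z := Subgroup.mem_centralizer_iff.mp hxc z ⟨hzR, hzN⟩
  have hconj : ∀ i : ℕ, x ^ i * r * (x ^ i)⁻¹ = r * z ^ i := by
    intro i
    induction i with
    | zero => simp
    | succ i ih =>
      have hzi : x * z ^ i * x⁻¹ = z ^ i := by
        have hc : Commute x (z ^ i) := (Commute.pow_right (show Commute x z from hzx.symm) i)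
        rw [hc.eq, mul_inv_cancel_right]
      calc x ^ (i + 1) * r * (x ^ (i + 1))⁻¹
          = x * (x ^ i * r * (x ^ i)⁻¹) * x⁻¹ := by rw [pow_succ']; group
        _ = x * (r * z ^ i) * x⁻¹ := by rw [ih]
        _ = (x * r * x⁻¹) * (x * z ^ i * x⁻¹) := by group
        _ = (r * z) * z ^ i := by rw [hzi, hz]; group
        _ = r * z ^ (i + 1) := by rw [pow_succ']; group
  have h1 := hconj (orderOf x)
  rw [pow_orderOf_eq_one, one_mul, inv_one, mul_one] at h1
  have h2 : z ^ orderOf x = 1 := by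
    have := mul_left_cancel (a := r) (b := 1) (c := z ^ orderOf x) (by rw [mul_one]; exact h1)
    exact this.symm
  obtain ⟨a, ha⟩ := hR ⟨z, hzR⟩
  have h3 : z ^ (p ^ a) = 1 := congrArg Subtype.val ha
  have h4 : orderOf z ∣ orderOf x := orderOf_dvd_of_pow_eq_one h2
  have h5 : orderOf z ∣ p ^ a := orderOf_dvd_of_pow_eq_one h3
  have h6 : orderOf z = 1 := by
    obtain ⟨b, -, hb⟩ := (Nat.dvd_prime_pow hpp).mp h5
    rcases Nat.eq_zero_or_pos b with h0 | hpos
    · rw [hb, h0, pow_zero]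
    · exfalso
      apply hreg
      have : p ∣ orderOf z := by rw [hb]; exact dvd_pow_self p hpos.ne'
      exact this.trans h4
  have h7 : z = 1 := orderOf_eq_one_iff.mp h6
  rw [h7] at hz
  have h8 : x * r * x⁻¹ = r := by
    have e : x * r * x⁻¹ = r * (r⁻¹ * (x * r * x⁻¹)) := by group
    rw [e, ← hz, mul_one]
  calc r * x = (x * r * x⁻¹) * x := by rw [h8]
    _ = x * r := by group

end Group

section Setup

variable {G : Type u} [Group G] (N : Subgroup G)

/-- `K = C_G(R)` for the subgroup `R'` of `N` viewed in `G`. -/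
abbrev cK (R' : Subgroup N) : Subgroup G :=
  Subgroup.centralizer ((R'.map N.subtype : Subgroup G) : Set G)

/-- `L = C_G(R) ⊓ N`. -/
abbrev cL (R' : Subgroup N) : Subgroup G := cK N R' ⊓ N

theorem coe_mem_cK_iff (R' : Subgroup N) (n : N) :
    (n : G) ∈ cK N R' ↔ n ∈ Subgroup.centralizer (R' : Set N) := by
  rw [Subgroup.mem_centralizer_iff, Subgroup.mem_centralizer_iff]
  constructor
  · intro h r hr
    apply Subtype.ext
    exact h (r : G) ⟨r, hr, rfl⟩
  · rintro h _ ⟨r, hr, rfl⟩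
    exact congrArg Subtype.val (h r hr)

/-- `C_N(R') ≃* C_G(R) ⊓ N`. -/
noncomputable def cEqv (R' : Subgroup N) :
    ↥(Subgroup.centralizer (R' : Set N)) ≃* ↥(cL N R') where
  toFun c := ⟨((c : N) : G), ⟨(coe_mem_cK_iff N R' c).mpr c.2, (c : N).2⟩⟩
  invFun l := ⟨⟨(l : G), l.2.2⟩, (coe_mem_cK_iff N R' ⟨(l : G), l.2.2⟩).mp l.2.1⟩
  left_inv _ := rfl
  right_inv _ := rfl
  map_mul' _ _ := rfl

theorem cEqv_apply (R' : Subgroup N) (c : Subgroup.centralizer (R' : Set N)) :
    ((cEqv N R' c : cL N R') : G) = ((c : N) : G) := rfl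

theorem cEqv_symm_apply (R' : Subgroup N) (l : cL N R') :
    ((((cEqv N R').symm l : Subgroup.centralizer (R' : Set N)) : N) : G) = (l : G) := rfl

theorem sum_subgroup_eq {K : Type*} [Group K] [Fintype K] (K₀ : Subgroup K) [Fintype K₀]
    (f : K → ℂ) (hf : ∀ k, k ∉ K₀ → f k = 0) : ∑ k : K, f k = ∑ n : K₀, f n := by
  classical
  rw [← Finset.sum_filter_of_ne (s := Finset.univ) (p := fun k => k ∈ K₀) (f := f)
    (fun k _ hk => by by_contra hcon; exact hk (hf k hcon))]
  exact Finset.sum_subtype _ (by simp) f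

/-- The Brauer-map central character of `N` at `R'`, as a sum over `C_G(R) ⊓ N`. -/
theorem brauerOmega_eq_sum_cL [Finite G] (R' : Subgroup N) (c : Set (IrrCharacter N))
    (ξ' : IrrCharacter (Subgroup.centralizer (R' : Set N))) [Fintype (cL N R')] :
    brauerOmega R' (blockCoeff c) ξ'.1
      = (∑ l : cL N R', subgroupBlockCoeff N c (l : G) * (eqvIrr (cEqv N R') ξ').1 l)
        / (eqvIrr (cEqv N R') ξ').1 1 := by
  classical
  haveI : Fintype ↥(Subgroup.centralizer (R' : Set N)) := Fintype.ofFinite _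
  unfold brauerOmega
  rw [finsum_eq_sum_of_fintype, ← Finset.sum_div]
  have h1 : (eqvIrr (cEqv N R') ξ').1 1 = ξ'.1 1 := by
    rw [eqvIrr_apply, map_one]
  rw [h1]
  congr 1
  rw [← Equiv.sum_comp (cEqv N R').toEquiv]
  apply Finset.sum_congr rfl
  intro m _
  have h2 : subgroupBlockCoeff N c (((cEqv N R').toEquiv m : cL N R') : G)
      = blockCoeff c (m : N) := by
    unfold subgroupBlockCoeff
    rw [dif_pos (show (((cEqv N R').toEquiv m : cL N R') : G) ∈ N from (m : N).2)]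
    rfl
  rw [h2, eqvIrr_apply]
  show _ = blockCoeff c (m : N) * ξ'.1 ((cEqv N R').symm ((cEqv N R') m))
  rw [MulEquiv.symm_apply_apply]

/-- The Brauer-map central character of `G` at `R`, for a character `ξ` of `C_G(R)` lying over a
character `θ` of `C_G(R) ⊓ N`, as a sum over `C_G(R) ⊓ N`. -/
theorem brauerOmega_eq_sum_of_over [Fintype G] (R' : Subgroup N) (β : G → ℂ)
    (hβ : ∀ g x : G, β (x * g * x⁻¹) = β g) (hβ0 : ∀ g, g ∉ N → β g = 0)
    [Fintype (cK N R')] [Fintype (cL N R')] [Fintype ((cL N R').subgroupOf (cK N R'))]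
    [((cL N R').subgroupOf (cK N R')).Normal]
    (ξ : IrrCharacter (cK N R')) (θ : IrrCharacter (cL N R'))
    (hover : classInner (fun k : (cL N R').subgroupOf (cK N R') => ξ.1 k)
      (Cfsg.Agent.H79.liftIrr (cK N R') (cL N R') inf_le_left θ).1 ≠ 0) :
    brauerOmega (R'.map N.subtype) β ξ.1 = (∑ l : cL N R', β (l : G) * θ.1 l) / θ.1 1 := by
  classical
  unfold brauerOmega
  rw [finsum_eq_sum_of_fintype, ← Finset.sum_div]
  have h1 : ∑ k : cK N R', β (k : G) * ξ.1 k
      = ∑ n : (cL N R').subgroupOf (cK N R'), β ((n : cK N R') : G) * ξ.1 n := by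
    apply sum_subgroup_eq ((cL N R').subgroupOf (cK N R')) (fun k => β (k : G) * ξ.1 k)
    intro k hk
    have hkN : (k : G) ∉ N := fun hcon => hk (Subgroup.mem_subgroupOf.mpr ⟨k.2, hcon⟩)
    show β (k : G) * ξ.1 k = 0
    rw [hβ0 _ hkN, zero_mul]
  have h2 := Cfsg.Agent.H79.sum_mul_div_eq_of_over ((cL N R').subgroupOf (cK N R')) ξ
    (Cfsg.Agent.H79.liftIrr (cK N R') (cL N R') inf_le_left θ) hover
    (fun k : cK N R' => β (k : G)) (fun g x => hβ (g : G) (x : G))
    (fun g hg => hβ0 _ (fun hcon => hg (Subgroup.mem_subgroupOf.mpr ⟨g.2, hcon⟩)))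
  rw [h1]
  refine h2.trans ?_
  have h3 : (Cfsg.Agent.H79.liftIrr (cK N R') (cL N R') inf_le_left θ).1 1 = θ.1 1 := by
    show θ.1 (Subgroup.subgroupOfEquivOfLe _ 1) = θ.1 1
    rw [map_one]
  rw [h3]
  congr 1
  rw [← Equiv.sum_comp (Subgroup.subgroupOfEquivOfLe
    (inf_le_left : cL N R' ≤ cK N R')).toEquiv (fun l : cL N R' => β (l : G) * θ.1 l)]
  rfl

/-- Conjugation by an element normalizing `L ≤ K` preserves "lying over". -/
theorem classInner_conj_over (K L : Subgroup G) (hLK : L ≤ K) [Fintype (L.subgroupOf K)]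
    (y : G) (hyK : y ∈ Subgroup.normalizer (K : Set G))
    (hyL : y ∈ Subgroup.normalizer (L : Set G)) (ξ : IrrCharacter K) (θ : IrrCharacter L) :
    classInner (fun k : L.subgroupOf K => (autIrr (conjAut K y hyK) ξ).1 k)
        (Cfsg.Agent.H79.liftIrr K L hLK (autIrr (conjAut L y hyL) θ)).1
      = classInner (fun k : L.subgroupOf K => ξ.1 k) (Cfsg.Agent.H79.liftIrr K L hLK θ).1 := by
  classical
  have hmem : ∀ n : L.subgroupOf K, (conjAut K y hyK).symm (n : K) ∈ L.subgroupOf K := by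
    intro n
    rw [Subgroup.mem_subgroupOf, conjAut_symm_apply]
    have h1 : ((n : K) : G) ∈ L := Subgroup.mem_subgroupOf.mp n.2
    have h2 := (Subgroup.mem_normalizer_iff.mp (inv_mem hyL) ((n : K) : G)).mp h1
    rwa [inv_inv] at h2
  have hmem' : ∀ n : L.subgroupOf K, (conjAut K y hyK) (n : K) ∈ L.subgroupOf K := by
    intro n
    rw [Subgroup.mem_subgroupOf, conjAut_apply]
    have h1 : ((n : K) : G) ∈ L := Subgroup.mem_subgroupOf.mp n.2
    exact (Subgroup.mem_normalizer_iff.mp hyL ((n : K) : G)).mp h1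
  obtain ⟨σ, hσ⟩ : ∃ σ : L.subgroupOf K ≃ L.subgroupOf K,
      ∀ n, ((σ n : L.subgroupOf K) : K) = (conjAut K y hyK).symm (n : K) :=
    ⟨{ toFun := fun n => ⟨(conjAut K y hyK).symm (n : K), hmem n⟩
       invFun := fun n => ⟨(conjAut K y hyK) (n : K), hmem' n⟩
       left_inv := fun n => Subtype.ext (MulEquiv.apply_symm_apply _ _)
       right_inv := fun n => Subtype.ext (MulEquiv.symm_apply_apply _ _) }, fun n => rfl⟩
  unfold classInner
  congr 1
  rw [← Equiv.sum_comp σ (fun n : L.subgroupOf K => ξ.1 n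
    * (starRingEnd ℂ) ((Cfsg.Agent.H79.liftIrr K L hLK θ).1 n))]
  apply Finset.sum_congr rfl
  intro n _
  have e1 : (autIrr (conjAut K y hyK) ξ).1 (n : K) = ξ.1 ((σ n : L.subgroupOf K) : K) := by
    rw [autIrr_apply, hσ]
  have e2 : (Cfsg.Agent.H79.liftIrr K L hLK (autIrr (conjAut L y hyL) θ)).1 n
      = (Cfsg.Agent.H79.liftIrr K L hLK θ).1 (σ n) := by
    show (autIrr (conjAut L y hyL) θ).1 (Subgroup.subgroupOfEquivOfLe hLK n)
      = θ.1 (Subgroup.subgroupOfEquivOfLe hLK (σ n))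
    rw [autIrr_apply]
    refine congrArg θ.1 (Subtype.ext ?_)
    rw [conjAut_symm_apply]
    show y⁻¹ * ((n : K) : G) * y = (((σ n : L.subgroupOf K) : K) : G)
    rw [hσ, conjAut_symm_apply]
  show (autIrr (conjAut K y hyK) ξ).1 (n : K)
    * (starRingEnd ℂ) ((Cfsg.Agent.H79.liftIrr K L hLK (autIrr (conjAut L y hyL) θ)).1 n) = _
  rw [e1, e2]

theorem index_inf_subgroupOf [N.Normal] (p : ℕ) [Fact p.Prime] (hN : ∃ k : ℕ, N.index = p ^ k)
    (K : Subgroup G) : ∃ j : ℕ, ((K ⊓ N).subgroupOf K).index = p ^ j := by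
  obtain ⟨k, hk⟩ := hN
  rw [Subgroup.inf_subgroupOf_left N K]
  have h1 : N.relIndex K ∣ N.index := Subgroup.relIndex_dvd_index_of_normal N K
  rw [hk] at h1
  obtain ⟨j, -, hj⟩ := (Nat.dvd_prime_pow Fact.out).mp h1
  exact ⟨j, hj⟩

/-- Stabilizing a block of `C_N(R')` is the same as stabilizing its image in `C_G(R) ⊓ N`. -/
theorem stabilizesBlock_cEqv_iff [N.Normal] (R' : Subgroup N)
    (b' : Set (IrrCharacter (Subgroup.centralizer (R' : Set N)))) (x' : N)
    (hx'N : x' ∈ Subgroup.normalizer (R' : Set N))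
    (hxL : (x' : G) ∈ Subgroup.normalizer ((cL N R' : Subgroup G) : Set G)) :
    StabilizesBlock (Subgroup.centralizer (R' : Set N)) b' x'
      ↔ StabilizesBlock (cL N R') (eqvIrr (cEqv N R') '' b') (x' : G) := by
  constructor
  · rintro ⟨-, h⟩
    refine ⟨hxL, ?_⟩
    rintro _ ⟨χ, hχ, rfl⟩
    obtain ⟨χ', hχ', hconj⟩ := h χ hχ
    refine ⟨eqvIrr (cEqv N R') χ', ⟨χ', hχ', rfl⟩, fun l l' hl => ?_⟩
    rw [eqvIrr_apply, eqvIrr_apply]
    apply hconj
    apply Subtype.ext
    exact hl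
  · rintro ⟨-, h⟩
    refine ⟨normalizer_le_normalizer_centralizer R' hx'N, ?_⟩
    intro χ hχ
    obtain ⟨_, ⟨χ', hχ', rfl⟩, hconj⟩ := h (eqvIrr (cEqv N R') χ) ⟨χ, hχ, rfl⟩
    refine ⟨χ', hχ', fun k k' hk => ?_⟩
    have h1 := hconj (cEqv N R' k) (cEqv N R' k') (congrArg Subtype.val hk)
    rw [eqvIrr_apply, eqvIrr_apply, MulEquiv.symm_apply_apply, MulEquiv.symm_apply_apply] at h1
    exact h1

end Setup

section Main

variable {G : Type u} [Group G] [Fintype G] {M : Ideal AlgInt} (p : ℕ) [Fact p.Prime]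
  (N : Subgroup G) [N.Normal]

omit [Fintype G] in
theorem mem_normalizer_of_normal (x : G) : x ∈ Subgroup.normalizer (N : Set G) := by
  rw [Subgroup.mem_normalizer_iff]
  intro h
  constructor
  · intro hh
    exact Subgroup.Normal.conj_mem inferInstance h hh x
  · intro hh
    have := Subgroup.Normal.conj_mem (inferInstance : N.Normal) _ hh x⁻¹
    have e2 : x⁻¹ * (x * h * x⁻¹) * x⁻¹⁻¹ = h := by group
    rwa [e2] at this

/-- A pair is a Brauer pair of `B` as soon as one character of its block satisfies the Brauer-map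
condition. -/
theorem isBrauerPairOf_of_one (hM : IsPModular p M) {B : Set (IrrCharacter G)}
    (hB : IsPBlock M B) {R : Subgroup G} (hR : IsPGroup p R)
    (ξ : IrrCharacter (Subgroup.centralizer (R : Set G)))
    (h1 : MemLocalIdeal M (brauerOmega R (blockCoeff B) ξ.1 - 1)) :
    IsBrauerPairOf p M B R (blockOf M ξ.1) := by
  classical
  haveI : Fintype ↥(Subgroup.centralizer (R : Set G)) := Fintype.ofFinite _
  have hMp := isPrime_of_isPModular hM
  refine ⟨⟨hR, ξ, rfl⟩, hB, fun ξ' hξ' => ?_⟩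
  obtain ⟨χ₀, rfl⟩ := hB
  have hmem : blockElt (blockOf M χ₀.1) ∈ brRing R hMp :=
    cfSubring_le_brRing R hMp (blockElt_mem hMp χ₀)
  have h2 := brLam_congr_block R hmem (ξ := ξ') (ξ' := ξ) (sameBlock_symm hξ')
  rw [brauerOmega_eq R _ (blockElt (blockOf M χ₀.1))
    (fun g => (coeff_blockElt _ g).symm)] at h1 ⊢
  have h3 : MemLocalIdeal M (brLam R ξ'.1 (blockElt (blockOf M χ₀.1))
      - brLam R ξ.1 (blockElt (blockOf M χ₀.1))
      + (brLam R ξ.1 (blockElt (blockOf M χ₀.1)) - 1)) := memLocalIdeal_add hMp h2 h1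
  rw [sub_add_sub_cancel] at h3
  exact h3

theorem mem_normalizer_cK (R' : Subgroup N) {x' : N}
    (hx'N : x' ∈ Subgroup.normalizer (R' : Set N)) :
    (x' : G) ∈ Subgroup.normalizer ((cK N R' : Subgroup G) : Set G) :=
  normalizer_le_normalizer_centralizer (R'.map N.subtype) (mem_normalizer_map_subtype N R' hx'N)

theorem mem_normalizer_cL (R' : Subgroup N) {x : G}
    (hx : x ∈ Subgroup.normalizer ((cK N R' : Subgroup G) : Set G)) :
    x ∈ Subgroup.normalizer ((cL N R' : Subgroup G) : Set G) :=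
  mem_normalizer_inf hx (mem_normalizer_of_normal N x)

/-- **Going up.**  A Brauer pair `(R', g')` of the block `c` of `N` stabilized by `x' ∈ N_N(R')`
is covered by a Brauer pair `(R', g)` of `B` stabilized by `x'`. -/
theorem exists_cover_pair (hM : IsPModular p M) (hN : ∃ k : ℕ, N.index = p ^ k)
    {c : Set (IrrCharacter N)} {B : Set (IrrCharacter G)} (hB : IsPBlock M B)
    (hBc : ∀ g : G, blockCoeff B g = subgroupBlockCoeff N c g)
    (R' : Subgroup N) (g' : Set (IrrCharacter (Subgroup.centralizer (R' : Set N))))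
    (hpair : IsBrauerPairOf p M c R' g') (x' : N)
    (hx'N : x' ∈ Subgroup.normalizer (R' : Set N))
    (hstab : StabilizesBlock (Subgroup.centralizer (R' : Set N)) g' x') :
    ∃ g : Set (IrrCharacter (cK N R')), IsBrauerPairOf p M B (R'.map N.subtype) g ∧
      StabilizesBlock (cK N R') g (x' : G) := by
  classical
  haveI : Fintype (cK N R') := Fintype.ofFinite _
  haveI : Fintype (cL N R') := Fintype.ofFinite _
  haveI : Fintype ((cL N R').subgroupOf (cK N R')) := Fintype.ofFinite _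
  haveI hnormal : ((cL N R').subgroupOf (cK N R')).Normal := by
    rw [Subgroup.inf_subgroupOf_left N (cK N R')]
    infer_instance
  have hMp := isPrime_of_isPModular hM
  obtain ⟨ξ'₀, hg'⟩ := hpair.1.2
  have hξ'₀ : ξ'₀ ∈ g' := by rw [hg']; exact mem_blockOf_self hMp ξ'₀
  obtain ⟨θL, hθL⟩ : ∃ θL : IrrCharacter (cL N R'), θL = eqvIrr (cEqv N R') ξ'₀ := ⟨_, rfl⟩
  obtain ⟨χ, hχirr, hχover⟩ := Cfsg.Agent.ItoConv.exists_irr_over
    ((cL N R').subgroupOf (cK N R'))
    (Cfsg.Agent.H79.liftIrr (cK N R') (cL N R') inf_le_left θL).2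
  obtain ⟨ξ, hξ⟩ : ∃ ξ : IrrCharacter (cK N R'), ξ = ⟨χ, hχirr⟩ := ⟨_, rfl⟩
  have hover : classInner (fun k : (cL N R').subgroupOf (cK N R') => ξ.1 k)
      (Cfsg.Agent.H79.liftIrr (cK N R') (cL N R') inf_le_left θL).1 ≠ 0 := by
    rw [hξ]; exact hχover
  have hβ : ∀ g x : G, blockCoeff B (x * g * x⁻¹) = blockCoeff B g := fun g x =>
    blockCoeff_conj_invariant B g x
  have hβ0 : ∀ g : G, g ∉ N → blockCoeff B g = 0 := by
    intro g hg
    rw [hBc]
    unfold subgroupBlockCoeff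
    rw [dif_neg hg]
  have hR : IsPGroup p (R'.map N.subtype) := hpair.1.1.map _
  have h1 : MemLocalIdeal M (brauerOmega (R'.map N.subtype) (blockCoeff B) ξ.1 - 1) := by
    rw [brauerOmega_eq_sum_of_over N R' (blockCoeff B) hβ hβ0 ξ θL hover]
    have h2 := hpair.2.2 ξ'₀ hξ'₀
    rw [brauerOmega_eq_sum_cL N R' c ξ'₀, ← hθL] at h2
    have e : ∑ l : cL N R', blockCoeff B (l : G) * θL.1 l
        = ∑ l : cL N R', subgroupBlockCoeff N c (l : G) * θL.1 l :=
      Finset.sum_congr rfl (fun l _ => by rw [hBc])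
    rw [e]
    exact h2
  refine ⟨blockOf M ξ.1, isBrauerPairOf_of_one p hM hB hR ξ h1, ?_⟩
  have hxK := mem_normalizer_cK N R' hx'N
  have hxL := mem_normalizer_cL N R' hxK
  -- `x'` stabilizes the block of `θL`
  have hstL : StabilizesBlock (cL N R') (blockOf M θL.1) (x' : G) := by
    have h3 := (stabilizesBlock_cEqv_iff N R' g' x' hx'N hxL).mp hstab
    rw [hg', eqvIrr_image_blockOf, ← hθL] at h3
    exact h3
  obtain ⟨hxL', himg⟩ := (stabilizesBlock_iff hMp (cL N R') ⟨θL, rfl⟩ (x' : G)).mp hstL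
  have hθsame : SameBlock M (autIrr (conjAut (cL N R') (x' : G) hxL) θL).1 θL.1 := by
    have h4 : autIrr (conjAut (cL N R') (x' : G) hxL) θL ∈ blockOf M θL.1 := by
      rw [← himg]
      exact ⟨θL, mem_blockOf_self hMp θL, rfl⟩
    exact sameBlock_symm h4
  rw [stabilizesBlock_iff hMp (cK N R') ⟨ξ, rfl⟩]
  refine ⟨hxK, ?_⟩
  rw [autIrr_image_blockOf]
  apply blockOf_eq_of_sameBlock hMp
  apply sameBlock_symm
  have hidx := index_inf_subgroupOf N p hN (cK N R')
  exact Cfsg.Agent.H79.sameBlock_of_over_sameBlock_of_index_pow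
    ((cL N R').subgroupOf (cK N R')) hM hidx
    (autIrr (conjAut (cK N R') (x' : G) hxK) ξ) ξ
    (Cfsg.Agent.H79.liftIrr (cK N R') (cL N R') inf_le_left
      (autIrr (conjAut (cL N R') (x' : G) hxL) θL))
    (Cfsg.Agent.H79.liftIrr (cK N R') (cL N R') inf_le_left θL)
    (by rw [classInner_conj_over (cK N R') (cL N R') inf_le_left (x' : G) hxK hxL ξ θL]
        exact hover)
    hover
    ((Cfsg.Agent.H79.sameBlock_liftIrr (cK N R') (cL N R') inf_le_left _ _).mpr hθsame)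

/-- **Going down.**  A Brauer pair `(R', g₀)` of `B` stabilized by the `p`-regular `x' ∈ N_N(R')`
covers a Brauer pair `(R', g')` of `c` stabilized by `x'`. -/
theorem exists_covered_pair (hM : IsPModular p M) (hN : ∃ k : ℕ, N.index = p ^ k)
    {c : Set (IrrCharacter N)} (hc : IsPBlock M c) {B : Set (IrrCharacter G)}
    (hBc : ∀ g : G, blockCoeff B g = subgroupBlockCoeff N c g)
    (R' : Subgroup N) (hR' : IsPGroup p R') (g₀ : Set (IrrCharacter (cK N R')))
    (hpair : IsBrauerPairOf p M B (R'.map N.subtype) g₀) (x' : N)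
    (hx'N : x' ∈ Subgroup.normalizer (R' : Set N))
    (hstab : StabilizesBlock (cK N R') g₀ (x' : G)) (hreg : IsPRegular p (x' : G)) :
    ∃ g' : Set (IrrCharacter (Subgroup.centralizer (R' : Set N))),
      IsBrauerPairOf p M c R' g' ∧ StabilizesBlock (Subgroup.centralizer (R' : Set N)) g' x' := by
  classical
  haveI : Fintype (cK N R') := Fintype.ofFinite _
  haveI : Fintype (cL N R') := Fintype.ofFinite _
  haveI : Fintype ((cL N R').subgroupOf (cK N R')) := Fintype.ofFinite _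
  haveI hnormal : ((cL N R').subgroupOf (cK N R')).Normal := by
    rw [Subgroup.inf_subgroupOf_left N (cK N R')]
    infer_instance
  have hMp := isPrime_of_isPModular hM
  have hpp := (Fact.out : p.Prime)
  obtain ⟨ξ, hg₀⟩ := hpair.1.2
  have hξ : ξ ∈ g₀ := by rw [hg₀]; exact mem_blockOf_self hMp ξ
  obtain ⟨θ₀, hθ₀⟩ := Cfsg.Agent.H79.exists_constituent_res
    ((cL N R').subgroupOf (cK N R')) ξ
  obtain ⟨θL, hθL⟩ : ∃ θL : IrrCharacter (cL N R'),
      θL = eqvIrr (Subgroup.subgroupOfEquivOfLe (inf_le_left : cL N R' ≤ cK N R')) θ₀ :=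
    ⟨_, rfl⟩
  have hlift : Cfsg.Agent.H79.liftIrr (cK N R') (cL N R') inf_le_left θL = θ₀ := by
    apply Subtype.ext
    funext k
    show θL.1 (Subgroup.subgroupOfEquivOfLe _ k) = θ₀.1 k
    rw [hθL, eqvIrr_apply, MulEquiv.symm_apply_apply]
  have hover : classInner (fun k : (cL N R').subgroupOf (cK N R') => ξ.1 k)
      (Cfsg.Agent.H79.liftIrr (cK N R') (cL N R') inf_le_left θL).1 ≠ 0 := by
    rw [hlift]; exact hθ₀
  obtain ⟨ξ', hξ'⟩ : ∃ ξ' : IrrCharacter (Subgroup.centralizer (R' : Set N)),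
      ξ' = eqvIrr (cEqv N R').symm θL := ⟨_, rfl⟩
  have hξ'θ : eqvIrr (cEqv N R') ξ' = θL := by rw [hξ', eqvIrr_eqvIrr_symm]
  have hβ : ∀ g x : G, blockCoeff B (x * g * x⁻¹) = blockCoeff B g := fun g x =>
    blockCoeff_conj_invariant B g x
  have hβ0 : ∀ g : G, g ∉ N → blockCoeff B g = 0 := by
    intro g hg
    rw [hBc]
    unfold subgroupBlockCoeff
    rw [dif_neg hg]
  have h1 : MemLocalIdeal M (brauerOmega R' (blockCoeff c) ξ'.1 - 1) := by
    rw [brauerOmega_eq_sum_cL N R' c ξ', hξ'θ]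
    have h2 := hpair.2.2 ξ hξ
    rw [brauerOmega_eq_sum_of_over N R' (blockCoeff B) hβ hβ0 ξ θL hover] at h2
    have e : ∑ l : cL N R', blockCoeff B (l : G) * θL.1 l
        = ∑ l : cL N R', subgroupBlockCoeff N c (l : G) * θL.1 l :=
      Finset.sum_congr rfl (fun l _ => by rw [hBc])
    rw [e] at h2
    exact h2
  refine ⟨blockOf M ξ'.1, isBrauerPairOf_of_one p hM hc hR' ξ' h1, ?_⟩
  have hxK := mem_normalizer_cK N R' hx'N
  have hxL := mem_normalizer_cL N R' hxK
  rw [stabilizesBlock_cEqv_iff N R' (blockOf M ξ'.1) x' hx'N hxL, eqvIrr_image_blockOf, hξ'θ]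
  -- the conjugate of `ξ` by `x'` lies in the same block
  obtain ⟨hxK', himg⟩ := (stabilizesBlock_iff hMp (cK N R') ⟨ξ, rfl⟩ (x' : G)).mp
    (by rw [← hg₀]; exact hstab)
  have hsame : SameBlock M ξ.1 (autIrr (conjAut (cK N R') (x' : G) hxK) ξ).1 := by
    have h4 : autIrr (conjAut (cK N R') (x' : G) hxK) ξ ∈ blockOf M ξ.1 := by
      rw [← himg]
      exact ⟨ξ, mem_blockOf_self hMp ξ, rfl⟩
    exact h4
  have hover₂ : classInner (fun k : (cL N R').subgroupOf (cK N R') =>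
        (autIrr (conjAut (cK N R') (x' : G) hxK) ξ).1 k)
      (Cfsg.Agent.H79.liftIrr (cK N R') (cL N R') inf_le_left
        (autIrr (conjAut (cL N R') (x' : G) hxL) θL)).1 ≠ 0 := by
    rw [classInner_conj_over (cK N R') (cL N R') inf_le_left (x' : G) hxK hxL ξ θL]
    exact hover
  obtain ⟨n, hnK, hn⟩ := Cfsg.Agent.H79.exists_conj_of_sameBlock_over hMp (cK N R') (cL N R')
    inf_le_left θL (autIrr (conjAut (cL N R') (x' : G) hxL) θL) ξ
    (autIrr (conjAut (cK N R') (x' : G) hxK) ξ) hsame hover hover₂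
  obtain ⟨θ', hθ', hθ'eq⟩ := hn θL (mem_blockOf_self hMp θL)
  have hnL : n ∈ Subgroup.normalizer ((cL N R' : Subgroup G) : Set G) :=
    mem_normalizer_cL N R' (Subgroup.le_normalizer hnK)
  have hninvL : n⁻¹ ∈ Subgroup.normalizer ((cL N R' : Subgroup G) : Set G) := inv_mem hnL
  have hθ'aut : θ' = autIrr (conjAut (cL N R') n⁻¹ hninvL) θL := by
    apply Subtype.ext
    funext y
    rw [autIrr_apply]
    have hy : n * (y : G) * n⁻¹ ∈ cL N R' := (Subgroup.mem_normalizer_iff.mp hnL (y : G)).mp y.2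
    rw [hθ'eq y hy]
    refine congrArg θL.1 (Subtype.ext ?_)
    rw [conjAut_symm_apply, inv_inv]
  -- the stabilizer of the block of `θL`
  obtain ⟨T, hT⟩ := exists_stabilizer hMp (cL N R') (f := blockOf M θL.1) ⟨θL, rfl⟩
  have hLT : cL N R' ≤ T := fun l hl => (hT l).mpr (stabilizesBlock_of_mem _ _ hl)
  have hyT : (x' : G)⁻¹ * n⁻¹ ∈ T := by
    rw [hT, stabilizesBlock_iff hMp (cL N R') ⟨θL, rfl⟩]
    have hmem : (x' : G)⁻¹ * n⁻¹ ∈ Subgroup.normalizer ((cL N R' : Subgroup G) : Set G) :=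
      mul_mem (inv_mem hxL) hninvL
    refine ⟨hmem, ?_⟩
    rw [autIrr_image_blockOf]
    apply blockOf_eq_of_sameBlock hMp
    have e1 : conjAut (cL N R') ((x' : G)⁻¹ * n⁻¹) hmem
        = (conjAut (cL N R') (x' : G) hxL)⁻¹ * conjAut (cL N R') n⁻¹ hninvL := by
      rw [conjAut_inv, ← conjAut_mul]
    rw [e1, autIrr_mul, ← hθ'aut]
    have h5 : SameBlock M (autIrr (conjAut (cL N R') (x' : G) hxL)⁻¹
        (autIrr (conjAut (cL N R') (x' : G) hxL) θL)).1
        (autIrr (conjAut (cL N R') (x' : G) hxL)⁻¹ θ').1 := sameBlock_autIrr _ hθ'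
    rw [autIrr_inv_autIrr] at h5
    exact h5
  obtain ⟨kk, hkk⟩ := hN
  have hxT : (x' : G) ∈ T := by
    apply mem_of_inv_mul_mem (cL N R') T hLT (x' : G) n⁻¹ hxL hninvL ?_ (p ^ kk) ?_ ?_ hyT
    · refine ⟨?_, ?_⟩
      · have h6 : (x' : G) * n⁻¹ * (x' : G)⁻¹ ∈ cK N R' :=
          (Subgroup.mem_normalizer_iff.mp hxK n⁻¹).mp (inv_mem hnK)
        have := mul_mem h6 (inv_mem (inv_mem hnK))
        exact this
      · have h7 : n⁻¹ * (x' : G)⁻¹ * n⁻¹⁻¹ ∈ N :=
          Subgroup.Normal.conj_mem inferInstance _ (inv_mem x'.2) n⁻¹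
        have e : (x' : G) * n⁻¹ * (x' : G)⁻¹ * n⁻¹⁻¹ = (x' : G) * (n⁻¹ * (x' : G)⁻¹ * n⁻¹⁻¹) := by
          group
        rw [e]
        exact mul_mem x'.2 h7
    · refine ⟨pow_mem (inv_mem hnK) _, ?_⟩
      rw [← hkk]
      exact Subgroup.pow_index_mem N n⁻¹
    · exact Nat.Coprime.pow_left kk ((Nat.Prime.coprime_iff_not_dvd hpp).mpr hreg)
  exact (hT _).mp hxT

/-- **Nilpotent blocks and normal subgroups of `p`-power index.**  If `G/N` is a `p`-group and
the block `B` of `G` has the idempotent of the block `c` of `N`, then `c` is nilpotent iff `B`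
is. -/
theorem isNilpotentBlock_iff_of_index_pow (hM : IsPModular p M)
    (hN : ∃ k : ℕ, N.index = p ^ k) {c : Set (IrrCharacter N)} (hc : IsPBlock M c)
    {B : Set (IrrCharacter G)} (hB : IsPBlock M B)
    (hBc : ∀ g : G, blockCoeff B g = subgroupBlockCoeff N c g) :
    IsNilpotentBlock p M c ↔ IsNilpotentBlock p M B := by
  classical
  have hMp := isPrime_of_isPModular hM
  have hpp := (Fact.out : p.Prime)
  constructor
  · intro hnil
    refine ⟨hB, fun R gt hpair x hxR hstab hreg => ?_⟩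
    -- `x ∈ N`
    have hxN : x ∈ N := by
      obtain ⟨k, hk⟩ := hN
      have h1 : x ^ (p ^ k) ∈ N := by rw [← hk]; exact Subgroup.pow_index_mem N x
      have hcop : (p ^ k).Coprime (orderOf x) :=
        Nat.Coprime.pow_left k ((Nat.Prime.coprime_iff_not_dvd hpp).mpr hreg)
      obtain ⟨j, hj⟩ := exists_pow_eq_self_of_coprime hcop
      rw [← hj]
      exact pow_mem h1 j
    obtain ⟨R', hR'⟩ : ∃ R' : Subgroup N, R' = (R ⊓ N).subgroupOf N := ⟨_, rfl⟩
    have hmap : R'.map N.subtype = R ⊓ N := by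
      rw [hR']; exact Subgroup.map_subgroupOf_eq_of_le inf_le_right
    have hle : R'.map N.subtype ≤ R := by rw [hmap]; exact inf_le_left
    have hnormQ : ∀ y : G, y ∈ Subgroup.normalizer (R : Set G) →
        y ∈ Subgroup.normalizer ((R'.map N.subtype : Subgroup G) : Set G) := by
      intro y hy
      rw [hmap]
      exact mem_normalizer_inf hy (mem_normalizer_of_normal N y)
    have hRnorm : R ≤ Subgroup.normalizer ((R'.map N.subtype : Subgroup G) : Set G) :=
      fun y hy => hnormQ y (Subgroup.le_normalizer hy)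
    obtain ⟨g₀, hg₀, -⟩ := Cfsg.Agent.S4656.result p M hM R (R'.map N.subtype) gt hpair.1 hle
      hRnorm
    have hstep : NormalSubpairRel p M ⟨R'.map N.subtype, g₀⟩ ⟨R, gt⟩ := hg₀
    have hleQ : Relation.ReflTransGen (NormalSubpairRel p M) ⟨R'.map N.subtype, g₀⟩ ⟨R, gt⟩ :=
      Relation.ReflTransGen.single hstep
    have hpair₀ : IsBrauerPairOf p M B (R'.map N.subtype) g₀ :=
      isBrauerPairOf_of_ge p hM (a := ⟨R'.map N.subtype, g₀⟩) (b := ⟨R, gt⟩) hpair hleQ
    -- `x` stabilizes `g₀`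
    have hxQ := hnormQ x hxR
    have hconj : conjPair x ⟨R, gt⟩ = ⟨R, gt⟩ := conjPair_eq_of_stab hMp hpair.1.2 hxR hstab
    have hleQ' := subpairLE_conj (p := p) (M := M) x hleQ
    rw [hconj] at hleQ'
    have hfst : (conjPair x ⟨R'.map N.subtype, g₀⟩).1 = R'.map N.subtype :=
      (map_conj_eq_iff_mem_normalizer _ x).mpr hxQ
    obtain ⟨e'', he''⟩ := exists_snd_of_fst_eq (conjPair x ⟨R'.map N.subtype, g₀⟩) hfst
    rw [he''] at hleQ'
    have hee : e'' = g₀ :=
      subpairLE_unique hM _ R gt rfl hpair.1 (R'.map N.subtype) e'' g₀ hleQ' hleQ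
    rw [hee] at he''
    obtain ⟨-, hstab₀⟩ := stab_of_conjPair_eq hMp hg₀.1.2 he''
    -- go down to `N`
    have hx'N : (⟨x, hxN⟩ : N) ∈ Subgroup.normalizer (R' : Set N) := by
      rw [Subgroup.mem_normalizer_iff]
      intro h
      rw [hR', Subgroup.mem_subgroupOf, Subgroup.mem_subgroupOf]
      have hxQ' : x ∈ Subgroup.normalizer ((R ⊓ N : Subgroup G) : Set G) :=
        mem_normalizer_inf hxR (mem_normalizer_of_normal N x)
      exact Subgroup.mem_normalizer_iff.mp hxQ' (h : G)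
    have hR'p : IsPGroup p R' := by
      rw [hR']
      exact (hpair.1.1.to_le inf_le_left).comap_subtype
    obtain ⟨g', hg'pair, hg'stab⟩ := exists_covered_pair p N hM hN hc hBc R' hR'p g₀ hpair₀
      ⟨x, hxN⟩ hx'N hstab₀ hreg
    have hreg' : IsPRegular p (⟨x, hxN⟩ : N) := by
      unfold IsPRegular at hreg ⊢
      rw [← Subgroup.orderOf_coe]
      exact hreg
    have h2 := hnil.2 R' g' hg'pair ⟨x, hxN⟩ hx'N hg'stab hreg'
    have h3 : x ∈ cK N R' := (coe_mem_cK_iff N R' ⟨x, hxN⟩).mpr h2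
    have hxc : x ∈ Subgroup.centralizer ((R ⊓ N : Subgroup G) : Set G) := by
      rw [← hmap]; exact h3
    exact mem_centralizer_of_coprime p N R hpair.1.1 x hxN hxR hxc hreg
  · intro hnil
    refine ⟨hc, fun R' g' hpair x' hx'N hstab hreg => ?_⟩
    obtain ⟨g, hgpair, hgstab⟩ := exists_cover_pair p N hM hN hB hBc R' g' hpair x' hx'N hstab
    have hreg' : IsPRegular p (x' : G) := by
      unfold IsPRegular at hreg ⊢
      rw [Subgroup.orderOf_coe]
      exact hreg
    have h2 := hnil.2 (R'.map N.subtype) g hgpair (x' : G) (mem_normalizer_map_subtype N R' hx'N)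
      hgstab hreg'
    exact (coe_mem_cK_iff N R' x').mp h2

end Main

end Cfsg.Agent.H80
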