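import Cfsg.Agent.H16.GCChar
import Cfsg.Agent.H20.PElement
import Cfsg.Agent.H79.Fong
import Cfsg.Agent.H80.NilIndex

set_option autoImplicit false
set_option linter.unusedSectionVars false
set_option linter.style.haveILetI false

/-!
# helper80: blocks with abelian defect groups over a normal subgroup of `p`-power index

Let `N` be a normal subgroup of `G` of `p`-power index, `b` a `G`-stable block of `N`, `B` the
block of `G` covering `b`, and suppose that a defect group `P` of `B` is abelian (and `G = N P`).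
Then restriction is a map from `B` onto `b` all of whose fibres have `[G : N]` elements.

* `sum_hom_apply`: orthogonality for the dual of a finite abelian group.
* `sum_classInner_twist`: `∑_λ [A, B λ] = [A|N, B|N]`, the sum over the linear characters of the
  abelian group `G / N`.
* `exists_ne_zero_of_abelian_defect`: no character of a block with abelian defect group `P`
  vanishes at `u g₀`, `u ∈ P`, `g₀` a defect class.
* `restrict_of_abelian_defect`: the restriction statement.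
-/

namespace Cfsg.Agent.H80

open Cfsg Cfsg.Agent.H20 Cfsg.Agent.H4
open scoped ComplexConjugate

universe u

section Dual

theorem card_hom_of_comm (A : Type*) [Group A] [Finite A] (hA : ∀ a b : A, a * b = b * a) :
    Finite (A →* ℂˣ) ∧ Nat.card (A →* ℂˣ) = Nat.card A := by
  letI : CommGroup A := { ‹Group A› with mul_comm := hA }
  haveI : NeZero (Monoid.exponent A) := ⟨Monoid.exponent_ne_zero_of_finite⟩
  have h := CommGroup.card_monoidHom_of_hasEnoughRootsOfUnity A ℂ
  refine ⟨?_, h⟩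
  apply Nat.finite_of_card_ne_zero
  rw [h]
  exact Nat.card_pos.ne'

theorem sum_hom_apply (A : Type*) [Group A] [Finite A] [DecidableEq A]
    (hA : ∀ a b : A, a * b = b * a) [Fintype (A →* ℂˣ)] (a : A) :
    ∑ φ : A →* ℂˣ, ((φ a : ℂˣ) : ℂ) = if a = 1 then (Nat.card A : ℂ) else 0 := by
  by_cases ha : a = 1
  · rw [if_pos ha, ha]
    simp only [map_one, Units.val_one, Finset.sum_const, Finset.card_univ, nsmul_eq_mul, mul_one]
    rw [← (card_hom_of_comm A hA).2, Nat.card_eq_fintype_card]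
  · rw [if_neg ha]
    letI : CommGroup A := { ‹Group A› with mul_comm := hA }
    haveI : NeZero (Monoid.exponent A) := ⟨Monoid.exponent_ne_zero_of_finite⟩
    obtain ⟨ψ, hψ⟩ := CommGroup.exists_apply_ne_one_of_hasEnoughRootsOfUnity A ℂ ha
    have h1 : ((ψ a : ℂˣ) : ℂ) * ∑ φ : A →* ℂˣ, ((φ a : ℂˣ) : ℂ)
        = ∑ φ : A →* ℂˣ, ((φ a : ℂˣ) : ℂ) := by
      rw [Finset.mul_sum]
      exact Fintype.sum_bijective (fun φ => ψ * φ) (Group.mulLeft_bijective ψ) _ _
        (fun φ => by simp [MonoidHom.mul_apply])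
    have h2 : ((ψ a : ℂˣ) : ℂ) ≠ 1 := fun h => hψ (Units.ext h)
    have h3 : (((ψ a : ℂˣ) : ℂ) - 1) * ∑ φ : A →* ℂˣ, ((φ a : ℂˣ) : ℂ) = 0 := by
      rw [sub_mul, h1, one_mul, sub_self]
    rcases mul_eq_zero.mp h3 with h | h
    · exact absurd (sub_eq_zero.mp h) h2
    · exact h

end Dual

section Quot

variable {G : Type*} [Group G] [Fintype G] (N : Subgroup G) [N.Normal] [Fintype N]

/-- The linear character of `G` attached to a linear character of `G ⧸ N`. -/
noncomputable def qHom (lam : G ⧸ N →* ℂˣ) : G →* ℂˣ := lam.comp (QuotientGroup.mk' N)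

theorem qHom_apply (lam : G ⧸ N →* ℂˣ) (g : G) :
    qHom N lam g = lam (QuotientGroup.mk g) := rfl

theorem qHom_apply_of_mem (lam : G ⧸ N →* ℂˣ) {g : G} (hg : g ∈ N) : qHom N lam g = 1 := by
  rw [qHom_apply, (QuotientGroup.eq_one_iff g).mpr hg, map_one]

/-- Summing the inner products with all the twists by linear characters of the abelian group
`G ⧸ N` gives the inner product of the restrictions to `N`. -/
theorem sum_classInner_twist (hcomm : ∀ a b : G ⧸ N, a * b = b * a) [Fintype (G ⧸ N →* ℂˣ)]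
    (A B : G → ℂ) :
    ∑ lam : G ⧸ N →* ℂˣ, classInner A (fun g => B g * ((qHom N lam g : ℂˣ) : ℂ))
      = classInner (fun n : N => A n) (fun n : N => B n) := by
  classical
  unfold classInner
  rw [← Finset.mul_sum, Finset.sum_comm]
  have h1 : ∀ g : G, ∑ lam : G ⧸ N →* ℂˣ, A g * conj (B g * ((qHom N lam g : ℂˣ) : ℂ))
      = if g ∈ N then (N.index : ℂ) * (A g * conj (B g)) else 0 := by
    intro g
    have h2 : ∑ lam : G ⧸ N →* ℂˣ, ((lam (QuotientGroup.mk g) : ℂˣ) : ℂ)
        = if (QuotientGroup.mk g : G ⧸ N) = 1 then (Nat.card (G ⧸ N) : ℂ) else 0 :=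
      sum_hom_apply (G ⧸ N) hcomm _
    have h3 : ∑ lam : G ⧸ N →* ℂˣ, A g * conj (B g * ((qHom N lam g : ℂˣ) : ℂ))
        = A g * conj (B g) * conj (∑ lam : G ⧸ N →* ℂˣ, ((lam (QuotientGroup.mk g) : ℂˣ) : ℂ)) := by
      rw [map_sum, Finset.mul_sum]
      apply Finset.sum_congr rfl
      intro lam _
      rw [map_mul, qHom_apply, mul_assoc]
    rw [h3, h2]
    by_cases hg : g ∈ N
    · rw [if_pos hg, if_pos ((QuotientGroup.eq_one_iff g).mpr hg), Complex.conj_natCast,
        Subgroup.index_eq_card]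
      ring
    · rw [if_neg hg, if_neg (fun h => hg ((QuotientGroup.eq_one_iff g).mp h)), map_zero, mul_zero]
  rw [Finset.sum_congr rfl (fun g _ => h1 g)]
  rw [sum_subgroup_eq N (fun g => if g ∈ N then (N.index : ℂ) * (A g * conj (B g)) else 0)
    (fun g hg => if_neg hg)]
  have h4 : ∀ n : N, (if (n : G) ∈ N then (N.index : ℂ) * (A n * conj (B n)) else 0)
      = (N.index : ℂ) * (A n * conj (B n)) := fun n => if_pos n.2
  rw [Finset.sum_congr rfl (fun n _ => h4 n), ← Finset.mul_sum, ← mul_assoc]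
  congr 1
  have hcard : (Nat.card N : ℂ) * (N.index : ℂ) = (Nat.card G : ℂ) := by
    exact_mod_cast Subgroup.card_mul_index N
  have hN0 : (Nat.card N : ℂ) ≠ 0 := by
    have : 0 < Nat.card N := Nat.card_pos
    exact_mod_cast this.ne'
  have hi0 : (N.index : ℂ) ≠ 0 := by
    have : N.index ≠ 0 := Subgroup.index_ne_zero_of_finite
    exact_mod_cast this
  rw [← hcard]
  field_simp

end Quot

section Main

variable {G : Type*} [Group G] [Fintype G] {p : ℕ} [Fact p.Prime] {M : Ideal AlgInt}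

/-- No character of a block with abelian defect group `P` vanishes at `u g₀`, for `u ∈ P` and
`g₀` the defect class whose centralizer has `P` as a Sylow subgroup. -/
theorem exists_ne_zero_of_abelian_defect (hM : IsPModular p M) (χ₀ : IrrCharacter G)
    (P : Subgroup G) (hPD : IsDefectGroup p M (blockOf M χ₀.1) P)
    (hPab : ∀ x ∈ P, ∀ y ∈ P, x * y = y * x) :
    ∃ g₀ : G, IsDefectClass M (blockOf M χ₀.1) g₀ ∧
      ∀ u ∈ P, ∀ χ ∈ blockOf M χ₀.1, χ.1 (u * g₀) ≠ 0 := by
  have hMp := isPrime_of_isPModular hM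
  obtain ⟨g₀, hg₀, S, rfl⟩ := hPD
  refine ⟨g₀, hg₀, ?_⟩
  rintro _ ⟨x, hx, rfl⟩ χ hχ h0
  have hxc : ∀ w ∈ (S : Subgroup (Subgroup.centralizer ({g₀} : Set G))), x * w = w * x := by
    intro w hw
    apply Subtype.ext
    exact hPab _ ⟨x, hx, rfl⟩ _ ⟨w, hw, rfl⟩
  apply not_memLocalIdeal_centralChar_mul hM χ₀ g₀ hg₀ S x hx hxc χ hχ
  unfold centralChar
  have h1 : χ.1 ((x : G) * g₀) = 0 := h0
  rw [h1, mul_zero, zero_div]
  exact memLocalIdeal_zero hMp

variable (N : Subgroup G) [N.Normal] [Fintype N]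

theorem quotient_comm_of_sup (P : Subgroup G) (hPab : ∀ x ∈ P, ∀ y ∈ P, x * y = y * x)
    (hNP : N ⊔ P = ⊤) : ∀ a b : G ⧸ N, a * b = b * a := by
  have hrep : ∀ q : G ⧸ N, ∃ u ∈ P, (QuotientGroup.mk u : G ⧸ N) = q := by
    intro q
    obtain ⟨g, rfl⟩ := QuotientGroup.mk_surjective q
    have hg : g ∈ ((N ⊔ P : Subgroup G) : Set G) := by rw [hNP]; trivial
    rw [Subgroup.normal_mul] at hg
    obtain ⟨n, hn, u, hu, rfl⟩ := Set.mem_mul.mp hg
    refine ⟨u, hu, ?_⟩
    rw [QuotientGroup.mk_mul, (QuotientGroup.eq_one_iff n).mpr hn, one_mul]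
  intro a b
  obtain ⟨u, hu, rfl⟩ := hrep a
  obtain ⟨v, hv, rfl⟩ := hrep b
  rw [← QuotientGroup.mk_mul, ← QuotientGroup.mk_mul, hPab u hu v hv]

/-- Two twists of a character of the block agree only if the linear characters agree. -/
theorem eq_of_twist_eq (P : Subgroup G) (hNP : N ⊔ P = ⊤) (g₀ : G) (hg₀N : g₀ ∈ N)
    (χ : IrrCharacter G) (hnz : ∀ u ∈ P, χ.1 (u * g₀) ≠ 0) (lam mu : G ⧸ N →* ℂˣ)
    (h : ∀ g, χ.1 g * ((qHom N lam g : ℂˣ) : ℂ) = χ.1 g * ((qHom N mu g : ℂˣ) : ℂ)) :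
    lam = mu := by
  have hP : ∀ u ∈ P, qHom N lam u = qHom N mu u := by
    intro u hu
    have h1 := h (u * g₀)
    have h2 := mul_left_cancel₀ (hnz u hu) h1
    have h3 : qHom N lam (u * g₀) = qHom N mu (u * g₀) := Units.ext h2
    rwa [map_mul, map_mul, qHom_apply_of_mem N lam hg₀N, qHom_apply_of_mem N mu hg₀N, mul_one,
      mul_one] at h3
  have hle : N ⊔ P ≤ (qHom N lam).eqLocus (qHom N mu) := by
    apply sup_le
    · intro n hn
      show qHom N lam n = qHom N mu n
      rw [qHom_apply_of_mem N lam hn, qHom_apply_of_mem N mu hn]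
    · intro u hu
      exact hP u hu
  rw [hNP] at hle
  apply MonoidHom.ext
  intro q
  obtain ⟨g, rfl⟩ := QuotientGroup.mk_surjective q
  exact hle (Subgroup.mem_top g)

/-- **Restriction to a normal subgroup of `p`-power index, abelian defect groups.**  Let `B` be
the block of `G` covering the block `b` of `N`, with abelian defect group `P` and `G = N P`.
Then every character of `B` restricts to an irreducible character in `b`, and every character in
`b` has exactly `[G : N]` extensions in `B`. -/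
theorem restrict_of_abelian_defect (hM : IsPModular p M) (θ₀ : IrrCharacter N)
    (χ₀ : IrrCharacter G)
    (hBC : blockOf M χ₀.1 = {χ : IrrCharacter G |
      ∃ μ ∈ blockOf M θ₀.1, classInner (fun n : N => χ.1 n) μ.1 ≠ 0})
    (hcoeff : ∀ g : G, blockCoeff (blockOf M χ₀.1) g = subgroupBlockCoeff N (blockOf M θ₀.1) g)
    (P : Subgroup G) (hPD : IsDefectGroup p M (blockOf M χ₀.1) P)
    (hPab : ∀ x ∈ P, ∀ y ∈ P, x * y = y * x) (hNP : N ⊔ P = ⊤) :
    (∀ χ ∈ blockOf M χ₀.1, ∃ θ ∈ blockOf M θ₀.1, ∀ n : N, χ.1 n = θ.1 n) ∧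
    (∀ θ ∈ blockOf M θ₀.1, Nat.card {χ : IrrCharacter G //
      χ ∈ blockOf M χ₀.1 ∧ ∀ n : N, χ.1 n = θ.1 n} = N.index) := by
  classical
  have hMp := isPrime_of_isPModular hM
  obtain ⟨g₀, hg₀, hnz⟩ := exists_ne_zero_of_abelian_defect hM χ₀ P hPD hPab
  have hg₀N : g₀ ∈ N := by
    by_contra hnot
    apply hg₀.2.1
    rw [hcoeff]
    unfold subgroupBlockCoeff
    rw [dif_neg hnot]
    exact memLocalIdeal_zero hMp
  have hcomm := quotient_comm_of_sup N P hPab hNP
  haveI : Finite (G ⧸ N →* ℂˣ) := (card_hom_of_comm (G ⧸ N) hcomm).1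
  letI : Fintype (G ⧸ N →* ℂˣ) := Fintype.ofFinite _
  have hcardΛ : Nat.card (G ⧸ N →* ℂˣ) = N.index := by
    rw [(card_hom_of_comm (G ⧸ N) hcomm).2, Subgroup.index_eq_card]
  -- twists
  have htw : ∀ (χ : IrrCharacter G) (lam : G ⧸ N →* ℂˣ),
      (Cfsg.Agent.H16.irrTwist χ (qHom N lam)).1
        = fun g => χ.1 g * ((qHom N lam g : ℂˣ) : ℂ) := fun χ lam => rfl
  -- part 1
  have part1 : ∀ χ ∈ blockOf M χ₀.1, ∃ θ ∈ blockOf M θ₀.1, ∀ n : N, χ.1 n = θ.1 n := by
    intro χ hχ
    have hsum := sum_classInner_twist N hcomm χ.1 χ.1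
    have hterm : ∀ lam : G ⧸ N →* ℂˣ,
        classInner χ.1 (fun g => χ.1 g * ((qHom N lam g : ℂˣ) : ℂ))
          = if lam = 1 then 1 else 0 := by
      intro lam
      rw [← htw χ lam, Cfsg.Agent.Clifford.classInner_irr_irr χ.2
        (Cfsg.Agent.H16.irrTwist χ (qHom N lam)).2]
      by_cases hl : lam = 1
      · rw [if_pos hl, if_pos]
        rw [htw, hl]
        funext g
        rw [qHom_apply, MonoidHom.one_apply, Units.val_one, mul_one]
      · rw [if_neg hl, if_neg]
        intro heq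
        apply hl
        apply eq_of_twist_eq N P hNP g₀ hg₀N χ (fun u hu => hnz u hu χ hχ) lam 1
        intro g
        have h1 : χ.1 g = χ.1 g * ((qHom N lam g : ℂˣ) : ℂ) := by
          have h0 := congrFun heq g
          rw [htw] at h0
          exact h0
        rw [← h1, qHom_apply, MonoidHom.one_apply, Units.val_one, mul_one]
    rw [Finset.sum_congr rfl (fun lam _ => hterm lam), Finset.sum_ite_eq' Finset.univ 1,
      if_pos (Finset.mem_univ _)] at hsum
    have hirr : IsIrrCharacter N (fun n : N => χ.1 n) :=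
      isIrrCharacter_of_norm_one (isCharacter_restrict N (isCharacter_of_isIrrCharacter χ.2))
        hsum.symm
    have hχ' : χ ∈ {χ : IrrCharacter G |
        ∃ μ ∈ blockOf M θ₀.1, classInner (fun n : N => χ.1 n) μ.1 ≠ 0} := by
      rw [← hBC]; exact hχ
    obtain ⟨μ, hμ, hover⟩ := hχ'
    have heq := Cfsg.Agent.Clifford.eq_of_classInner_ne_zero hirr μ.2 hover
    exact ⟨μ, hμ, fun n => congrFun heq n⟩
  refine ⟨part1, ?_⟩
  intro θ hθ
  obtain ⟨χf, hχirr, hχover⟩ := Cfsg.Agent.ItoConv.exists_irr_over N θ.2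
  obtain ⟨χ₁, hχ₁def⟩ : ∃ χ : IrrCharacter G, χ = ⟨χf, hχirr⟩ := ⟨_, rfl⟩
  have hover₁ : classInner (fun n : N => χ₁.1 n) θ.1 ≠ 0 := by
    rw [hχ₁def]; exact hχover
  have hχ₁B : χ₁ ∈ blockOf M χ₀.1 := by
    rw [hBC]; exact ⟨θ, hθ, hover₁⟩
  obtain ⟨θ', hθ', hres'⟩ := part1 χ₁ hχ₁B
  have hfun : (fun n : N => χ₁.1 n) = θ'.1 := funext hres'
  have hθθ' : θ'.1 = θ.1 := by
    rw [hfun] at hover₁
    exact Cfsg.Agent.Clifford.eq_of_classInner_ne_zero θ'.2 θ.2 hover₁
  have hres₁ : ∀ n : N, χ₁.1 n = θ.1 n := fun n => by rw [hres' n, hθθ']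
  have hθθ : classInner θ.1 θ.1 = 1 := by
    rw [Cfsg.Agent.Clifford.classInner_irr_irr θ.2 θ.2, if_pos rfl]
  have hrestw : ∀ (lam : G ⧸ N →* ℂˣ) (n : N),
      (Cfsg.Agent.H16.irrTwist χ₁ (qHom N lam)).1 n = θ.1 n := by
    intro lam n
    rw [Cfsg.Agent.H16.irrTwist_apply, qHom_apply_of_mem N lam n.2, Units.val_one, mul_one,
      hres₁ n]
  have hmemtw : ∀ lam : G ⧸ N →* ℂˣ,
      Cfsg.Agent.H16.irrTwist χ₁ (qHom N lam) ∈ blockOf M χ₀.1 := by
    intro lam
    rw [hBC]
    refine ⟨θ, hθ, ?_⟩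
    have hf : (fun n : N => (Cfsg.Agent.H16.irrTwist χ₁ (qHom N lam)).1 n) = θ.1 :=
      funext (hrestw lam)
    rw [hf, hθθ]
    exact one_ne_zero
  obtain ⟨f, hfdef⟩ : ∃ f : (G ⧸ N →* ℂˣ) → {χ : IrrCharacter G //
      χ ∈ blockOf M χ₀.1 ∧ ∀ n : N, χ.1 n = θ.1 n},
      ∀ lam, (f lam : IrrCharacter G) = Cfsg.Agent.H16.irrTwist χ₁ (qHom N lam) :=
    ⟨fun lam => ⟨Cfsg.Agent.H16.irrTwist χ₁ (qHom N lam), hmemtw lam, hrestw lam⟩, fun lam => rfl⟩
  have hbij : Function.Bijective f := by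
    constructor
    · intro lam mu hlm
      have h1 : Cfsg.Agent.H16.irrTwist χ₁ (qHom N lam)
          = Cfsg.Agent.H16.irrTwist χ₁ (qHom N mu) := by
        rw [← hfdef lam, ← hfdef mu, hlm]
      apply eq_of_twist_eq N P hNP g₀ hg₀N χ₁ (fun u hu => hnz u hu χ₁ hχ₁B) lam mu
      intro g
      have h2 := congrFun (congrArg Subtype.val h1) g
      exact h2
    · rintro ⟨χ', hχ', hres''⟩
      have hsum := sum_classInner_twist N hcomm χ'.1 χ₁.1
      have hf1 : (fun n : N => χ'.1 n) = θ.1 := funext hres''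
      have hf2 : (fun n : N => χ₁.1 n) = θ.1 := funext hres₁
      rw [hf1, hf2, hθθ] at hsum
      have hne : ∑ lam : G ⧸ N →* ℂˣ,
          classInner χ'.1 (fun g => χ₁.1 g * ((qHom N lam g : ℂˣ) : ℂ)) ≠ 0 := by
        rw [hsum]; exact one_ne_zero
      obtain ⟨lam, -, hlam⟩ := Finset.exists_ne_zero_of_sum_ne_zero hne
      rw [← htw χ₁ lam] at hlam
      have heq := Cfsg.Agent.Clifford.eq_of_classInner_ne_zero χ'.2
        (Cfsg.Agent.H16.irrTwist χ₁ (qHom N lam)).2 hlam
      refine ⟨lam, ?_⟩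
      apply Subtype.ext
      rw [hfdef lam]
      exact (Subtype.ext heq).symm
  rw [← Nat.card_congr (Equiv.ofBijective f hbij), hcardΛ]

end Main

section Count

variable {G : Type*} [Group G] [Finite G]

/-- Counting a set of characters of `G` by the fibres of restriction to `N`. -/
theorem card_eq_mul_of_fibres (N : Subgroup G) (B : Set (IrrCharacter G))
    (b : Set (IrrCharacter N)) (k : ℕ)
    (h3 : ∀ χ ∈ B, ∃ θ ∈ b, ∀ n : N, χ.1 n = θ.1 n)
    (h4 : ∀ θ ∈ b, Nat.card {χ : IrrCharacter G // χ ∈ B ∧ ∀ n : N, χ.1 n = θ.1 n} = k) :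
    Nat.card B = k * Nat.card b := by
  classical
  haveI : Finite (IrrCharacter G) := finite_irr G
  haveI : Finite (IrrCharacter N) := finite_irr N
  letI : Fintype b := Fintype.ofFinite _
  obtain ⟨r, hr⟩ : ∃ r : B → b, ∀ χ : B, ∀ n : N, (χ : IrrCharacter G).1 n
      = ((r χ : b) : IrrCharacter N).1 n := by
    choose θ hθ hres using h3
    exact ⟨fun χ => ⟨θ χ.1 χ.2, hθ χ.1 χ.2⟩, fun χ n => hres χ.1 χ.2 n⟩
  have hfib : ∀ θ : b, Nat.card {χ : B // r χ = θ} = k := by
    intro θ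
    rw [← h4 θ.1 θ.2]
    apply Nat.card_congr
    refine (Equiv.subtypeEquivRight ?_).trans
      (Equiv.subtypeSubtypeEquivSubtypeInter (fun χ : IrrCharacter G => χ ∈ B)
        (fun χ : IrrCharacter G => ∀ n : N, χ.1 n = (θ : IrrCharacter N).1 n))
    intro χ
    constructor
    · intro h n
      rw [← h]
      exact hr χ n
    · intro h
      apply Subtype.ext
      apply Subtype.ext
      funext n
      rw [← hr χ n]
      exact h n
  rw [← Nat.card_congr (Equiv.sigmaFiberEquiv r), Nat.card_sigma,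
    Finset.sum_congr rfl (fun θ _ => hfib θ), Finset.sum_const, Finset.card_univ, smul_eq_mul,
    Nat.card_eq_fintype_card, mul_comm]

/-- The `p`-regular rank is unchanged by restriction to a subgroup containing all `p`-regular
elements, when restriction maps `B` onto `b`. -/
theorem blockRank_eq_of_restrict (p : ℕ) (N : Subgroup G)
    (hsing : ∀ g : G, g ∉ N → p ∣ orderOf g)
    (B : Set (IrrCharacter G)) (b : Set (IrrCharacter N))
    (h3 : ∀ χ ∈ B, ∃ θ ∈ b, ∀ n : N, χ.1 n = θ.1 n)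
    (h4 : ∀ θ ∈ b, ∃ χ ∈ B, ∀ n : N, χ.1 n = θ.1 n) :
    blockRank p B = blockRank p b := by
  classical
  obtain ⟨E, hE⟩ : ∃ E : (N → ℂ) →ₗ[ℂ] (G → ℂ),
      ∀ (f : N → ℂ) (g : G), E f g = if h : g ∈ N then f ⟨g, h⟩ else 0 :=
    ⟨{ toFun := fun f g => if h : g ∈ N then f ⟨g, h⟩ else 0
       map_add' := by
        intro f f'
        funext g
        by_cases h : g ∈ N
        · simp [h]
        · simp [h]
       map_smul' := by
        intro c f
        funext g
        by_cases h : g ∈ N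
        · simp [h]
        · simp [h] }, fun f g => rfl⟩
  have hinj : Function.Injective E := by
    intro f f' hff
    funext n
    have h1 := congrFun hff (n : G)
    rw [hE, hE, dif_pos n.2, dif_pos n.2] at h1
    exact h1
  have hkey : ∀ (χ : IrrCharacter G) (θ : IrrCharacter N), (∀ n : N, χ.1 n = θ.1 n) →
      E (pRegularPart p θ.1) = pRegularPart p χ.1 := by
    intro χ θ hres
    funext g
    rw [hE]
    by_cases hg : g ∈ N
    · rw [dif_pos hg]
      unfold pRegularPart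
      have hiff : IsPRegular p (⟨g, hg⟩ : N) ↔ IsPRegular p g := by
        unfold IsPRegular
        rw [← Subgroup.orderOf_coe (⟨g, hg⟩ : N)]
      by_cases hreg : IsPRegular p g
      · rw [if_pos hreg, if_pos (hiff.mpr hreg)]
        exact (hres ⟨g, hg⟩).symm
      · rw [if_neg hreg, if_neg (fun h => hreg (hiff.mp h))]
    · rw [dif_neg hg]
      unfold pRegularPart
      rw [if_neg (fun h => h (hsing g hg))]
  have himage : E '' ((fun θ : IrrCharacter N => pRegularPart p (θ : N → ℂ)) '' b)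
      = (fun χ : IrrCharacter G => pRegularPart p (χ : G → ℂ)) '' B := by
    ext v
    constructor
    · rintro ⟨_, ⟨θ, hθ, rfl⟩, rfl⟩
      obtain ⟨χ, hχ, hres⟩ := h4 θ hθ
      exact ⟨χ, hχ, (hkey χ θ hres).symm⟩
    · rintro ⟨χ, hχ, rfl⟩
      obtain ⟨θ, hθ, hres⟩ := h3 χ hχ
      exact ⟨_, ⟨θ, hθ, rfl⟩, hkey χ θ hres⟩
  unfold blockRank
  rw [← himage, ← Submodule.map_span]
  exact (Submodule.equivMapOfInjective E hinj _).finrank_eq.symm

end Count

end Cfsg.Agent.H80
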