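import Mathlib
import Cfsg.Agent.H80.Orbit

set_option autoImplicit false
set_option linter.unusedSectionVars false
set_option linter.style.haveILetI false

/-!
# helper80: nilpotency of the augmentation ideal of a `p`-group in characteristic `p`

* `aug F P`: the augmentation ideal of `F[P]` as an `F`-submodule.
* `aug_nilpotent`: for a finite `p`-group `P` and `CharP F p`, `aug F P ^ N = ⊥` for some `N`.
* `isNilpotent_of_mapDomain_eq_zero`: for a normal `p`-subgroup `P` of `G`, every element of the
  kernel of `F[G] → F[G ⧸ P]` is nilpotent.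
-/

namespace Cfsg.Agent.H80

universe u v

section Aug

variable (F : Type v) [CommRing F]

/-- The augmentation ideal of `F[P]`, as the `F`-submodule spanned by the `u - 1`. -/
noncomputable def aug (P : Type u) [Group P] : Submodule F (MonoidAlgebra F P) :=
  Submodule.span F (Set.range fun u : P => MonoidAlgebra.of F P u - 1)

theorem of_sub_one_mem_aug {P : Type u} [Group P] (u : P) :
    MonoidAlgebra.of F P u - 1 ∈ aug F P :=
  Submodule.subset_span ⟨u, rfl⟩

theorem aug_map_le {P Q : Type u} [Group P] [Group Q] (f : P →* Q) :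
    (aug F P).map (MonoidAlgebra.mapDomainAlgHom F F f).toLinearMap ≤ aug F Q := by
  rw [aug, Submodule.map_span, Submodule.span_le]
  rintro _ ⟨_, ⟨u, rfl⟩, rfl⟩
  have : (MonoidAlgebra.mapDomainAlgHom F F f).toLinearMap (MonoidAlgebra.of F P u - 1)
      = MonoidAlgebra.of F Q (f u) - 1 := by
    show (MonoidAlgebra.mapDomainAlgHom F F f) (MonoidAlgebra.of F P u - 1) = _
    rw [map_sub, map_one]
    congr 1
    simp [MonoidAlgebra.of_apply]
  rw [this]
  exact of_sub_one_mem_aug F (f u)

theorem aug_pow_map_le {P Q : Type u} [Group P] [Group Q] (f : P →* Q) (n : ℕ) :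
    (aug F P ^ n).map (MonoidAlgebra.mapDomainAlgHom F F f).toLinearMap ≤ aug F Q ^ n := by
  rw [Submodule.map_pow]
  exact pow_le_pow_left' (aug_map_le F f) n

/-- Decomposition along coset representatives of the cyclic central subgroup generated by `z`. -/
theorem exists_eq_mapDomain_add_mul {P : Type u} [Group P] [Finite P] (z : P)
    (hz : ∀ g : P, Commute z g) (t : P → P)
    (ht : ∀ g : P, (t g)⁻¹ * g ∈ Subgroup.zpowers z) (x : MonoidAlgebra F P) :
    ∃ b : MonoidAlgebra F P, x = MonoidAlgebra.mapDomain t x + (MonoidAlgebra.of F P z - 1) * b := by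
  induction x using MonoidAlgebra.induction_linear with
  | zero => exact ⟨0, by simp⟩
  | add x y hx hy =>
    obtain ⟨b, hb⟩ := hx
    obtain ⟨c, hc⟩ := hy
    refine ⟨b + c, ?_⟩
    rw [MonoidAlgebra.mapDomain_add, mul_add]
    conv_lhs => rw [hb, hc]
    abel
  | single g r =>
    have h1 := ht g
    rw [← mem_powers_iff_mem_zpowers] at h1
    obtain ⟨i, hi⟩ := (Submonoid.mem_powers_iff _ _).mp h1
    have hcomm : ∀ y : MonoidAlgebra F P, Commute (MonoidAlgebra.of F P z - 1) y := fun y =>
      (MonoidAlgebra.of_commute hz y).sub_left (Commute.one_left y)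
    refine ⟨MonoidAlgebra.single (t g) r * ∑ j ∈ Finset.range i, MonoidAlgebra.of F P z ^ j, ?_⟩
    rw [MonoidAlgebra.mapDomain_single, ← mul_assoc, (hcomm _).eq, mul_assoc, mul_geom_sum,
      mul_sub, mul_one, ← map_pow, hi, MonoidAlgebra.of_apply, MonoidAlgebra.single_mul_single,
      mul_one]
    have : t g * ((t g)⁻¹ * g) = g := by group
    rw [this]
    abel

theorem mapDomain_comp' {R M N O : Type*} [Semiring R] (f : N → O) (g : M → N)
    (x : MonoidAlgebra R M) :
    MonoidAlgebra.mapDomain (f ∘ g) x = MonoidAlgebra.mapDomain f (MonoidAlgebra.mapDomain g x) := by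
  induction x using MonoidAlgebra.induction_linear with
  | zero => simp
  | add x y hx hy => simp only [MonoidAlgebra.mapDomain_add, hx, hy]
  | single m r => simp only [MonoidAlgebra.mapDomain_single, Function.comp]

/-- The kernel of `F[P] → F[P ⧸ ⟨z⟩]`, `z` central, consists of multiples of `z - 1`. -/
theorem exists_mul_of_map_eq_zero {P : Type u} [Group P] [Finite P] (z : P)
    (hz : ∀ g : P, Commute z g) [(Subgroup.zpowers z).Normal] (x : MonoidAlgebra F P)
    (hx : MonoidAlgebra.mapDomain (QuotientGroup.mk' (Subgroup.zpowers z)) x = 0) :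
    ∃ b : MonoidAlgebra F P, x = (MonoidAlgebra.of F P z - 1) * b := by
  obtain ⟨b, hb⟩ := exists_eq_mapDomain_add_mul F z hz
    (fun g => (QuotientGroup.mk g : P ⧸ Subgroup.zpowers z).out) (fun g => by
      rw [← QuotientGroup.eq]; exact QuotientGroup.out_eq' _) x
  refine ⟨b, ?_⟩
  have h0 : MonoidAlgebra.mapDomain
      (fun g => (QuotientGroup.mk g : P ⧸ Subgroup.zpowers z).out) x = 0 := by
    have e : (fun g : P => (QuotientGroup.mk g : P ⧸ Subgroup.zpowers z).out)
        = Quotient.out ∘ (QuotientGroup.mk' (Subgroup.zpowers z)) := rfl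
    rw [e, mapDomain_comp', hx, MonoidAlgebra.mapDomain_zero]
  rw [h0, zero_add] at hb
  exact hb

theorem charP_monoidAlgebra (p : ℕ) [CharP F p] (P : Type u) [Group P] :
    CharP (MonoidAlgebra F P) p :=
  charP_of_injective_ringHom (f := MonoidAlgebra.singleOneRingHom (R := F) (M := P))
    (MonoidAlgebra.single_right_injective) p

/-- The augmentation ideal of a finite `p`-group in characteristic `p` is nilpotent. -/
theorem aug_nilpotent (p : ℕ) [Fact p.Prime] [CharP F p] :
    ∀ (n : ℕ) (P : Type u) [Group P] [Finite P], IsPGroup p P → Nat.card P = n →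
      ∃ N : ℕ, aug F P ^ N = ⊥ := by
  intro n
  induction n using Nat.strong_induction_on with
  | _ n ih =>
    intro P _ _ hP hn
    by_cases htriv : Subsingleton P
    · refine ⟨1, ?_⟩
      rw [pow_one, aug, Submodule.span_eq_bot]
      rintro _ ⟨u, rfl⟩
      have : u = 1 := Subsingleton.elim _ _
      show MonoidAlgebra.of F P u - 1 = 0
      rw [this, map_one, sub_self]
    · rw [not_subsingleton_iff_nontrivial] at htriv
      haveI := htriv
      haveI := hP.center_nontrivial
      obtain ⟨w, hw⟩ := exists_ne (1 : Subgroup.center P)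
      obtain ⟨z, hzdef⟩ : ∃ z : P, z = (w : P) := ⟨_, rfl⟩
      have hzc : z ∈ Subgroup.center P := hzdef ▸ w.2
      have hz1 : z ≠ 1 := by
        intro h
        apply hw
        apply Subtype.ext
        rw [← hzdef, h]; rfl
      have hz : ∀ g : P, Commute z g := fun g => (Subgroup.mem_center_iff.mp hzc g).symm
      have hle : Subgroup.zpowers z ≤ Subgroup.center P := Subgroup.zpowers_le.mpr hzc
      haveI hnorm : (Subgroup.zpowers z).Normal := ⟨fun a ha g => by
        have := Subgroup.mem_center_iff.mp (hle ha) g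
        rw [this, mul_inv_cancel_right]
        exact ha⟩
      have hcardZ : 1 < Nat.card (Subgroup.zpowers z) :=
        (Subgroup.one_lt_card_iff_ne_bot _).mpr (by rw [Ne, Subgroup.zpowers_eq_bot]; exact hz1)
      have hcard : Nat.card (P ⧸ Subgroup.zpowers z) < n := by
        rw [← hn, Subgroup.card_eq_card_quotient_mul_card_subgroup (Subgroup.zpowers z)]
        exact lt_mul_of_one_lt_right Nat.card_pos hcardZ
      obtain ⟨m, hm⟩ := ih _ hcard (P ⧸ Subgroup.zpowers z) (hP.to_quotient _) rfl
      obtain ⟨k, hk⟩ := IsPGroup.iff_orderOf.mp hP z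
      haveI := charP_monoidAlgebra F p P
      have hcomm : ∀ y : MonoidAlgebra F P, Commute (MonoidAlgebra.of F P z - 1) y := fun y =>
        (MonoidAlgebra.of_commute hz y).sub_left (Commute.one_left y)
      have hzero : (MonoidAlgebra.of F P z - 1) ^ p ^ k = 0 := by
        rw [sub_pow_char_pow_of_commute _ _ (Commute.one_right _), one_pow, ← map_pow, ← hk,
          pow_orderOf_eq_one, map_one, sub_self]
      have key : ∀ (j : ℕ) (x : MonoidAlgebra F P), x ∈ (aug F P ^ m) ^ j →
          ∃ b, x = (MonoidAlgebra.of F P z - 1) ^ j * b := by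
        intro j x hx
        induction hx using Submodule.pow_induction_on_left' with
        | algebraMap r => exact ⟨algebraMap F _ r, by simp⟩
        | add x y i hx hy ihx ihy =>
          obtain ⟨b, rfl⟩ := ihx
          obtain ⟨c, rfl⟩ := ihy
          exact ⟨b + c, (mul_add _ _ _).symm⟩
        | mem_mul a ha i x hx ihx =>
          obtain ⟨b, rfl⟩ := ihx
          have ha0 : MonoidAlgebra.mapDomain (QuotientGroup.mk' (Subgroup.zpowers z)) a = 0 := by
            have h1 := aug_pow_map_le F (QuotientGroup.mk' (Subgroup.zpowers z)) m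
              (Submodule.mem_map_of_mem ha)
            rw [hm] at h1
            exact (Submodule.mem_bot F).mp h1
          obtain ⟨c, rfl⟩ := exists_mul_of_map_eq_zero F z hz a ha0
          refine ⟨c * b, ?_⟩
          rw [pow_succ', mul_assoc, mul_assoc, ← mul_assoc c, ((hcomm c).pow_left i).eq.symm,
            mul_assoc]
      refine ⟨m * p ^ k, ?_⟩
      rw [pow_mul, eq_bot_iff]
      intro x hx
      obtain ⟨b, rfl⟩ := key _ x hx
      rw [hzero, zero_mul]
      exact Submodule.zero_mem _

end Aug

section Normal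

variable (F : Type v) [CommRing F] {G : Type u} [Group G]

/-- The span of the elements `g * ι c`, `g : G`, `c ∈ A ⊆ F[P]`. -/
noncomputable def liftSpan (P : Subgroup G) (A : Submodule F (MonoidAlgebra F P)) :
    Submodule F (MonoidAlgebra F G) :=
  Submodule.span F {y | ∃ (g : G) (c : MonoidAlgebra F P), c ∈ A ∧
    y = MonoidAlgebra.of F G g * MonoidAlgebra.mapDomainAlgHom F F P.subtype c}

theorem liftSpan_bot (P : Subgroup G) : liftSpan F P ⊥ = ⊥ := by
  rw [liftSpan, Submodule.span_eq_bot]
  rintro _ ⟨g, c, hc, rfl⟩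
  rw [(Submodule.mem_bot F).mp hc, map_zero, mul_zero]

/-- The kernel of `F[G] → F[G ⧸ P]` lies in `F[G] · aug P`. -/
theorem mem_liftSpan_of_map_eq_zero (P : Subgroup G) [P.Normal] (x : MonoidAlgebra F G)
    (hx : MonoidAlgebra.mapDomain (QuotientGroup.mk' P) x = 0) : x ∈ liftSpan F P (aug F P) := by
  have key : ∀ y : MonoidAlgebra F G,
      y - MonoidAlgebra.mapDomain (fun g => (QuotientGroup.mk g : G ⧸ P).out) y
        ∈ liftSpan F P (aug F P) := by
    intro y
    induction y using MonoidAlgebra.induction_linear with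
    | zero => simp
    | add x y hx hy =>
      rw [MonoidAlgebra.mapDomain_add]
      have : x + y - (MonoidAlgebra.mapDomain (fun g => (QuotientGroup.mk g : G ⧸ P).out) x
          + MonoidAlgebra.mapDomain (fun g => (QuotientGroup.mk g : G ⧸ P).out) y)
          = (x - MonoidAlgebra.mapDomain (fun g => (QuotientGroup.mk g : G ⧸ P).out) x)
            + (y - MonoidAlgebra.mapDomain (fun g => (QuotientGroup.mk g : G ⧸ P).out) y) := by
        abel
      rw [this]
      exact Submodule.add_mem _ hx hy
    | single g r =>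
      rw [MonoidAlgebra.mapDomain_single]
      obtain ⟨t, ht⟩ : ∃ t : G, t = (QuotientGroup.mk g : G ⧸ P).out := ⟨_, rfl⟩
      rw [← ht]
      have hmem : t⁻¹ * g ∈ P := by
        rw [← QuotientGroup.eq, ht]; exact QuotientGroup.out_eq' _
      have e : MonoidAlgebra.single g r - MonoidAlgebra.single t r
          = r • (MonoidAlgebra.of F G t * MonoidAlgebra.mapDomainAlgHom F F P.subtype
              (MonoidAlgebra.of F P ⟨t⁻¹ * g, hmem⟩ - 1)) := by
        rw [map_sub, map_one, mul_sub, mul_one, MonoidAlgebra.of_apply, MonoidAlgebra.of_apply,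
          MonoidAlgebra.mapDomainAlgHom_apply, MonoidAlgebra.mapDomain_single,
          MonoidAlgebra.single_mul_single, mul_one, smul_sub, MonoidAlgebra.smul_single,
          MonoidAlgebra.smul_single, smul_eq_mul, mul_one]
        have : t * P.subtype ⟨t⁻¹ * g, hmem⟩ = g := by
          show t * (t⁻¹ * g) = g
          group
        rw [this]
      rw [e]
      apply Submodule.smul_mem
      apply Submodule.subset_span
      exact ⟨t, _, of_sub_one_mem_aug F _, rfl⟩
  have h0 : MonoidAlgebra.mapDomain (fun g => (QuotientGroup.mk g : G ⧸ P).out) x = 0 := by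
    have e : (fun g : G => (QuotientGroup.mk g : G ⧸ P).out)
        = Quotient.out ∘ (QuotientGroup.mk' P) := rfl
    rw [e, mapDomain_comp', hx, MonoidAlgebra.mapDomain_zero]
  have := key x
  rwa [h0, sub_zero] at this

/-- Moving a group element past an element of `F[P]`, `P` normal. -/
theorem map_mul_of (P : Subgroup G) [P.Normal] (g : G) (c : MonoidAlgebra F P) :
    MonoidAlgebra.mapDomainAlgHom F F P.subtype c * MonoidAlgebra.of F G g
      = MonoidAlgebra.of F G g * MonoidAlgebra.mapDomainAlgHom F F P.subtype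
          (MonoidAlgebra.mapDomainAlgHom F F (MulAut.conjNormal (H := P) g⁻¹).toMonoidHom c) := by
  induction c using MonoidAlgebra.induction_linear with
  | zero => simp
  | add x y hx hy => simp only [map_add, add_mul, mul_add, hx, hy]
  | single u r =>
    simp only [MonoidAlgebra.mapDomainAlgHom_apply, MonoidAlgebra.mapDomain_single,
      MonoidAlgebra.of_apply, MonoidAlgebra.single_mul_single, mul_one, one_mul]
    congr 1
    show (u : G) * g = g * ((MulAut.conjNormal (H := P) g⁻¹ u : P) : G)
    rw [MulAut.conjNormal_apply]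
    group

theorem liftSpan_mul_le (P : Subgroup G) [P.Normal] (k : ℕ) :
    liftSpan F P (aug F P) * liftSpan F P (aug F P ^ k) ≤ liftSpan F P (aug F P ^ (k + 1)) := by
  rw [liftSpan, liftSpan, Submodule.span_mul_span, Submodule.span_le]
  rintro _ ⟨_, ⟨g, c, hc, rfl⟩, _, ⟨g', c', hc', rfl⟩, rfl⟩
  have e : MonoidAlgebra.of F G g * MonoidAlgebra.mapDomainAlgHom F F P.subtype c
      * (MonoidAlgebra.of F G g' * MonoidAlgebra.mapDomainAlgHom F F P.subtype c')
      = MonoidAlgebra.of F G (g * g') * MonoidAlgebra.mapDomainAlgHom F F P.subtype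
        (MonoidAlgebra.mapDomainAlgHom F F (MulAut.conjNormal (H := P) g'⁻¹).toMonoidHom c * c') := by
    rw [map_mul, map_mul, mul_assoc, ← mul_assoc (MonoidAlgebra.mapDomainAlgHom F F P.subtype c),
      map_mul_of, mul_assoc, mul_assoc]
  change (MonoidAlgebra.of F G g * MonoidAlgebra.mapDomainAlgHom F F P.subtype c)
      * (MonoidAlgebra.of F G g' * MonoidAlgebra.mapDomainAlgHom F F P.subtype c')
      ∈ liftSpan F P (aug F P ^ (k + 1))
  rw [e]
  apply Submodule.subset_span
  refine ⟨g * g', _, ?_, rfl⟩
  rw [pow_succ']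
  apply Submodule.mul_mem_mul _ hc'
  exact aug_map_le F _ (Submodule.mem_map_of_mem hc)

theorem pow_mem_liftSpan (P : Subgroup G) [P.Normal] {x : MonoidAlgebra F G}
    (hx : x ∈ liftSpan F P (aug F P)) (k : ℕ) : x ^ (k + 1) ∈ liftSpan F P (aug F P ^ (k + 1)) := by
  induction k with
  | zero => simpa using hx
  | succ k ih =>
    rw [pow_succ' x (k + 1)]
    exact liftSpan_mul_le F P (k + 1) (Submodule.mul_mem_mul hx ih)

/-- For a finite normal `p`-subgroup `P` of `G` and a ring `F` of characteristic `p`, every element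
of the kernel of `F[G] → F[G ⧸ P]` is nilpotent. -/
theorem isNilpotent_of_mapDomain_eq_zero (p : ℕ) [Fact p.Prime] [CharP F p] (P : Subgroup G)
    [P.Normal] [Finite P] (hP : IsPGroup p P) (x : MonoidAlgebra F G)
    (hx : MonoidAlgebra.mapDomain (QuotientGroup.mk' P) x = 0) : IsNilpotent x := by
  obtain ⟨N, hN⟩ := aug_nilpotent F p _ P hP rfl
  refine ⟨N + 1, ?_⟩
  have h1 := pow_mem_liftSpan F P (mem_liftSpan_of_map_eq_zero F P x hx) N
  rw [pow_succ, hN, Submodule.bot_mul, liftSpan_bot] at h1
  exact (Submodule.mem_bot F).mp h1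

theorem mapDomain_finset_sum_single {M N : Type*} (f : M → N) (T : Finset M) :
    MonoidAlgebra.mapDomain f (∑ x ∈ T, MonoidAlgebra.single x (1 : F))
      = ∑ x ∈ T, MonoidAlgebra.single (f x) (1 : F) := by
  classical
  induction T using Finset.induction_on with
  | empty => simp
  | insert a s ha ih =>
    rw [Finset.sum_insert ha, Finset.sum_insert ha, MonoidAlgebra.mapDomain_add,
      MonoidAlgebra.mapDomain_single, ih]

/-- The sum of a `P`-stable finset of `G` disjoint from `C_G(P)` maps to zero in `F[G ⧸ P]`,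
for a `p`-subgroup `P` and `F` of characteristic `p`. -/
theorem mapDomain_sum_eq_zero (p : ℕ) [Fact p.Prime] [CharP F p] (P : Subgroup G)
    [P.Normal] [Finite P] (hP : IsPGroup p P) (T : Finset G)
    (hstab : ∀ x ∈ T, ∀ u ∈ P, u * x * u⁻¹ ∈ T)
    (hfix : ∀ x ∈ T, x ∉ Subgroup.centralizer (P : Set G)) :
    MonoidAlgebra.mapDomain (QuotientGroup.mk' P) (∑ x ∈ T, MonoidAlgebra.single x (1 : F)) = 0 := by
  classical
  rw [mapDomain_finset_sum_single, Finset.sum_comp (fun w : G ⧸ P => MonoidAlgebra.single w (1 : F)) (QuotientGroup.mk' P)]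
  apply Finset.sum_eq_zero
  intro w _
  have hdvd : p ∣ (T.filter (fun x => QuotientGroup.mk' P x = w)).card := by
    apply dvd_card_of_conj p P hP
    · intro x hx u hu
      rw [Finset.mem_filter] at hx ⊢
      refine ⟨hstab x hx.1 u hu, ?_⟩
      rw [map_mul, map_mul, map_inv, hx.2]
      have : QuotientGroup.mk' P u = 1 := (QuotientGroup.eq_one_iff u).mpr hu
      rw [this]; group
    · intro x hx
      exact hfix x (Finset.mem_filter.mp hx).1
  rw [MonoidAlgebra.smul_single, nsmul_one, (CharP.cast_eq_zero_iff F p _).mpr hdvd,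
    MonoidAlgebra.single_zero]

end Normal

end Cfsg.Agent.H80
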