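import Cfsg.Agent.H80.Brauer
import Cfsg.Agent.H82.Rep

set_option autoImplicit false
set_option linter.unusedSectionVars false
set_option linter.style.haveILetI false

/-!
# helper80: automorphisms acting on irreducible characters and blocks; stable blocks

* `autIrr α χ = χ ∘ α⁻¹`, `autIrr_image_blockOf`, `blockCoeff_autIrr_image`.
* `conjAut K x hx`: conjugation by an element of the normalizer as an automorphism of `K`.
* `isConjCharOf_iff`, `stabilizesBlock_iff`.
* `irrSetAction φ`: the action of `Γ` on sets of irreducible characters through `φ : Γ →* MulAut K`.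
* `sum_nonfixed_blocks_mem`: a weight on blocks invariant under a `p`-group sums to an element of
  the local ideal over the non-fixed blocks.
-/

namespace Cfsg.Agent.H80

open Cfsg Cfsg.Agent.H20 Cfsg.Agent.H4

universe u

section Aut

variable {K : Type u} [Group K]

/-- The action of an automorphism on irreducible characters: `χ ↦ χ ∘ α⁻¹`. -/
noncomputable def autIrr (α : MulAut K) (χ : IrrCharacter K) : IrrCharacter K :=
  ⟨fun k => χ.1 (α.symm k), by
    obtain ⟨n, ρ, hirr, hχ⟩ := χ.2
    refine ⟨n, (ρ.comp (α.symm : K ≃* K).toMonoidHom : Representation ℂ K (Fin n → ℂ)),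
      (Cfsg.Agent.H82.irreducible_comp_iff ρ _ (α.symm : K ≃* K).surjective).mpr hirr, ?_⟩
    ext k
    rw [← hχ]
    rfl⟩

theorem autIrr_apply (α : MulAut K) (χ : IrrCharacter K) (k : K) :
    (autIrr α χ).1 k = χ.1 (α.symm k) := rfl

theorem autIrr_one (χ : IrrCharacter K) : autIrr (1 : MulAut K) χ = χ := Subtype.ext rfl

theorem autIrr_mul (α β : MulAut K) (χ : IrrCharacter K) :
    autIrr (α * β) χ = autIrr α (autIrr β χ) := Subtype.ext rfl

theorem autIrr_inv_autIrr (α : MulAut K) (χ : IrrCharacter K) :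
    autIrr α⁻¹ (autIrr α χ) = χ := by
  rw [← autIrr_mul, inv_mul_cancel, autIrr_one]

theorem autIrr_autIrr_inv (α : MulAut K) (χ : IrrCharacter K) :
    autIrr α (autIrr α⁻¹ χ) = χ := by
  rw [← autIrr_mul, mul_inv_cancel, autIrr_one]

theorem autIrr_injective (α : MulAut K) : Function.Injective (autIrr α) := by
  intro χ ψ h
  rw [← autIrr_inv_autIrr α χ, h, autIrr_inv_autIrr]

theorem mem_autIrr_image_iff (α : MulAut K) (A : Set (IrrCharacter K)) (χ : IrrCharacter K) :
    χ ∈ autIrr α '' A ↔ autIrr α⁻¹ χ ∈ A := by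
  constructor
  · rintro ⟨ψ, hψ, rfl⟩
    rwa [autIrr_inv_autIrr]
  · intro h
    exact ⟨_, h, autIrr_autIrr_inv α χ⟩

theorem centralizer_singleton_comap (α : MulAut K) (k : K) :
    (Subgroup.centralizer ({k} : Set K)).comap (α : K ≃* K).toMonoidHom
      = Subgroup.centralizer ({α.symm k} : Set K) := by
  ext x
  rw [Subgroup.mem_comap, Subgroup.mem_centralizer_singleton_iff,
    Subgroup.mem_centralizer_singleton_iff]
  constructor
  · intro h
    have := congrArg α.symm h
    simpa using this
  · intro h
    have := congrArg α h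
    simpa using this

theorem centralChar_autIrr (α : MulAut K) (χ : IrrCharacter K) (k : K) :
    centralChar (autIrr α χ).1 k = centralChar χ.1 (α.symm k) := by
  unfold centralChar
  rw [autIrr_apply, autIrr_apply, map_one, ← centralizer_singleton_comap,
    Subgroup.index_comap_of_surjective _ (α : K ≃* K).surjective]

variable {M : Ideal AlgInt}

theorem sameBlock_autIrr (α : MulAut K) {χ ψ : IrrCharacter K} (h : SameBlock M χ.1 ψ.1) :
    SameBlock M (autIrr α χ).1 (autIrr α ψ).1 := fun g => by
  rw [centralChar_autIrr, centralChar_autIrr]; exact h _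

theorem autIrr_image_blockOf (α : MulAut K) (χ : IrrCharacter K) :
    autIrr α '' blockOf M χ.1 = blockOf M (autIrr α χ).1 := by
  ext θ
  constructor
  · rintro ⟨ψ, hψ, rfl⟩
    exact sameBlock_autIrr α hψ
  · intro hθ
    rw [mem_autIrr_image_iff]
    have h : SameBlock M (autIrr α⁻¹ (autIrr α χ)).1 (autIrr α⁻¹ θ).1 := sameBlock_autIrr α⁻¹ hθ
    rw [autIrr_inv_autIrr] at h
    exact h

theorem isPBlock_autIrr_image (α : MulAut K) {f : Set (IrrCharacter K)} (hf : IsPBlock M f) :
    IsPBlock M (autIrr α '' f) := by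
  obtain ⟨χ, rfl⟩ := hf
  exact ⟨autIrr α χ, autIrr_image_blockOf α χ⟩

/-- A block mapped into itself by an automorphism is fixed by it. -/
theorem autIrr_image_eq_of_subset (hM : M.IsPrime) (α : MulAut K) {f : Set (IrrCharacter K)}
    (hf : IsPBlock M f) (h : autIrr α '' f ⊆ f) : autIrr α '' f = f := by
  obtain ⟨χ, rfl⟩ := hf
  rw [autIrr_image_blockOf]
  exact blockOf_eq_of_mem hM (h ⟨χ, mem_blockOf_self hM χ, rfl⟩)

open scoped ComplexConjugate in
theorem blockCoeff_autIrr_image (α : MulAut K) (A : Set (IrrCharacter K)) (k : K) :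
    blockCoeff (autIrr α '' A) k = blockCoeff A (α.symm k) := by
  unfold blockCoeff
  congr 1
  rw [finsum_mem_image (fun _ _ _ _ h => autIrr_injective α h)]
  apply finsum_congr
  intro χ
  apply finsum_congr
  intro _
  rw [autIrr_apply, autIrr_apply, map_one]

/-- The action of a group on sets of irreducible characters of `K` through a homomorphism to
`MulAut K`. -/
@[reducible] noncomputable def irrSetAction {Γ : Type*} [Group Γ] (φ : Γ →* MulAut K) :
    MulAction Γ (Set (IrrCharacter K)) where
  smul γ A := autIrr (φ γ) '' A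
  one_smul A := by
    show autIrr (φ 1) '' A = A
    rw [map_one]
    ext χ
    rw [mem_autIrr_image_iff, inv_one, autIrr_one]
  mul_smul γ δ A := by
    show autIrr (φ (γ * δ)) '' A = autIrr (φ γ) '' (autIrr (φ δ) '' A)
    rw [map_mul, Set.image_image]
    apply Set.image_congr
    intro χ _
    rw [autIrr_mul]

open scoped Classical in
/-- A weight on blocks that is invariant under a finite `p`-group acting through automorphisms
sums to an element of the local ideal over the blocks that are not fixed. -/
theorem sum_nonfixed_blocks_mem [Fintype K] {Γ : Type*} [Group Γ] [Finite Γ] (p : ℕ)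
    [Fact p.Prime] (hΓ : IsPGroup p Γ) (φ : Γ →* MulAut K) (hM : M.IsPrime)
    (w : Set (IrrCharacter K) → ℂ) (hw : ∀ (A : Set (IrrCharacter K)) (γ : Γ),
      w (autIrr (φ γ) '' A) = w A)
    (hwR : ∀ A ∈ blocksFinset M K, MemLocalIdeal M ((p : ℂ) * w A)) :
    MemLocalIdeal M (∑ A ∈ (blocksFinset M K).filter
      (fun A => ¬ ∀ γ : Γ, autIrr (φ γ) '' A = A), w A) := by
  letI := irrSetAction φ
  have hsmul : ∀ (γ : Γ) (A : Set (IrrCharacter K)), γ • A = autIrr (φ γ) '' A := fun _ _ => rfl
  apply sum_mem_of_pgroup_action p hΓ (localIdeal M hM) w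
  · intro A hA γ
    rw [Finset.mem_filter] at hA ⊢
    refine ⟨?_, fun hfix => hA.2 fun δ => ?_⟩
    · rw [mem_blocksFinset] at hA ⊢
      exact isPBlock_autIrr_image _ hA.1
    · have h1 := hfix (γ * δ * γ⁻¹)
      rw [← hsmul, ← mul_smul, inv_mul_cancel_right, mul_smul] at h1
      rw [← hsmul]
      exact (MulAction.injective γ) h1
  · intro A _ γ
    exact hw A γ
  · intro A hA
    rw [Finset.mem_filter] at hA
    by_contra hcon
    push Not at hcon
    exact hA.2 hcon
  · intro A hA
    rw [Finset.mem_filter] at hA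
    rw [nsmul_eq_mul]
    exact hwR A hA.1

end Aut

/-! ### Conjugation by elements of the normalizer -/

section Conj

variable {G : Type u} [Group G]

/-- Conjugation by an element of the normalizer of `K`, as an automorphism of `K`. -/
noncomputable def conjAut (K : Subgroup G) (x : G) (hx : x ∈ Subgroup.normalizer (K : Set G)) :
    MulAut K := K.normalizerMonoidHom ⟨x, hx⟩

theorem conjAut_apply (K : Subgroup G) (x : G) (hx : x ∈ Subgroup.normalizer (K : Set G))
    (k : K) : ((conjAut K x hx k : K) : G) = x * k * x⁻¹ := rfl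

theorem conjAut_symm_apply (K : Subgroup G) (x : G) (hx : x ∈ Subgroup.normalizer (K : Set G))
    (k : K) : (((conjAut K x hx).symm k : K) : G) = x⁻¹ * k * x := by
  have h : ((conjAut K x hx ((conjAut K x hx).symm k) : K) : G) = (k : G) := by
    rw [MulEquiv.apply_symm_apply]
  rw [conjAut_apply] at h
  rw [← h]
  group

theorem conjAut_inv (K : Subgroup G) (x : G) (hx : x ∈ Subgroup.normalizer (K : Set G)) :
    (conjAut K x hx)⁻¹ = conjAut K x⁻¹ (inv_mem hx) := by
  unfold conjAut
  rw [← map_inv]
  rfl

/-- The normalizer of `Q` normalizes the centralizer of `Q`. -/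
theorem normalizer_le_normalizer_centralizer (Q : Subgroup G) :
    Subgroup.normalizer (Q : Set G)
      ≤ Subgroup.normalizer ((Subgroup.centralizer (Q : Set G) : Subgroup G) : Set G) := by
  have key : ∀ x ∈ Subgroup.normalizer (Q : Set G), ∀ c ∈ Subgroup.centralizer (Q : Set G),
      x * c * x⁻¹ ∈ Subgroup.centralizer (Q : Set G) := by
    intro x hx c hc
    rw [Subgroup.mem_centralizer_iff] at hc ⊢
    intro q hq
    have hq' : x⁻¹ * q * x ∈ (Q : Set G) := by
      have := (Subgroup.mem_normalizer_iff.mp (inv_mem hx) q).mp hq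
      simpa using this
    have h1 := hc _ hq'
    calc q * (x * c * x⁻¹) = x * ((x⁻¹ * q * x) * c) * x⁻¹ := by group
      _ = x * (c * (x⁻¹ * q * x)) * x⁻¹ := by rw [h1]
      _ = x * c * x⁻¹ * q := by group
  intro x hx
  rw [Subgroup.mem_normalizer_iff]
  intro c
  constructor
  · exact key x hx c
  · intro h
    have := key x⁻¹ (inv_mem hx) _ h
    have e : x⁻¹ * (x * c * x⁻¹) * x⁻¹⁻¹ = c := by group
    rwa [e] at this

theorem isConjCharOf_iff (K : Subgroup G) (x : G) (hx : x ∈ Subgroup.normalizer (K : Set G))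
    (χ χ' : IrrCharacter K) :
    IsConjCharOf K x χ.1 χ'.1 ↔ χ' = autIrr (conjAut K x hx) χ := by
  constructor
  · intro h
    apply Subtype.ext
    funext k'
    rw [autIrr_apply]
    apply h
    rw [conjAut_symm_apply]
    group
  · rintro rfl k k' hk
    rw [autIrr_apply]
    have e : (conjAut K x hx).symm k' = k := by
      apply Subtype.ext
      rw [conjAut_symm_apply, hk]
      group
    rw [e]

variable {M : Ideal AlgInt}

/-- For a block `f` of `K`, an element stabilizes `f` iff it normalizes `K` and the corresponding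
automorphism fixes `f`. -/
theorem stabilizesBlock_iff (hM : M.IsPrime) (K : Subgroup G) {f : Set (IrrCharacter K)}
    (hf : IsPBlock M f) (x : G) :
    StabilizesBlock K f x ↔ ∃ hx : x ∈ Subgroup.normalizer (K : Set G),
      autIrr (conjAut K x hx) '' f = f := by
  constructor
  · rintro ⟨hx, h⟩
    refine ⟨hx, autIrr_image_eq_of_subset hM _ hf ?_⟩
    rintro θ ⟨χ, hχ, rfl⟩
    obtain ⟨χ', hχ', hc⟩ := h χ hχ
    rw [isConjCharOf_iff K x hx] at hc
    rw [← hc]
    exact hχ'
  · rintro ⟨hx, h⟩
    refine ⟨hx, fun χ hχ => ⟨autIrr (conjAut K x hx) χ, ?_, (isConjCharOf_iff K x hx _ _).mpr rfl⟩⟩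
    rw [← h]
    exact ⟨χ, hχ, rfl⟩

/-- The idempotent of the conjugate of a set of characters of `K`, inside `ℂ[G]`. -/
theorem coeff_extZero_blockElt_autIrr [Fintype G] (K : Subgroup G) [Fintype K] (x : G)
    (hx : x ∈ Subgroup.normalizer (K : Set G)) (A : Set (IrrCharacter K)) (g : G) :
    (extZero K (blockElt (autIrr (conjAut K x hx) '' A))).coeff g
      = (extZero K (blockElt A)).coeff (x⁻¹ * g * x) := by
  by_cases hg : g ∈ K
  · have hg' : x⁻¹ * g * x ∈ K := by
      have := (Subgroup.mem_normalizer_iff.mp (inv_mem hx) g).mp hg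
      simpa using this
    have e1 := coeff_extZero_coe K (blockElt (autIrr (conjAut K x hx) '' A)) ⟨g, hg⟩
    have e2 := coeff_extZero_coe K (blockElt A) ⟨x⁻¹ * g * x, hg'⟩
    simp only at e1 e2
    rw [e1, e2, coeff_blockElt, coeff_blockElt, blockCoeff_autIrr_image]
    congr 1
    exact Subtype.ext (conjAut_symm_apply K x hx ⟨g, hg⟩)
  · have hg' : x⁻¹ * g * x ∉ K := by
      intro h
      apply hg
      have := (Subgroup.mem_normalizer_iff.mp hx _).mp h
      have e : x * (x⁻¹ * g * x) * x⁻¹ = g := by group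
      rwa [e] at this
    rw [coeff_extZero_of_not_mem K _ hg, coeff_extZero_of_not_mem K _ hg']

end Conj

end Cfsg.Agent.H80
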