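import Mathlib
import Cfsg.Prelude.Def_Characters
import Cfsg.Prelude.Def_Blocks
import Cfsg.Agent.H21.BRDefs
import Cfsg.Agent.S4441
import Cfsg.Agent.S4729
import Cfsg.Agent.S0910
import Cfsg.Agent.H78.DefectZero
import Cfsg.Agent.H21.E2Block
import Cfsg.Agent.H21.SimpleTools
import Cfsg.Agent.H21.ResidueTrick
import Cfsg.Agent.H81.BlockDeg
import Cfsg.Agent.H81.Reg
import Cfsg.Agent.H4.IrrCount

/-!
# S0999-C1 (helper80, for helper21): in a non-cyclic simple group of order `< p ^ 3` with a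
Sylow `p`-subgroup `P` of order `p` (`p` odd), `C(P) = P`.
-/

set_option autoImplicit false
set_option linter.style.haveILetI false
set_option linter.unusedVariables false

namespace Cfsg.Agent.H80.BR

open Cfsg Cfsg.Agent.H21.BR
open scoped ComplexConjugate

theorem c1_common (p D f : ℕ) (hp : p.Prime) (hD0 : 0 < D) (hD : D < p ^ 2) (hf : 2 * p ≤ f)
    (hdvd : f ∣ p * D) (hcop : ¬ p ∣ f) : ∃ g : ℕ, D = f * g ∧ 0 < g ∧ 2 * g < p := by
  have hc : Nat.Coprime f p := ((Nat.Prime.coprime_iff_not_dvd hp).mpr hcop).symm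
  obtain ⟨g, hg⟩ := hc.dvd_of_dvd_mul_left hdvd
  refine ⟨g, hg, ?_, ?_⟩
  · rcases Nat.eq_zero_or_pos g with h | h
    · rw [h, Nat.mul_zero] at hg; omega
    · exact h
  · by_contra hcon
    have h1 : p ≤ 2 * g := by omega
    have h2 : p * p ≤ (2 * g) * p := Nat.mul_le_mul_right p h1
    have h3 : (2 * p) * g ≤ f * g := Nat.mul_le_mul_right g hf
    have h6 : p * p ≤ f * g := by
      calc p * p ≤ (2 * g) * p := h2
        _ = (2 * p) * g := by ring
        _ ≤ f * g := h3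
    rw [← hg] at h6
    rw [sq] at hD
    omega

theorem c1_m_lt (p m n : ℕ) (hn : 1 ≤ n) (hD : m * (1 + n * p) < p ^ 2) : m < p := by
  by_contra h
  have h1 : p ≤ m := by omega
  have h2 : p * (1 + n * p) ≤ m * (1 + n * p) := Nat.mul_le_mul_right _ h1
  have h3 : p * (1 + 1 * p) ≤ p * (1 + n * p) :=
    Nat.mul_le_mul_left _ (Nat.add_le_add_left (Nat.mul_le_mul_right _ hn) _)
  have h4 : p * (1 + 1 * p) = p + p ^ 2 := by ring
  have h5 : p + p ^ 2 ≤ m * (1 + n * p) := by rw [← h4]; exact h3.trans h2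
  omega

theorem c1_plus (p m n f : ℕ) (hp : p.Prime) (hm : 0 < m) (hn : 1 ≤ n)
    (hD : m * (1 + n * p) < p ^ 2) (hf : 2 * p ≤ f)
    (hdvd : f ∣ p * (m * (1 + n * p))) (hmod : (f : ℤ) ≡ 1 [ZMOD p]) :
    f = 1 + n * p ∧ 2 * m < p := by
  have hmlt := c1_m_lt p m n hn hD
  have h2 : (p : ℤ) ∣ 1 - (f : ℤ) := hmod.dvd
  have hcop : ¬ p ∣ f := by
    intro h
    have h1 : (p : ℤ) ∣ (f : ℤ) := Int.natCast_dvd_natCast.mpr h
    have h3 : (p : ℤ) ∣ 1 := by
      have := dvd_add h2 h1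
      simpa using this
    have h4 : p ∣ 1 := by exact_mod_cast h3
    exact hp.one_lt.ne' (Nat.dvd_one.mp h4)
  obtain ⟨g, hg, hg0, hg2⟩ := c1_common p (m * (1 + n * p)) f hp
    (Nat.mul_pos hm (by omega)) hD hf hdvd hcop
  have hg' : (m : ℤ) * (1 + (n : ℤ) * p) = (f : ℤ) * g := by exact_mod_cast hg
  have hz : (p : ℤ) ∣ (g : ℤ) - (m : ℤ) := by
    have : (g : ℤ) - (m : ℤ) = (1 - (f : ℤ)) * g + (p : ℤ) * ((m : ℤ) * n) := by
      linear_combination -hg'
    rw [this]
    exact dvd_add (Dvd.dvd.mul_right h2 _) (dvd_mul_right _ _)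
  have habs : |(g : ℤ) - (m : ℤ)| < (p : ℤ) := by
    rw [abs_lt]; constructor <;> omega
  have hzero := Int.eq_zero_of_abs_lt_dvd hz habs
  have hgm : g = m := by omega
  refine ⟨?_, by omega⟩
  rw [hgm] at hg
  have : m * (1 + n * p) = m * f := by rw [hg]; ring
  exact (Nat.eq_of_mul_eq_mul_left hm this).symm

theorem c1_minus (p m n f : ℕ) (hp : p.Prime) (hm : 0 < m) (hn : 1 ≤ n)
    (hD : m * (1 + n * p) < p ^ 2) (hf : 2 * p ≤ f)
    (hdvd : f ∣ p * (m * (1 + n * p))) (hmod : (f : ℤ) ≡ -1 [ZMOD p]) :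
    p < 2 * m := by
  have hmlt := c1_m_lt p m n hn hD
  have h2 : (p : ℤ) ∣ -1 - (f : ℤ) := hmod.dvd
  have hcop : ¬ p ∣ f := by
    intro h
    have h1 : (p : ℤ) ∣ (f : ℤ) := Int.natCast_dvd_natCast.mpr h
    have h3 : (p : ℤ) ∣ -1 := by
      have := dvd_add h2 h1
      simpa using this
    have h4 : (p : ℤ) ∣ 1 := (dvd_neg).mp h3
    have h5 : p ∣ 1 := by exact_mod_cast h4
    exact hp.one_lt.ne' (Nat.dvd_one.mp h5)
  obtain ⟨g, hg, hg0, hg2⟩ := c1_common p (m * (1 + n * p)) f hp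
    (Nat.mul_pos hm (by omega)) hD hf hdvd hcop
  have hg' : (m : ℤ) * (1 + (n : ℤ) * p) = (f : ℤ) * g := by exact_mod_cast hg
  have hz : (p : ℤ) ∣ (g : ℤ) + (m : ℤ) := by
    have : (g : ℤ) + (m : ℤ) = -((-1 - (f : ℤ)) * g) - (p : ℤ) * ((m : ℤ) * n) := by
      linear_combination hg'
    rw [this]
    exact dvd_sub (dvd_neg.mpr (Dvd.dvd.mul_right h2 _)) (dvd_mul_right _ _)
  have hz' : p ∣ g + m := by exact_mod_cast hz
  have heq : g + m = p := Nat.eq_of_dvd_of_lt_two_mul (by omega) hz' (by omega)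
  omega

theorem c1_exc (p c e n f : ℕ) (ε : ℤ) (hp : p.Prime) (hc : 0 < c) (he2 : 2 ≤ e) (hep : e < p)
    (hn : 1 ≤ n) (hD : c * e * (1 + n * p) < p ^ 2) (hf : 2 * p ≤ f)
    (hdvd : f ∣ p * (c * e * (1 + n * p))) (hmod : (f : ℤ) ≡ ε * (e : ℤ) [ZMOD p])
    (hε : ε = 1 ∨ ε = -1) : ε = 1 ∧ f = e * (1 + n * p) := by
  have hmlt := c1_m_lt p (c * e) n hn hD
  have hc2 : c * 2 ≤ c * e := Nat.mul_le_mul_left c he2
  have h2 : (p : ℤ) ∣ ε * (e : ℤ) - (f : ℤ) := hmod.dvd
  have hpe : ¬ (p : ℤ) ∣ (e : ℤ) := by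
    intro h
    have h' : p ∣ e := by exact_mod_cast h
    have := Nat.le_of_dvd (by omega) h'
    omega
  have hcop : ¬ p ∣ f := by
    intro h
    have h1 : (p : ℤ) ∣ (f : ℤ) := Int.natCast_dvd_natCast.mpr h
    have h3 : (p : ℤ) ∣ ε * (e : ℤ) := by
      have := dvd_add h2 h1
      simpa using this
    rcases hε with h | h
    · rw [h, one_mul] at h3; exact hpe h3
    · rw [h, neg_one_mul] at h3; exact hpe ((dvd_neg).mp h3)
  obtain ⟨g, hg, hg0, hg2⟩ := c1_common p (c * e * (1 + n * p)) f hp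
    (Nat.mul_pos (Nat.mul_pos hc (by omega)) (by omega)) hD hf hdvd hcop
  have hg' : (c : ℤ) * (e : ℤ) * (1 + (n : ℤ) * p) = (f : ℤ) * g := by exact_mod_cast hg
  have hz : (p : ℤ) ∣ (e : ℤ) * (ε * (g : ℤ) - (c : ℤ)) := by
    have : (e : ℤ) * (ε * (g : ℤ) - (c : ℤ)) =
        (ε * (e : ℤ) - (f : ℤ)) * g + (p : ℤ) * ((c : ℤ) * e * n) := by
      linear_combination -hg'
    rw [this]
    exact dvd_add (Dvd.dvd.mul_right h2 _) (dvd_mul_right _ _)
  have hz2 : (p : ℤ) ∣ ε * (g : ℤ) - (c : ℤ) := by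
    rcases Int.Prime.dvd_mul' hp hz with h | h
    · exact absurd h hpe
    · exact h
  rcases hε with h | h
  · refine ⟨h, ?_⟩
    rw [h, one_mul] at hz2
    have habs : |(g : ℤ) - (c : ℤ)| < (p : ℤ) := by
      rw [abs_lt]; constructor <;> omega
    have hzero := Int.eq_zero_of_abs_lt_dvd hz2 habs
    have hgc : g = c := by omega
    rw [hgc] at hg
    have : c * (e * (1 + n * p)) = c * f := by rw [← mul_assoc, hg]; ring
    exact (Nat.eq_of_mul_eq_mul_left hc this).symm
  · exfalso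
    rw [h] at hz2
    have habs : |(-1 : ℤ) * (g : ℤ) - (c : ℤ)| < (p : ℤ) := by
      rw [abs_lt]; constructor <;> omega
    have hzero := Int.eq_zero_of_abs_lt_dvd hz2 habs
    omega

theorem centralizer_eq_of_card_lt {G : Type*} [Group G] [Finite G] [IsSimpleGroup G]
    (hG : ¬ IsCyclic G) (p : ℕ) [Fact p.Prime] (hp2 : p ≠ 2) (P : Sylow p G)
    (hP : Nat.card (P : Subgroup G) = p) (hbig : Nat.card G < p ^ 3) :
    Subgroup.centralizer ((P : Subgroup G) : Set G) = (P : Subgroup G) := by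
  classical
  have hp : p.Prime := Fact.out
  have hp3 : 3 ≤ p := by
    have := hp.two_le
    omega
  have hna : ∃ u v : G, u * v ≠ v * u := by
    by_contra h
    push Not at h
    apply hG
    letI : CommGroup G := { ‹Group G› with mul_comm := h }
    exact IsSimpleGroup.isCyclic
  have hGc : ¬ IsMulCommutative G := by
    intro hc
    obtain ⟨u, v, huv⟩ := hna
    exact huv (hc.is_comm.comm u v)
  have hcyc : IsCyclic (P : Subgroup G) := isCyclic_of_prime_card hP
  have hPC : (P : Subgroup G) ≤ Subgroup.centralizer ((P : Subgroup G) : Set G) := by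
    have hcomm : ∀ a b : (P : Subgroup G), a * b = b * a := fun a b =>
      (IsCyclic.commGroup (α := (P : Subgroup G))).mul_comm a b
    intro x hx y hy
    have := hcomm ⟨y, hy⟩ ⟨x, hx⟩
    exact congrArg Subtype.val this
  by_contra hne
  have hCnp : ¬ IsPGroup p (Subgroup.centralizer ((P : Subgroup G) : Set G)) := by
    intro h
    exact hne (P.is_maximal' h hPC)
  obtain ⟨c, hc⟩ : p ∣ Nat.card (Subgroup.centralizer ((P : Subgroup G) : Set G)) := by
    have := Subgroup.card_dvd_of_le hPC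
    rwa [hP] at this
  have hc2 : 2 ≤ c := by
    rcases Nat.lt_or_ge c 2 with h | h
    · exfalso
      have hpos : 0 < Nat.card (Subgroup.centralizer ((P : Subgroup G) : Set G)) := Nat.card_pos
      interval_cases c
      · omega
      · apply hne
        refine (Subgroup.eq_of_le_of_card_ge hPC ?_).symm
        rw [hc, hP]; omega
    · exact h
  obtain ⟨e, he, he1, hedvd, -⟩ := Cfsg.Agent.H21.simple_sylow_prime_card_NC hGc P hP
  have hCN := Cfsg.Agent.H21.card_centralizer_mul_relIndex_normalizer (P : Subgroup G)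
  rw [← he, hc] at hCN
  have hidx : Nat.card (P : Subgroup G) * (P : Subgroup G).index = Nat.card G :=
    Subgroup.card_mul_index _
  have hm : ¬ p ∣ (P : Subgroup G).index := P.not_dvd_index
  have hN : Nat.card G = p ^ 1 * (P : Subgroup G).index := by rw [pow_one, ← hidx, hP]
  obtain ⟨-, -, -, -, hmod, hne1, -, hNn, -⟩ :=
    Cfsg.Agent.H21.simple_sylow_facts hGc hN hm one_ne_zero P
  obtain ⟨n, hn⟩ : ∃ n, Nat.card (Sylow p G) = 1 + n * p := by
    refine ⟨Nat.card (Sylow p G) / p, ?_⟩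
    have := Nat.div_add_mod (Nat.card (Sylow p G)) p
    rw [hmod] at this
    rw [Nat.mul_comm] at this
    omega
  have hn1 : 1 ≤ n := by
    rcases Nat.eq_zero_or_pos n with h | h
    · rw [h] at hn; omega
    · exact h
  have hGcard : Nat.card G = p * (c * e * (1 + n * p)) := by
    rw [← hNn, ← hCN, hn]; ring
  have hD : c * e * (1 + n * p) < p ^ 2 := by
    rw [hGcard] at hbig
    have : p * (c * e * (1 + n * p)) < p * p ^ 2 := by
      have h3 : p * p ^ 2 = p ^ 3 := by ring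
      rw [h3]; exact hbig
    exact Nat.lt_of_mul_lt_mul_left this
  have he0 : 0 < e := Nat.pos_of_dvd_of_pos hedvd (by omega)
  have he2 : 2 ≤ e := by omega
  have hcelt := c1_m_lt p (c * e) n hn1 hD
  have hce2 : 2 * e ≤ c * e := Nat.mul_le_mul_right e hc2
  have hep : e < p := by omega
  have ht2 : 2 ≤ (p - 1) / e := by
    rw [Nat.le_div_iff_mul_le he0]; omega
  -- characters
  let _ : Fintype G := Fintype.ofFinite G
  have := Cfsg.Agent.H4.finite_irr G
  obtain ⟨M, hM⟩ := Cfsg.Agent.H78.exists_isPModular p hp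
  obtain ⟨X, Y, hB, hdisj, hX, hY, εX, ε, hXp, hε, hYdeg, hYeq, hYsum⟩ :=
    Cfsg.Agent.S4441.result p M hM hp2 P hP e he.symm
  rw [Nat.card_coe_set_eq] at hX hY
  have hXfin : X.Finite := Set.toFinite _
  have hYfin : Y.Finite := Set.toFinite _
  have hval1 : ∀ ζ : IrrCharacter G, (ζ : G → ℂ) 1 = (charDegree (ζ : G → ℂ) : ℂ) :=
    fun ζ => (Cfsg.Agent.H81.irr_charDegree ζ).1
  have hpos : ∀ ζ : IrrCharacter G, 0 < charDegree (ζ : G → ℂ) :=
    fun ζ => (Cfsg.Agent.H81.irr_charDegree ζ).2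
  have h0B : one G ∈ principalBlock M G := Cfsg.Agent.H81.mem_blockOf_self hM (one G)
  have hdeg0 : charDegree ((one G : IrrCharacter G) : G → ℂ) = 1 := by
    have := hval1 (one G)
    rw [Cfsg.Agent.H21.E2Block.triv_apply] at this
    exact_mod_cast this.symm
  have hXB : ∀ χ ∈ X, χ ∈ principalBlock M G := fun χ hχ => by rw [hB]; exact Or.inl hχ
  have hYB : ∀ χ ∈ Y, χ ∈ principalBlock M G := fun χ hχ => by rw [hB]; exact Or.inr hχ
  have hge2 : ∀ χ ∈ principalBlock M G, χ ≠ one G → 2 ≤ charDegree (χ : G → ℂ) := by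
    intro χ hχ hne
    have h1 : charDegree (χ : G → ℂ) ≠ 1 := by
      intro h1
      have hdeg : (χ : G → ℂ) 1 = ((p : ℕ) : ℂ) ^ 0 := by rw [hval1, h1]; simp
      have := Cfsg.Agent.S0910.result p M hM hna χ hχ 0 hdeg
      exact hne (Subtype.ext this)
    have := hpos χ
    omega
  have hreg1 : ¬ p ∣ orderOf (1 : G) := by
    rw [orderOf_one]; exact hp.not_dvd_one
  have hperf : commutator G = ⊤ := by
    have hnorm : (commutator G).Normal := inferInstance
    rcases hnorm.eq_bot_or_eq_top with h | h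
    · exfalso
      rw [commutator_eq_bot_iff_center_eq_top] at h
      obtain ⟨u, v, huv⟩ := hna
      have hv : v ∈ Subgroup.center G := h ▸ Subgroup.mem_top v
      exact huv (Subgroup.mem_center_iff.1 hv u)
    · exact h
  -- non-principal characters of the principal block have degree at least `2 p`
  have hge2p : ∀ χ ∈ principalBlock M G, χ ≠ one G → 2 * p ≤ charDegree (χ : G → ℂ) := by
    intro χ hχ hne1'
    by_contra hlt
    have hlt' : charDegree (χ : G → ℂ) < 2 * p := by omega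
    have h2 := hge2 χ hχ hne1'
    have hχ1 : (χ : G → ℂ) 1 ≠ 1 := by
      rw [hval1]
      intro h
      have : charDegree (χ : G → ℂ) = 1 := by exact_mod_cast h
      omega
    have hfaith : ∀ g : G, (χ : G → ℂ) g = (χ : G → ℂ) 1 → g = 1 := by
      intro g hg
      by_contra hg1
      exact Cfsg.Agent.H21.ResidueTrick.irr_apply_ne_degree χ hχ1 g hg1 hg
    exact hCnp (Cfsg.Agent.S4729.result p M hM hperf P χ hχ hfaith hlt')
  -- the trivial character lies in `X`
  have h0X : one G ∈ X := by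
    by_contra h0X
    have h0Y : one G ∈ Y := by
      rw [hB] at h0B
      rcases h0B with h | h
      · exact absurd h h0X
      · exact h
    have hYall : ∀ θ' ∈ Y, θ' = one G := by
      intro θ' hθ'
      by_contra hne'
      have h1 := hYeq θ' hθ' (one G) h0Y 1 hreg1
      rw [hval1, hval1, hdeg0] at h1
      have h2 : charDegree (θ' : G → ℂ) = 1 := by exact_mod_cast h1
      have := hge2 θ' (hYB θ' hθ') hne'
      omega
    have hYone : (p - 1) / e = 1 := by
      rw [← hY, Set.eq_singleton_iff_unique_mem.2 ⟨h0Y, hYall⟩, Set.ncard_singleton]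
    omega
  have hs0 : εX (one G) = 1 := by
    obtain ⟨h1, h2, -⟩ := hXp _ h0X
    rw [hdeg0] at h2
    have h3 := h2.dvd
    rcases h1 with h1 | h1
    · exact h1
    · exfalso
      rw [h1] at h3
      have h4 : (p : ℤ) ∣ 2 := by
        have : (-1 : ℤ) - ((1 : ℕ) : ℤ) = -2 := by norm_num
        rw [this] at h3
        exact (dvd_neg).1 h3
      have h5 : p ∣ 2 := by exact_mod_cast h4
      have := Nat.le_of_dvd (by norm_num) h5
      omega
  -- an exceptional character
  have hYne : Y.Nonempty := by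
    rw [← Set.ncard_pos hYfin]
    omega
  obtain ⟨θ0, hθ0⟩ := hYne
  have hθ0ne : θ0 ≠ one G := by
    intro h
    exact Set.disjoint_left.1 hdisj h0X (h ▸ hθ0)
  have hdvdG : ∀ χ : IrrCharacter G, charDegree (χ : G → ℂ) ∣ p * (c * e * (1 + n * p)) := by
    intro χ
    rw [← hGcard]
    exact Cfsg.Agent.H81.irr_charDegree_dvd χ
  obtain ⟨hε1, hf0⟩ := c1_exc p c e n (charDegree (θ0 : G → ℂ)) ε hp (by omega) he2 hep hn1 hD
    (hge2p θ0 (hYB θ0 hθ0) hθ0ne) (hdvdG θ0) (hYdeg θ0 hθ0) hε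
  -- the relation at `1`
  have hrel := hYsum θ0 hθ0 1 hreg1
  rw [finsum_mem_eq_finite_toFinset_sum _ hXfin] at hrel
  simp only [hval1] at hrel
  rw [hf0, hε1] at hrel
  have hrel' : ((e * (1 + n * p) : ℕ) : ℤ) =
      ∑ χ ∈ hXfin.toFinset, εX χ * (charDegree (χ : G → ℂ) : ℤ) := by
    have h : (((e * (1 + n * p) : ℕ) : ℤ) : ℂ) =
        ((∑ χ ∈ hXfin.toFinset, εX χ * (charDegree (χ : G → ℂ) : ℤ) : ℤ) : ℂ) := by
      push_cast
      push_cast at hrel
      rw [← hrel]; ring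
    exact_mod_cast h
  have h0Xf : one G ∈ hXfin.toFinset := by rw [Set.Finite.mem_toFinset]; exact h0X
  have hcardXf : hXfin.toFinset.card = e := by rw [← Set.ncard_eq_toFinset_card _ hXfin, hX]
  have hsplit : ∑ χ ∈ hXfin.toFinset, εX χ * (charDegree (χ : G → ℂ) : ℤ) =
      1 + ∑ χ ∈ hXfin.toFinset.erase (one G), εX χ * (charDegree (χ : G → ℂ) : ℤ) := by
    rw [← Finset.add_sum_erase hXfin.toFinset _ h0Xf, hs0, hdeg0]; simp
  have hother : ∀ χ ∈ hXfin.toFinset.erase (one G), χ ∈ X ∧ χ ≠ one G := by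
    intro χ hχ
    rw [Finset.mem_erase, Set.Finite.mem_toFinset] at hχ
    exact ⟨hχ.2, hχ.1⟩
  have hce0 : 0 < c * e := Nat.mul_pos (by omega) he0
  rcases Nat.lt_or_ge (2 * (c * e)) p with hlt | hge
  · have hterm : ∀ χ ∈ hXfin.toFinset.erase (one G),
        εX χ * (charDegree (χ : G → ℂ) : ℤ) = ((1 + n * p : ℕ) : ℤ) := by
      intro χ hχ
      obtain ⟨hχX, hχne⟩ := hother χ hχ
      obtain ⟨hpm, hmodχ, -⟩ := hXp χ hχX
      have hdeg2p := hge2p χ (hXB χ hχX) hχne
      rcases hpm with h1 | h1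
      · rw [h1] at hmodχ ⊢
        obtain ⟨hf, -⟩ := c1_plus p (c * e) n _ hp hce0 hn1 hD hdeg2p (hdvdG χ) hmodχ
        rw [hf]; simp
      · exfalso
        rw [h1] at hmodχ
        have := c1_minus p (c * e) n _ hp hce0 hn1 hD hdeg2p (hdvdG χ) hmodχ
        omega
    rw [hsplit, Finset.sum_congr rfl hterm, Finset.sum_const, Finset.card_erase_of_mem h0Xf,
      hcardXf] at hrel'
    have hcast : ((e - 1 : ℕ) : ℤ) = (e : ℤ) - 1 := by
      rw [Nat.cast_sub (by omega)]; simp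
    rw [nsmul_eq_mul, hcast] at hrel'
    push_cast at hrel'
    have h0 : (n : ℤ) * p = 0 := by linear_combination hrel'
    have hpos' : (0 : ℤ) < (n : ℤ) * (p : ℤ) := by exact_mod_cast Nat.mul_pos hn1 hp.pos
    omega
  · have hgt : p < 2 * (c * e) := by
      rcases Nat.lt_or_ge p (2 * (c * e)) with h | h
      · exact h
      · exfalso
        have h' : p = 2 * (c * e) := by omega
        have h2 : 2 ∣ p := ⟨c * e, h'⟩
        have := (Nat.prime_dvd_prime_iff_eq Nat.prime_two hp).mp h2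
        omega
    have hterm : ∀ χ ∈ hXfin.toFinset.erase (one G),
        εX χ * (charDegree (χ : G → ℂ) : ℤ) ≤ 0 := by
      intro χ hχ
      obtain ⟨hχX, hχne⟩ := hother χ hχ
      obtain ⟨hpm, hmodχ, -⟩ := hXp χ hχX
      have hdeg2p := hge2p χ (hXB χ hχX) hχne
      rcases hpm with h1 | h1
      · exfalso
        rw [h1] at hmodχ
        obtain ⟨-, hh⟩ := c1_plus p (c * e) n _ hp hce0 hn1 hD hdeg2p (hdvdG χ) hmodχ
        omega
      · rw [h1]
        have : (0 : ℤ) ≤ (charDegree (χ : G → ℂ) : ℤ) := Int.natCast_nonneg _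
        linarith
    have hsum := Finset.sum_nonpos hterm
    rw [hsplit] at hrel'
    have h2' : (2 : ℤ) ≤ ((e * (1 + n * p) : ℕ) : ℤ) := by
      have : 2 ≤ e * (1 + n * p) := by nlinarith
      exact_mod_cast this
    linarith

example {G : Type*} [Group G] [Finite G] [IsSimpleGroup G]
    (hG : ¬ IsCyclic G) (p : ℕ) [Fact p.Prime] (hp2 : p ≠ 2) (P : Sylow p G)
    (hP : Nat.card (P : Subgroup G) = p) (hbig : Nat.card G < p ^ 3) :
    Subgroup.centralizer ((P : Subgroup G) : Set G) = (P : Subgroup G) :=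
  centralizer_eq_of_card_lt hG p hp2 P hP hbig

end Cfsg.Agent.H80.BR
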