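import Mathlib

/-!
# BRM-NE (team project S0996 / S4700, helper21)

`P` a self-centralizing Sylow `p`-subgroup of order `p`, `|N(P)| = p e`, and every element of
`N(P) ∖ P` normalizes exactly `n + 1` Sylow `p`-subgroups: then `(n + 1) e` divides `|G|`
(the order of the normalizer of a complement of `P` in `N(P)`).
-/

set_option autoImplicit false

namespace Cfsg.Agent.H80.BRM

/-- a cyclic complement of `P` in its normalizer -/
theorem exists_cyclic_complement {G : Type*} [Group G] [Finite G] (p : ℕ) [Fact p.Prime]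
    (P : Sylow p G) (hP : Nat.card (P : Subgroup G) = p)
    (hC : Subgroup.centralizer ((P : Subgroup G) : Set G) = (P : Subgroup G))
    (e : ℕ) (hN : Nat.card (Subgroup.normalizer ((P : Subgroup G) : Set G)) = p * e) :
    ¬ p ∣ e ∧ ∃ s ∈ Subgroup.normalizer ((P : Subgroup G) : Set G), orderOf s = e ∧
      ∀ a ∈ Subgroup.normalizer ((P : Subgroup G) : Set G),
        ∃ x ∈ (P : Subgroup G), ∃ j : ℤ, a = x * s ^ j := by
  classical
  have hp : p.Prime := Fact.out
  set N := Subgroup.normalizer ((P : Subgroup G) : Set G) with hNdef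
  have hPN : (P : Subgroup G) ≤ N := Subgroup.le_normalizer
  have hcardsub : Nat.card ((P : Subgroup G).subgroupOf N) = p :=
    (Nat.card_congr (Subgroup.subgroupOfEquivOfLe hPN).toEquiv).trans hP
  have hidx : ((P : Subgroup G).subgroupOf N).index = e := by
    have h1 := Subgroup.card_mul_index ((P : Subgroup G).subgroupOf N)
    rw [hcardsub, hN] at h1
    exact Nat.eq_of_mul_eq_mul_left hp.pos h1
  have hpe : ¬ p ∣ e := by
    intro hdvd
    apply P.not_dvd_index
    have h1 : (P : Subgroup G).relIndex N * N.index = (P : Subgroup G).index :=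
      Subgroup.relIndex_mul_index hPN
    rw [← h1]
    have h2 : (P : Subgroup G).relIndex N = e := hidx
    rw [h2]
    exact Dvd.dvd.mul_right hdvd _
  refine ⟨hpe, ?_⟩
  have hnormal : ((P : Subgroup G).subgroupOf N).Normal := Subgroup.normal_in_normalizer
  have hcop : Nat.Coprime (Nat.card ((P : Subgroup G).subgroupOf N))
      ((P : Subgroup G).subgroupOf N).index := by
    rw [hcardsub, hidx]
    exact (Nat.Prime.coprime_iff_not_dvd hp).2 hpe
  obtain ⟨K, hK⟩ := Subgroup.exists_right_complement'_of_coprime hcop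
  have hKcard : Nat.card K = e := by
    have h1 := hK.card_mul_card
    rw [hcardsub, hN] at h1
    exact Nat.eq_of_mul_eq_mul_left hp.pos h1
  have hPcyc : IsCyclic ↥(P : Subgroup G) := isCyclic_of_prime_card hP
  have hZcyc : IsCyclic (ZMod (Nat.card (P : Subgroup G)))ˣ :=
    ZMod.isCyclic_units_prime (by rw [hP]; exact hp)
  have hAcyc : IsCyclic (MulAut ↥(P : Subgroup G)) :=
    isCyclic_of_injective (IsCyclic.mulAutMulEquiv ↥(P : Subgroup G)).toMonoidHom
      (IsCyclic.mulAutMulEquiv ↥(P : Subgroup G)).injective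
  let f : ↥K →* MulAut ↥(P : Subgroup G) :=
    (Subgroup.normalizerMonoidHom (P : Subgroup G)).comp K.subtype
  have hf : Function.Injective f := by
    rw [injective_iff_map_eq_one]
    rintro ⟨r, hr⟩ hr1
    have h1 : r ∈ (Subgroup.normalizerMonoidHom (P : Subgroup G)).ker := hr1
    rw [Subgroup.normalizerMonoidHom_ker, hC] at h1
    have h2 : r ∈ ((P : Subgroup G).subgroupOf N) ⊓ K := ⟨h1, hr⟩
    rw [hK.disjoint.eq_bot] at h2
    apply Subtype.ext
    exact Subgroup.mem_bot.1 h2
  have hKcyc : IsCyclic ↥K := isCyclic_of_injective f hf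
  obtain ⟨t, ht⟩ := hKcyc.exists_generator
  refine ⟨((t : ↥N) : G), (t : ↥N).2, ?_, ?_⟩
  · rw [Subgroup.orderOf_coe, Subgroup.orderOf_coe, orderOf_eq_card_of_forall_mem_zpowers ht,
      hKcard]
  · intro a ha
    obtain ⟨⟨x, k⟩, hxk, -⟩ := hK.existsUnique ⟨a, ha⟩
    obtain ⟨j, hj⟩ := Subgroup.mem_zpowers_iff.1 (ht ⟨k.1, k.2⟩)
    refine ⟨((x.1 : ↥N) : G), Subgroup.mem_subgroupOf.1 x.2, j, ?_⟩
    have h1 : ((x.1 : ↥N) : G) * ((k.1 : ↥N) : G) = a := congrArg Subtype.val hxk
    rw [← h1]
    congr 1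
    have h2 := congrArg (fun z : ↥K => ((z : ↥N) : G)) hj
    simpa using h2.symm

theorem card_normalizer_complement_dvd {G : Type*} [Group G] [Finite G] (p : ℕ) [Fact p.Prime]
    (P : Sylow p G) (hP : Nat.card (P : Subgroup G) = p)
    (hC : Subgroup.centralizer ((P : Subgroup G) : Set G) = (P : Subgroup G))
    (e n : ℕ) (he2 : 2 ≤ e)
    (hN : Nat.card (Subgroup.normalizer ((P : Subgroup G) : Set G)) = p * e)
    (hfix : ∀ s ∈ Subgroup.normalizer ((P : Subgroup G) : Set G), s ∉ (P : Subgroup G) →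
      Nat.card {Q : Sylow p G // s ∈ Subgroup.normalizer ((Q : Subgroup G) : Set G)} = n + 1) :
    (n + 1) * e ∣ Nat.card G := by
  classical
  have hp : p.Prime := Fact.out
  obtain ⟨hpe, s, hsN, hse, hgen⟩ := exists_cyclic_complement p P hP hC e hN
  set N := Subgroup.normalizer ((P : Subgroup G) : Set G) with hNdef
  have hPN : (P : Subgroup G) ≤ N := Subgroup.le_normalizer
  have hcop : Nat.Coprime e p := (Nat.Prime.coprime_iff_not_dvd hp).2 hpe |>.symm
  -- elements of `P`
  have hPord : ∀ x ∈ (P : Subgroup G), x ^ p = 1 := by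
    intro x hx
    have h1 : (⟨x, hx⟩ : ↥(P : Subgroup G)) ^ Nat.card ↥(P : Subgroup G) = 1 :=
      pow_card_eq_one'
    rw [hP] at h1
    exact congrArg Subtype.val h1
  have hPgen : ∀ x ∈ (P : Subgroup G), x ≠ 1 → (P : Subgroup G) = Subgroup.zpowers x := by
    intro x hx hx1
    symm
    apply Subgroup.eq_of_le_of_card_ge (by rw [Subgroup.zpowers_le]; exact hx)
    rw [Nat.card_zpowers, hP]
    have h1 : orderOf x ∣ p := orderOf_dvd_of_pow_eq_one (hPord x hx)
    rcases (Nat.dvd_prime hp).1 h1 with h2 | h2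
    · exact absurd (orderOf_eq_one_iff.1 h2) hx1
    · exact h2.ge
  have hcent : ∀ x ∈ (P : Subgroup G), x ≠ 1 → ∀ a : G, a * x = x * a →
      a ∈ (P : Subgroup G) := by
    intro x hx hx1 a hax
    rw [← hC, Subgroup.mem_centralizer_iff]
    intro y hy
    have hy' : y ∈ Subgroup.zpowers x := by rw [← hPgen x hx hx1]; exact hy
    obtain ⟨k, rfl⟩ := Subgroup.mem_zpowers_iff.1 hy'
    have hcomm : Commute a x := hax
    exact (hcomm.zpow_right k).eq.symm
  have hconj : ∀ a ∈ N, ∀ x ∈ (P : Subgroup G), a * x * a⁻¹ ∈ (P : Subgroup G) :=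
    fun a ha x hx => (Subgroup.mem_normalizer_iff.1 ha x).1 hx
  -- `E = zpowers s`
  have hEcard : Nat.card (Subgroup.zpowers s) = e := by rw [Nat.card_zpowers, hse]
  have hEP : ∀ t ∈ Subgroup.zpowers s, t ∈ (P : Subgroup G) → t = 1 := by
    intro t htE htP
    have h1 : orderOf t ∣ e := by
      have h2 : orderOf (⟨t, htE⟩ : ↥(Subgroup.zpowers s)) ∣ Nat.card (Subgroup.zpowers s) :=
        orderOf_dvd_natCard _
      rw [hEcard, Subgroup.orderOf_mk] at h2
      exact h2
    have h3 : orderOf t ∣ p := orderOf_dvd_of_pow_eq_one (hPord t htP)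
    have h4 : orderOf t ∣ 1 := by
      have := Nat.dvd_gcd h1 h3
      rwa [Nat.Coprime.gcd_eq_one hcop] at this
    exact orderOf_eq_one_iff.1 (Nat.dvd_one.1 h4)
  have hs1 : s ≠ 1 := by
    intro h
    rw [h, orderOf_one] at hse
    omega
  have hsP : s ∉ (P : Subgroup G) := fun h => hs1 (hEP s (Subgroup.mem_zpowers s) h)
  have hEN : Subgroup.zpowers s ≤ N := by rw [Subgroup.zpowers_le]; exact hsN
  -- Sylow subgroups normalized by `s`
  have hnorm_iff : ∀ (g : G) (Q : Sylow p G),
      g ∈ Subgroup.normalizer ((Q : Subgroup G) : Set G) ↔ g • Q = Q :=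
    fun g Q => Sylow.smul_eq_iff_mem_normalizer.symm
  have hsm : ∀ (g : G) (Q : Sylow p G), s ∈ Subgroup.normalizer (((g • Q : Sylow p G) :
      Subgroup G) : Set G) ↔ g⁻¹ * s * g ∈ Subgroup.normalizer ((Q : Subgroup G) : Set G) := by
    intro g Q
    rw [hnorm_iff, hnorm_iff, mul_smul, mul_smul, inv_smul_eq_iff]
  set M := Subgroup.normalizer ((Subgroup.zpowers s : Subgroup G) : Set G) with hMdef
  have hEM : Subgroup.zpowers s ≤ M := Subgroup.le_normalizer
  -- the orbit of `P` under `M`
  have horb : ∀ Q : Sylow p G, Q ∈ MulAction.orbit ↥M P ↔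
      s ∈ Subgroup.normalizer ((Q : Subgroup G) : Set G) := by
    intro Q
    constructor
    · rintro ⟨⟨m, hm⟩, rfl⟩
      show s ∈ Subgroup.normalizer (((m • P : Sylow p G) : Subgroup G) : Set G)
      rw [hsm]
      apply hEN
      have hm' : m⁻¹ ∈ M := M.inv_mem hm
      have h1 := (Subgroup.mem_normalizer_iff.1 hm' s).1 (Subgroup.mem_zpowers s)
      rwa [inv_inv] at h1
    · intro hQ
      obtain ⟨g, rfl⟩ := MulAction.exists_smul_eq G P Q
      rw [hsm] at hQ
      obtain ⟨x₀, hx₀, j, hj⟩ := hgen _ hQ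
      -- `u = s ^ j`
      have huE : s ^ j ∈ Subgroup.zpowers s := Subgroup.zpow_mem_zpowers s j
      have huN : s ^ j ∈ N := hEN huE
      have huP : s ^ j ∉ (P : Subgroup G) := by
        intro h
        have h1 : g⁻¹ * s * g ∈ (P : Subgroup G) := by
          rw [hj]; exact (P : Subgroup G).mul_mem hx₀ h
        have h2 := hPord _ h1
        have h3 : g⁻¹ * s ^ p * g = 1 := by
          rw [← h2]
          have := conj_pow (a := g⁻¹) (b := s) (i := p)
          rw [inv_inv] at this
          exact this.symm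
        have h4 : s ^ p = 1 := by
          have : s ^ p = g * (g⁻¹ * s ^ p * g) * g⁻¹ := by group
          rw [this, h3]; group
        have h5 : e ∣ p := by rw [← hse]; exact orderOf_dvd_of_pow_eq_one h4
        rcases (Nat.dvd_prime hp).1 h5 with h6 | h6
        · omega
        · exact hpe (h6 ▸ dvd_refl e)
      -- the commutator map on `P`
      let c : ↥(P : Subgroup G) → ↥(P : Subgroup G) := fun y =>
        ⟨(y : G) * (s ^ j * (y : G)⁻¹ * (s ^ j)⁻¹),
          (P : Subgroup G).mul_mem y.2 (hconj _ huN _ ((P : Subgroup G).inv_mem y.2))⟩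
      have hcinj : Function.Injective c := by
        intro y y' hyy
        have h1 : (y : G) * (s ^ j * (y : G)⁻¹ * (s ^ j)⁻¹) =
            (y' : G) * (s ^ j * (y' : G)⁻¹ * (s ^ j)⁻¹) := congrArg Subtype.val hyy
        by_contra hne
        have hz : ((y' : G)⁻¹ * (y : G)) ∈ (P : Subgroup G) :=
          (P : Subgroup G).mul_mem ((P : Subgroup G).inv_mem y'.2) y.2
        have hz1 : ((y' : G)⁻¹ * (y : G)) ≠ 1 := by
          intro h
          apply hne
          apply Subtype.ext
          have : (y : G) = (y' : G) * ((y' : G)⁻¹ * (y : G)) := by group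
          rw [this, h, mul_one]
        apply huP
        apply hcent _ hz hz1
        have h2 : (y' : G)⁻¹ * (y : G) * s ^ j * (y : G)⁻¹ * (y' : G) = s ^ j := by
          have : (y' : G)⁻¹ * (y : G) * s ^ j * (y : G)⁻¹ * (y' : G) =
              (y' : G)⁻¹ * ((y : G) * (s ^ j * (y : G)⁻¹ * (s ^ j)⁻¹)) * s ^ j * (y' : G) := by
            group
          rw [this, h1]; group
        calc s ^ j * ((y' : G)⁻¹ * (y : G))
            = ((y' : G)⁻¹ * (y : G) * s ^ j * (y : G)⁻¹ * (y' : G)) *
                ((y' : G)⁻¹ * (y : G)) := by rw [h2]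
          _ = (y' : G)⁻¹ * (y : G) * s ^ j := by group
      have hcsurj : Function.Surjective c := Finite.injective_iff_surjective.1 hcinj
      obtain ⟨y, hy⟩ := hcsurj ⟨x₀, hx₀⟩
      have hy' : (y : G) * (s ^ j * (y : G)⁻¹ * (s ^ j)⁻¹) = x₀ := congrArg Subtype.val hy
      -- `m = g * y` conjugates `s ^ j` to `s`
      have hm1 : (g * (y : G)) * s ^ j * (g * (y : G))⁻¹ = s := by
        have h1 : (y : G) * s ^ j * (y : G)⁻¹ = x₀ * s ^ j := by
          rw [← hy']; group
        have h2 : (g * (y : G)) * s ^ j * (g * (y : G))⁻¹ =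
            g * ((y : G) * s ^ j * (y : G)⁻¹) * g⁻¹ := by group
        rw [h2, h1, ← hj]; group
      have hzp : Subgroup.zpowers (s ^ j) = Subgroup.zpowers s := by
        apply Subgroup.eq_of_le_of_card_ge (by rw [Subgroup.zpowers_le]; exact huE)
        rw [Nat.card_zpowers, Nat.card_zpowers]
        have h1 : orderOf ((g * (y : G)) * s ^ j * (g * (y : G))⁻¹) = orderOf (s ^ j) :=
          MulEquiv.orderOf_eq (MulAut.conj (g * (y : G))) (s ^ j)
        rw [hm1] at h1
        exact h1.le
      have hmM : g * (y : G) ∈ M := by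
        rw [hMdef, Subgroup.mem_normalizer_iff]
        intro h
        constructor
        · intro hh
          rw [← hzp] at hh
          obtain ⟨k, rfl⟩ := Subgroup.mem_zpowers_iff.1 hh
          rw [← conj_zpow, hm1]
          exact Subgroup.zpow_mem_zpowers s k
        · intro hh
          obtain ⟨k, hk⟩ := Subgroup.mem_zpowers_iff.1 hh
          rw [← hm1, conj_zpow] at hk
          have h1 : (s ^ j) ^ k = h := by
            have e1 : (g * (y : G))⁻¹ * ((g * (y : G)) * (s ^ j) ^ k * (g * (y : G))⁻¹) *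
                (g * (y : G)) = (s ^ j) ^ k := by group
            rw [← e1, hk]
            group
          rw [← hzp, ← h1]
          exact Subgroup.zpow_mem_zpowers _ k
      refine ⟨⟨g * (y : G), hmM⟩, ?_⟩
      show (g * (y : G)) • P = g • P
      rw [mul_smul]
      congr 1
      exact (hnorm_iff _ P).1 (hPN y.2)
  have horbcard : Nat.card (MulAction.orbit ↥M P) = n + 1 := by
    rw [← hfix s hsN hsP]
    exact Nat.card_congr (Equiv.subtypeEquivRight horb)
  -- the stabilizer of `P` in `M`
  have hstab : (MulAction.stabilizer ↥M P).map M.subtype = Subgroup.zpowers s := by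
    ext a
    rw [Subgroup.mem_map]
    constructor
    · rintro ⟨⟨m, hm⟩, hmst, rfl⟩
      show m ∈ Subgroup.zpowers s
      have hmN : m ∈ N := (hnorm_iff m P).2 (MulAction.mem_stabilizer_iff.1 hmst)
      obtain ⟨x, hx, j, hj⟩ := hgen m hmN
      have hxM : x ∈ M := by
        have : x = m * (s ^ j)⁻¹ := by rw [hj]; group
        rw [this]
        exact M.mul_mem hm (M.inv_mem (hEM (Subgroup.zpow_mem_zpowers s j)))
      have h1 : x * s * x⁻¹ ∈ Subgroup.zpowers s :=
        (Subgroup.mem_normalizer_iff.1 hxM s).1 (Subgroup.mem_zpowers s)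
      have h2 : x * s * x⁻¹ * s⁻¹ ∈ Subgroup.zpowers s :=
        Subgroup.mul_mem _ h1 (Subgroup.inv_mem _ (Subgroup.mem_zpowers s))
      have h3 : x * s * x⁻¹ * s⁻¹ ∈ (P : Subgroup G) := by
        have : x * s * x⁻¹ * s⁻¹ = x * (s * x⁻¹ * s⁻¹) := by group
        rw [this]
        exact (P : Subgroup G).mul_mem hx (hconj s hsN _ ((P : Subgroup G).inv_mem hx))
      have h4 := hEP _ h2 h3
      have hx1 : x = 1 := by
        by_contra hx1
        apply hsP
        apply hcent x hx hx1
        have : s * x = (x * s * x⁻¹ * s⁻¹)⁻¹ * (x * s) := by group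
        rw [this, h4, inv_one, one_mul]
      rw [hj, hx1, one_mul]
      exact Subgroup.zpow_mem_zpowers s j
    · intro ha
      refine ⟨⟨a, hEM ha⟩, ?_, rfl⟩
      rw [MulAction.mem_stabilizer_iff]
      exact (hnorm_iff _ P).1 (hEN ha)
  have hstabcard : Nat.card (MulAction.stabilizer ↥M P) = e := by
    rw [← hEcard, ← hstab]
    exact (Subgroup.card_map_of_injective M.subtype_injective).symm
  have hMcard : Nat.card ↥M = (n + 1) * e := by
    rw [← Nat.card_congr (MulAction.orbitProdStabilizerEquivGroup ↥M P), Nat.card_prod,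
      horbcard, hstabcard]
  rw [← hMcard]
  exact Subgroup.card_subgroup_dvd_card M

/-- verbatim check of the posted statement (BRM-NE) -/
example {G : Type*} [Group G] [Finite G] (p : ℕ) [Fact p.Prime]
    (P : Sylow p G) (hP : Nat.card (P : Subgroup G) = p)
    (hC : Subgroup.centralizer ((P : Subgroup G) : Set G) = (P : Subgroup G))
    (e n : ℕ) (he2 : 2 ≤ e)
    (hN : Nat.card (Subgroup.normalizer ((P : Subgroup G) : Set G)) = p * e)
    (hfix : ∀ s ∈ Subgroup.normalizer ((P : Subgroup G) : Set G), s ∉ (P : Subgroup G) →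
      Nat.card {Q : Sylow p G // s ∈ Subgroup.normalizer ((Q : Subgroup G) : Set G)} = n + 1) :
    (n + 1) * e ∣ Nat.card G :=
  Cfsg.Agent.H80.BRM.card_normalizer_complement_dvd p P hP hC e n he2 hN hfix

end Cfsg.Agent.H80.BRM
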