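import Cfsg.Agent.H80.FullNorm
import Cfsg.Prelude.Def_BlockFusion

set_option autoImplicit false
set_option linter.unusedSectionVars false
set_option linter.style.haveILetI false

/-!
# helper80: the fusion system of a block: fully centralized and centric subgroups

* `isDefectGroup_eqvIrr`: transport of defect groups along a group isomorphism.
* `card_defectGroup_eq`, `card_defectGroup_conjBlock`: orders of defect groups.
* `isConj_iff_of_blockFusion`: conjugacy in the fusion system of a block.
* `fullyCentralized_iff`, `centric_iff`.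
-/

namespace Cfsg.Agent.H80

open Cfsg Cfsg.Agent.H20 Cfsg.Agent.H4

universe u

section Eqv

variable {K K' : Type u} [Group K] [Group K'] {M : Ideal AlgInt}

theorem isDefectClass_eqvIrr (ψ : K ≃* K') {A : Set (IrrCharacter K)} {g : K}
    (h : IsDefectClass M A g) : IsDefectClass M (eqvIrr ψ '' A) (ψ g) := by
  obtain ⟨h1, h2, h3⟩ := h
  refine ⟨?_, ?_, ?_⟩
  · rw [blockCoeff_eqvIrr_image, MulEquiv.symm_apply_apply]
    exact h1
  · rw [blockCoeff_eqvIrr_image, MulEquiv.symm_apply_apply]
    exact h2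
  · rintro _ ⟨χ, hχ, rfl⟩
    rw [centralChar_eqvIrr, MulEquiv.symm_apply_apply]
    exact h3 χ hχ

/-- Transport of a defect group along a group isomorphism. -/
theorem isDefectGroup_eqvIrr [Finite K] [Finite K'] (p : ℕ) [Fact p.Prime] (ψ : K ≃* K')
    {A : Set (IrrCharacter K)} {D : Subgroup K} (h : IsDefectGroup p M A D) :
    IsDefectGroup p M (eqvIrr ψ '' A) (D.map ψ.toMonoidHom) := by
  obtain ⟨g, hg, S, rfl⟩ := h
  have hDp : IsPGroup p ((S : Subgroup (Subgroup.centralizer ({g} : Set K))).map
      (Subgroup.centralizer ({g} : Set K)).subtype) := S.isPGroup'.map _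
  have hle : ((S : Subgroup (Subgroup.centralizer ({g} : Set K))).map
      (Subgroup.centralizer ({g} : Set K)).subtype).map ψ.toMonoidHom
      ≤ Subgroup.centralizer ({ψ g} : Set K') := by
    rintro _ ⟨_, ⟨s, -, rfl⟩, rfl⟩
    rw [Subgroup.mem_centralizer_iff]
    intro k hk
    rw [Set.mem_singleton_iff] at hk
    subst hk
    have h1 := Subgroup.mem_centralizer_iff.mp s.2 g (Set.mem_singleton g)
    show ψ g * ψ (s : K) = ψ (s : K) * ψ g
    rw [← map_mul, ← map_mul, h1]
  obtain ⟨S', hS'⟩ := exists_sylow_centralizer_ge (ψ g) _ (hDp.map ψ.toMonoidHom) hle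
  refine ⟨ψ g, isDefectClass_eqvIrr ψ hg, S', Subgroup.eq_of_le_of_card_ge hS' ?_⟩
  -- the pull-back of `S'` is a `p`-subgroup of the centralizer of `g`
  have hle' : ((S' : Subgroup (Subgroup.centralizer ({ψ g} : Set K'))).map
      (Subgroup.centralizer ({ψ g} : Set K')).subtype).map ψ.symm.toMonoidHom
      ≤ Subgroup.centralizer ({g} : Set K) := by
    rintro _ ⟨_, ⟨s, -, rfl⟩, rfl⟩
    rw [Subgroup.mem_centralizer_iff]
    intro k hk
    rw [Set.mem_singleton_iff] at hk
    subst hk
    have h1 := Subgroup.mem_centralizer_iff.mp s.2 (ψ k) (Set.mem_singleton _)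
    show k * ψ.symm (s : K') = ψ.symm (s : K') * k
    apply ψ.injective
    rw [map_mul, map_mul, MulEquiv.apply_symm_apply, h1]
  have h2 := card_le_card_sylow_centralizer p g _ ((S'.isPGroup'.map _).map ψ.symm.toMonoidHom)
    hle' S
  rw [Subgroup.card_map_of_injective (f := ψ.symm.toMonoidHom) ψ.symm.injective] at h2
  have e1 : Nat.card ↥(((S : Subgroup (Subgroup.centralizer ({g} : Set K))).map
      (Subgroup.centralizer ({g} : Set K)).subtype).map ψ.toMonoidHom)
      = Nat.card ↥(S : Subgroup (Subgroup.centralizer ({g} : Set K))) := by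
    rw [Subgroup.card_map_of_injective (f := ψ.toMonoidHom) ψ.injective,
      Subgroup.card_map_of_injective (Subgroup.subtype_injective _)]
  rw [e1]
  exact h2

end Eqv

section Card

variable {G : Type u} [Group G] [Fintype G] {M : Ideal AlgInt} (p : ℕ) [Fact p.Prime]

/-- Two defect groups of a block have the same order. -/
theorem card_defectGroup_eq (hM : IsPModular p M) {B : Set (IrrCharacter G)}
    (hB : IsPBlock M B) {D D' : Subgroup G} (hD : IsDefectGroup p M B D)
    (hD' : IsDefectGroup p M B D') : Nat.card D = Nat.card D' := by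
  obtain ⟨x, rfl⟩ := isDefectGroup_conj_eq p hM hB hD hD'
  rw [Subgroup.card_map_of_injective (f := (MulAut.conj x).toMonoidHom) (MulEquiv.injective _)]

end Card

section Eqv2

variable {K K' : Type u} [Group K] [Group K'] [Fintype K] [Fintype K'] {M : Ideal AlgInt}
  (p : ℕ) [Fact p.Prime]

/-- A defect group of a block and a defect group of its transport have the same order. -/
theorem card_defectGroup_eqv (hM : IsPModular p M) (ψ : K ≃* K') {A : Set (IrrCharacter K)}
    (hA : IsPBlock M A) {D : Subgroup K} {D' : Subgroup K'} (hD : IsDefectGroup p M A D)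
    (hD' : IsDefectGroup p M (eqvIrr ψ '' A) D') : Nat.card D = Nat.card D' := by
  have h1 := isDefectGroup_eqvIrr p ψ hD
  have h2 := card_defectGroup_eq p hM (isPBlock_eqvIrr_image ψ hA) h1 hD'
  rw [← h2, Subgroup.card_map_of_injective (f := ψ.toMonoidHom) ψ.injective]

end Eqv2

section Fusion

variable {G : Type u} [Group G] [Fintype G] {M : Ideal AlgInt} (p : ℕ) [Fact p.Prime]

/-- A defect group of `f` and a defect group of a conjugate of `f` have the same order. -/
theorem card_defectGroup_conjBlock (hM : IsPModular p M) (Q : Subgroup G) (x : G)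
    {f : Set (IrrCharacter (Subgroup.centralizer (Q : Set G)))} (hf : IsPBlock M f)
    {D : Subgroup (Subgroup.centralizer (Q : Set G))}
    {D' : Subgroup (Subgroup.centralizer
      ((Q.map (MulAut.conj x).toMonoidHom : Subgroup G) : Set G))}
    (hD : IsDefectGroup p M f D) (hD' : IsDefectGroup p M (conjBlock Q x f) D') :
    Nat.card D = Nat.card D' := by
  haveI : Fintype ↥(Subgroup.centralizer (Q : Set G)) := Fintype.ofFinite _
  haveI : Fintype ↥(Subgroup.centralizer
      ((Q.map (MulAut.conj x).toMonoidHom : Subgroup G) : Set G)) := Fintype.ofFinite _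
  rw [conjBlock_eq_image] at hD'
  exact card_defectGroup_eqv p hM (centEqv Q x) hf hD hD'

theorem range_of_conj {Q : Subgroup G} (φ : Q →* G) (g : G)
    (h : ∀ u : Q, φ u = g * (u : G) * g⁻¹) : φ.range = Q.map (MulAut.conj g).toMonoidHom := by
  ext y
  constructor
  · rintro ⟨u, rfl⟩
    exact ⟨u, u.2, (h u).symm⟩
  · rintro ⟨q, hq, rfl⟩
    exact ⟨⟨q, hq⟩, h _⟩

/-- Conjugacy in the fusion system of a block. -/
theorem isConj_iff_of_blockFusion (hM : IsPModular p M) {B : Set (IrrCharacter G)}
    {P Q : Subgroup G} {e : Set (IrrCharacter (Subgroup.centralizer (P : Set G)))}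
    {f : Set (IrrCharacter (Subgroup.centralizer (Q : Set G)))} {F : FusionSystem P}
    (hF : IsBlockFusionSystemOn p M B P e F) (hle : SubpairLE p M Q f P e) (Q₂ : Subgroup G) :
    F.IsConj Q Q₂ ↔ ∃ g : G, Q.map (MulAut.conj g).toMonoidHom = Q₂ ∧
      SubpairLE p M (Q.map (MulAut.conj g).toMonoidHom) (conjBlock Q g f) P e := by
  have hPe : IsBrauerPair p M P e := hF.1.1.1
  constructor
  · rintro ⟨φ, hφ, hrange⟩
    obtain ⟨-, g, hφg, -, f₁, h1, h2⟩ := (hF.2 Q φ).mp hφ
    have hff : f₁ = f := subpairLE_unique hM _ P e rfl hPe Q f₁ f h1 hle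
    subst hff
    exact ⟨g, by rw [← hrange, range_of_conj φ g hφg], h2⟩
  · rintro ⟨g, rfl, h2⟩
    refine ⟨conjHom Q g, (hF.2 Q _).mpr ⟨subpairLE_le hle, g, fun u => rfl, subpairLE_le h2, f,
      hle, h2⟩, range_of_conj _ g (fun u => rfl)⟩

/-- `Q` is fully centralized in the fusion system of the block iff `C_P(Q)` is a defect group
of `f`. -/
theorem fullyCentralized_iff (hM : IsPModular p M) {B : Set (IrrCharacter G)}
    {P Q : Subgroup G} {e : Set (IrrCharacter (Subgroup.centralizer (P : Set G)))}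
    {f : Set (IrrCharacter (Subgroup.centralizer (Q : Set G)))} {F : FusionSystem P}
    (hF : IsBlockFusionSystemOn p M B P e F) (hle : SubpairLE p M Q f P e) :
    F.IsFullyCentralized Q ↔ IsDefectGroup p M f
      ((P ⊓ Subgroup.centralizer (Q : Set G)).subgroupOf (Subgroup.centralizer (Q : Set G))) := by
  have hmax := hF.1
  have hPe : IsBrauerPair p M P e := hmax.1.1
  have hf : IsPBlock M f := (isBrauerPair_of_subpairLE hle hPe).2
  have hcardsub : ∀ Q₁ : Subgroup G, Nat.card ↥((P ⊓ Subgroup.centralizer (Q₁ : Set G)).subgroupOf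
      (Subgroup.centralizer (Q₁ : Set G))) = Nat.card ↥(P ⊓ Subgroup.centralizer (Q₁ : Set G)) :=
    fun Q₁ => Nat.card_congr (Subgroup.subgroupOfEquivOfLe inf_le_right).toEquiv
  constructor
  · rintro ⟨-, hFC⟩
    obtain ⟨x, hlex, hDx⟩ := exists_conj_fully_centralized p hM hmax hle
    have hconj : F.IsConj Q (Q.map (MulAut.conj x).toMonoidHom) :=
      (isConj_iff_of_blockFusion p hM hF hle _).mpr ⟨x, rfl, hlex⟩
    have hc : Nat.card ↥(P ⊓ Subgroup.centralizer
        ((Q.map (MulAut.conj x).toMonoidHom : Subgroup G) : Set G))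
        ≤ Nat.card ↥(P ⊓ Subgroup.centralizer (Q : Set G)) := hFC _ hconj
    obtain ⟨D, hD, hCD⟩ := exists_defectGroup_ge_centralizer p hM hPe hle
    have h1 := card_defectGroup_conjBlock p hM Q x hf hD hDx
    have heq := Subgroup.eq_of_le_of_card_ge hCD (by rw [hcardsub, h1, hcardsub]; exact hc)
    rw [heq]
    exact hD
  · intro hDQ
    refine ⟨subpairLE_le hle, fun Q₂ hconj => ?_⟩
    obtain ⟨g, rfl, h2⟩ := (isConj_iff_of_blockFusion p hM hF hle _).mp hconj
    obtain ⟨D₂, hD₂, hCD₂⟩ := exists_defectGroup_ge_centralizer p hM hPe h2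
    have h1 := card_defectGroup_conjBlock p hM Q g hf hDQ hD₂
    have h3 := Subgroup.card_le_of_le hCD₂
    rw [hcardsub, ← h1, hcardsub] at h3
    exact h3

theorem inf_centralizer_map_conj (Q : Subgroup G) (x : G) :
    (Q ⊓ Subgroup.centralizer (Q : Set G)).map (MulAut.conj x).toMonoidHom
      = Q.map (MulAut.conj x).toMonoidHom ⊓ Subgroup.centralizer
        ((Q.map (MulAut.conj x).toMonoidHom : Subgroup G) : Set G) := by
  ext y
  rw [mem_map_conj_iff, Subgroup.mem_inf, Subgroup.mem_inf, mem_map_conj_iff,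
    mem_centralizer_map_conj_iff]

/-- `Q` is centric in the fusion system of the block iff `Z(Q)` is a defect group of `f`. -/
theorem centric_iff (hM : IsPModular p M) {B : Set (IrrCharacter G)}
    {P Q : Subgroup G} {e : Set (IrrCharacter (Subgroup.centralizer (P : Set G)))}
    {f : Set (IrrCharacter (Subgroup.centralizer (Q : Set G)))} {F : FusionSystem P}
    (hF : IsBlockFusionSystemOn p M B P e F) (hle : SubpairLE p M Q f P e) :
    F.IsCentric Q ↔ IsDefectGroup p M f
      ((Q ⊓ Subgroup.centralizer (Q : Set G)).subgroupOf (Subgroup.centralizer (Q : Set G))) := by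
  haveI : Fintype ↥(Subgroup.centralizer (Q : Set G)) := Fintype.ofFinite _
  have hmax := hF.1
  have hPe : IsBrauerPair p M P e := hmax.1.1
  have hf : IsPBlock M f := (isBrauerPair_of_subpairLE hle hPe).2
  have hcardsub : ∀ (Q₁ R : Subgroup G), Nat.card ↥((R ⊓ Subgroup.centralizer (Q₁ : Set G)).subgroupOf
      (Subgroup.centralizer (Q₁ : Set G))) = Nat.card ↥(R ⊓ Subgroup.centralizer (Q₁ : Set G)) :=
    fun Q₁ R => Nat.card_congr (Subgroup.subgroupOfEquivOfLe inf_le_right).toEquiv
  constructor
  · rintro ⟨-, hC⟩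
    obtain ⟨x, hlex, hDx⟩ := exists_conj_fully_centralized p hM hmax hle
    haveI : Fintype ↥(Subgroup.centralizer
      ((Q.map (MulAut.conj x).toMonoidHom : Subgroup G) : Set G)) := Fintype.ofFinite _
    have hconj : F.IsConj Q (Q.map (MulAut.conj x).toMonoidHom) :=
      (isConj_iff_of_blockFusion p hM hF hle _).mpr ⟨x, rfl, hlex⟩
    have hc : P ⊓ Subgroup.centralizer
        ((Q.map (MulAut.conj x).toMonoidHom : Subgroup G) : Set G)
        ≤ Q.map (MulAut.conj x).toMonoidHom := hC _ hconj
    have hQxP : Q.map (MulAut.conj x).toMonoidHom ≤ P := subpairLE_le hlex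
    have heq : P ⊓ Subgroup.centralizer
        ((Q.map (MulAut.conj x).toMonoidHom : Subgroup G) : Set G)
        = Q.map (MulAut.conj x).toMonoidHom ⊓ Subgroup.centralizer
          ((Q.map (MulAut.conj x).toMonoidHom : Subgroup G) : Set G) :=
      le_antisymm (le_inf hc inf_le_right) (inf_le_inf_right _ hQxP)
    rw [heq, conjBlock_eq_image] at hDx
    have h1 := isDefectGroup_eqvIrr p (centEqv Q x).symm hDx
    have e1 : eqvIrr (centEqv Q x).symm '' (eqvIrr (centEqv Q x) '' f) = f := by
      rw [Set.image_image]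
      simp only [eqvIrr_symm_eqvIrr, Set.image_id']
    rw [e1] at h1
    convert h1 using 1
    ext c
    rw [Subgroup.mem_subgroupOf, Subgroup.mem_map]
    constructor
    · intro hc'
      refine ⟨centEqv Q x c, ?_, (centEqv Q x).symm_apply_apply c⟩
      rw [Subgroup.mem_subgroupOf, ← inf_centralizer_map_conj]
      exact ⟨c, hc', rfl⟩
    · rintro ⟨c', hc', rfl⟩
      rw [Subgroup.mem_subgroupOf, ← inf_centralizer_map_conj, mem_map_conj_iff] at hc'
      exact hc'
  · intro hDQ
    refine ⟨subpairLE_le hle, fun Q₂ hconj => ?_⟩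
    obtain ⟨g, rfl, h2⟩ := (isConj_iff_of_blockFusion p hM hF hle _).mp hconj
    obtain ⟨D₂, hD₂, hCD₂⟩ := exists_defectGroup_ge_centralizer p hM hPe h2
    have h1 := card_defectGroup_conjBlock p hM Q g hf hDQ hD₂
    have h3 := Subgroup.card_le_of_le hCD₂
    rw [hcardsub, ← h1, hcardsub] at h3
    have hQgP : Q.map (MulAut.conj g).toMonoidHom ≤ P := subpairLE_le h2
    have h4 : Nat.card ↥(Q ⊓ Subgroup.centralizer (Q : Set G))
        = Nat.card ↥(Q.map (MulAut.conj g).toMonoidHom ⊓ Subgroup.centralizer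
          ((Q.map (MulAut.conj g).toMonoidHom : Subgroup G) : Set G)) := by
      rw [← inf_centralizer_map_conj,
        Subgroup.card_map_of_injective (f := (MulAut.conj g).toMonoidHom) (MulEquiv.injective _)]
    rw [h4] at h3
    have heq := Subgroup.eq_of_le_of_card_ge (inf_le_inf_right _ hQgP) h3
    show P ⊓ Subgroup.centralizer ((Q.map (MulAut.conj g).toMonoidHom : Subgroup G) : Set G)
      ≤ Q.map (MulAut.conj g).toMonoidHom
    rw [← heq]
    exact inf_le_left

end Fusion

end Cfsg.Agent.H80
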