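import Cfsg.Agent.H80.BlockFusion

set_option autoImplicit false
set_option linter.unusedSectionVars false
set_option linter.style.haveILetI false

/-!
# helper80: the fusion system of a block: fully normalized subgroups

* `stabilizesBlock_conjBlock_iff`, `exists_stabilizer'`.
* `eq_of_blockCoeff_eq`: a set of irreducible characters is determined by its idempotent.
* `card_defectGroup_stab`: defect groups of the stabilizer blocks of conjugate pairs have the same
  order.
* `fullyNormalized_iff`.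
-/

namespace Cfsg.Agent.H80

open Cfsg Cfsg.Agent.H20 Cfsg.Agent.H4

universe u

variable {G : Type u} [Group G] [Fintype G] {M : Ideal AlgInt}

theorem stabilizesBlock_conjBlock_iff (Q : Subgroup G) (x : G)
    (f : Set (IrrCharacter (Subgroup.centralizer (Q : Set G)))) (y : G) :
    StabilizesBlock (Subgroup.centralizer
      ((Q.map (MulAut.conj x).toMonoidHom : Subgroup G) : Set G)) (conjBlock Q x f) y
      ↔ StabilizesBlock (Subgroup.centralizer (Q : Set G)) f (x⁻¹ * y * x) := by
  constructor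
  · rintro ⟨hy, hst⟩
    refine ⟨?_, ?_⟩
    · rw [Subgroup.mem_normalizer_iff] at hy ⊢
      intro c
      have h1 := hy (x * c * x⁻¹)
      rw [mem_centralizer_map_conj_iff, mem_centralizer_map_conj_iff] at h1
      have e1 : x⁻¹ * (x * c * x⁻¹) * x = c := by group
      have e2 : x⁻¹ * (y * (x * c * x⁻¹) * y⁻¹) * x = x⁻¹ * y * x * c * (x⁻¹ * y * x)⁻¹ := by
        group
      rw [e1, e2] at h1
      exact h1
    · intro χ hχ
      have hχ₁ : eqvIrr (centEqv Q x) χ ∈ conjBlock Q x f := by
        rw [conjBlock_eq_image]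
        exact ⟨χ, hχ, rfl⟩
      obtain ⟨χ₁', hχ₁', hconj⟩ := hst _ hχ₁
      rw [conjBlock_eq_image] at hχ₁'
      obtain ⟨χ', hχ', rfl⟩ := hχ₁'
      refine ⟨χ', hχ', ?_⟩
      intro k k' hk
      have h1 := hconj (centEqv Q x k) (centEqv Q x k') (by
        rw [centEqv_apply, centEqv_apply, hk]
        group)
      rw [eqvIrr_apply, eqvIrr_apply, MulEquiv.symm_apply_apply, MulEquiv.symm_apply_apply] at h1
      exact h1
  · intro h
    have h1 := stabilizesBlock_conjBlock Q x h
    have e : x * (x⁻¹ * y * x) * x⁻¹ = y := by group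
    rw [e] at h1
    exact h1

/-- The stabilizer of a pair `(Q, f)`, as a subgroup. -/
theorem exists_stabilizer' (hM : M.IsPrime) (Q : Subgroup G)
    {f : Set (IrrCharacter (Subgroup.centralizer (Q : Set G)))} (hf : IsPBlock M f) :
    ∃ T : Subgroup G, ∀ y : G, y ∈ T ↔ y ∈ Subgroup.normalizer (Q : Set G) ∧
      StabilizesBlock (Subgroup.centralizer (Q : Set G)) f y := by
  obtain ⟨T₀, hT₀⟩ := exists_stabilizer hM (Subgroup.centralizer (Q : Set G)) hf
  refine ⟨Subgroup.normalizer (Q : Set G) ⊓ T₀, fun y => ?_⟩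
  rw [Subgroup.mem_inf, hT₀]

/-- A set of irreducible characters is determined by its idempotent coefficients. -/
theorem eq_of_blockCoeff_eq {K : Type u} [Group K] [Fintype K] {A A' : Set (IrrCharacter K)}
    (h : ∀ k : K, blockCoeff A k = blockCoeff A' k) : A = A' := by
  classical
  have he : blockElt A = blockElt A' := by
    apply MonoidAlgebra.coeff_injective
    ext k
    rw [coeff_blockElt, coeff_blockElt, h]
  ext ψ
  have h1 := omega_blockElt A ψ
  have h2 := omega_blockElt A' ψ
  rw [he, h2] at h1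
  by_cases hψ : ψ ∈ A
  · by_cases hψ' : ψ ∈ A'
    · exact ⟨fun _ => hψ', fun _ => hψ⟩
    · rw [if_neg hψ', if_pos hψ] at h1
      exact absurd h1 zero_ne_one
  · by_cases hψ' : ψ ∈ A'
    · rw [if_pos hψ', if_neg hψ] at h1
      exact absurd h1 one_ne_zero
    · exact ⟨fun h => absurd h hψ, fun h => absurd h hψ'⟩

section Main

variable (p : ℕ) [Fact p.Prime]

/-- Defect groups of the stabilizer blocks of a pair and of a conjugate pair have the same
order. -/
theorem card_defectGroup_stab (hM : IsPModular p M) (Q : Subgroup G) (x : G)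
    {f : Set (IrrCharacter (Subgroup.centralizer (Q : Set G)))} (T T' : Subgroup G)
    (hT : ∀ y : G, y ∈ T ↔ y ∈ Subgroup.normalizer (Q : Set G) ∧
      StabilizesBlock (Subgroup.centralizer (Q : Set G)) f y)
    (hT' : ∀ y : G, y ∈ T' ↔
      y ∈ Subgroup.normalizer ((Q.map (MulAut.conj x).toMonoidHom : Subgroup G) : Set G) ∧
      StabilizesBlock (Subgroup.centralizer
        ((Q.map (MulAut.conj x).toMonoidHom : Subgroup G) : Set G)) (conjBlock Q x f) y)
    {F : Set (IrrCharacter T)} (hF : IsPBlock M F)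
    (hFc : ∀ t : T, blockCoeff F t
      = subgroupBlockCoeff (Subgroup.centralizer (Q : Set G)) f (t : G))
    {F' : Set (IrrCharacter T')}
    (hF'c : ∀ t : T', blockCoeff F' t = subgroupBlockCoeff (Subgroup.centralizer
      ((Q.map (MulAut.conj x).toMonoidHom : Subgroup G) : Set G)) (conjBlock Q x f) (t : G))
    {D : Subgroup T} {D' : Subgroup T'} (hD : IsDefectGroup p M F D)
    (hD' : IsDefectGroup p M F' D') : Nat.card D = Nat.card D' := by
  haveI : Fintype ↥T := Fintype.ofFinite _
  haveI : Fintype ↥T' := Fintype.ofFinite _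
  have hTT' : ∀ g, g ∈ T' ↔ x⁻¹ * g * x ∈ T := by
    intro g
    rw [hT, hT', mem_normalizer_map_conj_iff, stabilizesBlock_conjBlock_iff]
  have hFF' : F' = eqvIrr (conjEqv x T T' hTT') '' F := by
    apply eq_of_blockCoeff_eq
    intro t'
    rw [hF'c, blockCoeff_eqvIrr_image, hFc, subgroupBlockCoeff_conjBlock]
    rfl
  rw [hFF'] at hD'
  exact card_defectGroup_eqv p hM (conjEqv x T T' hTT') hF hD hD'

/-- `Q` is fully normalized in the fusion system of the block iff `N_P(Q)` is a defect group of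
the block of the stabilizer of `(Q, f)` whose idempotent is that of `f`. -/
theorem fullyNormalized_iff (hM : IsPModular p M) {B : Set (IrrCharacter G)}
    {P Q : Subgroup G} {e : Set (IrrCharacter (Subgroup.centralizer (P : Set G)))}
    {f : Set (IrrCharacter (Subgroup.centralizer (Q : Set G)))} {F : FusionSystem P}
    (hF : IsBlockFusionSystemOn p M B P e F) (hle : SubpairLE p M Q f P e) (T : Subgroup G)
    (hT : ∀ y : G, y ∈ T ↔ y ∈ Subgroup.normalizer (Q : Set G) ∧
      StabilizesBlock (Subgroup.centralizer (Q : Set G)) f y) :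
    F.IsFullyNormalized Q ↔ ∃ F' : Set (IrrCharacter T), IsPBlock M F' ∧
      (∀ t : T, blockCoeff F' t
        = subgroupBlockCoeff (Subgroup.centralizer (Q : Set G)) f (t : G)) ∧
      IsDefectGroup p M F' ((P ⊓ Subgroup.normalizer (Q : Set G)).subgroupOf T) := by
  have hMp := isPrime_of_isPModular hM
  have hmax := hF.1
  have hPe : IsBrauerPair p M P e := hmax.1.1
  have hQf : IsBrauerPair p M Q f := isBrauerPair_of_subpairLE hle hPe
  have hNT : P ⊓ Subgroup.normalizer (Q : Set G) ≤ T := fun u hu =>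
    (hT u).mpr ⟨hu.2, (stabilizes_of_inf_normalizer p hM hPe hle).1 u hu⟩
  have hcardT : Nat.card ↥((P ⊓ Subgroup.normalizer (Q : Set G)).subgroupOf T)
      = Nat.card ↥(P ⊓ Subgroup.normalizer (Q : Set G)) :=
    Nat.card_congr (Subgroup.subgroupOfEquivOfLe hNT).toEquiv
  constructor
  · rintro ⟨-, hFN⟩
    obtain ⟨F', hF', hF'c⟩ := exists_block_of_stabilizer p hM hQf T hT
    obtain ⟨D, hD, hND⟩ := exists_defectGroup_ge_normalizer p hM hPe hle T hT hF' hF'c
    obtain ⟨x, hlex, hx⟩ := exists_conj_fully_normalized p hM hmax hle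
    have hQxf : IsBrauerPair p M (Q.map (MulAut.conj x).toMonoidHom) (conjBlock Q x f) :=
      isBrauerPair_of_subpairLE hlex hPe
    obtain ⟨T', hT'⟩ := exists_stabilizer' hMp (Q.map (MulAut.conj x).toMonoidHom) hQxf.2
    obtain ⟨F₂, hF₂, hF₂c, hD₂⟩ := hx T' hT'
    have hNT' : P ⊓ Subgroup.normalizer
        ((Q.map (MulAut.conj x).toMonoidHom : Subgroup G) : Set G) ≤ T' := fun u hu =>
      (hT' u).mpr ⟨hu.2, (stabilizes_of_inf_normalizer p hM hPe hlex).1 u hu⟩
    have hcardT' : Nat.card ↥((P ⊓ Subgroup.normalizer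
        ((Q.map (MulAut.conj x).toMonoidHom : Subgroup G) : Set G)).subgroupOf T')
        = Nat.card ↥(P ⊓ Subgroup.normalizer
          ((Q.map (MulAut.conj x).toMonoidHom : Subgroup G) : Set G)) :=
      Nat.card_congr (Subgroup.subgroupOfEquivOfLe hNT').toEquiv
    have hconj : F.IsConj Q (Q.map (MulAut.conj x).toMonoidHom) :=
      (isConj_iff_of_blockFusion p hM hF hle _).mpr ⟨x, rfl, hlex⟩
    have hc : Nat.card ↥(P ⊓ Subgroup.normalizer
        ((Q.map (MulAut.conj x).toMonoidHom : Subgroup G) : Set G))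
        ≤ Nat.card ↥(P ⊓ Subgroup.normalizer (Q : Set G)) := hFN _ hconj
    have h1 := card_defectGroup_stab p hM Q x T T' hT hT' hF' hF'c hF₂c hD hD₂
    have heq := Subgroup.eq_of_le_of_card_ge hND (by rw [hcardT, h1, hcardT']; exact hc)
    refine ⟨F', hF', hF'c, ?_⟩
    rw [heq]
    exact hD
  · rintro ⟨F', hF', hF'c, hDQ⟩
    refine ⟨subpairLE_le hle, fun Q₂ hconj => ?_⟩
    obtain ⟨g, rfl, h2⟩ := (isConj_iff_of_blockFusion p hM hF hle _).mp hconj
    have hQgf : IsBrauerPair p M (Q.map (MulAut.conj g).toMonoidHom) (conjBlock Q g f) :=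
      isBrauerPair_of_subpairLE h2 hPe
    obtain ⟨T₂, hT₂⟩ := exists_stabilizer' hMp (Q.map (MulAut.conj g).toMonoidHom) hQgf.2
    obtain ⟨F₂, hF₂, hF₂c⟩ := exists_block_of_stabilizer p hM hQgf T₂ hT₂
    obtain ⟨D₂, hD₂, hND₂⟩ := exists_defectGroup_ge_normalizer p hM hPe h2 T₂ hT₂ hF₂ hF₂c
    have hNT₂ : P ⊓ Subgroup.normalizer
        ((Q.map (MulAut.conj g).toMonoidHom : Subgroup G) : Set G) ≤ T₂ := fun u hu =>
      (hT₂ u).mpr ⟨hu.2, (stabilizes_of_inf_normalizer p hM hPe h2).1 u hu⟩
    have hcardT₂ : Nat.card ↥((P ⊓ Subgroup.normalizer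
        ((Q.map (MulAut.conj g).toMonoidHom : Subgroup G) : Set G)).subgroupOf T₂)
        = Nat.card ↥(P ⊓ Subgroup.normalizer
          ((Q.map (MulAut.conj g).toMonoidHom : Subgroup G) : Set G)) :=
      Nat.card_congr (Subgroup.subgroupOfEquivOfLe hNT₂).toEquiv
    have h1 := card_defectGroup_stab p hM Q g T T₂ hT hT₂ hF' hF'c hF₂c hDQ hD₂
    have h3 := Subgroup.card_le_of_le hND₂
    rw [hcardT₂, ← h1, hcardT] at h3
    exact h3

end Main

end Cfsg.Agent.H80
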