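import Cfsg.Agent.H87.CenDefs
import Cfsg.Agent.H88.Puig
import Cfsg.Agent.H88.Ess
import Cfsg.Agent.H86.FusExt

/-!
# Team piece S5201-GEN (for helper87)

If every automorphism of an `E`-centric subgroup extends in `F` over `Y` (fixing `Y`), then so does
every map of the saturated system `E`.
-/

set_option autoImplicit false
set_option linter.style.haveILetI false

namespace Cfsg.Agent.H80.Cen

open Cfsg Cfsg.FusionSystem Cfsg.Agent.H86 Cfsg.Agent.H87

universe u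

variable {Ω : Type u} [Group Ω] {S T : Subgroup Ω}

theorem cen_of_aut [Finite S] {p : ℕ} [Fact p.Prime] (hS : IsPGroup p S)
    {F : FusionSystem S} {E : FusionSystem T} (hE : E.IsSaturated p) (hTS : T ≤ S)
    (hEF : ∀ (P : Subgroup Ω) (f : Ω → Ω), Mor E P f → Mor F P f)
    {Y : Subgroup Ω} (hY : Y ≤ centralizerIn S T)
    (h : ∀ Q : Subgroup Ω, E.IsCentric Q → ∀ α ∈ E.autGroup Q,
      ∃ a : Ω → Ω, Mor F (Q ⊔ Y) a ∧ (∀ x ∈ Q, a x = autFun Q α x) ∧ ∀ y ∈ Y, a y = y) :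
    ∀ (P : Subgroup Ω) (f : Ω → Ω), Mor E P f →
      ∃ f', Mor F (P ⊔ Y) f' ∧ (∀ x ∈ P, f' x = f x) ∧ ∀ y ∈ Y, f' y = y := by
  classical
  haveI : Finite T := finite_of_le hTS
  have hTp : IsPGroup p T := hS.to_le hTS
  have hYS : Y ≤ S := fun y hy => (mem_centralizerIn_iff.1 (hY hy)).1
  have hYcen : ∀ y ∈ Y, ∀ t ∈ T, t * y = y * t :=
    fun y hy => (mem_centralizerIn_iff.1 (hY hy)).2
  -- the predicate
  obtain ⟨C, hC⟩ : ∃ C : Subgroup Ω → (Ω → Ω) → Prop, ∀ P f, C P f ↔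
      ∃ f', Mor F (P ⊔ Y) f' ∧ (∀ x ∈ P, f' x = f x) ∧ ∀ y ∈ Y, f' y = y :=
    ⟨_, fun _ _ => Iff.rfl⟩
  have hcongr : ∀ (P : Subgroup Ω) (f g : Ω → Ω), Mor E P f → (∀ x ∈ P, f x = g x) →
      C P f → C P g := by
    intro P f g _ hfg hCf
    obtain ⟨f', hf', hf'P, hf'Y⟩ := (hC P f).1 hCf
    exact (hC P g).2 ⟨f', hf', fun x hx => (hf'P x hx).trans (hfg x hx), hf'Y⟩
  have hconj : ∀ (P : Subgroup Ω) (g : Ω), P ≤ T → g ∈ T → C P (fun x => g * x * g⁻¹) := by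
    intro P g hP hg
    refine (hC P _).2 ⟨fun x => g * x * g⁻¹,
      Mor.conj F (sup_le (hP.trans hTS) hYS) (hTS hg), fun x _ => rfl, fun y hy => ?_⟩
    show g * y * g⁻¹ = y
    rw [hYcen y hy g hg, mul_inv_cancel_right]
  have hcomp : ∀ (P R : Subgroup Ω) (f g : Ω → Ω), Mor E P f → Mor E R g →
      (∀ x ∈ P, f x ∈ R) → C P f → C R g → C P (g ∘ f) := by
    intro P R f g _ _ hfR hCf hCg
    obtain ⟨f', hf', hf'P, hf'Y⟩ := (hC P f).1 hCf
    obtain ⟨g', hg', hg'R, hg'Y⟩ := (hC R g).1 hCg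
    have hmaps : ∀ x ∈ P ⊔ Y, f' x ∈ R ⊔ Y := by
      intro x hx
      have h1 := hf'.mem_imgS_of_mem hx
      rw [hf'.imgS_sup] at h1
      have h2 : imgS P f' ≤ R := by
        intro z hz
        obtain ⟨x', hx', rfl⟩ := (hf'.restrict le_sup_left).mem_imgS.1 hz
        rw [hf'P x' hx']
        exact hfR x' hx'
      have h3 : imgS Y f' ≤ Y := by
        intro z hz
        obtain ⟨y', hy', rfl⟩ := (hf'.restrict le_sup_right).mem_imgS.1 hz
        rw [hf'Y y' hy']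
        exact hy'
      exact (sup_le_sup h2 h3) h1
    refine (hC P _).2 ⟨g' ∘ f', hf'.comp hg' hmaps, fun x hx => ?_, fun y hy => ?_⟩
    · show g' (f' x) = g (f x)
      rw [hf'P x hx, hg'R _ (hfR x hx)]
    · show g' (f' y) = y
      rw [hf'Y y hy, hg'Y y hy]
  have hinv : ∀ (P : Subgroup Ω) (f : Ω → Ω), Mor E P f → C P f →
      C (imgS P f) (invOn P f) := by
    intro P f hf hCf
    obtain ⟨f', hf', hf'P, hf'Y⟩ := (hC P f).1 hCf
    have himgP : imgS P f' = imgS P f := (hf'.restrict le_sup_left).imgS_congr hf'P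
    have himgY : imgS Y f' = Y := by
      rw [(hf'.restrict le_sup_right).imgS_congr (g := fun x => x) hf'Y, Mor.imgS_id]
    have himg : imgS (P ⊔ Y) f' = imgS P f ⊔ Y := by rw [hf'.imgS_sup, himgP, himgY]
    have hinv' : Mor F (imgS P f ⊔ Y) (invOn (P ⊔ Y) f') := by
      have h1 := hf'.inv
      rwa [himg] at h1
    refine (hC _ _).2 ⟨invOn (P ⊔ Y) f', hinv', fun z hz => ?_, fun y hy => ?_⟩
    · obtain ⟨x, hx, rfl⟩ := hf.mem_imgS.1 hz
      rw [invOn_apply hf.injOn hx, ← hf'P x hx,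
        invOn_apply hf'.injOn (Subgroup.mem_sup_left hx)]
    · have h1 := invOn_apply hf'.injOn (Subgroup.mem_sup_right hy : y ∈ P ⊔ Y)
      rw [hf'Y y hy] at h1
      exact h1
  -- Alperin induction in `E`
  have key : ∀ (P : Subgroup Ω) (f : Ω → Ω), Mor E P f →
      Mor (Cfsg.Agent.H88.subSys E C hcongr hconj hcomp hinv) P f := by
    refine Cfsg.Agent.H88.alperin_induction hTp hE _ ?_
    intro R _ hRr IH α hα
    have hR : R ≤ T := hRr.1
    have hαE : Mor E R (autFun R α) := (mem_autGroup_iff hR α).1 hα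
    rw [mem_autGroup_iff hR, Cfsg.Agent.H88.mor_subSys_iff]
    refine ⟨hαE, (hC _ _).2 ?_⟩
    by_cases hcen : centralizerIn T R ≤ R
    · exact h R (centric_of_receptive hRr hcen) α hα
    · haveI : Finite R := finite_of_le (hR.trans hTS)
      have himg : imgS R (autFun R α) = R :=
        imgS_eq_of_maps hαE (fun x hx => autFun_mem α hx)
      obtain ⟨f', hf', hf'R⟩ := receptive_extend' hRr hαE himg
      have hRQ : R ≤ extSub T R (autFun R α) := le_extSub hαE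
      have hCQ : centralizerIn T R ≤ extSub T R (autFun R α) := centralizerIn_le_extSub hαE
      have hlt : R < extSub T R (autFun R α) :=
        lt_of_le_of_ne hRQ (fun heq => hcen (hCQ.trans heq.symm.le))
      haveI : Finite (extSub T R (autFun R α)) := finite_of_le (hf'.le.trans hTS)
      have hcard : Nat.card R < Nat.card (extSub T R (autFun R α)) := card_lt_card_of_lt hlt
      have h2 := (Cfsg.Agent.H88.mor_subSys_iff.1 (IH _ f' hf' hcard)).2
      obtain ⟨f'', hf'', hf''Q, hf''Y⟩ := (hC _ _).1 h2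
      refine ⟨f'', hf''.restrict (sup_le_sup_right hRQ Y), fun x hx => ?_, hf''Y⟩
      rw [hf''Q x (hRQ hx), hf'R x hx]
  intro P f hf
  exact (hC P f).1 (Cfsg.Agent.H88.mor_subSys_iff.1 (key P f hf)).2

example [Finite S] {p : ℕ} [Fact p.Prime] (hS : IsPGroup p S)
    {F : FusionSystem S} {E : FusionSystem T} (hE : E.IsSaturated p) (hTS : T ≤ S)
    (hEF : ∀ (P : Subgroup Ω) (f : Ω → Ω), Mor E P f → Mor F P f)
    {Y : Subgroup Ω} (hY : Y ≤ centralizerIn S T)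
    (h : ∀ Q : Subgroup Ω, E.IsCentric Q → ∀ α ∈ E.autGroup Q,
      ∃ a : Ω → Ω, Mor F (Q ⊔ Y) a ∧ (∀ x ∈ Q, a x = autFun Q α x) ∧ ∀ y ∈ Y, a y = y) :
    ∀ (P : Subgroup Ω) (f : Ω → Ω), Mor E P f →
      ∃ f', Mor F (P ⊔ Y) f' ∧ (∀ x ∈ P, f' x = f x) ∧ ∀ y ∈ Y, f' y = y :=
  cen_of_aut hS hE hTS hEF hY h

end Cfsg.Agent.H80.Cen
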