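import Cfsg.Agent.H80.FullAut

set_option autoImplicit false
set_option linter.unusedSectionVars false
set_option linter.style.haveILetI false

/-!
# helper80: centric pairs and the block of `Q C_G(Q)`

* `block_unique_of_isBrauerPairOf`: a Brauer pair belongs to at most one block.
* `exists_block_of_stable_top`: if `G` stabilizes `(Q, f)`, the idempotent of `f` is a block
  idempotent of `G`.
* `isNilpotentBlock_sup_centralizer`: if `Z(Q)` is a defect group of `f`, the block of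
  `Q C_G(Q)` with the idempotent of `f` is nilpotent.
-/

namespace Cfsg.Agent.H80

open Cfsg Cfsg.Agent.H20 Cfsg.Agent.H4

universe u

variable {G : Type u} [Group G] [Fintype G] {M : Ideal AlgInt}

section Main

variable (p : ℕ) [Fact p.Prime]

/-- A Brauer pair belongs to at most one block. -/
theorem block_unique_of_isBrauerPairOf (hM : IsPModular p M) {B B' : Set (IrrCharacter G)}
    {Q : Subgroup G} {f : Set (IrrCharacter (Subgroup.centralizer (Q : Set G)))}
    (h : IsBrauerPairOf p M B Q f) (h' : IsBrauerPairOf p M B' Q f) : B = B' := by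
  classical
  haveI : Fintype ↥(Subgroup.centralizer (Q : Set G)) := Fintype.ofFinite _
  have hMp := isPrime_of_isPModular hM
  by_contra hne
  have hB := h.2.1
  have hB' := h'.2.1
  have h0 : blockElt B * blockElt B' = 0 := by
    rw [blockElt_mul_blockElt, blocks_inter_eq_empty hMp hB hB' hne, blockElt_empty]
  have hmem : blockElt B ∈ brRing Q hMp := by
    obtain ⟨χ₀, rfl⟩ := hB
    exact cfSubring_le_brRing Q hMp (blockElt_mem hMp χ₀)
  have hmem' : blockElt B' ∈ brRing Q hMp := by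
    obtain ⟨χ₀, rfl⟩ := hB'
    exact cfSubring_le_brRing Q hMp (blockElt_mem hMp χ₀)
  obtain ⟨ξ₀, hξ₀⟩ := h.1.2
  have hξ : ξ₀ ∈ f := by rw [hξ₀]; exact mem_blockOf_self hMp ξ₀
  exact brLam_orth Q p hM h.1.1 hmem hmem' h0 ξ₀ (brLam_of_isBrauerPairOf p h ξ₀ hξ)
    (brLam_of_isBrauerPairOf p h' ξ₀ hξ)

/-- If every element of `G` normalizes `Q` and stabilizes `f`, the idempotent of `f` is a block
idempotent of `G`. -/
theorem exists_block_of_stable_top (hM : IsPModular p M) {Q : Subgroup G}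
    {f : Set (IrrCharacter (Subgroup.centralizer (Q : Set G)))} (hQf : IsBrauerPair p M Q f)
    (hG : ∀ x : G, x ∈ Subgroup.normalizer (Q : Set G) ∧
      StabilizesBlock (Subgroup.centralizer (Q : Set G)) f x) :
    ∃ B₀ : Set (IrrCharacter G), IsPBlock M B₀ ∧ ∀ g : G,
      blockCoeff B₀ g = subgroupBlockCoeff (Subgroup.centralizer (Q : Set G)) f g := by
  classical
  obtain ⟨F₀, hF₀, hF₀c⟩ := exists_block_of_stabilizer p hM hQf (⊤ : Subgroup G)
    (fun y => ⟨fun _ => hG y, fun _ => Subgroup.mem_top y⟩)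
  refine ⟨eqvIrr (Subgroup.topEquiv : (⊤ : Subgroup G) ≃* G) '' F₀,
    isPBlock_eqvIrr_image _ hF₀, fun g => ?_⟩
  rw [blockCoeff_eqvIrr_image, hF₀c]
  rfl

/-- If `Z(Q)` is a defect group of the block `f` of `C_G(Q)`, then the block of `Q C_G(Q)` with
the idempotent of `f` is nilpotent. -/
theorem isNilpotentBlock_sup_centralizer (hM : IsPModular p M) {Q : Subgroup G}
    {f : Set (IrrCharacter (Subgroup.centralizer (Q : Set G)))} (hQf : IsBrauerPair p M Q f)
    (hZ : IsDefectGroup p M f ((Q ⊓ Subgroup.centralizer (Q : Set G)).subgroupOf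
      (Subgroup.centralizer (Q : Set G))))
    {F' : Set (IrrCharacter ↥(Q ⊔ Subgroup.centralizer (Q : Set G)))} (hF' : IsPBlock M F')
    (hF'c : ∀ t : ↥(Q ⊔ Subgroup.centralizer (Q : Set G)), blockCoeff F' t
      = subgroupBlockCoeff (Subgroup.centralizer (Q : Set G)) f (t : G)) :
    IsNilpotentBlock p M F' := by
  classical
  haveI : Fintype ↥(Q ⊔ Subgroup.centralizer (Q : Set G)) := Fintype.ofFinite _
  haveI : Fintype ↥(Subgroup.centralizer (Q : Set G)) := Fintype.ofFinite _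
  have hMp := isPrime_of_isPModular hM
  have hpp := (Fact.out : p.Prime)
  have hf : IsPBlock M f := hQf.2
  obtain ⟨H, hH⟩ : ∃ H : Subgroup G, H = Q ⊔ Subgroup.centralizer (Q : Set G) := ⟨_, rfl⟩
  subst hH
  have hQH : Q ≤ Q ⊔ Subgroup.centralizer (Q : Set G) := le_sup_left
  have hCH : Subgroup.centralizer (Q : Set G) ≤ Q ⊔ Subgroup.centralizer (Q : Set G) :=
    le_sup_right
  have hHN : Q ⊔ Subgroup.centralizer (Q : Set G) ≤ Subgroup.normalizer (Q : Set G) :=
    sup_le Subgroup.le_normalizer (Subgroup.centralizer_le_normalizer _)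
  have hQnC : Q ≤ Subgroup.normalizer
      ((Subgroup.centralizer (Q : Set G) : Subgroup G) : Set G) :=
    Subgroup.le_normalizer.trans (normalizer_le_normalizer_centralizer Q)
  -- the pair `(Q, f)` seen in `H`
  have hnormQQ : IsNormalSubpair p M Q f Q f :=
    normalSubpair_of_le_of_le p hM hQf le_rfl Subgroup.le_normalizer
      Relation.ReflTransGen.refl Relation.ReflTransGen.refl
  obtain ⟨a₀, ha₀1, ha₀, hup₀, hpair₀⟩ := exists_down_pair p _ hF' hF'c hCH hnormQQ hQH
  obtain ⟨D₁, e₁, hmax₁, hle₁⟩ := exists_maximal_ge p _ a₀.1 a₀.2 hpair₀ rfl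
  have hle₁' : Relation.ReflTransGen (NormalSubpairRel p M) a₀ ⟨D₁, e₁⟩ := hle₁
  have hQD₁ : a₀.1 ≤ D₁ := subpairLE_le hle₁'
  have hD₁pair : IsBrauerPair p M D₁ e₁ := hmax₁.1.1
  -- `Q` is normal in `H`
  have hnormal : ∀ (d y : ↥(Q ⊔ Subgroup.centralizer (Q : Set G))),
      y ∈ a₀.1 ↔ d * y * d⁻¹ ∈ a₀.1 := by
    intro d y
    rw [ha₀1, Subgroup.mem_subgroupOf, Subgroup.mem_subgroupOf]
    exact Subgroup.mem_normalizer_iff.mp (hHN d.2) (y : G)
  have hD₁N : D₁ ≤ Subgroup.normalizer ((a₀.1 : Subgroup _) : Set _) := fun d _ =>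
    Subgroup.mem_normalizer_iff.mpr (fun y => hnormal d y)
  have hnorm₁ : IsNormalSubpair p M a₀.1 a₀.2 D₁ e₁ :=
    normalSubpair_of_le_of_le p hM hD₁pair hQD₁ hD₁N hle₁ Relation.ReflTransGen.refl
  obtain ⟨y, hyD₁, hy⟩ := exists_coeff_of_normalSubpair p hM hnorm₁
  rw [← subgroupBlockCoeff_upBlock _ a₀.1 ha₀ a₀.2 y] at hy
  have hy' : ¬ MemLocalIdeal M
      (subgroupBlockCoeff (Subgroup.centralizer (Q : Set G)) f (y : G)) := by
    have h1 := congrArg (fun a : BrauerPairIdx G =>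
      subgroupBlockCoeff (Subgroup.centralizer (a.1 : Set G)) a.2 (y : G)) hup₀
    have h2 : subgroupBlockCoeff (Subgroup.centralizer
        ((a₀.1.map (Q ⊔ Subgroup.centralizer (Q : Set G)).subtype : Subgroup G) : Set G))
        (upBlock _ a₀.1 a₀.2) (y : G)
        = subgroupBlockCoeff (Subgroup.centralizer (Q : Set G)) f (y : G) := h1
    rw [← h2]
    exact hy
  have hyC : (y : G) ∈ Subgroup.centralizer (Q : Set G) := by
    by_contra hcon
    apply hy'
    unfold subgroupBlockCoeff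
    rw [dif_neg hcon]
    exact memLocalIdeal_zero hMp
  have hcoef : ¬ MemLocalIdeal M (blockCoeff f ⟨(y : G), hyC⟩) := by
    have h1 := hy'
    unfold subgroupBlockCoeff at h1
    rw [dif_pos hyC] at h1
    exact h1
  -- `D₁ ∩ C` is contained in a defect group of `f`
  have hU : IsPGroup p ↥(((D₁.map (Q ⊔ Subgroup.centralizer (Q : Set G)).subtype)
      ⊓ Subgroup.centralizer (Q : Set G)).subgroupOf (Subgroup.centralizer (Q : Set G))) := by
    apply IsPGroup.comap_subtype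
    exact (hD₁pair.1.map _).to_le inf_le_left
  have hcent : ((D₁.map (Q ⊔ Subgroup.centralizer (Q : Set G)).subtype)
      ⊓ Subgroup.centralizer (Q : Set G)).subgroupOf (Subgroup.centralizer (Q : Set G))
      ≤ Subgroup.centralizer ({(⟨(y : G), hyC⟩ : Subgroup.centralizer (Q : Set G))} :
        Set (Subgroup.centralizer (Q : Set G))) := by
    intro u hu
    obtain ⟨⟨d, hd, hdu⟩, -⟩ := Subgroup.mem_subgroupOf.mp hu
    rw [Subgroup.mem_centralizer_iff]
    intro z hz
    rw [Set.mem_singleton_iff] at hz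
    subst hz
    apply Subtype.ext
    have h1 := Subgroup.mem_centralizer_iff.mp hyD₁ d hd
    have h2 : ((d * y : ↥(Q ⊔ Subgroup.centralizer (Q : Set G))) : G)
        = ((y * d : ↥(Q ⊔ Subgroup.centralizer (Q : Set G))) : G) := congrArg Subtype.val h1
    have hdu' : (d : G) = (u : G) := hdu
    show (y : G) * (u : G) = (u : G) * (y : G)
    rw [← hdu']
    exact h2.symm
  obtain ⟨D₂, hD₂, hUD₂⟩ := exists_defectGroup_ge p hM hf ⟨(y : G), hyC⟩ hcoef _ hU hcent
  obtain ⟨x, hx⟩ := isDefectGroup_conj_eq p hM hf hZ hD₂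
  have hD₂Q : ∀ u ∈ D₂, ((u : Subgroup.centralizer (Q : Set G)) : G) ∈ Q := by
    intro u hu
    rw [← hx] at hu
    obtain ⟨z, hz, rfl⟩ := hu
    have hzQ : (z : G) ∈ Q := (Subgroup.mem_subgroupOf.mp hz).1
    have h1 : (x : G) * (z : G) = (z : G) * (x : G) :=
      (Subgroup.mem_centralizer_iff.mp x.2 _ hzQ).symm
    show (x : G) * (z : G) * (x : G)⁻¹ ∈ Q
    rw [h1, mul_inv_cancel_right]
    exact hzQ
  -- hence `D₁ ≤ Q`
  have hD₁Q : ∀ d ∈ D₁, ((d : ↥(Q ⊔ Subgroup.centralizer (Q : Set G))) : G) ∈ Q := by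
    intro d hd
    obtain ⟨q, hq, c, hc, hdqc⟩ := exists_mul_of_mem_sup hQnC d.2
    have hqD₁ : (⟨q, hQH hq⟩ : ↥(Q ⊔ Subgroup.centralizer (Q : Set G))) ∈ D₁ := by
      apply hQD₁
      rw [ha₀1, Subgroup.mem_subgroupOf]
      exact hq
    have hcD₁ : c ∈ D₁.map (Q ⊔ Subgroup.centralizer (Q : Set G)).subtype := by
      refine ⟨(⟨q, hQH hq⟩ : ↥(Q ⊔ Subgroup.centralizer (Q : Set G)))⁻¹ * d,
        mul_mem (inv_mem hqD₁) hd, ?_⟩
      show q⁻¹ * (d : G) = c
      rw [hdqc, inv_mul_cancel_left]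
    have hcU : (⟨c, hc⟩ : Subgroup.centralizer (Q : Set G))
        ∈ ((D₁.map (Q ⊔ Subgroup.centralizer (Q : Set G)).subtype)
          ⊓ Subgroup.centralizer (Q : Set G)).subgroupOf (Subgroup.centralizer (Q : Set G)) :=
      Subgroup.mem_subgroupOf.mpr ⟨hcD₁, hc⟩
    have hcQ : c ∈ Q := hD₂Q _ (hUD₂ hcU)
    rw [hdqc]
    exact mul_mem hq hcQ
  refine ⟨hF', fun R g hRg x hxN hxst hreg => ?_⟩
  -- `R ≤ Q`
  obtain ⟨D, eD, hmaxD, hleD⟩ := exists_maximal_ge p _ R g hRg rfl
  obtain ⟨h, hh⟩ := exists_conjPair_eq_of_maximal p hM hmax₁ hmaxD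
  have hDmap : D.map (MulAut.conj h).toMonoidHom = D₁ := congrArg Sigma.fst hh
  have hRD : R ≤ D :=
    subpairLE_le (show Relation.ReflTransGen (NormalSubpairRel p M) ⟨R, g⟩ ⟨D, eD⟩ from hleD)
  have hRQ : ∀ r ∈ R, ((r : ↥(Q ⊔ Subgroup.centralizer (Q : Set G))) : G) ∈ Q := by
    intro r hr
    have h1 : h * r * h⁻¹ ∈ D₁ := by
      rw [← hDmap]; exact conj_mem_map_conj D h (hRD hr)
    have h2 := hD₁Q _ h1
    have h3 : (h : G) * (r : G) * (h : G)⁻¹ ∈ Q := h2
    exact (Subgroup.mem_normalizer_iff.mp (hHN h.2) (r : G)).mpr h3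
  -- `x ∈ C_G(Q)`
  have hxC : (x : G) ∈ Subgroup.centralizer (Q : Set G) := by
    obtain ⟨q, hq, c, hc, hxqc⟩ := exists_mul_of_mem_sup hQnC x.2
    have hcomm : Commute q c := (Subgroup.mem_centralizer_iff.mp hc q hq)
    obtain ⟨k, hk⟩ := IsPGroup.iff_card.mp hQf.1
    have hqpow : q ^ (p ^ k) = 1 := by
      have h1 : (⟨q, hq⟩ : Q) ^ Nat.card Q = 1 := pow_card_eq_one'
      rw [hk] at h1
      exact congrArg Subtype.val h1
    have hxpow : (x : G) ^ (p ^ k) ∈ Subgroup.centralizer (Q : Set G) := by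
      rw [hxqc, hcomm.mul_pow, hqpow, one_mul]
      exact pow_mem hc _
    have hcop : (p ^ k).Coprime (orderOf (x : G)) := by
      apply Nat.Coprime.pow_left
      rw [Nat.Prime.coprime_iff_not_dvd hpp]
      have h1 : orderOf (x : G) = orderOf x := Subgroup.orderOf_coe x
      rw [h1]
      exact hreg
    obtain ⟨m, hm⟩ := exists_pow_eq_self_of_coprime hcop
    rw [← hm]
    exact pow_mem hxpow m
  rw [Subgroup.mem_centralizer_iff]
  intro r hr
  apply Subtype.ext
  exact Subgroup.mem_centralizer_iff.mp hxC _ (hRQ r hr)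

end Main

end Cfsg.Agent.H80
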