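import Cfsg.Agent.H80.StabBlock

set_option autoImplicit false
set_option linter.unusedSectionVars false
set_option linter.style.haveILetI false

/-!
# helper80: the idempotent of a block as the orbit sum of a block idempotent of a normal subgroup

`blockElt_eq_orbit`: let `C` be a normal subgroup of `G`, `e` a block of `C`, `T` its stabilizer
in `G`, and `B` a block of `G` whose idempotent is supported on `C` and in which `e` occurs.  Then
the idempotent of `B` is the sum of the distinct conjugates of the idempotent of `e`.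
-/

namespace Cfsg.Agent.H80

open Cfsg Cfsg.Agent.H20 Cfsg.Agent.H4

universe u

variable {G : Type u} [Group G] [Fintype G] {M : Ideal AlgInt}

theorem conjAut_mul (K : Subgroup G) (x y : G) (hx : x ∈ Subgroup.normalizer (K : Set G))
    (hy : y ∈ Subgroup.normalizer (K : Set G)) :
    conjAut K (x * y) (mul_mem hx hy) = conjAut K x hx * conjAut K y hy := by
  unfold conjAut
  rw [← map_mul]
  rfl

theorem conjAut_one (K : Subgroup G) : conjAut K 1 (one_mem _) = 1 := by
  unfold conjAut
  exact map_one _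

/-- The central character of a conjugate character on an invariant element. -/
theorem omega_autIrr_of_invariant {K : Type u} [Group K] [Fintype K] (α : MulAut K)
    (θ : IrrCharacter K) {z : MonoidAlgebra ℂ K} (hz : ∀ k, z.coeff (α k) = z.coeff k) :
    omega (autIrr α θ).1 z = omega θ.1 z := by
  unfold omega
  rw [autIrr_apply, map_one]
  congr 1
  rw [← Equiv.sum_comp α.toEquiv]
  apply Finset.sum_congr rfl
  intro k _
  rw [autIrr_apply]
  show z.coeff (α k) * θ.1 (α.symm (α k)) = _
  rw [MulEquiv.symm_apply_apply, hz]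

open scoped Classical in
theorem blockElt_eq_orbit (hM : M.IsPrime) (C : Subgroup G) [Fintype C]
    (hCn : ∀ x : G, x ∈ Subgroup.normalizer (C : Set G))
    {e : Set (IrrCharacter C)} (he : IsPBlock M e) (T : Subgroup G)
    (hT : ∀ x, x ∈ T ↔ StabilizesBlock C e x)
    {B : Set (IrrCharacter G)} (hB : IsPBlock M B) (hsupp : ∀ g, g ∉ C → blockCoeff B g = 0)
    (hone : ∀ ξ ∈ e, MemLocalIdeal M (omega ξ.1 (truncTo C (blockElt B)) - 1)) :
    ∀ g, blockCoeff B g
      = (Nat.card T : ℂ)⁻¹ * ∑ x : G, subgroupBlockCoeff C e (x⁻¹ * g * x) := by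
  -- the automorphisms
  obtain ⟨α, hα⟩ : ∃ α : G → MulAut C, α = fun x => conjAut C x (hCn x) := ⟨_, rfl⟩
  have hαmul : ∀ x y, α (x * y) = α x * α y := fun x y => by
    rw [hα]; exact conjAut_mul C x y (hCn x) (hCn y)
  have hαone : α 1 = 1 := by rw [hα]; exact conjAut_one C
  have hαinv : ∀ x, α x⁻¹ * α x = 1 := fun x => by rw [← hαmul, inv_mul_cancel, hαone]
  have hTmem : ∀ x, x ∈ T ↔ autIrr (α x) '' e = e := by
    intro x
    rw [hT, stabilizesBlock_iff hM C he x, hα]
    exact ⟨fun ⟨_, h⟩ => h, fun h => ⟨hCn x, h⟩⟩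
  have himg : ∀ x y, autIrr (α (x * y)) '' e = autIrr (α x) '' (autIrr (α y) '' e) := by
    intro x y
    rw [hαmul, Set.image_image]
    apply Set.image_congr
    intro χ _
    rw [autIrr_mul]
  -- the orbit
  obtain ⟨O, hO⟩ : ∃ O : Set (IrrCharacter C), O = {θ | ∃ x, θ ∈ autIrr (α x) '' e} := ⟨_, rfl⟩
  have hOblock : ∀ θ ∈ O, blockOf M θ.1 ⊆ O := by
    intro θ hθ
    rw [hO] at hθ
    obtain ⟨x, hx⟩ := hθ
    obtain ⟨χ', hχ'⟩ := isPBlock_autIrr_image (M := M) (α x) he
    rw [hχ'] at hx
    rw [blockOf_eq_of_mem hM hx, ← hχ', hO]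
    intro ψ hψ
    exact ⟨x, hψ⟩
  have hOmem : blockElt O ∈ cfSubring C (localRing M hM) := blockElt_mem_of_union hM O hOblock
  have hcardT : (Nat.card T : ℂ) ≠ 0 := by
    rw [Nat.cast_ne_zero]
    exact Nat.card_pos.ne'
  -- Step 1: the sum of the conjugate idempotents
  have hstep1 : ∑ x : G, blockElt (autIrr (α x) '' e) = (Nat.card T : ℂ) • blockElt O := by
    have hcf : IsCF (∑ x : G, blockElt (autIrr (α x) '' e)) := by
      have : (∑ x : G, blockElt (autIrr (α x) '' e)) ∈ cfSubring C ⊤ := by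
        apply Subring.sum_mem
        intro x _
        exact ⟨isCF_blockElt _, fun _ => Subring.mem_top _⟩
      exact this.1
    apply eq_of_omega_eq hcf (isCF_smul _ hOmem.1)
    intro θ
    rw [omega_sum, omega_smul, omega_blockElt]
    simp only [omega_blockElt]
    by_cases hθ : θ ∈ O
    · rw [if_pos hθ, mul_one]
      rw [hO] at hθ
      obtain ⟨x₀, hx₀⟩ := hθ
      have hiff : ∀ x, θ ∈ autIrr (α x) '' e ↔ x₀⁻¹ * x ∈ T := by
        intro x
        rw [hTmem]
        constructor
        · intro hx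
          have heq : autIrr (α x) '' e = autIrr (α x₀) '' e := by
            obtain ⟨χ₁, h1⟩ := isPBlock_autIrr_image (M := M) (α x) he
            obtain ⟨χ₂, h2⟩ := isPBlock_autIrr_image (M := M) (α x₀) he
            rw [h1] at hx ⊢
            rw [h2] at hx₀ ⊢
            exact (blockOf_eq_of_mem hM hx).symm.trans (blockOf_eq_of_mem hM hx₀)
          rw [himg, heq, ← himg, inv_mul_cancel, hαone]
          ext χ
          rw [mem_autIrr_image_iff, inv_one, autIrr_one]
        · intro hx
          have : autIrr (α x) '' e = autIrr (α x₀) '' e := by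
            have e1 : x = x₀ * (x₀⁻¹ * x) := by group
            rw [e1, himg, hx]
          rw [this]
          exact hx₀
      simp only [hiff]
      rw [← Equiv.sum_comp (Equiv.mulLeft x₀)]
      simp only [Equiv.coe_mulLeft, inv_mul_cancel_left]
      rw [Finset.sum_boole]
      congr 1
      rw [Nat.card_eq_fintype_card, Fintype.card_subtype]
    · rw [if_neg hθ, mul_zero]
      apply Finset.sum_eq_zero
      intro x _
      rw [if_neg]
      intro hx
      exact hθ (by rw [hO]; exact ⟨x, hx⟩)
  -- Step 3: coefficients of `σ`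
  have hcoef : ∀ g, (zB C O).coeff g
      = (Nat.card T : ℂ)⁻¹ * ∑ x : G, subgroupBlockCoeff C e (x⁻¹ * g * x) := by
    intro g
    have h1 : ∑ x : G, (zB C (autIrr (α x) '' e)).coeff g
        = (Nat.card T : ℂ) * (zB C O).coeff g := by
      have h2 := congrArg (fun w => (extZero C w).coeff g) hstep1
      beta_reduce at h2
      rw [extZero_sum, extZero_smul, MonoidAlgebra.coeff_smul, Finsupp.smul_apply, smul_eq_mul,
        MonoidAlgebra.coeff_sum, Finsupp.finsetSum_apply] at h2
      exact h2
    have h3 : ∀ x : G, (zB C (autIrr (α x) '' e)).coeff g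
        = subgroupBlockCoeff C e (x⁻¹ * g * x) := by
      intro x
      rw [hα, subgroupBlockCoeff_eq]
      exact coeff_extZero_blockElt_autIrr C x (hCn x) e g
    rw [← Finset.sum_congr rfl (fun x _ => h3 x), h1, inv_mul_cancel_left₀ hcardT]
  -- Step 4: `σ` is central with local coefficients
  have hσcf : zB C O ∈ cfSubring G (localRing M hM) := by
    refine ⟨fun g y => ?_, fun g => ?_⟩
    · rw [hcoef, hcoef]
      congr 1
      rw [← Equiv.sum_comp (Equiv.mulLeft y)]
      apply Finset.sum_congr rfl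
      intro x _
      congr 1
      simp only [Equiv.coe_mulLeft]
      group
    · exact coeff_extZero_mem_of C _ (localRing M hM).toAddSubgroup hOmem.2 g
  -- Step 5: `blockElt B * σ = σ`
  obtain ⟨β, hβ⟩ : ∃ β : MonoidAlgebra ℂ C, β = truncTo C (blockElt B) := ⟨_, rfl⟩
  have hBext : blockElt B = extZero C β := by
    apply MonoidAlgebra.coeff_injective
    ext g
    by_cases hg : g ∈ C
    · have h1 := coeff_extZero_coe C β ⟨g, hg⟩
      simp only at h1
      rw [h1, hβ, coeff_truncTo]
    · rw [coeff_extZero_of_not_mem C _ hg, coeff_blockElt, hsupp g hg]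
  have hβcf : IsCF β := by
    rw [hβ]
    exact isCF_truncTo (isInv_of_isCF C (isCF_blockElt B))
  have hββ : β * β = β := by
    have h1 : truncTo C (extZero C (β * β)) = truncTo C (extZero C β) := by
      rw [extZero_mul, ← hBext, blockElt_mul_self]
    rwa [truncTo_extZero, truncTo_extZero] at h1
  have hβ01 : ∀ θ : IrrCharacter C, omega θ.1 β = 0 ∨ omega θ.1 β = 1 := by
    intro θ
    have := omega_mul θ hβcf β
    rw [hββ] at this
    exact eq_zero_or_one_of_mul_self this
  have hβinv : ∀ (x : G) (θ : IrrCharacter C), omega (autIrr (α x) θ).1 β = omega θ.1 β := by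
    intro x θ
    apply omega_autIrr_of_invariant
    intro k
    rw [hβ, coeff_truncTo, coeff_truncTo, hα, conjAut_apply]
    exact isCF_blockElt B _ _
  have hβe : ∀ ξ ∈ e, omega ξ.1 β = 1 := by
    intro ξ hξ
    have h1 := hone ξ hξ
    rw [← hβ] at h1
    rcases hβ01 ξ with h0 | h1'
    · rw [h0, zero_sub] at h1
      have := memLocalIdeal_neg h1
      rw [neg_neg] at this
      exact absurd this (not_memLocalIdeal_one hM)
    · exact h1'
  have hβO : β * blockElt O = blockElt O := by
    apply eq_of_omega_eq (isCF_mul hβcf hOmem.1) hOmem.1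
    intro θ
    rw [omega_mul θ hβcf, omega_blockElt]
    by_cases hθ : θ ∈ O
    · rw [if_pos hθ, mul_one]
      rw [hO] at hθ
      obtain ⟨x, ξ, hξ, rfl⟩ := hθ
      rw [hβinv, hβe ξ hξ]
    · rw [if_neg hθ, mul_zero]
  have hBσ : blockElt B * zB C O = zB C O := by
    unfold zB
    rw [hBext, ← extZero_mul, hβO]
  -- Step 6: `σ = blockElt B`
  have hσ01 : ∀ χ : IrrCharacter G, omega χ.1 (zB C O) = 0 ∨ omega χ.1 (zB C O) = 1 := by
    intro χ
    have := omega_mul χ hσcf.1 (zB C O)
    rw [zB_mul_self] at this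
    exact eq_zero_or_one_of_mul_self this
  have hσoff : ∀ χ : IrrCharacter G, χ ∉ B → omega χ.1 (zB C O) = 0 := by
    intro χ hχ
    have := omega_mul χ (isCF_blockElt B) (zB C O)
    rw [hBσ, omega_blockElt, if_neg hχ, zero_mul] at this
    exact this
  have hσne : zB C O ≠ 0 := by
    intro h
    obtain ⟨ξ₀, rfl⟩ := he
    have hξ₀ : ξ₀ ∈ O := by
      rw [hO]
      refine ⟨1, ?_⟩
      rw [hαone, mem_autIrr_image_iff, inv_one, autIrr_one]
      exact mem_blockOf_self hM ξ₀
    have h1 := omega_blockElt O ξ₀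
    rw [if_pos hξ₀, ← truncTo_zB C O, h, truncTo_zero, omega_zero] at h1
    exact zero_ne_one h1
  obtain ⟨χ₁, hχ₁⟩ : ∃ χ₁ : IrrCharacter G, omega χ₁.1 (zB C O) ≠ 0 := by
    by_contra hcon
    push Not at hcon
    exact hσne (eq_of_omega_eq hσcf.1 isCF_zero (fun χ => by rw [hcon χ, omega_zero]))
  have hχ₁B : χ₁ ∈ B := by
    by_contra h
    exact hχ₁ (hσoff χ₁ h)
  have hχ₁1 : omega χ₁.1 (zB C O) = 1 := (hσ01 χ₁).resolve_left hχ₁
  have hσon : ∀ χ : IrrCharacter G, χ ∈ B → omega χ.1 (zB C O) = 1 := by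
    intro χ hχ
    obtain ⟨χ₀, rfl⟩ := hB
    have hsb : SameBlock M χ₁.1 χ.1 := sameBlock_trans hM (sameBlock_symm hχ₁B) hχ
    have h := omega_sub_omega_memLocalIdeal hM χ₁.1 χ.1 (irr_isClassFunction _)
      (irr_isClassFunction _) hsb hσcf
    rcases hσ01 χ with h0 | h1
    · rw [hχ₁1, h0, sub_zero] at h
      exact absurd h (not_memLocalIdeal_one hM)
    · exact h1
  have hσB : zB C O = blockElt B := by
    apply eq_blockElt_of_omega hσcf.1 B
    intro χ
    by_cases hχ : χ ∈ B
    · rw [if_pos hχ]; exact hσon χ hχ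
    · rw [if_neg hχ]; exact hσoff χ hχ
  intro g
  rw [← coeff_blockElt, ← hσB, hcoef]

end Cfsg.Agent.H80
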