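import Mathlib

set_option autoImplicit false
set_option linter.unusedSectionVars false
set_option linter.style.haveILetI false

/-!
# helper80: a sum is in an additive subgroup if all its orbit sums are

`sum_mem_of_orbit_sums`: for a group acting on a finite type.
`sum_mem_of_subgroup_conj_orbits`: for a subgroup `N` of `G` acting on `G` by conjugation.
-/

namespace Cfsg.Agent.H80

open scoped Classical in
theorem sum_mem_of_orbit_sums_aux {Γ X A : Type*} [Group Γ] [MulAction Γ X] [Fintype X]
    [AddCommGroup A] (I : AddSubgroup A) (f : X → A)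
    (h : ∀ x, ∑ y ∈ Finset.univ.filter (fun y => y ∈ MulAction.orbit Γ x), f y ∈ I) :
    ∀ T : Finset X, (∀ x ∈ T, ∀ γ : Γ, γ • x ∈ T) → ∑ x ∈ T, f x ∈ I := by
  intro T
  induction T using Finset.strongInduction with
  | H T ih =>
    intro hstab
    rcases T.eq_empty_or_nonempty with hempty | ⟨x, hx⟩
    · rw [hempty, Finset.sum_empty]; exact I.zero_mem
    · set O := Finset.univ.filter (fun y => y ∈ MulAction.orbit Γ x) with hO
      have hOT : O ⊆ T := by
        intro y hy
        rw [hO, Finset.mem_filter] at hy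
        obtain ⟨γ, rfl⟩ := MulAction.mem_orbit_iff.mp hy.2
        exact hstab x hx γ
      have hxO : x ∈ O := by
        rw [hO, Finset.mem_filter]; exact ⟨Finset.mem_univ _, MulAction.mem_orbit_self x⟩
      have hsub : T \ O ⊂ T := by
        refine Finset.ssubset_iff_subset_ne.mpr ⟨Finset.sdiff_subset, ?_⟩
        intro heq
        have : x ∈ T \ O := by rw [heq]; exact hx
        exact (Finset.mem_sdiff.mp this).2 hxO
      have hstab' : ∀ y ∈ T \ O, ∀ γ : Γ, γ • y ∈ T \ O := by
        intro y hy γ
        rw [Finset.mem_sdiff] at hy ⊢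
        refine ⟨hstab y hy.1 γ, ?_⟩
        intro hγ
        apply hy.2
        rw [hO, Finset.mem_filter] at hγ ⊢
        refine ⟨Finset.mem_univ _, ?_⟩
        have h1 : MulAction.orbit Γ (γ • y) = MulAction.orbit Γ x :=
          MulAction.orbit_eq_iff.mpr hγ.2
        rw [MulAction.orbit_smul] at h1
        rw [← h1]
        exact MulAction.mem_orbit_self y
      have h1 := ih (T \ O) hsub hstab'
      rw [← Finset.sum_sdiff hOT]
      exact I.add_mem h1 (h x)

open scoped Classical in
/-- If all orbit sums of `f` lie in `I`, so does the total sum. -/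
theorem sum_mem_of_orbit_sums {Γ X A : Type*} [Group Γ] [MulAction Γ X] [Fintype X]
    [AddCommGroup A] (I : AddSubgroup A) (f : X → A)
    (h : ∀ x, ∑ y ∈ Finset.univ.filter (fun y => y ∈ MulAction.orbit Γ x), f y ∈ I) :
    ∑ x, f x ∈ I :=
  sum_mem_of_orbit_sums_aux I f h Finset.univ (fun _ _ _ => Finset.mem_univ _)

open scoped Classical in
/-- Conjugation by a subgroup `N`: if all `N`-orbit sums of `f` lie in `I`, so does the total
sum. -/
theorem sum_mem_of_subgroup_conj_orbits {G A : Type*} [Group G] [Fintype G] [AddCommGroup A]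
    (N : Subgroup G) (I : AddSubgroup A) (f : G → A)
    (h : ∀ g, ∑ y ∈ Finset.univ.filter (fun y => ∃ n ∈ N, n * g * n⁻¹ = y), f y ∈ I) :
    ∑ g, f g ∈ I := by
  letI : MulAction N G := MulAction.compHom G ((MulAut.conj : G →* MulAut G).comp N.subtype)
  have hsmul : ∀ (u : N) (x : G), u • x = (u : G) * x * (u : G)⁻¹ := fun u x => rfl
  apply sum_mem_of_orbit_sums (Γ := N) I f
  intro x
  have e : Finset.univ.filter (fun y => y ∈ MulAction.orbit N x)
      = Finset.univ.filter (fun y => ∃ n ∈ N, n * x * n⁻¹ = y) := by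
    ext y
    simp only [Finset.mem_filter, Finset.mem_univ, true_and, MulAction.mem_orbit_iff]
    constructor
    · rintro ⟨u, hu⟩
      exact ⟨u, u.2, by rw [← hu, hsmul]⟩
    · rintro ⟨n, hn, hy⟩
      exact ⟨⟨n, hn⟩, by rw [hsmul]; exact hy⟩
  rw [e]
  exact h x

end Cfsg.Agent.H80
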