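import Cfsg.Agent.H80.Subpair

set_option autoImplicit false
set_option linter.unusedSectionVars false
set_option linter.style.haveILetI false

/-!
# helper80: one normal step of Brauer pairs

For `R ≤ P ≤ N_G(R)`, a `P`-stable block `g` of `C_G(R)` and `ξ ∈ Irr(C_G(P))` with
`brLam P ξ (zB C_G(R) g) ≡ 1` (that is, `(R, g)` normally below the pair of `ξ`), and an element
`E` of `brRing P` invariant under `C_G(R)`:

* `step_up`: if the central characters of the members of `g` are `≡ 1` on the truncation of `E`
  to `C_G(R)`, then `brLam P ξ E ≡ 1`;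
* `step_down`: if `E` is idempotent and `brLam P ξ E ≡ 1`, then the central characters of the
  members of `g` are `≡ 1` on the truncation of `E` to `C_G(R)`.
-/

namespace Cfsg.Agent.H80

open Cfsg Cfsg.Agent.H20 Cfsg.Agent.H4

universe u

variable {G : Type u} [Group G] [Fintype G] {M : Ideal AlgInt}

theorem isCF_sub' {z w : MonoidAlgebra ℂ G} (hz : IsCF z) (hw : IsCF w) : IsCF (z - w) := by
  rw [sub_eq_add_neg]; exact isCF_add hz (isCF_neg hw)

section Step

variable (p : ℕ) [Fact p.Prime] (P : Subgroup G) [Fintype (Subgroup.centralizer (P : Set G))]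

/-- A central element `d` of `ℂ[K]` all of whose central characters lie in the local ideal is
killed by `brLam` (when its extension by zero lies in `brRing P`). -/
theorem brLam_radical (hM : IsPModular p M) (hP : IsPGroup p P) (K : Subgroup G) [Fintype K]
    {d : MonoidAlgebra ℂ K} (hd : d ∈ cfSubring K (localRing M (isPrime_of_isPModular hM)))
    (hdP : extZero K d ∈ brRing P (isPrime_of_isPModular hM))
    (h : ∀ θ : IrrCharacter K, MemLocalIdeal M (omega θ.1 d))
    (ξ : IrrCharacter (Subgroup.centralizer (P : Set G))) :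
    MemLocalIdeal M (brLam P ξ.1 (extZero K d)) := by
  have hMp := isPrime_of_isPModular hM
  obtain ⟨n, -, hcoef⟩ := exists_pow_coeff_memLocalIdeal hMp hd h
  have h1 := brLam_pow P p hM hP hdP ξ n
  have hpow : (extZero K d) ^ n ∈ brRing P hMp := (brRing P hMp).pow_mem hdP n
  have h2 : MemLocalIdeal M (brLam P ξ.1 ((extZero K d) ^ n)) := by
    apply brLam_memLocalIdeal_of_coeff P hMp (mem_brRing.mp hpow).2.1
    intro g
    rw [← extZero_pow]
    exact coeff_extZero_mem_of K _ (localIdeal M hMp) hcoef g
  have h3 : MemLocalIdeal M (brLam P ξ.1 (extZero K d) ^ n) := by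
    have := memLocalIdeal_sub hMp h2 h1
    rwa [sub_sub_cancel] at this
  exact memLocalIdeal_of_pow hMp (brLam_memLocalRing P hdP ξ) n h3

variable (R : Subgroup G) [Fintype (Subgroup.centralizer (R : Set G))]

theorem step_congr (hM : IsPModular p M) (hP : IsPGroup p P) (hRP : R ≤ P)
    {g : Set (IrrCharacter (Subgroup.centralizer (R : Set G)))} (hg : IsPBlock M g)
    (hstab : ∀ x ∈ P, StabilizesBlock (Subgroup.centralizer (R : Set G)) g x)
    {E : MonoidAlgebra ℂ G} (hE : E ∈ brRing P (isPrime_of_isPModular hM))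
    (hEK : IsInv (Subgroup.centralizer (R : Set G)) E)
    (ξ : IrrCharacter (Subgroup.centralizer (P : Set G)))
    (hξ : MemLocalIdeal M (brLam P ξ.1 (zB (Subgroup.centralizer (R : Set G)) g) - 1)) :
    MemLocalIdeal M (brLam P ξ.1 E - brLam P ξ.1 (extZero (Subgroup.centralizer (R : Set G))
      (truncTo (Subgroup.centralizer (R : Set G)) E * blockElt g))) := by
  have hMp := isPrime_of_isPModular hM
  have hCK : Subgroup.centralizer (P : Set G) ≤ Subgroup.centralizer (R : Set G) :=
    Subgroup.centralizer_le hRP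
  have hR : IsPGroup p R := hP.to_le hRP
  have hzg := zB_mem_brRing (Subgroup.centralizer (R : Set G)) hMp hg P hCK hstab
  have hE' := mem_brRing.mp hE
  have hzg' := mem_brRing.mp hzg
  -- multiplicativity at `P`
  have h1 := brLam_mul P p hM hP hE hzg ξ
  have h2 := memLocalIdeal_mul_left hMp (brLam_memLocalRing P hE ξ) hξ
  have h3 : MemLocalIdeal M (brLam P ξ.1 (E * zB (Subgroup.centralizer (R : Set G)) g)
      - brLam P ξ.1 E) := by
    have := memLocalIdeal_add hMp h1 h2
    have e : brLam P ξ.1 (E * zB (Subgroup.centralizer (R : Set G)) g)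
        - brLam P ξ.1 E * brLam P ξ.1 (zB (Subgroup.centralizer (R : Set G)) g)
        + brLam P ξ.1 E * (brLam P ξ.1 (zB (Subgroup.centralizer (R : Set G)) g) - 1)
        = brLam P ξ.1 (E * zB (Subgroup.centralizer (R : Set G)) g) - brLam P ξ.1 E := by ring
    rwa [e] at this
  -- the remainder at `R`
  obtain ⟨r, hr⟩ : ∃ r : MonoidAlgebra ℂ (Subgroup.centralizer (R : Set G)),
      r = truncTo (Subgroup.centralizer (R : Set G)) (E * zB (Subgroup.centralizer (R : Set G)) g)
        - truncTo (Subgroup.centralizer (R : Set G)) E * blockElt g := ⟨_, rfl⟩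
  have hrcoef : ∀ c, MemLocalIdeal M (r.coeff c) := by
    intro c
    have := brauer_coeff_mul p hM R hR (isInv_mono hRP hE'.1) (isInv_mono hRP hzg'.1) hE'.2.2
      hzg'.2.2 c
    rw [truncTo_zB] at this
    rw [hr, MonoidAlgebra.coeff_sub, Finsupp.sub_apply]
    exact this
  have hrcf : IsCF r := by
    rw [hr]
    exact isCF_sub' (isCF_truncTo (isInv_mul hEK (isInv_zB_self _ g)))
      (isCF_mul (isCF_truncTo hEK) (isCF_blockElt g))
  have h4 : MemLocalIdeal M (brLam P ξ.1 (extZero (Subgroup.centralizer (R : Set G)) r)) := by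
    apply brLam_memLocalIdeal_of_coeff P hMp (isInv_mono hCK (isInv_extZero hrcf))
    intro x
    exact coeff_extZero_mem_of _ _ (localIdeal M hMp) hrcoef x
  have h5 : brLam P ξ.1 (E * zB (Subgroup.centralizer (R : Set G)) g)
      = brLam P ξ.1 (extZero (Subgroup.centralizer (R : Set G))
          (truncTo (Subgroup.centralizer (R : Set G)) E * blockElt g))
        + brLam P ξ.1 (extZero (Subgroup.centralizer (R : Set G)) r) := by
    rw [← brLam_add]
    have e : extZero (Subgroup.centralizer (R : Set G))
          (truncTo (Subgroup.centralizer (R : Set G)) E * blockElt g)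
        + extZero (Subgroup.centralizer (R : Set G)) r
        = extZero (Subgroup.centralizer (R : Set G)) (truncTo (Subgroup.centralizer (R : Set G))
            (E * zB (Subgroup.centralizer (R : Set G)) g)) := by
      rw [hr, extZero_sub]; abel
    rw [e]
    unfold brLam
    rw [truncTo_extZero_truncTo hCK]
  have h6 := memLocalIdeal_sub hMp h4 h3
  have e : brLam P ξ.1 (extZero (Subgroup.centralizer (R : Set G)) r)
      - (brLam P ξ.1 (E * zB (Subgroup.centralizer (R : Set G)) g) - brLam P ξ.1 E)
      = brLam P ξ.1 E - brLam P ξ.1 (extZero (Subgroup.centralizer (R : Set G))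
          (truncTo (Subgroup.centralizer (R : Set G)) E * blockElt g)) := by
    rw [h5]; ring
  rwa [e] at h6

theorem extZero_trunc_mul_mem (hM : M.IsPrime) (hRP : R ≤ P)
    (hPN : P ≤ Subgroup.normalizer (R : Set G))
    {g : Set (IrrCharacter (Subgroup.centralizer (R : Set G)))} (hg : IsPBlock M g)
    (hstab : ∀ x ∈ P, StabilizesBlock (Subgroup.centralizer (R : Set G)) g x)
    {E : MonoidAlgebra ℂ G} (hE : E ∈ brRing P hM)
    (hEK : IsInv (Subgroup.centralizer (R : Set G)) E) :
    extZero (Subgroup.centralizer (R : Set G))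
      (truncTo (Subgroup.centralizer (R : Set G)) E * blockElt g) ∈ brRing P hM := by
  have hCK : Subgroup.centralizer (P : Set G) ≤ Subgroup.centralizer (R : Set G) :=
    Subgroup.centralizer_le hRP
  have hPK := hPN.trans (normalizer_le_normalizer_centralizer R)
  rw [extZero_mul]
  exact (brRing P hM).mul_mem (extZero_truncTo_mem_brRing hM hPK hCK hE hEK)
    (zB_mem_brRing (Subgroup.centralizer (R : Set G)) hM hg P hCK hstab)

theorem trunc_mem_cfSubring_of (hM : M.IsPrime) {E : MonoidAlgebra ℂ G} (hE : E ∈ brRing P hM)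
    (hEK : IsInv (Subgroup.centralizer (R : Set G)) E) :
    truncTo (Subgroup.centralizer (R : Set G)) E
      ∈ cfSubring (Subgroup.centralizer (R : Set G)) (localRing M hM) :=
  truncTo_mem_cfSubring ⟨hEK, (mem_brRing.mp hE).2.2⟩

open scoped Classical in
/-- Going up one normal step. -/
theorem step_up (hM : IsPModular p M) (hP : IsPGroup p P) (hRP : R ≤ P)
    (hPN : P ≤ Subgroup.normalizer (R : Set G))
    {g : Set (IrrCharacter (Subgroup.centralizer (R : Set G)))} (hg : IsPBlock M g)
    (hstab : ∀ x ∈ P, StabilizesBlock (Subgroup.centralizer (R : Set G)) g x)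
    {E : MonoidAlgebra ℂ G} (hE : E ∈ brRing P (isPrime_of_isPModular hM))
    (hEK : IsInv (Subgroup.centralizer (R : Set G)) E)
    (ξ : IrrCharacter (Subgroup.centralizer (P : Set G)))
    (hξ : MemLocalIdeal M (brLam P ξ.1 (zB (Subgroup.centralizer (R : Set G)) g) - 1))
    (hb : ∀ θ ∈ g, MemLocalIdeal M
      (omega θ.1 (truncTo (Subgroup.centralizer (R : Set G)) E) - 1)) :
    MemLocalIdeal M (brLam P ξ.1 E - 1) := by
  have hMp := isPrime_of_isPModular hM
  have hCK : Subgroup.centralizer (P : Set G) ≤ Subgroup.centralizer (R : Set G) :=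
    Subgroup.centralizer_le hRP
  have hbm := trunc_mem_cfSubring_of P R hMp hE hEK
  have hgm : blockElt g ∈ cfSubring (Subgroup.centralizer (R : Set G)) (localRing M hMp) := by
    obtain ⟨χ, rfl⟩ := hg
    exact blockElt_mem hMp χ
  have hzg := zB_mem_brRing (Subgroup.centralizer (R : Set G)) hMp hg P hCK hstab
  have hbg := extZero_trunc_mul_mem P R hMp hRP hPN hg hstab hE hEK
  have h1 := step_congr p P R hM hP hRP hg hstab hE hEK ξ hξ
  have h2 : MemLocalIdeal M (brLam P ξ.1 (extZero (Subgroup.centralizer (R : Set G))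
      (truncTo (Subgroup.centralizer (R : Set G)) E * blockElt g - blockElt g))) := by
    apply brLam_radical p P hM hP (Subgroup.centralizer (R : Set G))
      ((cfSubring _ _).sub_mem ((cfSubring _ _).mul_mem hbm hgm) hgm)
    · rw [extZero_sub]
      exact (brRing P hMp).sub_mem hbg hzg
    · intro θ
      rw [omega_sub, omega_mul θ hbm.1, omega_blockElt]
      by_cases hθ : θ ∈ g
      · rw [if_pos hθ, mul_one]
        exact hb θ hθ
      · rw [if_neg hθ, mul_zero, sub_zero]
        exact memLocalIdeal_zero hMp
  rw [extZero_sub, brLam_sub] at h2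
  have h3 := memLocalIdeal_add hMp (memLocalIdeal_add hMp h1 h2) hξ
  have e : brLam P ξ.1 E - brLam P ξ.1 (extZero (Subgroup.centralizer (R : Set G))
        (truncTo (Subgroup.centralizer (R : Set G)) E * blockElt g))
      + (brLam P ξ.1 (extZero (Subgroup.centralizer (R : Set G))
        (truncTo (Subgroup.centralizer (R : Set G)) E * blockElt g))
        - brLam P ξ.1 (extZero (Subgroup.centralizer (R : Set G)) (blockElt g)))
      + (brLam P ξ.1 (zB (Subgroup.centralizer (R : Set G)) g) - 1) = brLam P ξ.1 E - 1 := by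
    unfold zB; ring
  rwa [e] at h3

open scoped Classical in
/-- Going down one normal step. -/
theorem step_down (hM : IsPModular p M) (hP : IsPGroup p P) (hRP : R ≤ P)
    (hPN : P ≤ Subgroup.normalizer (R : Set G))
    {g : Set (IrrCharacter (Subgroup.centralizer (R : Set G)))} (hg : IsPBlock M g)
    (hstab : ∀ x ∈ P, StabilizesBlock (Subgroup.centralizer (R : Set G)) g x)
    {E : MonoidAlgebra ℂ G} (hE : E ∈ brRing P (isPrime_of_isPModular hM))
    (hEK : IsInv (Subgroup.centralizer (R : Set G)) E) (hEE : E * E = E)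
    (ξ : IrrCharacter (Subgroup.centralizer (P : Set G)))
    (hξ : MemLocalIdeal M (brLam P ξ.1 (zB (Subgroup.centralizer (R : Set G)) g) - 1))
    (hE1 : MemLocalIdeal M (brLam P ξ.1 E - 1)) :
    ∀ θ ∈ g, MemLocalIdeal M (omega θ.1 (truncTo (Subgroup.centralizer (R : Set G)) E) - 1) := by
  have hMp := isPrime_of_isPModular hM
  have hCK : Subgroup.centralizer (P : Set G) ≤ Subgroup.centralizer (R : Set G) :=
    Subgroup.centralizer_le hRP
  have hR : IsPGroup p R := hP.to_le hRP
  have hE' := mem_brRing.mp hE
  have hbm := trunc_mem_cfSubring_of P R hMp hE hEK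
  have hgm : blockElt g ∈ cfSubring (Subgroup.centralizer (R : Set G)) (localRing M hMp) := by
    obtain ⟨χ, rfl⟩ := hg
    exact blockElt_mem hMp χ
  have hbg := extZero_trunc_mul_mem P R hMp hRP hPN hg hstab hE hEK
  have h1 := step_congr p P R hM hP hRP hg hstab hE hEK ξ hξ
  -- the truncation is idempotent modulo the ideal
  have hidem : ∀ θ : IrrCharacter (Subgroup.centralizer (R : Set G)),
      MemLocalIdeal M (omega θ.1 (truncTo (Subgroup.centralizer (R : Set G)) E)
        * (omega θ.1 (truncTo (Subgroup.centralizer (R : Set G)) E) - 1)) := by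
    intro θ
    have hc : ∀ c, MemLocalIdeal M ((truncTo (Subgroup.centralizer (R : Set G)) E
        - truncTo (Subgroup.centralizer (R : Set G)) E
          * truncTo (Subgroup.centralizer (R : Set G)) E).coeff c) := by
      intro c
      have := brauer_coeff_mul p hM R hR (isInv_mono hRP hE'.1) (isInv_mono hRP hE'.1) hE'.2.2
        hE'.2.2 c
      rw [hEE] at this
      rw [MonoidAlgebra.coeff_sub, Finsupp.sub_apply]
      exact this
    have h := omega_mem_of_coeff _ (irr_isClassFunction θ) (localIdeal M hMp)
      (isCF_sub' hbm.1 (isCF_mul hbm.1 hbm.1))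
      (fun c => memLocalIdeal_mul_right hMp (hc c) (centralChar_memLocalRing hMp θ c))
    rw [omega_sub, omega_mul θ hbm.1] at h
    have h' := memLocalIdeal_neg h
    have e : -(omega θ.1 (truncTo (Subgroup.centralizer (R : Set G)) E)
        - omega θ.1 (truncTo (Subgroup.centralizer (R : Set G)) E)
          * omega θ.1 (truncTo (Subgroup.centralizer (R : Set G)) E))
        = omega θ.1 (truncTo (Subgroup.centralizer (R : Set G)) E)
          * (omega θ.1 (truncTo (Subgroup.centralizer (R : Set G)) E) - 1) := by ring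
    rwa [e] at h'
  intro θ₀ hθ₀
  have hR0 := omega_memLocalRing hMp θ₀ hbm
  rcases memLocalIdeal_or_of_mul hMp hR0 (memLocalRing_sub hMp hR0 (memLocalRing_one hMp))
    (hidem θ₀) with h | h
  · exfalso
    have hall : ∀ θ ∈ g, MemLocalIdeal M
        (omega θ.1 (truncTo (Subgroup.centralizer (R : Set G)) E)) := by
      intro θ hθ
      obtain ⟨χ, rfl⟩ := hg
      have hsb : SameBlock M θ.1 θ₀.1 := sameBlock_trans hMp (sameBlock_symm hθ) hθ₀
      have := omega_sub_omega_memLocalIdeal hMp θ.1 θ₀.1 (irr_isClassFunction θ)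
        (irr_isClassFunction θ₀) hsb hbm
      have h' := memLocalIdeal_add hMp this h
      rwa [sub_add_cancel] at h'
    have h2 : MemLocalIdeal M (brLam P ξ.1 (extZero (Subgroup.centralizer (R : Set G))
        (truncTo (Subgroup.centralizer (R : Set G)) E * blockElt g))) := by
      apply brLam_radical p P hM hP (Subgroup.centralizer (R : Set G))
        ((cfSubring _ _).mul_mem hbm hgm) hbg
      intro θ
      rw [omega_mul θ hbm.1, omega_blockElt]
      by_cases hθ : θ ∈ g
      · rw [if_pos hθ, mul_one]
        exact hall θ hθ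
      · rw [if_neg hθ, mul_zero]
        exact memLocalIdeal_zero hMp
    have h3 := memLocalIdeal_add hMp h1 h2
    rw [sub_add_cancel] at h3
    have h4 := memLocalIdeal_sub hMp h3 hE1
    rw [sub_sub_cancel] at h4
    exact not_memLocalIdeal_one hMp h4
  · exact h

end Step

end Cfsg.Agent.H80
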