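import Cfsg.Agent.H80.SubpairLE
import Cfsg.Agent.H80.OrbitBlock
import Cfsg.Agent.H80.OrbitSum
import Cfsg.Agent.S4658

set_option autoImplicit false
set_option linter.unusedSectionVars false
set_option linter.style.haveILetI false

/-!
# helper80: towards maximal Brauer pairs

* `extFun K ξ`, `omega_truncTo_eq_sum`: central characters of truncations as sums over `G`.
* `exists_normalSubpair_of_coeff`: if `R ⊇ P` is a `p`-subgroup normalizing `P` and stabilizing
  the block `e` of `C_G(P)`, and the idempotent of `e` has a coefficient outside the local ideal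
  at an element centralizing `R`, then `(P, e)` is normally below some pair at `R`.
* `brLam_sub_omega_mem`: if `(P, e)` is a Brauer pair of `B` then `brLam P ξ ≡ ω_χ` on the local
  class algebra (`ξ ∈ e`, `χ ∈ B`).
-/

namespace Cfsg.Agent.H80

open Cfsg Cfsg.Agent.H20 Cfsg.Agent.H4

universe u

variable {G : Type u} [Group G] [Fintype G] {M : Ideal AlgInt}

/-- The normalized function `ξ / ξ 1` on the subgroup `K`, extended by zero to `G`. -/
noncomputable def extFun (K : Subgroup G) (ξ : K → ℂ) : G → ℂ :=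
  fun g => by classical exact if h : g ∈ K then ξ ⟨g, h⟩ / ξ 1 else 0

theorem extFun_of_mem (K : Subgroup G) (ξ : K → ℂ) {g : G} (h : g ∈ K) :
    extFun K ξ g = ξ ⟨g, h⟩ / ξ 1 := by
  unfold extFun
  rw [dif_pos h]

theorem extFun_of_not_mem (K : Subgroup G) (ξ : K → ℂ) {g : G} (h : g ∉ K) :
    extFun K ξ g = 0 := by
  unfold extFun
  rw [dif_neg h]

theorem omega_truncTo_eq_sum (K : Subgroup G) [Fintype K] (ξ : K → ℂ) (z : MonoidAlgebra ℂ G) :
    omega ξ (truncTo K z) = ∑ g : G, z.coeff g * extFun K ξ g := by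
  classical
  unfold omega
  rw [Finset.sum_div]
  have e1 : ∑ k : K, (truncTo K z).coeff k * ξ k / ξ 1
      = ∑ g ∈ Finset.univ.filter (fun g : G => g ∈ K), z.coeff g * extFun K ξ g := by
    rw [Finset.sum_subtype (Finset.univ.filter (fun g : G => g ∈ K)) (p := fun g => g ∈ K)
      (fun g => by simp) (fun g => z.coeff g * extFun K ξ g)]
    apply Finset.sum_congr rfl
    intro k _
    rw [coeff_truncTo, extFun_of_mem K ξ k.2, mul_div_assoc]
  rw [e1, Finset.sum_filter]
  apply Finset.sum_congr rfl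
  intro g _
  by_cases hg : g ∈ K
  · rw [if_pos hg]
  · rw [if_neg hg, extFun_of_not_mem K ξ hg, mul_zero]

theorem smul_mem_cfSubring {S : Subring ℂ} {c : ℂ} (hc : c ∈ S) {z : MonoidAlgebra ℂ G}
    (hz : z ∈ cfSubring G S) : c • z ∈ cfSubring G S :=
  ⟨isCF_smul c hz.1, fun g => by
    rw [MonoidAlgebra.coeff_smul, Finsupp.smul_apply, smul_eq_mul]
    exact S.mul_mem hc (hz.2 g)⟩

/-- An element of the local class algebra that is idempotent modulo the ideal and has a power
with coefficients in the ideal has all coefficients in the ideal. -/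
theorem coeff_memLocalIdeal_of_idem_of_pow (hM : M.IsPrime) {t : MonoidAlgebra ℂ G}
    (ht : ∀ g, MemLocalRing M (t.coeff g))
    (htt : ∀ g, MemLocalIdeal M ((t * t - t).coeff g)) (n : ℕ) (hn : 0 < n)
    (hpow : ∀ g, MemLocalIdeal M ((t ^ n).coeff g)) : ∀ g, MemLocalIdeal M (t.coeff g) := by
  have key : ∀ k : ℕ, ∀ g, MemLocalIdeal M ((t ^ (k + 1) - t).coeff g) := by
    intro k
    induction k with
    | zero =>
      intro g
      rw [zero_add, pow_one, sub_self]
      simpa using memLocalIdeal_zero hM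
    | succ k ih =>
      intro g
      have e : t ^ (k + 1 + 1) - t = t * (t ^ (k + 1) - t) + (t * t - t) := by
        rw [pow_succ' t (k + 1)]; noncomm_ring
      rw [e, MonoidAlgebra.coeff_add, Finsupp.add_apply]
      exact memLocalIdeal_add hM (coeff_mul_memLocalIdeal hM ht ih g) (htt g)
  intro g
  obtain ⟨k, rfl⟩ := Nat.exists_eq_succ_of_ne_zero hn.ne'
  have h1 := key k g
  have h2 := memLocalIdeal_sub hM (hpow g) h1
  rw [MonoidAlgebra.coeff_sub, Finsupp.sub_apply, sub_sub_cancel] at h2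
  exact h2

section Pairs

variable (p : ℕ) [Fact p.Prime]

/-- If `R ⊇ P` normalizes `P` and stabilizes the block `e` of `C_G(P)`, and the idempotent of `e`
has a coefficient outside the local ideal at an element centralizing `R`, then `(P, e)` is
normally below some pair at `R`. -/
theorem exists_normalSubpair_of_coeff (hM : IsPModular p M) {P R : Subgroup G}
    (hR : IsPGroup p R) (hPR : P ≤ R) (hRN : R ≤ Subgroup.normalizer (P : Set G))
    {e : Set (IrrCharacter (Subgroup.centralizer (P : Set G)))} (he : IsPBlock M e)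
    (hstab : ∀ x ∈ R, StabilizesBlock (Subgroup.centralizer (P : Set G)) e x)
    (g : G) (hg : g ∈ Subgroup.centralizer (R : Set G))
    (hcoef : ¬ MemLocalIdeal M (subgroupBlockCoeff (Subgroup.centralizer (P : Set G)) e g)) :
    ∃ f : Set (IrrCharacter (Subgroup.centralizer (R : Set G))), IsNormalSubpair p M P e R f := by
  classical
  haveI : Fintype ↥(Subgroup.centralizer (P : Set G)) := Fintype.ofFinite _
  haveI : Fintype ↥(Subgroup.centralizer (R : Set G)) := Fintype.ofFinite _
  have hMp := isPrime_of_isPModular hM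
  have hCK : Subgroup.centralizer (R : Set G) ≤ Subgroup.centralizer (P : Set G) :=
    Subgroup.centralizer_le hPR
  have hε := zB_mem_brRing (Subgroup.centralizer (P : Set G)) hMp he R hCK hstab
  have hε' := mem_brRing.mp hε
  have ht := truncTo_mem_of_brRing R hε
  have htt : ∀ c, MemLocalIdeal M
      ((truncTo (Subgroup.centralizer (R : Set G)) (zB (Subgroup.centralizer (P : Set G)) e)
        * truncTo (Subgroup.centralizer (R : Set G)) (zB (Subgroup.centralizer (P : Set G)) e)
        - truncTo (Subgroup.centralizer (R : Set G))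
            (zB (Subgroup.centralizer (P : Set G)) e)).coeff c) := by
    intro c
    have := brauer_coeff_mul p hM R hR hε'.1 hε'.1 hε'.2.2 hε'.2.2 c
    rw [zB_mul_self] at this
    have h2 := memLocalIdeal_neg this
    rw [neg_sub] at h2
    rw [MonoidAlgebra.coeff_sub, Finsupp.sub_apply]
    exact h2
  obtain ⟨ξ', hξ'⟩ : ∃ ξ' : IrrCharacter (Subgroup.centralizer (R : Set G)),
      ¬ MemLocalIdeal M (brLam R ξ'.1 (zB (Subgroup.centralizer (P : Set G)) e)) := by
    by_contra hcon
    push Not at hcon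
    obtain ⟨n, hn, hcoefn⟩ := exists_pow_coeff_memLocalIdeal hMp ht hcon
    have hall := coeff_memLocalIdeal_of_idem_of_pow hMp ht.2 htt n hn hcoefn
    apply hcoef
    have h1 := hall ⟨g, hg⟩
    rw [coeff_truncTo] at h1
    rw [subgroupBlockCoeff_eq]
    exact h1
  have h1 := brLam_idem R p hM hR hε (zB_mul_self _ e) ξ' hξ'
  refine ⟨blockOf M ξ'.1, ⟨hR.to_le hPR, he⟩, ⟨hR, ξ', rfl⟩, hPR, hRN, hstab, fun ξ hξ => ?_⟩
  rw [brauerOmega_subgroupBlockCoeff]
  have h2 := brLam_congr_block R hε (ξ := ξ) (ξ' := ξ') (sameBlock_symm hξ)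
  have := memLocalIdeal_add hMp h2 h1
  rwa [sub_add_sub_cancel] at this

/-- If `(P, e)` is a Brauer pair of `B` then `brLam P ξ ≡ ω_χ` on the local class algebra, for
`ξ ∈ e` and `χ ∈ B`. -/
theorem brLam_sub_omega_mem (hM : IsPModular p M) (P : Subgroup G)
    [Fintype (Subgroup.centralizer (P : Set G))] (hP : IsPGroup p P)
    {B : Set (IrrCharacter G)} (hB : IsPBlock M B)
    (ξ : IrrCharacter (Subgroup.centralizer (P : Set G)))
    (h1 : MemLocalIdeal M (brLam P ξ.1 (blockElt B) - 1)) {z : MonoidAlgebra ℂ G}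
    (hz : z ∈ cfSubring G (localRing M (isPrime_of_isPModular hM))) {χ : IrrCharacter G}
    (hχ : χ ∈ B) : MemLocalIdeal M (brLam P ξ.1 z - omega χ.1 z) := by
  classical
  have hMp := isPrime_of_isPModular hM
  obtain ⟨χ₀, rfl⟩ := hB
  have hE := blockElt_mem hMp χ₀
  have hc : MemLocalRing M (omega χ.1 z) := omega_memLocalRing hMp χ hz
  have hd : z * blockElt (blockOf M χ₀.1) - omega χ.1 z • blockElt (blockOf M χ₀.1)
      ∈ cfSubring G (localRing M hMp) :=
    (cfSubring _ _).sub_mem ((cfSubring _ _).mul_mem hz hE) (smul_mem_cfSubring hc hE)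
  have hω : ∀ θ : IrrCharacter G, MemLocalIdeal M (omega θ.1
      (z * blockElt (blockOf M χ₀.1) - omega χ.1 z • blockElt (blockOf M χ₀.1))) := by
    intro θ
    rw [omega_sub, omega_mul θ hz.1, omega_smul, omega_blockElt]
    by_cases hθ : θ ∈ blockOf M χ₀.1
    · rw [if_pos hθ, mul_one, mul_one]
      exact omega_sub_omega_memLocalIdeal hMp θ.1 χ.1 (irr_isClassFunction _)
        (irr_isClassFunction _) (sameBlock_trans hMp (sameBlock_symm hθ) hχ) hz
    · rw [if_neg hθ, mul_zero, mul_zero, sub_zero]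
      exact memLocalIdeal_zero hMp
  obtain ⟨n, -, hcoef⟩ := exists_pow_coeff_memLocalIdeal hMp hd hω
  have hdbr := cfSubring_le_brRing P hMp hd
  have h2 := brLam_pow P p hM hP hdbr ξ n
  have h3 := brLam_memLocalIdeal_of_coeff P hMp
    (isInv_of_isCF _ ((cfSubring G (localRing M hMp)).pow_mem hd n).1) hcoef ξ
  have h4 := memLocalIdeal_sub hMp h3 h2
  rw [sub_sub_cancel] at h4
  have h5 := memLocalIdeal_of_pow hMp (brLam_memLocalRing P hdbr ξ) n h4
  rw [brLam_sub, brLam_smul] at h5
  have h6 := brLam_mul P p hM hP (cfSubring_le_brRing P hMp hz) (cfSubring_le_brRing P hMp hE) ξ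
  have hzR := brLam_memLocalRing P (cfSubring_le_brRing P hMp hz) ξ
  have h7 := memLocalIdeal_mul_left hMp hzR h1
  have h8 := memLocalIdeal_mul_left hMp hc h1
  have h9 := memLocalIdeal_add hMp (memLocalIdeal_sub hMp (memLocalIdeal_sub hMp h5 h6) h7) h8
  have e : brLam P ξ.1 (z * blockElt (blockOf M χ₀.1))
        - omega χ.1 z * brLam P ξ.1 (blockElt (blockOf M χ₀.1))
      - (brLam P ξ.1 (z * blockElt (blockOf M χ₀.1))
        - brLam P ξ.1 z * brLam P ξ.1 (blockElt (blockOf M χ₀.1)))
      - brLam P ξ.1 z * (brLam P ξ.1 (blockElt (blockOf M χ₀.1)) - 1)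
      + omega χ.1 z * (brLam P ξ.1 (blockElt (blockOf M χ₀.1)) - 1)
      = brLam P ξ.1 z - omega χ.1 z := by ring
  rwa [e] at h9

end Pairs

/-! ### Conjugation as a total function, orbits of blocks under a subgroup -/

/-- Conjugation by `x` as an automorphism of `K` (the identity when `x` does not normalize
`K`). -/
noncomputable def conjAut' (K : Subgroup G) (x : G) : MulAut K := by
  classical exact if hx : x ∈ Subgroup.normalizer (K : Set G) then conjAut K x hx else 1

theorem conjAut'_eq (K : Subgroup G) {x : G} (hx : x ∈ Subgroup.normalizer (K : Set G)) :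
    conjAut' K x = conjAut K x hx := by
  unfold conjAut'
  rw [dif_pos hx]

theorem conjAut'_mul (K : Subgroup G) {x y : G} (hx : x ∈ Subgroup.normalizer (K : Set G))
    (hy : y ∈ Subgroup.normalizer (K : Set G)) :
    conjAut' K (x * y) = conjAut' K x * conjAut' K y := by
  rw [conjAut'_eq K hx, conjAut'_eq K hy, conjAut'_eq K (mul_mem hx hy), conjAut_mul]

theorem conjAut'_one (K : Subgroup G) : conjAut' K 1 = 1 := by
  rw [conjAut'_eq K (one_mem _), conjAut_one]

theorem conjAut'_inv_mul (K : Subgroup G) {x : G} (hx : x ∈ Subgroup.normalizer (K : Set G)) :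
    conjAut' K x⁻¹ * conjAut' K x = 1 := by
  rw [← conjAut'_mul K (inv_mem hx) hx, inv_mul_cancel, conjAut'_one]

theorem conjAut'_mul_inv (K : Subgroup G) {x : G} (hx : x ∈ Subgroup.normalizer (K : Set G)) :
    conjAut' K x * conjAut' K x⁻¹ = 1 := by
  rw [← conjAut'_mul K hx (inv_mem hx), mul_inv_cancel, conjAut'_one]

theorem autIrr_image_image {K : Type u} [Group K] (α β : MulAut K) (A : Set (IrrCharacter K)) :
    autIrr α '' (autIrr β '' A) = autIrr (α * β) '' A := by
  rw [Set.image_image]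
  apply Set.image_congr
  intro χ _
  rw [autIrr_mul]

theorem autIrr_one_image {K : Type u} [Group K] (A : Set (IrrCharacter K)) :
    autIrr (1 : MulAut K) '' A = A := by
  ext χ
  rw [mem_autIrr_image_iff, inv_one, autIrr_one]

/-- The union of the conjugates of `e` under the elements of `N`. -/
def orbitSet (N K : Subgroup G) (e : Set (IrrCharacter K)) : Set (IrrCharacter K) :=
  {θ | ∃ x ∈ N, θ ∈ autIrr (conjAut' K x) '' e}

theorem subset_orbitSet (N K : Subgroup G) (e : Set (IrrCharacter K)) : e ⊆ orbitSet N K e := by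
  intro θ hθ
  refine ⟨1, one_mem _, ?_⟩
  rw [conjAut'_one, autIrr_one_image]
  exact hθ

theorem orbitSet_block (hM : M.IsPrime) (N K : Subgroup G) {e : Set (IrrCharacter K)}
    (he : IsPBlock M e) : ∀ θ ∈ orbitSet N K e, blockOf M θ.1 ⊆ orbitSet N K e := by
  rintro θ ⟨x, hx, hθ⟩
  obtain ⟨χ', hχ'⟩ := isPBlock_autIrr_image (M := M) (conjAut' K x) he
  rw [hχ'] at hθ
  rw [blockOf_eq_of_mem hM hθ, ← hχ']
  intro ψ hψ
  exact ⟨x, hx, hψ⟩

theorem orbitSet_stable (N K : Subgroup G) (hNK : N ≤ Subgroup.normalizer (K : Set G))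
    (e : Set (IrrCharacter K)) {y : G} (hy : y ∈ N) :
    autIrr (conjAut' K y) '' orbitSet N K e = orbitSet N K e := by
  ext θ
  constructor
  · rintro ⟨ψ, ⟨x, hx, hψ⟩, rfl⟩
    refine ⟨y * x, mul_mem hy hx, ?_⟩
    rw [conjAut'_mul K (hNK hy) (hNK hx), ← autIrr_image_image]
    exact ⟨ψ, hψ, rfl⟩
  · rintro ⟨x, hx, hθ⟩
    rw [mem_autIrr_image_iff]
    refine ⟨y⁻¹ * x, mul_mem (inv_mem hy) hx, ?_⟩
    rw [conjAut'_mul K (hNK (inv_mem hy)) (hNK hx), ← autIrr_image_image]
    refine ⟨θ, hθ, ?_⟩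
    congr 1
    have := conjAut'_inv_mul K (hNK hy)
    exact (eq_inv_of_mul_eq_one_left this)

/-- A block contained in the orbit set is one of the conjugates. -/
theorem eq_conj_of_subset_orbitSet (hM : M.IsPrime) (N K : Subgroup G)
    {e f : Set (IrrCharacter K)} (he : IsPBlock M e) (hf : IsPBlock M f)
    (hsub : f ⊆ orbitSet N K e) : ∃ x ∈ N, f = autIrr (conjAut' K x) '' e := by
  obtain ⟨χ, rfl⟩ := hf
  obtain ⟨x, hx, hχ⟩ := hsub (mem_blockOf_self hM χ)
  refine ⟨x, hx, ?_⟩
  obtain ⟨χ', hχ'⟩ := isPBlock_autIrr_image (M := M) (conjAut' K x) he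
  rw [hχ'] at hχ ⊢
  exact blockOf_eq_of_mem hM hχ

open scoped Classical in
/-- The idempotent of a union of blocks is the sum of the idempotents of the blocks in it. -/
theorem blockElt_union_eq_sum (hM : M.IsPrime) (O : Set (IrrCharacter G))
    (hO : ∀ θ ∈ O, blockOf M θ.1 ⊆ O) :
    blockElt O = ∑ f ∈ (blocksFinset M G).filter (fun f => f ⊆ O), blockElt f := by
  symm
  have hcf : (∑ f ∈ (blocksFinset M G).filter (fun f => f ⊆ O), blockElt f)
      ∈ cfSubring G (localRing M hM) := by
    apply Subring.sum_mem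
    intro f hf
    obtain ⟨χ, rfl⟩ := mem_blocksFinset.mp (Finset.mem_filter.mp hf).1
    exact blockElt_mem hM χ
  apply eq_blockElt_of_omega hcf.1
  intro θ
  rw [omega_sum]
  by_cases hθ : θ ∈ O
  · rw [if_pos hθ, Finset.sum_eq_single (blockOf M θ.1)]
    · rw [omega_blockElt, if_pos (mem_blockOf_self hM θ)]
    · intro f hf hne
      rw [omega_blockElt, if_neg]
      intro hθf
      obtain ⟨χ, rfl⟩ := mem_blocksFinset.mp (Finset.mem_filter.mp hf).1
      exact hne (blockOf_eq_of_mem hM hθf).symm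
    · intro h
      exact absurd (Finset.mem_filter.mpr ⟨mem_blocksFinset.mpr ⟨θ, rfl⟩, hO θ hθ⟩) h
  · rw [if_neg hθ]
    apply Finset.sum_eq_zero
    intro f hf
    rw [omega_blockElt, if_neg]
    exact fun hθf => hθ ((Finset.mem_filter.mp hf).2 hθf)

theorem coeff_zB_conjAut' (K : Subgroup G) [Fintype K] {x : G}
    (hx : x ∈ Subgroup.normalizer (K : Set G)) (A : Set (IrrCharacter K)) (g : G) :
    (zB K (autIrr (conjAut' K x) '' A)).coeff g = (zB K A).coeff (x⁻¹ * g * x) := by
  rw [conjAut'_eq K hx]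
  exact coeff_extZero_blockElt_autIrr K x hx A g

theorem isInv_zB_orbitSet (N K : Subgroup G) [Fintype K]
    (hNK : N ≤ Subgroup.normalizer (K : Set G)) (e : Set (IrrCharacter K)) :
    IsInv N (zB K (orbitSet N K e)) := by
  intro y hy g
  have h := coeff_zB_conjAut' K (hNK (inv_mem hy)) (orbitSet N K e) g
  rw [orbitSet_stable N K hNK e (inv_mem hy), inv_inv] at h
  exact h.symm

end Cfsg.Agent.H80
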