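import Cfsg.Agent.H80.EqvIrr
import Cfsg.Agent.H80.MaxPair

set_option autoImplicit false
set_option linter.unusedSectionVars false
set_option linter.style.haveILetI false

/-!
# helper80: conjugation of Brauer pairs

* `conjEqv x K K' h : K ≃* K'` (conjugation by `x`), `centEqv Q x`.
* `conjBlock_eq_image`: `conjBlock Q x f` is the image of `f` under `eqvIrr (centEqv Q x)`.
* `isBrauerPairOf_conj`, `isNormalSubpair_conj`, `conjPair`, `subpairLE_conj`.
* `pair_ext`, `conjPair_mul`, `conjPair_one`, `conjPair_of_mem_normalizer`.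
-/

namespace Cfsg.Agent.H80

open Cfsg Cfsg.Agent.H20 Cfsg.Agent.H4

universe u

section ConjEqv

variable {G : Type u} [Group G]

/-- Conjugation by `x` as an isomorphism `K ≃* K'`, when `K' = x K x⁻¹`. -/
noncomputable def conjEqv (x : G) (K K' : Subgroup G) (h : ∀ g, g ∈ K' ↔ x⁻¹ * g * x ∈ K) :
    K ≃* K' where
  toFun k := ⟨x * (k : G) * x⁻¹, (h _).mpr (by
    have e : x⁻¹ * (x * (k : G) * x⁻¹) * x = k := by group
    rw [e]; exact k.2)⟩
  invFun k' := ⟨x⁻¹ * (k' : G) * x, (h _).mp k'.2⟩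
  left_inv k := Subtype.ext (by show x⁻¹ * (x * (k : G) * x⁻¹) * x = k; group)
  right_inv k' := Subtype.ext (by show x * (x⁻¹ * (k' : G) * x) * x⁻¹ = k'; group)
  map_mul' a b := Subtype.ext (by
    show x * ((a : G) * (b : G)) * x⁻¹ = x * (a : G) * x⁻¹ * (x * (b : G) * x⁻¹); group)

theorem conjEqv_apply (x : G) (K K' : Subgroup G) (h : ∀ g, g ∈ K' ↔ x⁻¹ * g * x ∈ K) (k : K) :
    ((conjEqv x K K' h k : K') : G) = x * (k : G) * x⁻¹ := rfl

theorem conjEqv_symm_apply (x : G) (K K' : Subgroup G) (h : ∀ g, g ∈ K' ↔ x⁻¹ * g * x ∈ K)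
    (k' : K') : (((conjEqv x K K' h).symm k' : K) : G) = x⁻¹ * (k' : G) * x := rfl

theorem mem_map_conj_iff (Q : Subgroup G) (x g : G) :
    g ∈ Q.map (MulAut.conj x).toMonoidHom ↔ x⁻¹ * g * x ∈ Q := by
  constructor
  · rintro ⟨q, hq, rfl⟩
    have e : x⁻¹ * ((MulAut.conj x).toMonoidHom q) * x = q := by
      show x⁻¹ * (x * q * x⁻¹) * x = q
      group
    rw [e]; exact hq
  · intro h
    refine ⟨x⁻¹ * g * x, h, ?_⟩
    show x * (x⁻¹ * g * x) * x⁻¹ = g
    group

theorem conj_mem_map_conj (Q : Subgroup G) (x : G) {q : G} (hq : q ∈ Q) :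
    x * q * x⁻¹ ∈ Q.map (MulAut.conj x).toMonoidHom := ⟨q, hq, rfl⟩

theorem mem_centralizer_map_conj_iff (Q : Subgroup G) (x g : G) :
    g ∈ Subgroup.centralizer ((Q.map (MulAut.conj x).toMonoidHom : Subgroup G) : Set G)
      ↔ x⁻¹ * g * x ∈ Subgroup.centralizer (Q : Set G) := by
  constructor
  · intro hg
    rw [Subgroup.mem_centralizer_iff] at hg ⊢
    intro q hq
    have h1 := hg _ (conj_mem_map_conj Q x hq)
    calc q * (x⁻¹ * g * x) = x⁻¹ * ((x * q * x⁻¹) * g) * x := by group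
      _ = x⁻¹ * (g * (x * q * x⁻¹)) * x := by rw [h1]
      _ = x⁻¹ * g * x * q := by group
  · intro hg
    rw [Subgroup.mem_centralizer_iff] at hg ⊢
    rintro _ ⟨q, hq, rfl⟩
    have h1 := hg q hq
    show x * q * x⁻¹ * g = g * (x * q * x⁻¹)
    calc x * q * x⁻¹ * g = x * (q * (x⁻¹ * g * x)) * x⁻¹ := by group
      _ = x * ((x⁻¹ * g * x) * q) * x⁻¹ := by rw [h1]
      _ = g * (x * q * x⁻¹) := by group

theorem mem_normalizer_map_conj_iff (Q : Subgroup G) (x g : G) :
    g ∈ Subgroup.normalizer ((Q.map (MulAut.conj x).toMonoidHom : Subgroup G) : Set G)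
      ↔ x⁻¹ * g * x ∈ Subgroup.normalizer (Q : Set G) := by
  rw [Subgroup.mem_normalizer_iff, Subgroup.mem_normalizer_iff]
  constructor
  · intro h q
    have h1 := h (x * q * x⁻¹)
    rw [mem_map_conj_iff, mem_map_conj_iff] at h1
    have e1 : x⁻¹ * (x * q * x⁻¹) * x = q := by group
    have e2 : x⁻¹ * (g * (x * q * x⁻¹) * g⁻¹) * x = x⁻¹ * g * x * q * (x⁻¹ * g * x)⁻¹ := by group
    rw [e1, e2] at h1
    exact h1
  · intro h q'
    rw [mem_map_conj_iff, mem_map_conj_iff]
    have h1 := h (x⁻¹ * q' * x)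
    have e2 : x⁻¹ * g * x * (x⁻¹ * q' * x) * (x⁻¹ * g * x)⁻¹ = x⁻¹ * (g * q' * g⁻¹) * x := by group
    rw [e2] at h1
    exact h1

/-- Conjugation by `x` as an isomorphism `C_G(Q) ≃* C_G(x Q x⁻¹)`. -/
noncomputable def centEqv (Q : Subgroup G) (x : G) :
    Subgroup.centralizer (Q : Set G) ≃*
      Subgroup.centralizer ((Q.map (MulAut.conj x).toMonoidHom : Subgroup G) : Set G) :=
  conjEqv x _ _ (mem_centralizer_map_conj_iff Q x)

theorem centEqv_apply (Q : Subgroup G) (x : G) (c : Subgroup.centralizer (Q : Set G)) :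
    ((centEqv Q x c : _) : G) = x * (c : G) * x⁻¹ := rfl

theorem centEqv_symm_apply (Q : Subgroup G) (x : G)
    (c : Subgroup.centralizer ((Q.map (MulAut.conj x).toMonoidHom : Subgroup G) : Set G)) :
    (((centEqv Q x).symm c : _) : G) = x⁻¹ * (c : G) * x := rfl

theorem conjBlock_eq_image (Q : Subgroup G) (x : G)
    (f : Set (IrrCharacter (Subgroup.centralizer (Q : Set G)))) :
    conjBlock Q x f = eqvIrr (centEqv Q x) '' f := by
  ext ξ'
  constructor
  · rintro ⟨ξ, hξ, hrel⟩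
    refine ⟨ξ, hξ, ?_⟩
    apply Subtype.ext
    funext c'
    rw [eqvIrr_apply]
    refine (hrel ((centEqv Q x).symm c') c' ?_).symm
    rw [centEqv_symm_apply]
    group
  · rintro ⟨ξ, hξ, rfl⟩
    refine ⟨ξ, hξ, fun c c' hcc' => ?_⟩
    rw [eqvIrr_apply]
    have e : (centEqv Q x).symm c' = c := by
      apply Subtype.ext
      rw [centEqv_symm_apply, hcc']
      group
    rw [e]

variable {M : Ideal AlgInt}

theorem isPBlock_conjBlock (Q : Subgroup G) (x : G)
    {f : Set (IrrCharacter (Subgroup.centralizer (Q : Set G)))} (hf : IsPBlock M f) :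
    IsPBlock M (conjBlock Q x f) := by
  rw [conjBlock_eq_image]
  exact isPBlock_eqvIrr_image _ hf

theorem subgroupBlockCoeff_conjBlock (Q : Subgroup G) (x : G)
    (f : Set (IrrCharacter (Subgroup.centralizer (Q : Set G)))) (g : G) :
    subgroupBlockCoeff (Subgroup.centralizer
        ((Q.map (MulAut.conj x).toMonoidHom : Subgroup G) : Set G)) (conjBlock Q x f) g
      = subgroupBlockCoeff (Subgroup.centralizer (Q : Set G)) f (x⁻¹ * g * x) := by
  classical
  unfold subgroupBlockCoeff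
  by_cases hg : g ∈ Subgroup.centralizer
      ((Q.map (MulAut.conj x).toMonoidHom : Subgroup G) : Set G)
  · have hg' := (mem_centralizer_map_conj_iff Q x g).mp hg
    rw [dif_pos hg, dif_pos hg', conjBlock_eq_image, blockCoeff_eqvIrr_image]
    rfl
  · have hg' : x⁻¹ * g * x ∉ Subgroup.centralizer (Q : Set G) :=
      fun h => hg ((mem_centralizer_map_conj_iff Q x g).mpr h)
    rw [dif_neg hg, dif_neg hg']

theorem stabilizesBlock_conjBlock (Q : Subgroup G) (x : G)
    {f : Set (IrrCharacter (Subgroup.centralizer (Q : Set G)))} {y : G}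
    (h : StabilizesBlock (Subgroup.centralizer (Q : Set G)) f y) :
    StabilizesBlock (Subgroup.centralizer
      ((Q.map (MulAut.conj x).toMonoidHom : Subgroup G) : Set G)) (conjBlock Q x f)
      (x * y * x⁻¹) := by
  obtain ⟨hy, hst⟩ := h
  refine ⟨?_, ?_⟩
  · rw [Subgroup.mem_normalizer_iff] at hy ⊢
    intro c'
    rw [mem_centralizer_map_conj_iff, mem_centralizer_map_conj_iff]
    have h1 := hy (x⁻¹ * c' * x)
    have e : x⁻¹ * (x * y * x⁻¹ * c' * (x * y * x⁻¹)⁻¹) * x = y * (x⁻¹ * c' * x) * y⁻¹ := by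
      group
    rw [e]
    exact h1
  · intro χ₁ hχ₁
    rw [conjBlock_eq_image] at hχ₁ ⊢
    obtain ⟨χ, hχ, rfl⟩ := hχ₁
    obtain ⟨χ', hχ', hconj⟩ := hst χ hχ
    refine ⟨eqvIrr (centEqv Q x) χ', ⟨χ', hχ', rfl⟩, ?_⟩
    intro k₁ k₁' hk
    rw [eqvIrr_apply, eqvIrr_apply]
    apply hconj
    rw [centEqv_symm_apply, centEqv_symm_apply, hk]
    group

theorem brauerOmega_conj (P : Subgroup G) (x : G) (β β' : G → ℂ)
    (hβ : ∀ g, β' (x * g * x⁻¹) = β g)
    (ξ : IrrCharacter (Subgroup.centralizer (P : Set G))) :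
    brauerOmega (P.map (MulAut.conj x).toMonoidHom) β' (eqvIrr (centEqv P x) ξ).1
      = brauerOmega P β ξ.1 := by
  unfold brauerOmega
  rw [← finsum_comp_equiv (centEqv P x).toEquiv]
  apply finsum_congr
  intro c
  rw [eqvIrr_apply, eqvIrr_apply, map_one]
  have e1 : (centEqv P x).symm ((centEqv P x).toEquiv c) = c := (centEqv P x).symm_apply_apply c
  rw [e1]
  have e2 : (((centEqv P x).toEquiv c : _) : G) = x * (c : G) * x⁻¹ := rfl
  rw [e2, hβ]

section Pairs

variable [Fintype G] (p : ℕ) [Fact p.Prime]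

theorem isBrauerPair_conj {Q : Subgroup G}
    {f : Set (IrrCharacter (Subgroup.centralizer (Q : Set G)))} (x : G)
    (h : IsBrauerPair p M Q f) :
    IsBrauerPair p M (Q.map (MulAut.conj x).toMonoidHom) (conjBlock Q x f) :=
  ⟨h.1.map _, isPBlock_conjBlock Q x h.2⟩

/-- A conjugate of a Brauer pair of `B` is a Brauer pair of `B`. -/
theorem isBrauerPairOf_conj {B : Set (IrrCharacter G)} {Q : Subgroup G}
    {f : Set (IrrCharacter (Subgroup.centralizer (Q : Set G)))} (x : G)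
    (h : IsBrauerPairOf p M B Q f) :
    IsBrauerPairOf p M B (Q.map (MulAut.conj x).toMonoidHom) (conjBlock Q x f) := by
  obtain ⟨hQf, hB, hlam⟩ := h
  refine ⟨isBrauerPair_conj p x hQf, hB, fun ξ' hξ' => ?_⟩
  rw [conjBlock_eq_image] at hξ'
  obtain ⟨ξ, hξ, rfl⟩ := hξ'
  rw [brauerOmega_conj Q x (blockCoeff B) (blockCoeff B)
    (fun g => blockCoeff_conj_invariant B g x)]
  exact hlam ξ hξ

/-- A conjugate of a normal inclusion of Brauer pairs is a normal inclusion. -/
theorem isNormalSubpair_conj {Q P : Subgroup G}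
    {f : Set (IrrCharacter (Subgroup.centralizer (Q : Set G)))}
    {e : Set (IrrCharacter (Subgroup.centralizer (P : Set G)))} (x : G)
    (h : IsNormalSubpair p M Q f P e) :
    IsNormalSubpair p M (Q.map (MulAut.conj x).toMonoidHom) (conjBlock Q x f)
      (P.map (MulAut.conj x).toMonoidHom) (conjBlock P x e) := by
  obtain ⟨hQf, hPe, hQP, hPN, hstab, hlam⟩ := h
  refine ⟨isBrauerPair_conj p x hQf, isBrauerPair_conj p x hPe, Subgroup.map_mono hQP, ?_, ?_, ?_⟩
  · rintro _ ⟨y, hy, rfl⟩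
    rw [mem_normalizer_map_conj_iff]
    have e : x⁻¹ * ((MulAut.conj x).toMonoidHom y) * x = y := by
      show x⁻¹ * (x * y * x⁻¹) * x = y
      group
    rw [e]
    exact hPN hy
  · rintro _ ⟨y, hy, rfl⟩
    exact stabilizesBlock_conjBlock Q x (hstab y hy)
  · intro ξ' hξ'
    rw [conjBlock_eq_image] at hξ'
    obtain ⟨ξ, hξ, rfl⟩ := hξ'
    rw [brauerOmega_conj P x (subgroupBlockCoeff (Subgroup.centralizer (Q : Set G)) f)]
    · exact hlam ξ hξ
    · intro g
      rw [subgroupBlockCoeff_conjBlock]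
      congr 1
      group

/-- Conjugation of (indices of) Brauer pairs. -/
def conjPair (x : G) (a : BrauerPairIdx G) : BrauerPairIdx G :=
  ⟨a.1.map (MulAut.conj x).toMonoidHom, conjBlock a.1 x a.2⟩

theorem subpairLE_conj (x : G) {a b : BrauerPairIdx G}
    (h : Relation.ReflTransGen (NormalSubpairRel p M) a b) :
    Relation.ReflTransGen (NormalSubpairRel p M) (conjPair x a) (conjPair x b) :=
  Relation.ReflTransGen.lift (r := NormalSubpairRel p M) (p := NormalSubpairRel p M) (conjPair x)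
    (fun a b hab => isNormalSubpair_conj (Q := a.1) (P := b.1) (f := a.2) (e := b.2) p x hab) a b h

end Pairs

/-- Equality of Brauer pair indices from equality of the subgroups and pointwise agreement of the
sets of characters. -/
theorem pair_ext {Q₁ Q₂ : Subgroup G}
    {f₁ : Set (IrrCharacter (Subgroup.centralizer (Q₁ : Set G)))}
    {f₂ : Set (IrrCharacter (Subgroup.centralizer (Q₂ : Set G)))} (h : Q₁ = Q₂)
    (hf : ∀ (ξ₁ : IrrCharacter (Subgroup.centralizer (Q₁ : Set G)))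
      (ξ₂ : IrrCharacter (Subgroup.centralizer (Q₂ : Set G))),
      (∀ (u : Subgroup.centralizer (Q₁ : Set G)) (v : Subgroup.centralizer (Q₂ : Set G)),
        (u : G) = (v : G) → ξ₁.1 u = ξ₂.1 v) → (ξ₁ ∈ f₁ ↔ ξ₂ ∈ f₂)) :
    (⟨Q₁, f₁⟩ : BrauerPairIdx G) = ⟨Q₂, f₂⟩ := by
  subst h
  have : f₁ = f₂ := Set.ext fun ξ => hf ξ ξ (fun u v huv => by rw [Subtype.ext huv])
  rw [this]

theorem map_conj_mul (Q : Subgroup G) (x y : G) :
    (Q.map (MulAut.conj x).toMonoidHom).map (MulAut.conj y).toMonoidHom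
      = Q.map (MulAut.conj (y * x)).toMonoidHom := by
  ext g
  rw [mem_map_conj_iff, mem_map_conj_iff, mem_map_conj_iff]
  have e : x⁻¹ * (y⁻¹ * g * y) * x = (y * x)⁻¹ * g * (y * x) := by group
  rw [e]

theorem map_conj_one (Q : Subgroup G) : Q.map (MulAut.conj (1 : G)).toMonoidHom = Q := by
  ext g
  rw [mem_map_conj_iff]
  simp

theorem conjPair_mul (x y : G) (a : BrauerPairIdx G) :
    conjPair y (conjPair x a) = conjPair (y * x) a := by
  obtain ⟨Q, f⟩ := a
  apply pair_ext (map_conj_mul Q x y)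
  intro ξ₁ ξ₂ hpt
  show ξ₁ ∈ conjBlock (Q.map (MulAut.conj x).toMonoidHom) y (conjBlock Q x f)
    ↔ ξ₂ ∈ conjBlock Q (y * x) f
  rw [conjBlock_eq_image, conjBlock_eq_image, conjBlock_eq_image, mem_eqvIrr_image_iff,
    mem_eqvIrr_image_iff, mem_eqvIrr_image_iff]
  have e : eqvIrr (centEqv Q x).symm
      (eqvIrr (centEqv (Q.map (MulAut.conj x).toMonoidHom) y).symm ξ₁)
      = eqvIrr (centEqv Q (y * x)).symm ξ₂ := by
    apply Subtype.ext
    funext c
    rw [eqvIrr_symm_apply, eqvIrr_symm_apply, eqvIrr_symm_apply]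
    apply hpt
    rw [centEqv_apply, centEqv_apply, centEqv_apply]
    group
  rw [e]

theorem conjPair_one (a : BrauerPairIdx G) : conjPair 1 a = a := by
  obtain ⟨Q, f⟩ := a
  apply pair_ext (map_conj_one Q)
  intro ξ₁ ξ₂ hpt
  show ξ₁ ∈ conjBlock Q 1 f ↔ ξ₂ ∈ f
  rw [conjBlock_eq_image, mem_eqvIrr_image_iff]
  have e : eqvIrr (centEqv Q 1).symm ξ₁ = ξ₂ := by
    apply Subtype.ext
    funext c
    rw [eqvIrr_symm_apply]
    apply hpt
    rw [centEqv_apply]
    group
  rw [e]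

/-- Conjugating a pair at `P` by an element of `N_G(P)` gives the pair at `P` with the block moved
by the corresponding automorphism of `C_G(P)`. -/
theorem conjPair_of_mem_normalizer [Fintype G] (P : Subgroup G) {n : G}
    (hn : n ∈ Subgroup.normalizer (P : Set G))
    (e : Set (IrrCharacter (Subgroup.centralizer (P : Set G)))) :
    conjPair n ⟨P, e⟩
      = ⟨P, autIrr (conjAut' (Subgroup.centralizer (P : Set G)) n) '' e⟩ := by
  have hnC := normalizer_le_normalizer_centralizer P hn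
  have hPn : P.map (MulAut.conj n).toMonoidHom = P := by
    ext g
    rw [mem_map_conj_iff]
    have h1 := (Subgroup.mem_normalizer_iff.mp (inv_mem hn) g)
    rw [inv_inv] at h1
    exact h1.symm
  apply pair_ext hPn
  intro ξ₁ ξ₂ hpt
  show ξ₁ ∈ conjBlock P n e ↔ ξ₂ ∈ autIrr (conjAut' (Subgroup.centralizer (P : Set G)) n) '' e
  rw [conjBlock_eq_image, mem_eqvIrr_image_iff, mem_autIrr_image_iff]
  have e : eqvIrr (centEqv P n).symm ξ₁
      = autIrr (conjAut' (Subgroup.centralizer (P : Set G)) n)⁻¹ ξ₂ := by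
    apply Subtype.ext
    funext c
    rw [eqvIrr_symm_apply, autIrr_apply]
    apply hpt
    rw [centEqv_apply]
    show n * (c : G) * n⁻¹ = ((conjAut' (Subgroup.centralizer (P : Set G)) n c : _) : G)
    rw [conjAut'_eq _ hnC, conjAut_apply]
  rw [e]

end ConjEqv

end Cfsg.Agent.H80
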