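import Mathlib
import Cfsg.Agent.H45.D4Defs
import Cfsg.Agent.H86.D4Hom

/-!
# Two small pieces of the kernel computation (team project S1082, part of P-KER)

`rho_neg_one` and `scalar_of_commute`.
-/

set_option autoImplicit false
set_option maxHeartbeats 1000000
set_option linter.unusedSimpArgs false

namespace Cfsg.Agent.H80.D4

open Matrix Cfsg.Agent.H49 Cfsg.Agent.H45.D4

variable {F : Type*} [Field F]

theorem rho_neg_one : rho F (-1 : Matrix I8 I8 F) = 1 := by
  rw [← Cfsg.Agent.H86.D4.rho_one (F := F)]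
  ext row col
  simp [rho]

theorem scalar_of_commute (z : Matrix I8 I8 F) (hz : ∀ r : Fin 24, z * gmat F r 1 = gmat F r 1 * z) :
    ∃ c : F, z = c • (1 : Matrix I8 I8 F) := by
  have hN : ∀ r : Fin 24, z * (Ntab r).map (Int.cast : ℤ → F) =
      (Ntab r).map (Int.cast : ℤ → F) * z := by
    intro r
    have h := hz r
    simp only [gmat, one_smul, Matrix.mul_add, Matrix.add_mul, Matrix.mul_one, Matrix.one_mul] at h
    exact add_left_cancel h
  have o01 : z (Sum.inl 0) (Sum.inl 1) = 0 := by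
    have h := congrFun (congrFun (hN 5) (Sum.inl 0)) (Sum.inl 0)
    simp [Matrix.mul_apply, Fintype.sum_sum_type, Fin.sum_univ_four, Ntab, pairTab, sgnTab, pos, par] at h
    exact h
  have o02 : z (Sum.inl 0) (Sum.inl 2) = 0 := by
    have h := congrFun (congrFun (hN 4) (Sum.inl 0)) (Sum.inl 0)
    simp [Matrix.mul_apply, Fintype.sum_sum_type, Fin.sum_univ_four, Ntab, pairTab, sgnTab, pos, par] at h
    exact h
  have o03 : z (Sum.inl 0) (Sum.inl 3) = 0 := by
    have h := congrFun (congrFun (hN 2) (Sum.inl 0)) (Sum.inl 0)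
    simp [Matrix.mul_apply, Fintype.sum_sum_type, Fin.sum_univ_four, Ntab, pairTab, sgnTab, pos, par] at h
    exact h
  have o04 : z (Sum.inl 0) (Sum.inr 0) = 0 := by
    have h := congrFun (congrFun (hN 0) (Sum.inl 0)) (Sum.inl 1)
    simp [Matrix.mul_apply, Fintype.sum_sum_type, Fin.sum_univ_four, Ntab, pairTab, sgnTab, pos, par] at h
    exact h
  have o05 : z (Sum.inl 0) (Sum.inr 1) = 0 := by
    have h := congrFun (congrFun (hN 0) (Sum.inl 0)) (Sum.inl 0)
    simp [Matrix.mul_apply, Fintype.sum_sum_type, Fin.sum_univ_four, Ntab, pairTab, sgnTab, pos, par] at h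
    exact h
  have o06 : z (Sum.inl 0) (Sum.inr 2) = 0 := by
    have h := congrFun (congrFun (hN 1) (Sum.inl 0)) (Sum.inl 0)
    simp [Matrix.mul_apply, Fintype.sum_sum_type, Fin.sum_univ_four, Ntab, pairTab, sgnTab, pos, par] at h
    exact h
  have o07 : z (Sum.inl 0) (Sum.inr 3) = 0 := by
    have h := congrFun (congrFun (hN 3) (Sum.inl 0)) (Sum.inl 0)
    simp [Matrix.mul_apply, Fintype.sum_sum_type, Fin.sum_univ_four, Ntab, pairTab, sgnTab, pos, par] at h
    exact h
  have o10 : z (Sum.inl 1) (Sum.inl 0) = 0 := by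
    have h := congrFun (congrFun (hN 18) (Sum.inl 1)) (Sum.inl 1)
    simp [Matrix.mul_apply, Fintype.sum_sum_type, Fin.sum_univ_four, Ntab, pairTab, sgnTab, pos, par] at h
    exact h
  have o12 : z (Sum.inl 1) (Sum.inl 2) = 0 := by
    have h := congrFun (congrFun (hN 4) (Sum.inl 1)) (Sum.inl 0)
    simp [Matrix.mul_apply, Fintype.sum_sum_type, Fin.sum_univ_four, Ntab, pairTab, sgnTab, pos, par] at h
    exact h
  have o13 : z (Sum.inl 1) (Sum.inl 3) = 0 := by
    have h := congrFun (congrFun (hN 2) (Sum.inl 1)) (Sum.inl 0)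
    simp [Matrix.mul_apply, Fintype.sum_sum_type, Fin.sum_univ_four, Ntab, pairTab, sgnTab, pos, par] at h
    exact h
  have o14 : z (Sum.inl 1) (Sum.inr 0) = 0 := by
    have h := congrFun (congrFun (hN 0) (Sum.inl 1)) (Sum.inl 1)
    simp [Matrix.mul_apply, Fintype.sum_sum_type, Fin.sum_univ_four, Ntab, pairTab, sgnTab, pos, par] at h
    exact h
  have o15 : z (Sum.inl 1) (Sum.inr 1) = 0 := by
    have h := congrFun (congrFun (hN 0) (Sum.inl 1)) (Sum.inl 0)
    simp [Matrix.mul_apply, Fintype.sum_sum_type, Fin.sum_univ_four, Ntab, pairTab, sgnTab, pos, par] at h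
    exact h
  have o16 : z (Sum.inl 1) (Sum.inr 2) = 0 := by
    have h := congrFun (congrFun (hN 1) (Sum.inl 1)) (Sum.inl 0)
    simp [Matrix.mul_apply, Fintype.sum_sum_type, Fin.sum_univ_four, Ntab, pairTab, sgnTab, pos, par] at h
    exact h
  have o17 : z (Sum.inl 1) (Sum.inr 3) = 0 := by
    have h := congrFun (congrFun (hN 3) (Sum.inl 1)) (Sum.inl 0)
    simp [Matrix.mul_apply, Fintype.sum_sum_type, Fin.sum_univ_four, Ntab, pairTab, sgnTab, pos, par] at h
    exact h
  have o20 : z (Sum.inl 2) (Sum.inl 0) = 0 := by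
    have h := congrFun (congrFun (hN 18) (Sum.inl 2)) (Sum.inl 1)
    simp [Matrix.mul_apply, Fintype.sum_sum_type, Fin.sum_univ_four, Ntab, pairTab, sgnTab, pos, par] at h
    exact h
  have o21 : z (Sum.inl 2) (Sum.inl 1) = 0 := by
    have h := congrFun (congrFun (hN 5) (Sum.inl 2)) (Sum.inl 0)
    simp [Matrix.mul_apply, Fintype.sum_sum_type, Fin.sum_univ_four, Ntab, pairTab, sgnTab, pos, par] at h
    exact h
  have o23 : z (Sum.inl 2) (Sum.inl 3) = 0 := by
    have h := congrFun (congrFun (hN 2) (Sum.inl 2)) (Sum.inl 0)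
    simp [Matrix.mul_apply, Fintype.sum_sum_type, Fin.sum_univ_four, Ntab, pairTab, sgnTab, pos, par] at h
    exact h
  have o24 : z (Sum.inl 2) (Sum.inr 0) = 0 := by
    have h := congrFun (congrFun (hN 0) (Sum.inl 2)) (Sum.inl 1)
    simp [Matrix.mul_apply, Fintype.sum_sum_type, Fin.sum_univ_four, Ntab, pairTab, sgnTab, pos, par] at h
    exact h
  have o25 : z (Sum.inl 2) (Sum.inr 1) = 0 := by
    have h := congrFun (congrFun (hN 0) (Sum.inl 2)) (Sum.inl 0)
    simp [Matrix.mul_apply, Fintype.sum_sum_type, Fin.sum_univ_four, Ntab, pairTab, sgnTab, pos, par] at h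
    exact h
  have o26 : z (Sum.inl 2) (Sum.inr 2) = 0 := by
    have h := congrFun (congrFun (hN 1) (Sum.inl 2)) (Sum.inl 0)
    simp [Matrix.mul_apply, Fintype.sum_sum_type, Fin.sum_univ_four, Ntab, pairTab, sgnTab, pos, par] at h
    exact h
  have o27 : z (Sum.inl 2) (Sum.inr 3) = 0 := by
    have h := congrFun (congrFun (hN 3) (Sum.inl 2)) (Sum.inl 0)
    simp [Matrix.mul_apply, Fintype.sum_sum_type, Fin.sum_univ_four, Ntab, pairTab, sgnTab, pos, par] at h
    exact h
  have o30 : z (Sum.inl 3) (Sum.inl 0) = 0 := by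
    have h := congrFun (congrFun (hN 18) (Sum.inl 3)) (Sum.inl 1)
    simp [Matrix.mul_apply, Fintype.sum_sum_type, Fin.sum_univ_four, Ntab, pairTab, sgnTab, pos, par] at h
    exact h
  have o31 : z (Sum.inl 3) (Sum.inl 1) = 0 := by
    have h := congrFun (congrFun (hN 5) (Sum.inl 3)) (Sum.inl 0)
    simp [Matrix.mul_apply, Fintype.sum_sum_type, Fin.sum_univ_four, Ntab, pairTab, sgnTab, pos, par] at h
    exact h
  have o32 : z (Sum.inl 3) (Sum.inl 2) = 0 := by
    have h := congrFun (congrFun (hN 4) (Sum.inl 3)) (Sum.inl 0)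
    simp [Matrix.mul_apply, Fintype.sum_sum_type, Fin.sum_univ_four, Ntab, pairTab, sgnTab, pos, par] at h
    exact h
  have o34 : z (Sum.inl 3) (Sum.inr 0) = 0 := by
    have h := congrFun (congrFun (hN 0) (Sum.inl 3)) (Sum.inl 1)
    simp [Matrix.mul_apply, Fintype.sum_sum_type, Fin.sum_univ_four, Ntab, pairTab, sgnTab, pos, par] at h
    exact h
  have o35 : z (Sum.inl 3) (Sum.inr 1) = 0 := by
    have h := congrFun (congrFun (hN 0) (Sum.inl 3)) (Sum.inl 0)
    simp [Matrix.mul_apply, Fintype.sum_sum_type, Fin.sum_univ_four, Ntab, pairTab, sgnTab, pos, par] at h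
    exact h
  have o36 : z (Sum.inl 3) (Sum.inr 2) = 0 := by
    have h := congrFun (congrFun (hN 1) (Sum.inl 3)) (Sum.inl 0)
    simp [Matrix.mul_apply, Fintype.sum_sum_type, Fin.sum_univ_four, Ntab, pairTab, sgnTab, pos, par] at h
    exact h
  have o37 : z (Sum.inl 3) (Sum.inr 3) = 0 := by
    have h := congrFun (congrFun (hN 3) (Sum.inl 3)) (Sum.inl 0)
    simp [Matrix.mul_apply, Fintype.sum_sum_type, Fin.sum_univ_four, Ntab, pairTab, sgnTab, pos, par] at h
    exact h
  have o40 : z (Sum.inr 0) (Sum.inl 0) = 0 := by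
    have h := congrFun (congrFun (hN 18) (Sum.inr 0)) (Sum.inl 1)
    simp [Matrix.mul_apply, Fintype.sum_sum_type, Fin.sum_univ_four, Ntab, pairTab, sgnTab, pos, par] at h
    exact h
  have o41 : z (Sum.inr 0) (Sum.inl 1) = 0 := by
    have h := congrFun (congrFun (hN 14) (Sum.inr 0)) (Sum.inl 2)
    simp [Matrix.mul_apply, Fintype.sum_sum_type, Fin.sum_univ_four, Ntab, pairTab, sgnTab, pos, par] at h
    exact h
  have o42 : z (Sum.inr 0) (Sum.inl 2) = 0 := by
    have h := congrFun (congrFun (hN 9) (Sum.inr 0)) (Sum.inl 1)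
    simp [Matrix.mul_apply, Fintype.sum_sum_type, Fin.sum_univ_four, Ntab, pairTab, sgnTab, pos, par] at h
    exact h
  have o43 : z (Sum.inr 0) (Sum.inl 3) = 0 := by
    have h := congrFun (congrFun (hN 7) (Sum.inr 0)) (Sum.inl 1)
    simp [Matrix.mul_apply, Fintype.sum_sum_type, Fin.sum_univ_four, Ntab, pairTab, sgnTab, pos, par] at h
    exact h
  have o45 : z (Sum.inr 0) (Sum.inr 1) = 0 := by
    have h := congrFun (congrFun (hN 6) (Sum.inr 0)) (Sum.inl 2)
    simp [Matrix.mul_apply, Fintype.sum_sum_type, Fin.sum_univ_four, Ntab, pairTab, sgnTab, pos, par] at h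
    exact h
  have o46 : z (Sum.inr 0) (Sum.inr 2) = 0 := by
    have h := congrFun (congrFun (hN 6) (Sum.inr 0)) (Sum.inl 1)
    simp [Matrix.mul_apply, Fintype.sum_sum_type, Fin.sum_univ_four, Ntab, pairTab, sgnTab, pos, par] at h
    exact h
  have o47 : z (Sum.inr 0) (Sum.inr 3) = 0 := by
    have h := congrFun (congrFun (hN 8) (Sum.inr 0)) (Sum.inl 1)
    simp [Matrix.mul_apply, Fintype.sum_sum_type, Fin.sum_univ_four, Ntab, pairTab, sgnTab, pos, par] at h
    exact h
  have o50 : z (Sum.inr 1) (Sum.inl 0) = 0 := by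
    have h := congrFun (congrFun (hN 19) (Sum.inr 1)) (Sum.inl 2)
    simp [Matrix.mul_apply, Fintype.sum_sum_type, Fin.sum_univ_four, Ntab, pairTab, sgnTab, pos, par] at h
    exact h
  have o51 : z (Sum.inr 1) (Sum.inl 1) = 0 := by
    have h := congrFun (congrFun (hN 5) (Sum.inr 1)) (Sum.inl 0)
    simp [Matrix.mul_apply, Fintype.sum_sum_type, Fin.sum_univ_four, Ntab, pairTab, sgnTab, pos, par] at h
    exact h
  have o52 : z (Sum.inr 1) (Sum.inl 2) = 0 := by
    have h := congrFun (congrFun (hN 4) (Sum.inr 1)) (Sum.inl 0)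
    simp [Matrix.mul_apply, Fintype.sum_sum_type, Fin.sum_univ_four, Ntab, pairTab, sgnTab, pos, par] at h
    exact h
  have o53 : z (Sum.inr 1) (Sum.inl 3) = 0 := by
    have h := congrFun (congrFun (hN 2) (Sum.inr 1)) (Sum.inl 0)
    simp [Matrix.mul_apply, Fintype.sum_sum_type, Fin.sum_univ_four, Ntab, pairTab, sgnTab, pos, par] at h
    exact h
  have o54 : z (Sum.inr 1) (Sum.inr 0) = 0 := by
    have h := congrFun (congrFun (hN 1) (Sum.inr 1)) (Sum.inl 2)
    simp [Matrix.mul_apply, Fintype.sum_sum_type, Fin.sum_univ_four, Ntab, pairTab, sgnTab, pos, par] at h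
    exact h
  have o56 : z (Sum.inr 1) (Sum.inr 2) = 0 := by
    have h := congrFun (congrFun (hN 1) (Sum.inr 1)) (Sum.inl 0)
    simp [Matrix.mul_apply, Fintype.sum_sum_type, Fin.sum_univ_four, Ntab, pairTab, sgnTab, pos, par] at h
    exact h
  have o57 : z (Sum.inr 1) (Sum.inr 3) = 0 := by
    have h := congrFun (congrFun (hN 3) (Sum.inr 1)) (Sum.inl 0)
    simp [Matrix.mul_apply, Fintype.sum_sum_type, Fin.sum_univ_four, Ntab, pairTab, sgnTab, pos, par] at h
    exact h
  have o60 : z (Sum.inr 2) (Sum.inl 0) = 0 := by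
    have h := congrFun (congrFun (hN 18) (Sum.inr 2)) (Sum.inl 1)
    simp [Matrix.mul_apply, Fintype.sum_sum_type, Fin.sum_univ_four, Ntab, pairTab, sgnTab, pos, par] at h
    exact h
  have o61 : z (Sum.inr 2) (Sum.inl 1) = 0 := by
    have h := congrFun (congrFun (hN 5) (Sum.inr 2)) (Sum.inl 0)
    simp [Matrix.mul_apply, Fintype.sum_sum_type, Fin.sum_univ_four, Ntab, pairTab, sgnTab, pos, par] at h
    exact h
  have o62 : z (Sum.inr 2) (Sum.inl 2) = 0 := by
    have h := congrFun (congrFun (hN 4) (Sum.inr 2)) (Sum.inl 0)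
    simp [Matrix.mul_apply, Fintype.sum_sum_type, Fin.sum_univ_four, Ntab, pairTab, sgnTab, pos, par] at h
    exact h
  have o63 : z (Sum.inr 2) (Sum.inl 3) = 0 := by
    have h := congrFun (congrFun (hN 2) (Sum.inr 2)) (Sum.inl 0)
    simp [Matrix.mul_apply, Fintype.sum_sum_type, Fin.sum_univ_four, Ntab, pairTab, sgnTab, pos, par] at h
    exact h
  have o64 : z (Sum.inr 2) (Sum.inr 0) = 0 := by
    have h := congrFun (congrFun (hN 0) (Sum.inr 2)) (Sum.inl 1)
    simp [Matrix.mul_apply, Fintype.sum_sum_type, Fin.sum_univ_four, Ntab, pairTab, sgnTab, pos, par] at h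
    exact h
  have o65 : z (Sum.inr 2) (Sum.inr 1) = 0 := by
    have h := congrFun (congrFun (hN 0) (Sum.inr 2)) (Sum.inl 0)
    simp [Matrix.mul_apply, Fintype.sum_sum_type, Fin.sum_univ_four, Ntab, pairTab, sgnTab, pos, par] at h
    exact h
  have o67 : z (Sum.inr 2) (Sum.inr 3) = 0 := by
    have h := congrFun (congrFun (hN 3) (Sum.inr 2)) (Sum.inl 0)
    simp [Matrix.mul_apply, Fintype.sum_sum_type, Fin.sum_univ_four, Ntab, pairTab, sgnTab, pos, par] at h
    exact h
  have o70 : z (Sum.inr 3) (Sum.inl 0) = 0 := by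
    have h := congrFun (congrFun (hN 18) (Sum.inr 3)) (Sum.inl 1)
    simp [Matrix.mul_apply, Fintype.sum_sum_type, Fin.sum_univ_four, Ntab, pairTab, sgnTab, pos, par] at h
    exact h
  have o71 : z (Sum.inr 3) (Sum.inl 1) = 0 := by
    have h := congrFun (congrFun (hN 5) (Sum.inr 3)) (Sum.inl 0)
    simp [Matrix.mul_apply, Fintype.sum_sum_type, Fin.sum_univ_four, Ntab, pairTab, sgnTab, pos, par] at h
    exact h
  have o72 : z (Sum.inr 3) (Sum.inl 2) = 0 := by
    have h := congrFun (congrFun (hN 4) (Sum.inr 3)) (Sum.inl 0)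
    simp [Matrix.mul_apply, Fintype.sum_sum_type, Fin.sum_univ_four, Ntab, pairTab, sgnTab, pos, par] at h
    exact h
  have o73 : z (Sum.inr 3) (Sum.inl 3) = 0 := by
    have h := congrFun (congrFun (hN 2) (Sum.inr 3)) (Sum.inl 0)
    simp [Matrix.mul_apply, Fintype.sum_sum_type, Fin.sum_univ_four, Ntab, pairTab, sgnTab, pos, par] at h
    exact h
  have o74 : z (Sum.inr 3) (Sum.inr 0) = 0 := by
    have h := congrFun (congrFun (hN 0) (Sum.inr 3)) (Sum.inl 1)
    simp [Matrix.mul_apply, Fintype.sum_sum_type, Fin.sum_univ_four, Ntab, pairTab, sgnTab, pos, par] at h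
    exact h
  have o75 : z (Sum.inr 3) (Sum.inr 1) = 0 := by
    have h := congrFun (congrFun (hN 0) (Sum.inr 3)) (Sum.inl 0)
    simp [Matrix.mul_apply, Fintype.sum_sum_type, Fin.sum_univ_four, Ntab, pairTab, sgnTab, pos, par] at h
    exact h
  have o76 : z (Sum.inr 3) (Sum.inr 2) = 0 := by
    have h := congrFun (congrFun (hN 1) (Sum.inr 3)) (Sum.inl 0)
    simp [Matrix.mul_apply, Fintype.sum_sum_type, Fin.sum_univ_four, Ntab, pairTab, sgnTab, pos, par] at h
    exact h
  have d5 : z (Sum.inr 1) (Sum.inr 1) = z (Sum.inl 0) (Sum.inl 0) := by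
    have h := congrFun (congrFun (hN 23) (Sum.inl 0)) (Sum.inr 1)
    simp [Matrix.mul_apply, Fintype.sum_sum_type, Fin.sum_univ_four, Ntab, pairTab, sgnTab, pos, par] at h
    exact h.symm
  have d6 : z (Sum.inr 2) (Sum.inr 2) = z (Sum.inl 0) (Sum.inl 0) := by
    have h := congrFun (congrFun (hN 22) (Sum.inl 0)) (Sum.inr 2)
    simp [Matrix.mul_apply, Fintype.sum_sum_type, Fin.sum_univ_four, Ntab, pairTab, sgnTab, pos, par] at h
    exact h.symm
  have d7 : z (Sum.inr 3) (Sum.inr 3) = z (Sum.inl 0) (Sum.inl 0) := by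
    have h := congrFun (congrFun (hN 20) (Sum.inl 0)) (Sum.inr 3)
    simp [Matrix.mul_apply, Fintype.sum_sum_type, Fin.sum_univ_four, Ntab, pairTab, sgnTab, pos, par] at h
    exact h.symm
  have d1 : z (Sum.inl 1) (Sum.inl 1) = z (Sum.inl 0) (Sum.inl 0) := by
    have h := congrFun (congrFun (hN 18) (Sum.inl 0)) (Sum.inl 1)
    simp [Matrix.mul_apply, Fintype.sum_sum_type, Fin.sum_univ_four, Ntab, pairTab, sgnTab, pos, par] at h
    exact h.symm
  have d2 : z (Sum.inl 2) (Sum.inl 2) = z (Sum.inl 0) (Sum.inl 0) := by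
    have h := congrFun (congrFun (hN 19) (Sum.inl 0)) (Sum.inl 2)
    simp [Matrix.mul_apply, Fintype.sum_sum_type, Fin.sum_univ_four, Ntab, pairTab, sgnTab, pos, par] at h
    exact h.symm
  have d3 : z (Sum.inl 3) (Sum.inl 3) = z (Sum.inl 0) (Sum.inl 0) := by
    have h := congrFun (congrFun (hN 21) (Sum.inl 0)) (Sum.inl 3)
    simp [Matrix.mul_apply, Fintype.sum_sum_type, Fin.sum_univ_four, Ntab, pairTab, sgnTab, pos, par] at h
    exact h.symm
  have d4 : z (Sum.inr 0) (Sum.inr 0) = z (Sum.inl 0) (Sum.inl 0) := by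
    have h := congrFun (congrFun (hN 0) (Sum.inr 0)) (Sum.inl 1)
    simp [Matrix.mul_apply, Fintype.sum_sum_type, Fin.sum_univ_four, Ntab, pairTab, sgnTab, pos, par] at h
    exact h.trans d1
  refine ⟨z (Sum.inl 0) (Sum.inl 0), ?_⟩
  ext a b
  rcases a with i | i <;> rcases b with j | j <;> fin_cases i <;> fin_cases j <;>
    simp [Matrix.smul_apply, Matrix.one_apply, *]

example : rho F (-1 : Matrix I8 I8 F) = 1 := rho_neg_one

example (z : Matrix I8 I8 F) (hz : ∀ r : Fin 24, z * gmat F r 1 = gmat F r 1 * z) :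
    ∃ c : F, z = c • (1 : Matrix I8 I8 F) := scalar_of_commute z hz

end Cfsg.Agent.H80.D4
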