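import Cfsg.Agent.H80.AutIrr

set_option autoImplicit false
set_option linter.unusedSectionVars false
set_option linter.style.haveILetI false

/-!
# helper80: transport of irreducible characters and blocks along group isomorphisms

* `eqvIrr ψ χ = χ ∘ ψ⁻¹` for `ψ : K ≃* K'`, with `centralChar_eqvIrr`, `eqvIrr_image_blockOf`,
  `isPBlock_eqvIrr_image`, `blockCoeff_eqvIrr_image`.
-/

namespace Cfsg.Agent.H80

open Cfsg Cfsg.Agent.H20 Cfsg.Agent.H4

universe u

section Eqv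

variable {K K' : Type u} [Group K] [Group K']

/-- Transport of irreducible characters along an isomorphism: `χ ↦ χ ∘ ψ⁻¹`. -/
noncomputable def eqvIrr (ψ : K ≃* K') (χ : IrrCharacter K) : IrrCharacter K' :=
  ⟨fun k => χ.1 (ψ.symm k), by
    obtain ⟨n, ρ, hirr, hχ⟩ := χ.2
    refine ⟨n, (ρ.comp (ψ.symm : K' ≃* K).toMonoidHom : Representation ℂ K' (Fin n → ℂ)),
      (Cfsg.Agent.H82.irreducible_comp_iff ρ _ (ψ.symm : K' ≃* K).surjective).mpr hirr, ?_⟩
    ext k
    rw [← hχ]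
    rfl⟩

theorem eqvIrr_apply (ψ : K ≃* K') (χ : IrrCharacter K) (k : K') :
    (eqvIrr ψ χ).1 k = χ.1 (ψ.symm k) := rfl

theorem eqvIrr_symm_apply (ψ : K ≃* K') (χ : IrrCharacter K') (k : K) :
    (eqvIrr ψ.symm χ).1 k = χ.1 (ψ k) := rfl

theorem eqvIrr_symm_eqvIrr (ψ : K ≃* K') (χ : IrrCharacter K) :
    eqvIrr ψ.symm (eqvIrr ψ χ) = χ := by
  apply Subtype.ext
  funext k
  rw [eqvIrr_symm_apply, eqvIrr_apply, MulEquiv.symm_apply_apply]

theorem eqvIrr_eqvIrr_symm (ψ : K ≃* K') (χ : IrrCharacter K') :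
    eqvIrr ψ (eqvIrr ψ.symm χ) = χ := by
  apply Subtype.ext
  funext k
  rw [eqvIrr_apply, eqvIrr_symm_apply, MulEquiv.apply_symm_apply]

theorem eqvIrr_injective (ψ : K ≃* K') : Function.Injective (eqvIrr ψ) := by
  intro χ θ h
  rw [← eqvIrr_symm_eqvIrr ψ χ, h, eqvIrr_symm_eqvIrr]

theorem mem_eqvIrr_image_iff (ψ : K ≃* K') (A : Set (IrrCharacter K)) (χ : IrrCharacter K') :
    χ ∈ eqvIrr ψ '' A ↔ eqvIrr ψ.symm χ ∈ A := by
  constructor
  · rintro ⟨θ, hθ, rfl⟩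
    rwa [eqvIrr_symm_eqvIrr]
  · intro h
    exact ⟨_, h, eqvIrr_eqvIrr_symm ψ χ⟩

theorem centralizer_singleton_comap_eqv (ψ : K ≃* K') (k : K') :
    (Subgroup.centralizer ({k} : Set K')).comap (ψ : K ≃* K').toMonoidHom
      = Subgroup.centralizer ({ψ.symm k} : Set K) := by
  ext x
  rw [Subgroup.mem_comap, Subgroup.mem_centralizer_singleton_iff,
    Subgroup.mem_centralizer_singleton_iff]
  constructor
  · intro h
    have := congrArg ψ.symm h
    simpa using this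
  · intro h
    have := congrArg ψ h
    simpa using this

theorem centralChar_eqvIrr (ψ : K ≃* K') (χ : IrrCharacter K) (k : K') :
    centralChar (eqvIrr ψ χ).1 k = centralChar χ.1 (ψ.symm k) := by
  unfold centralChar
  rw [eqvIrr_apply, eqvIrr_apply, map_one, ← centralizer_singleton_comap_eqv,
    Subgroup.index_comap_of_surjective _ (ψ : K ≃* K').surjective]

variable {M : Ideal AlgInt}

theorem sameBlock_eqvIrr (ψ : K ≃* K') {χ θ : IrrCharacter K} (h : SameBlock M χ.1 θ.1) :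
    SameBlock M (eqvIrr ψ χ).1 (eqvIrr ψ θ).1 := fun g => by
  rw [centralChar_eqvIrr, centralChar_eqvIrr]; exact h _

theorem eqvIrr_image_blockOf (ψ : K ≃* K') (χ : IrrCharacter K) :
    eqvIrr ψ '' blockOf M χ.1 = blockOf M (eqvIrr ψ χ).1 := by
  ext θ
  constructor
  · rintro ⟨η, hη, rfl⟩
    exact sameBlock_eqvIrr ψ hη
  · intro hθ
    rw [mem_eqvIrr_image_iff]
    have h : SameBlock M (eqvIrr ψ.symm (eqvIrr ψ χ)).1 (eqvIrr ψ.symm θ).1 :=
      sameBlock_eqvIrr ψ.symm hθ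
    rw [eqvIrr_symm_eqvIrr] at h
    exact h

theorem isPBlock_eqvIrr_image (ψ : K ≃* K') {f : Set (IrrCharacter K)} (hf : IsPBlock M f) :
    IsPBlock M (eqvIrr ψ '' f) := by
  obtain ⟨χ, rfl⟩ := hf
  exact ⟨eqvIrr ψ χ, eqvIrr_image_blockOf ψ χ⟩

open scoped ComplexConjugate in
theorem blockCoeff_eqvIrr_image (ψ : K ≃* K') (A : Set (IrrCharacter K)) (k : K') :
    blockCoeff (eqvIrr ψ '' A) k = blockCoeff A (ψ.symm k) := by
  unfold blockCoeff
  rw [Nat.card_congr ψ.toEquiv]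
  congr 1
  rw [finsum_mem_image (fun _ _ _ _ h => eqvIrr_injective ψ h)]
  apply finsum_congr
  intro χ
  apply finsum_congr
  intro _
  rw [eqvIrr_apply, eqvIrr_apply, map_one]

end Eqv

end Cfsg.Agent.H80
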