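import Cfsg.Agent.H80.Receptive

set_option autoImplicit false
set_option linter.unusedSectionVars false
set_option linter.style.haveILetI false

/-!
# helper80: fully normalized pairs are fully automized; saturation

* `mem_normalizer_of_aut`: an element inducing an automorphism of `Q` by conjugation normalizes
  `Q`.
* `autInducedBy_eq_map`: `Aut_P(Q)` is the image of `N_P(Q)`.
* `autGroup_blockFusion_eq`: `Aut_F(Q)` is the image of the stabilizer of `(Q, f)`.
* `isFullyAutomized_blockFusion`: fully normalized pairs are fully automized.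
* `isSaturated_blockFusion`: the fusion system of a block is saturated.
-/

namespace Cfsg.Agent.H80

open Cfsg Cfsg.Agent.H20 Cfsg.Agent.H4

universe u

theorem mem_normalizer_of_aut {G : Type*} [Group G] {Q : Subgroup G} (α : MulAut Q) (g : G)
    (h : ∀ x : Q, ((α x : Q) : G) = g * (x : G) * g⁻¹) :
    g ∈ Subgroup.normalizer (Q : Set G) := by
  rw [Subgroup.mem_normalizer_iff]
  intro q
  constructor
  · intro hq
    rw [← h ⟨q, hq⟩]
    exact (α ⟨q, hq⟩).2
  · intro hq
    have h1 := h (α.symm ⟨g * q * g⁻¹, hq⟩)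
    rw [MulEquiv.apply_symm_apply] at h1
    have h2 : q = ((α.symm ⟨g * q * g⁻¹, hq⟩ : Q) : G) :=
      mul_left_cancel (mul_right_cancel h1)
    rw [h2]
    exact (α.symm ⟨g * q * g⁻¹, hq⟩).2

theorem autInducedBy_eq_map {G : Type*} [Group G] (P Q : Subgroup G) :
    autInducedBy P Q = ((P ⊓ Subgroup.normalizer (Q : Set G)).subgroupOf
      (Subgroup.normalizer (Q : Set G))).map Q.normalizerMonoidHom := by
  have hset : {α : MulAut Q | ∃ g ∈ P, ∀ x : Q, ((α x : Q) : G) = g * (x : G) * g⁻¹}
      = ((((P ⊓ Subgroup.normalizer (Q : Set G)).subgroupOf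
        (Subgroup.normalizer (Q : Set G))).map Q.normalizerMonoidHom : Subgroup (MulAut Q)) :
          Set (MulAut Q)) := by
    ext α
    constructor
    · rintro ⟨g, hgP, hg⟩
      have hgN := mem_normalizer_of_aut α g hg
      refine ⟨⟨g, hgN⟩, Subgroup.mem_subgroupOf.mpr ⟨hgP, hgN⟩, ?_⟩
      ext u
      exact (hg u).symm
    · rintro ⟨n, hn, rfl⟩
      exact ⟨(n : G), (Subgroup.mem_subgroupOf.mp hn).1, fun x => rfl⟩
  unfold autInducedBy
  rw [hset, Subgroup.closure_eq]

variable {G : Type u} [Group G] [Fintype G] {M : Ideal AlgInt}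

section Main

variable (p : ℕ) [Fact p.Prime]

/-- `Aut_F(Q)` is the image in `Aut(Q)` of the stabilizer of `(Q, f)`. -/
theorem autGroup_blockFusion_eq (hM : IsPModular p M) {B : Set (IrrCharacter G)}
    {P : Subgroup G} {e : Set (IrrCharacter (Subgroup.centralizer (P : Set G)))}
    (hmax : IsMaximalBrauerPair p M B P e)
    {Qs : Subgroup G} {fs : Set (IrrCharacter (Subgroup.centralizer (Qs : Set G)))}
    (hles : SubpairLE p M Qs fs P e) (T : Subgroup G)
    (hT : ∀ y : G, y ∈ T ↔ y ∈ Subgroup.normalizer (Qs : Set G) ∧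
      StabilizesBlock (Subgroup.centralizer (Qs : Set G)) fs y) :
    (blockFusion p hM hmax.1.1).autGroup Qs
      = (T.subgroupOf (Subgroup.normalizer (Qs : Set G))).map Qs.normalizerMonoidHom := by
  classical
  have hMp := isPrime_of_isPModular hM
  have hPe : IsBrauerPair p M P e := hmax.1.1
  have hQsP : Qs ≤ P := subpairLE_le hles
  have hQsfs : IsBrauerPair p M Qs fs := isBrauerPair_of_subpairLE hles hPe
  have hset : {α : MulAut Qs | Qs.subtype.comp α.toMonoidHom
        ∈ (blockFusion p hM hmax.1.1).Hom Qs}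
      = (((T.subgroupOf (Subgroup.normalizer (Qs : Set G))).map Qs.normalizerMonoidHom :
          Subgroup (MulAut Qs)) : Set (MulAut Qs)) := by
    ext α
    constructor
    · rintro ⟨-, g, hαg, hgP, f₁, h1, h2⟩
      have hαg' : ∀ x : Qs, ((α x : Qs) : G) = g * (x : G) * g⁻¹ := hαg
      have hgN := mem_normalizer_of_aut α g hαg'
      have hff : f₁ = fs := subpairLE_unique hM _ P e rfl hPe Qs f₁ fs h1 hles
      rw [hff] at h2
      have hmap : Qs.map (MulAut.conj g).toMonoidHom = Qs :=
        (map_conj_eq_iff_mem_normalizer Qs g).mpr hgN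
      obtain ⟨f'', hf''⟩ := exists_snd_of_fst_eq (conjPair g ⟨Qs, fs⟩) hmap
      have h2' : Relation.ReflTransGen (NormalSubpairRel p M) (conjPair g ⟨Qs, fs⟩) ⟨P, e⟩ := h2
      rw [hf''] at h2'
      have hff' : f'' = fs := subpairLE_unique hM _ P e rfl hPe Qs f'' fs h2' hles
      rw [hff'] at hf''
      obtain ⟨-, hgst⟩ := stab_of_conjPair_eq hMp hQsfs.2 hf''
      refine ⟨⟨g, hgN⟩, Subgroup.mem_subgroupOf.mpr ((hT g).mpr ⟨hgN, hgst⟩), ?_⟩
      ext u
      exact (hαg' u).symm
    · rintro ⟨t, ht, rfl⟩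
      have htT : (t : G) ∈ T := Subgroup.mem_subgroupOf.mp ht
      obtain ⟨htN, htst⟩ := (hT _).mp htT
      refine ⟨hQsP, (t : G), fun u => rfl, ?_, fs, hles, ?_⟩
      · rw [(map_conj_eq_iff_mem_normalizer Qs _).mpr htN]; exact hQsP
      · show Relation.ReflTransGen (NormalSubpairRel p M) (conjPair (t : G) ⟨Qs, fs⟩) ⟨P, e⟩
        rw [conjPair_eq_of_stab hMp hQsfs.2 htN htst]; exact hles
  unfold FusionSystem.autGroup
  rw [hset, Subgroup.closure_eq]

/-- **Fully normalized pairs are fully automized.** -/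
theorem isFullyAutomized_blockFusion (hM : IsPModular p M) {B : Set (IrrCharacter G)}
    {P : Subgroup G} {e : Set (IrrCharacter (Subgroup.centralizer (P : Set G)))}
    (hmax : IsMaximalBrauerPair p M B P e)
    {Qs : Subgroup G} {fs : Set (IrrCharacter (Subgroup.centralizer (Qs : Set G)))}
    (hles : SubpairLE p M Qs fs P e) (T : Subgroup G)
    (hT : ∀ y : G, y ∈ T ↔ y ∈ Subgroup.normalizer (Qs : Set G) ∧
      StabilizesBlock (Subgroup.centralizer (Qs : Set G)) fs y)
    {F' : Set (IrrCharacter T)} (hF' : IsPBlock M F')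
    (hF'c : ∀ t : T, blockCoeff F' t
      = subgroupBlockCoeff (Subgroup.centralizer (Qs : Set G)) fs (t : G))
    (hD : IsDefectGroup p M F' ((P ⊓ Subgroup.normalizer (Qs : Set G)).subgroupOf T)) :
    (blockFusion p hM hmax.1.1).IsFullyAutomized p Qs := by
  classical
  have hPe : IsBrauerPair p M P e := hmax.1.1
  have hQsP : Qs ≤ P := subpairLE_le hles
  have hCT : Subgroup.centralizer (Qs : Set G) ≤ T := fun c hc =>
    (hT c).mpr ⟨Subgroup.centralizer_le_normalizer _ hc, stabilizesBlock_of_mem _ _ hc⟩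
  have hTN : T ≤ Subgroup.normalizer (Qs : Set G) := fun t ht => ((hT t).mp ht).1
  have hA := autGroup_blockFusion_eq p hM hmax hles T hT
  have hI := autInducedBy_eq_map P Qs
  refine ⟨hQsP, ?_⟩
  have hpg : IsPGroup p ↥((autInducedBy P Qs).subgroupOf
      ((blockFusion p hM hmax.1.1).autGroup Qs)) := by
    have h1 : IsPGroup p ↥(P ⊓ Subgroup.normalizer (Qs : Set G)) := hPe.1.to_le inf_le_left
    have h2 : IsPGroup p ↥((P ⊓ Subgroup.normalizer (Qs : Set G)).subgroupOf
        (Subgroup.normalizer (Qs : Set G))) := h1.comap_subtype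
    have h3 : IsPGroup p ↥(autInducedBy P Qs) := by rw [hI]; exact h2.map _
    exact h3.comap_subtype
  have hidx : ¬ p ∣ ((autInducedBy P Qs).subgroupOf
      ((blockFusion p hM hmax.1.1).autGroup Qs)).index := by
    show ¬ p ∣ (autInducedBy P Qs).relIndex ((blockFusion p hM hmax.1.1).autGroup Qs)
    rw [hA, hI, Subgroup.relIndex_map_map, Subgroup.normalizerMonoidHom_ker,
      ← Subgroup.subgroupOf_sup (inf_le_right) (Subgroup.centralizer_le_normalizer _),
      ← Subgroup.subgroupOf_sup hTN (Subgroup.centralizer_le_normalizer _),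
      sup_of_le_left hCT, Subgroup.relIndex_subgroupOf hTN]
    exact not_dvd_relIndex_of_defectGroup p hM hPe hles T hT hF' hF'c hD
  exact ⟨hpg.toSylow hidx, rfl⟩

/-- **The fusion system of a block on a maximal Brauer pair is saturated.** -/
theorem isSaturated_blockFusion (hM : IsPModular p M) {B : Set (IrrCharacter G)}
    {P : Subgroup G} {e : Set (IrrCharacter (Subgroup.centralizer (P : Set G)))}
    (hmax : IsMaximalBrauerPair p M B P e) :
    (blockFusion p hM hmax.1.1).IsSaturated p := by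
  have hMp := isPrime_of_isPModular hM
  have hPe : IsBrauerPair p M P e := hmax.1.1
  intro Q hQP
  obtain ⟨f, hf, hle⟩ := exists_subpairLE hM P e hPe _ Q hQP rfl
  obtain ⟨x, hlex, hx⟩ := exists_conj_fully_normalized p hM hmax hle
  have hfs : IsPBlock M (conjBlock Q x f) := (isBrauerPair_of_subpairLE hlex hPe).2
  obtain ⟨T, hT⟩ := exists_stabilizer' hMp (Q.map (MulAut.conj x).toMonoidHom) hfs
  obtain ⟨F', hF', hF'c, hD⟩ := hx T hT
  refine ⟨Q.map (MulAut.conj x).toMonoidHom, ?_,
    isFullyAutomized_blockFusion p hM hmax hlex T hT hF' hF'c hD,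
    isReceptive_blockFusion p hM hmax hlex T hT hF' hF'c hD⟩
  exact (isConj_iff_of_blockFusion p hM (isBlockFusionSystemOn_blockFusion p hM hmax) hle
    _).mpr ⟨x, rfl, hlex⟩

end Main

end Cfsg.Agent.H80
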