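import Cfsg.Agent.H80.MaxConj2

set_option autoImplicit false
set_option linter.unusedSectionVars false
set_option linter.style.haveILetI false

/-!
# helper80: centralizers in a maximal Brauer pair and defect groups

* `exists_stabilizer`: the stabilizer of a block as a subgroup.
* `normalSubpair_of_le_of_le`: two pairs below `(P, e)` on `Q ≤ R ≤ N(Q)` are normally included.
* `exists_coeff_of_normalSubpair`: a normal inclusion `(Q, f) ⊴ (R, g)` forces the idempotent of
  `f` to have a coefficient outside the ideal on `C_G(R)`.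
* `exists_defectGroup_ge`: min–max: a `p`-subgroup centralizing an element where the block
  idempotent is a unit lies in a defect group.
* `exists_defectGroup_ge_centralizer`: `C_P(Q)` lies in a defect group of `f` for `(Q, f) ≤ (P, e)`.
* `exists_conj_fully_centralized`: some conjugate of `(Q, f)` below the maximal pair `(P, e)` has
  `C_P(Q)` as a defect group.
-/

namespace Cfsg.Agent.H80

open Cfsg Cfsg.Agent.H20 Cfsg.Agent.H4

universe u

/-- Min–max: a `p`-subgroup centralizing an element at which the idempotent of the block `f` has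
a coefficient outside the ideal is contained in a defect group of `f`. -/
theorem exists_defectGroup_ge {H : Type u} [Group H] [Fintype H] {M : Ideal AlgInt} (p : ℕ)
    [Fact p.Prime] (hM : IsPModular p M)
    {f : Set (IrrCharacter H)} (hf : IsPBlock M f) (y : H)
    (hy : ¬ MemLocalIdeal M (blockCoeff f y)) (D₀ : Subgroup H) (hD₀ : IsPGroup p D₀)
    (hD₀y : D₀ ≤ Subgroup.centralizer ({y} : Set H)) :
    ∃ D : Subgroup H, IsDefectGroup p M f D ∧ D₀ ≤ D := by
  have hMp := isPrime_of_isPModular hM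
  obtain ⟨g₀, hg₀⟩ := Cfsg.Agent.S0906.result p M hM f hf
  obtain ⟨χ₁, rfl⟩ := hf
  have hχ₁ := mem_blockOf_self hMp χ₁
  obtain ⟨x, hconj, hle⟩ := exists_conj_centralized_of_block hM χ₁ g₀ y (hg₀.2.2 χ₁ hχ₁) hy D₀
    hD₀ hD₀y
  obtain ⟨t, rfl⟩ := isConj_iff.mp hconj
  obtain ⟨S, hS⟩ := exists_sylow_centralizer_ge (t * g₀ * t⁻¹) D₀ hD₀ hle
  exact ⟨_, ⟨t * g₀ * t⁻¹, isDefectClass_conj hg₀ t, S, rfl⟩, hS⟩

variable {G : Type u} [Group G] [Fintype G] {M : Ideal AlgInt}

/-- The stabilizer of a block of `K` in `G`, as a subgroup. -/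
theorem exists_stabilizer (hM : M.IsPrime) (K : Subgroup G) {f : Set (IrrCharacter K)}
    (hf : IsPBlock M f) : ∃ T : Subgroup G, ∀ y : G, y ∈ T ↔ StabilizesBlock K f y := by
  letI := irrSetAction (K.normalizerMonoidHom)
  refine ⟨(MulAction.stabilizer (Subgroup.normalizer (K : Set G)) f).map
    (Subgroup.normalizer (K : Set G)).subtype, fun y => ?_⟩
  rw [stabilizesBlock_iff hM K hf]
  constructor
  · rintro ⟨u, hu, rfl⟩
    exact ⟨u.2, hu⟩
  · rintro ⟨hy, h⟩
    exact ⟨⟨y, hy⟩, h, rfl⟩

section Main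

variable (p : ℕ) [Fact p.Prime]

/-- Two pairs below `(P, e)`, on subgroups `Q ≤ R ≤ N_G(Q)`, are normally included. -/
theorem normalSubpair_of_le_of_le (hM : IsPModular p M) {P Q R : Subgroup G}
    {e : Set (IrrCharacter (Subgroup.centralizer (P : Set G)))}
    {f : Set (IrrCharacter (Subgroup.centralizer (Q : Set G)))}
    {g : Set (IrrCharacter (Subgroup.centralizer (R : Set G)))}
    (hPe : IsBrauerPair p M P e) (hQR : Q ≤ R) (hRN : R ≤ Subgroup.normalizer (Q : Set G))
    (hQ : SubpairLE p M Q f P e) (hR : SubpairLE p M R g P e) :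
    IsNormalSubpair p M Q f R g := by
  have hpairR : IsBrauerPair p M R g := isBrauerPair_of_subpairLE hR hPe
  obtain ⟨f₀, hf₀, -⟩ := Cfsg.Agent.S4656.result p M hM R Q g hpairR hQR hRN
  have h1 : SubpairLE p M Q f₀ P e :=
    Relation.ReflTransGen.head (show NormalSubpairRel p M ⟨Q, f₀⟩ ⟨R, g⟩ from hf₀) hR
  have h2 := subpairLE_unique hM _ P e rfl hPe Q f₀ f h1 hQ
  rw [← h2]
  exact hf₀

/-- A normal inclusion `(Q, f) ⊴ (R, g)` forces the idempotent of `f` to have a coefficient
outside the ideal at some element of `C_G(R)`. -/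
theorem exists_coeff_of_normalSubpair (hM : IsPModular p M) {Q R : Subgroup G}
    {f : Set (IrrCharacter (Subgroup.centralizer (Q : Set G)))}
    {g : Set (IrrCharacter (Subgroup.centralizer (R : Set G)))}
    (h : IsNormalSubpair p M Q f R g) :
    ∃ y ∈ Subgroup.centralizer (R : Set G),
      ¬ MemLocalIdeal M (subgroupBlockCoeff (Subgroup.centralizer (Q : Set G)) f y) := by
  classical
  haveI : Fintype ↥(Subgroup.centralizer (Q : Set G)) := Fintype.ofFinite _
  haveI : Fintype ↥(Subgroup.centralizer (R : Set G)) := Fintype.ofFinite _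
  have hMp := isPrime_of_isPModular hM
  obtain ⟨⟨hQ, hf⟩, ⟨hR, hg⟩, hQR, hRN, hstab, hlam⟩ := h
  obtain ⟨ξ, hξ⟩ : ∃ ξ : IrrCharacter (Subgroup.centralizer (R : Set G)), ξ ∈ g := by
    obtain ⟨ξ, rfl⟩ := hg
    exact ⟨ξ, mem_blockOf_self hMp ξ⟩
  have h1 := hlam ξ hξ
  rw [brauerOmega_subgroupBlockCoeff] at h1
  by_contra hcon
  push Not at hcon
  have hCK : Subgroup.centralizer (R : Set G) ≤ Subgroup.centralizer (Q : Set G) :=
    Subgroup.centralizer_le hQR
  have hz := zB_mem_brRing (Subgroup.centralizer (Q : Set G)) hMp hf R hCK hstab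
  have h2 : MemLocalIdeal M (brLam R ξ.1 (zB (Subgroup.centralizer (Q : Set G)) f)) := by
    unfold brLam
    apply omega_mem_of_coeff _ (irr_isClassFunction ξ) (localIdeal M hMp)
      (truncTo_mem_of_brRing R hz).1
    intro k
    rw [coeff_truncTo]
    have h3 := hcon k k.2
    rw [subgroupBlockCoeff_eq] at h3
    exact memLocalIdeal_mul_right hMp h3 (centralChar_memLocalRing hMp ξ k)
  have h3 := memLocalIdeal_sub hMp h2 h1
  rw [sub_sub_cancel] at h3
  exact not_memLocalIdeal_one hMp h3

/-- For `(Q, f) ≤ (P, e)`, the subgroup `C_P(Q)` lies in a defect group of `f`. -/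
theorem exists_defectGroup_ge_centralizer (hM : IsPModular p M) {P Q : Subgroup G}
    {e : Set (IrrCharacter (Subgroup.centralizer (P : Set G)))}
    {f : Set (IrrCharacter (Subgroup.centralizer (Q : Set G)))}
    (hPe : IsBrauerPair p M P e) (hle : SubpairLE p M Q f P e) :
    ∃ D : Subgroup (Subgroup.centralizer (Q : Set G)), IsDefectGroup p M f D ∧
      (P ⊓ Subgroup.centralizer (Q : Set G)).subgroupOf (Subgroup.centralizer (Q : Set G)) ≤ D := by
  classical
  haveI : Fintype ↥(Subgroup.centralizer (Q : Set G)) := Fintype.ofFinite _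
  have hMp := isPrime_of_isPModular hM
  have hQP : Q ≤ P := subpairLE_le hle
  obtain ⟨R, hR⟩ : ∃ R : Subgroup G, R = Q ⊔ (P ⊓ Subgroup.centralizer (Q : Set G)) := ⟨_, rfl⟩
  have hRP : R ≤ P := by rw [hR]; exact sup_le hQP inf_le_left
  have hQR : Q ≤ R := by rw [hR]; exact le_sup_left
  have hRN : R ≤ Subgroup.normalizer (Q : Set G) := by
    rw [hR]
    exact sup_le Subgroup.le_normalizer (inf_le_right.trans (Subgroup.centralizer_le_normalizer _))
  obtain ⟨fR, hfR, hleR⟩ := exists_subpairLE hM P e hPe _ R hRP rfl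
  have hnorm : IsNormalSubpair p M Q f R fR :=
    normalSubpair_of_le_of_le p hM hPe hQR hRN hle hleR
  obtain ⟨y, hyR, hy⟩ := exists_coeff_of_normalSubpair p hM hnorm
  have hyQ : y ∈ Subgroup.centralizer (Q : Set G) := Subgroup.centralizer_le hQR hyR
  have hcoef : ¬ MemLocalIdeal M (blockCoeff f ⟨y, hyQ⟩) := by
    unfold subgroupBlockCoeff at hy
    rw [dif_pos hyQ] at hy
    exact hy
  apply exists_defectGroup_ge p hM hnorm.1.2 ⟨y, hyQ⟩ hcoef _
    (IsPGroup.comap_subtype (hPe.1.to_le inf_le_left))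
  intro d hd
  have hd' : (d : G) ∈ P ⊓ Subgroup.centralizer (Q : Set G) := hd
  rw [Subgroup.mem_centralizer_iff]
  intro k hk
  rw [Set.mem_singleton_iff] at hk
  subst hk
  apply Subtype.ext
  have hdR : (d : G) ∈ R := by rw [hR]; exact Subgroup.mem_sup_right hd'
  exact (Subgroup.mem_centralizer_iff.mp hyR _ hdR).symm

/-- Auxiliary step: a pair `(Q', f')` below the maximal pair `(P, e)` has a conjugate below
`(P, e)` whose `C_P` is at least as large as a defect group of `f'` containing `C_P(Q')`. -/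
theorem exists_conj_centralizer_ge (hM : IsPModular p M) {B : Set (IrrCharacter G)}
    {P Q' : Subgroup G} {e : Set (IrrCharacter (Subgroup.centralizer (P : Set G)))}
    {f' : Set (IrrCharacter (Subgroup.centralizer (Q' : Set G)))}
    (hmax : IsMaximalBrauerPair p M B P e) (hle' : SubpairLE p M Q' f' P e) :
    ∃ (D : Subgroup (Subgroup.centralizer (Q' : Set G))) (y : G), IsDefectGroup p M f' D ∧
      (P ⊓ Subgroup.centralizer (Q' : Set G)).subgroupOf (Subgroup.centralizer (Q' : Set G)) ≤ D ∧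
      Relation.ReflTransGen (NormalSubpairRel p M) (conjPair y ⟨Q', f'⟩) ⟨P, e⟩ ∧
      Nat.card D ≤ Nat.card ↥(P ⊓ Subgroup.centralizer
        ((Q'.map (MulAut.conj y).toMonoidHom : Subgroup G) : Set G)) := by
  classical
  have hMp := isPrime_of_isPModular hM
  have hPe : IsBrauerPair p M P e := hmax.1.1
  have hB := hmax.1.2.1
  obtain ⟨D, hD, hCD⟩ := exists_defectGroup_ge_centralizer p hM hPe hle'
  have hD' := hD
  obtain ⟨g₀, hg₀, S₀, hDS⟩ := hD'
  have hQ'f' : IsBrauerPair p M Q' f' := isBrauerPair_of_subpairLE hle' hPe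
  have hDp : IsPGroup p D := by
    rw [hDS]
    exact S₀.isPGroup'.map _
  obtain ⟨DG, hDG⟩ : ∃ DG : Subgroup G,
      DG = D.map (Subgroup.centralizer (Q' : Set G)).subtype := ⟨_, rfl⟩
  have hDGp : IsPGroup p DG := by
    rw [hDG]
    exact hDp.map _
  have hDGC : DG ≤ Subgroup.centralizer (Q' : Set G) := by
    rw [hDG]
    exact Subgroup.map_subtype_le _
  have hDGN : DG ≤ Subgroup.normalizer (Q' : Set G) :=
    hDGC.trans (Subgroup.centralizer_le_normalizer _)
  obtain ⟨R, hR⟩ : ∃ R : Subgroup G, R = Q' ⊔ DG := ⟨_, rfl⟩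
  have hRp : IsPGroup p R := by
    rw [hR]
    exact IsPGroup.to_sup_of_normal_left' hQ'f'.1 hDGp hDGN
  have hQ'R : Q' ≤ R := by rw [hR]; exact le_sup_left
  have hDGR : DG ≤ R := by rw [hR]; exact le_sup_right
  have hRN : R ≤ Subgroup.normalizer (Q' : Set G) := by
    rw [hR]
    exact sup_le Subgroup.le_normalizer hDGN
  obtain ⟨T, hT⟩ := exists_stabilizer hMp (Subgroup.centralizer (Q' : Set G)) hQ'f'.2
  have hRT : R ≤ T := by
    rw [hR]
    refine sup_le (fun q hq => (hT q).mpr (stabilizesBlock_of_commute _ _ (fun k hk => ?_)))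
      (fun d hd => (hT d).mpr (stabilizesBlock_of_mem _ _ (hDGC hd)))
    exact Subgroup.mem_centralizer_iff.mp hk q hq
  have hstab : ∀ u ∈ R, StabilizesBlock (Subgroup.centralizer (Q' : Set G)) f' u :=
    fun u hu => (hT u).mp (hRT hu)
  have hg₀R : (g₀ : G) ∈ Subgroup.centralizer (R : Set G) := by
    have hle : R ≤ Subgroup.centralizer ({(g₀ : G)} : Set G) := by
      rw [hR]
      refine sup_le (fun q hq => ?_) ?_
      · rw [Subgroup.mem_centralizer_iff]
        intro k hk
        rw [Set.mem_singleton_iff] at hk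
        subst hk
        exact (Subgroup.mem_centralizer_iff.mp g₀.2 q hq).symm
      · rw [hDG, hDS]
        rintro _ ⟨d, ⟨s, -, rfl⟩, rfl⟩
        rw [Subgroup.mem_centralizer_iff]
        intro k hk
        rw [Set.mem_singleton_iff] at hk
        subst hk
        have := Subgroup.mem_centralizer_iff.mp s.2 g₀ (Set.mem_singleton g₀)
        exact congrArg Subtype.val this
    rw [Subgroup.mem_centralizer_iff]
    intro u hu
    exact (Subgroup.mem_centralizer_iff.mp (hle hu) _ (Set.mem_singleton _)).symm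
  have hcoef : ¬ MemLocalIdeal M
      (subgroupBlockCoeff (Subgroup.centralizer (Q' : Set G)) f' (g₀ : G)) := by
    unfold subgroupBlockCoeff
    rw [dif_pos g₀.2]
    exact hg₀.2.1
  obtain ⟨g, hg⟩ := exists_normalSubpair_of_coeff p hM hRp hQ'R hRN hQ'f'.2 hstab (g₀ : G) hg₀R
    hcoef
  have hQ'B : IsBrauerPairOf p M B Q' f' :=
    (Cfsg.Agent.S4658.result p M hM P Q' e f' hPe hQ'f' hle' B hB).mp hmax.1
  have hRB : IsBrauerPairOf p M B R g := (Cfsg.Agent.S4658.step p M hM Q' R f' g hg B hB).mpr hQ'B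
  obtain ⟨y, hy⟩ := exists_conj_subpairLE p hM hmax hRB
  have hstep : NormalSubpairRel p M (conjPair y ⟨Q', f'⟩) (conjPair y ⟨R, g⟩) :=
    isNormalSubpair_conj p y hg
  refine ⟨D, y, hD, hCD, Relation.ReflTransGen.head hstep hy, ?_⟩
  have h1 : DG.map (MulAut.conj y).toMonoidHom
      ≤ P ⊓ Subgroup.centralizer ((Q'.map (MulAut.conj y).toMonoidHom : Subgroup G) : Set G) := by
    apply le_inf
    · exact (Subgroup.map_mono hDGR).trans (subpairLE_le hy)
    · rintro _ ⟨d, hd, rfl⟩
      rw [mem_centralizer_map_conj_iff]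
      have e1 : y⁻¹ * ((MulAut.conj y).toMonoidHom d) * y = d := by
        show y⁻¹ * (y * d * y⁻¹) * y = d
        group
      rw [e1]
      exact hDGC hd
  have h2 := Subgroup.card_le_of_le h1
  rw [Subgroup.card_map_of_injective (f := (MulAut.conj y).toMonoidHom) (MulEquiv.injective _),
    hDG, Subgroup.card_map_of_injective (Subgroup.subtype_injective _)] at h2
  exact h2

/-- **Fully centralized conjugates.** Some conjugate of `(Q, f)` below the maximal pair `(P, e)`
has `C_P` of its subgroup as a defect group of its block. -/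
theorem exists_conj_fully_centralized (hM : IsPModular p M) {B : Set (IrrCharacter G)}
    {P Q : Subgroup G} {e : Set (IrrCharacter (Subgroup.centralizer (P : Set G)))}
    {f : Set (IrrCharacter (Subgroup.centralizer (Q : Set G)))}
    (hmax : IsMaximalBrauerPair p M B P e) (hle : SubpairLE p M Q f P e) :
    ∃ x : G, SubpairLE p M (Q.map (MulAut.conj x).toMonoidHom) (conjBlock Q x f) P e ∧
      IsDefectGroup p M (conjBlock Q x f)
        ((P ⊓ Subgroup.centralizer ((Q.map (MulAut.conj x).toMonoidHom : Subgroup G) : Set G)).subgroupOf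
          (Subgroup.centralizer ((Q.map (MulAut.conj x).toMonoidHom : Subgroup G) : Set G))) := by
  classical
  obtain ⟨S, hS⟩ : ∃ S : Finset G, S = Finset.univ.filter (fun x =>
      Relation.ReflTransGen (NormalSubpairRel p M) (conjPair x ⟨Q, f⟩) ⟨P, e⟩) := ⟨_, rfl⟩
  have h1S : (1 : G) ∈ S := by
    rw [hS, Finset.mem_filter]
    refine ⟨Finset.mem_univ _, ?_⟩
    rw [conjPair_one]
    exact hle
  obtain ⟨x, hxS, hxmax⟩ := Finset.exists_max_image S (fun x => Nat.card
    ↥(P ⊓ Subgroup.centralizer ((Q.map (MulAut.conj x).toMonoidHom : Subgroup G) : Set G)))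
    ⟨1, h1S⟩
  have hlex : Relation.ReflTransGen (NormalSubpairRel p M) (conjPair x ⟨Q, f⟩) ⟨P, e⟩ := by
    rw [hS, Finset.mem_filter] at hxS
    exact hxS.2
  refine ⟨x, hlex, ?_⟩
  obtain ⟨D, y, hD, hCD, hley, hcard⟩ := exists_conj_centralizer_ge p hM hmax
    (Q' := Q.map (MulAut.conj x).toMonoidHom) (f' := conjBlock Q x f) hlex
  have hyx : y * x ∈ S := by
    rw [hS, Finset.mem_filter]
    refine ⟨Finset.mem_univ _, ?_⟩
    rw [← conjPair_mul]
    exact hley
  have hmaxyx := hxmax (y * x) hyx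
  rw [map_conj_mul] at hcard
  have hc1 : Nat.card D ≤ Nat.card ↥(P ⊓ Subgroup.centralizer
      ((Q.map (MulAut.conj x).toMonoidHom : Subgroup G) : Set G)) := hcard.trans hmaxyx
  have hc2 : Nat.card ↥((P ⊓ Subgroup.centralizer
      ((Q.map (MulAut.conj x).toMonoidHom : Subgroup G) : Set G)).subgroupOf
        (Subgroup.centralizer ((Q.map (MulAut.conj x).toMonoidHom : Subgroup G) : Set G)))
      = Nat.card ↥(P ⊓ Subgroup.centralizer
        ((Q.map (MulAut.conj x).toMonoidHom : Subgroup G) : Set G)) :=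
    Nat.card_congr (Subgroup.subgroupOfEquivOfLe inf_le_right).toEquiv
  have heq := Subgroup.eq_of_le_of_card_ge hCD (by rw [hc2]; exact hc1)
  rw [heq]
  exact hD

end Main

end Cfsg.Agent.H80
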