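import Cfsg.Agent.H80.FullCent

set_option autoImplicit false
set_option linter.unusedSectionVars false
set_option linter.style.haveILetI false

/-!
# helper80: normalizers in a maximal Brauer pair and defect groups of the stabilizer block

* `exists_block_of_stabilizer`: the idempotent of `f` is a block idempotent of the stabilizer `T`
  of `(Q, f)`.
* `stabilizes_of_inf_normalizer`: `N_P(Q)` stabilizes `f` when `(Q, f) ≤ (P, e)`.
* `exists_defectGroup_ge_normalizer`: `N_P(Q)` lies in a defect group of that block of `T`.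
* `exists_conj_fully_normalized`: some conjugate of `(Q, f)` below the maximal pair `(P, e)` has
  `N_P` of its subgroup as a defect group.
-/

namespace Cfsg.Agent.H80

open Cfsg Cfsg.Agent.H20 Cfsg.Agent.H4

universe u

variable {G : Type u} [Group G] [Fintype G] {M : Ideal AlgInt}

section Main

variable (p : ℕ) [Fact p.Prime]

/-- The idempotent of `f` is a block idempotent of the stabilizer of `(Q, f)`. -/
theorem exists_block_of_stabilizer (hM : IsPModular p M) {Q : Subgroup G}
    {f : Set (IrrCharacter (Subgroup.centralizer (Q : Set G)))} (hQf : IsBrauerPair p M Q f)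
    (T : Subgroup G)
    (hT : ∀ y : G, y ∈ T ↔ y ∈ Subgroup.normalizer (Q : Set G) ∧
      StabilizesBlock (Subgroup.centralizer (Q : Set G)) f y) :
    ∃ F : Set (IrrCharacter T), IsPBlock M F ∧ ∀ t : T,
      blockCoeff F t = subgroupBlockCoeff (Subgroup.centralizer (Q : Set G)) f (t : G) := by
  classical
  haveI : Fintype ↥(Subgroup.centralizer (Q : Set G)) := Fintype.ofFinite _
  haveI : Fintype ↥T := Fintype.ofFinite _
  have hQT : Q ≤ T := fun q hq => (hT q).mpr ⟨Subgroup.le_normalizer hq,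
    stabilizesBlock_of_commute _ _ (fun k hk => Subgroup.mem_centralizer_iff.mp hk q hq)⟩
  have hTN : T ≤ Subgroup.normalizer (Q : Set G) := fun t ht => ((hT t).mp ht).1
  have hCT : Subgroup.centralizer (Q : Set G) ≤ T := fun c hc =>
    (hT c).mpr ⟨Subgroup.centralizer_le_normalizer _ hc, stabilizesBlock_of_mem _ _ hc⟩
  obtain ⟨E, hE, hEelt⟩ := exists_block_of_stable_centralizer p hM Q T hQf.1 hQT hTN hCT hQf.2
    (fun x hx => ((hT x).mp hx).2)
  refine ⟨E, hE, fun t => ?_⟩
  rw [← coeff_blockElt, hEelt, coeff_truncTo, subgroupBlockCoeff_eq]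
  rfl

/-- `N_P(Q)` stabilizes `f` when `(Q, f) ≤ (P, e)`; moreover the idempotent of `f` has a
coefficient outside the ideal on `C_G(N_P(Q))`. -/
theorem stabilizes_of_inf_normalizer (hM : IsPModular p M) {P Q : Subgroup G}
    {e : Set (IrrCharacter (Subgroup.centralizer (P : Set G)))}
    {f : Set (IrrCharacter (Subgroup.centralizer (Q : Set G)))}
    (hPe : IsBrauerPair p M P e) (hle : SubpairLE p M Q f P e) :
    (∀ u ∈ P ⊓ Subgroup.normalizer (Q : Set G),
      StabilizesBlock (Subgroup.centralizer (Q : Set G)) f u) ∧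
    ∃ y ∈ Subgroup.centralizer ((P ⊓ Subgroup.normalizer (Q : Set G) : Subgroup G) : Set G),
      ¬ MemLocalIdeal M (subgroupBlockCoeff (Subgroup.centralizer (Q : Set G)) f y) := by
  have hQP : Q ≤ P := subpairLE_le hle
  have hRP : P ⊓ Subgroup.normalizer (Q : Set G) ≤ P := inf_le_left
  have hQR : Q ≤ P ⊓ Subgroup.normalizer (Q : Set G) := le_inf hQP Subgroup.le_normalizer
  have hRN : P ⊓ Subgroup.normalizer (Q : Set G) ≤ Subgroup.normalizer (Q : Set G) := inf_le_right
  obtain ⟨fR, hfR, hleR⟩ := exists_subpairLE hM P e hPe _ _ hRP rfl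
  have hnorm : IsNormalSubpair p M Q f (P ⊓ Subgroup.normalizer (Q : Set G)) fR :=
    normalSubpair_of_le_of_le p hM hPe hQR hRN hle hleR
  exact ⟨hnorm.2.2.2.2.1, exists_coeff_of_normalSubpair p hM hnorm⟩

/-- For `(Q, f) ≤ (P, e)`, the subgroup `N_P(Q)` lies in a defect group of the block of the
stabilizer `T` of `(Q, f)` whose idempotent is that of `f`. -/
theorem exists_defectGroup_ge_normalizer (hM : IsPModular p M) {P Q : Subgroup G}
    {e : Set (IrrCharacter (Subgroup.centralizer (P : Set G)))}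
    {f : Set (IrrCharacter (Subgroup.centralizer (Q : Set G)))}
    (hPe : IsBrauerPair p M P e) (hle : SubpairLE p M Q f P e) (T : Subgroup G)
    (hT : ∀ y : G, y ∈ T ↔ y ∈ Subgroup.normalizer (Q : Set G) ∧
      StabilizesBlock (Subgroup.centralizer (Q : Set G)) f y)
    {F : Set (IrrCharacter T)} (hF : IsPBlock M F)
    (hFc : ∀ t : T, blockCoeff F t
      = subgroupBlockCoeff (Subgroup.centralizer (Q : Set G)) f (t : G)) :
    ∃ D : Subgroup T, IsDefectGroup p M F D ∧
      (P ⊓ Subgroup.normalizer (Q : Set G)).subgroupOf T ≤ D := by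
  classical
  haveI : Fintype ↥T := Fintype.ofFinite _
  have hMp := isPrime_of_isPModular hM
  obtain ⟨hstab, y, hyR, hy⟩ := stabilizes_of_inf_normalizer p hM hPe hle
  have hQR : Q ≤ P ⊓ Subgroup.normalizer (Q : Set G) :=
    le_inf (subpairLE_le hle) Subgroup.le_normalizer
  have hyQ : y ∈ Subgroup.centralizer (Q : Set G) := Subgroup.centralizer_le hQR hyR
  have hyT : y ∈ T :=
    (hT y).mpr ⟨Subgroup.centralizer_le_normalizer _ hyQ, stabilizesBlock_of_mem _ _ hyQ⟩
  have hcoef : ¬ MemLocalIdeal M (blockCoeff F ⟨y, hyT⟩) := by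
    rw [hFc]
    exact hy
  apply exists_defectGroup_ge p hM hF ⟨y, hyT⟩ hcoef _
    (IsPGroup.comap_subtype (hPe.1.to_le inf_le_left))
  intro d hd
  have hd' : (d : G) ∈ P ⊓ Subgroup.normalizer (Q : Set G) := hd
  rw [Subgroup.mem_centralizer_iff]
  intro k hk
  rw [Set.mem_singleton_iff] at hk
  subst hk
  apply Subtype.ext
  exact (Subgroup.mem_centralizer_iff.mp hyR _ hd').symm

/-- Auxiliary step: a pair `(Q', f')` below the maximal pair `(P, e)` has a conjugate below
`(P, e)` whose `N_P` is at least as large as a defect group of the stabilizer block containing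
`N_P(Q')`. -/
theorem exists_conj_normalizer_ge (hM : IsPModular p M) {B : Set (IrrCharacter G)}
    {P Q' : Subgroup G} {e : Set (IrrCharacter (Subgroup.centralizer (P : Set G)))}
    {f' : Set (IrrCharacter (Subgroup.centralizer (Q' : Set G)))}
    (hmax : IsMaximalBrauerPair p M B P e) (hle' : SubpairLE p M Q' f' P e) (T' : Subgroup G)
    (hT' : ∀ y : G, y ∈ T' ↔ y ∈ Subgroup.normalizer (Q' : Set G) ∧
      StabilizesBlock (Subgroup.centralizer (Q' : Set G)) f' y)
    {F' : Set (IrrCharacter T')} (hF' : IsPBlock M F')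
    (hF'c : ∀ t : T', blockCoeff F' t
      = subgroupBlockCoeff (Subgroup.centralizer (Q' : Set G)) f' (t : G)) :
    ∃ (D : Subgroup T') (y : G), IsDefectGroup p M F' D ∧
      (P ⊓ Subgroup.normalizer (Q' : Set G)).subgroupOf T' ≤ D ∧
      Relation.ReflTransGen (NormalSubpairRel p M) (conjPair y ⟨Q', f'⟩) ⟨P, e⟩ ∧
      Nat.card D ≤ Nat.card ↥(P ⊓ Subgroup.normalizer
        ((Q'.map (MulAut.conj y).toMonoidHom : Subgroup G) : Set G)) := by
  classical
  have hMp := isPrime_of_isPModular hM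
  have hPe : IsBrauerPair p M P e := hmax.1.1
  have hB := hmax.1.2.1
  obtain ⟨D, hD, hND⟩ := exists_defectGroup_ge_normalizer p hM hPe hle' T' hT' hF' hF'c
  have hD' := hD
  obtain ⟨g₀, hg₀, S₀, hDS⟩ := hD'
  have hQ'f' : IsBrauerPair p M Q' f' := isBrauerPair_of_subpairLE hle' hPe
  have hcoef : ¬ MemLocalIdeal M
      (subgroupBlockCoeff (Subgroup.centralizer (Q' : Set G)) f' (g₀ : G)) := by
    rw [← hF'c]
    exact hg₀.2.1
  have hg₀C : (g₀ : G) ∈ Subgroup.centralizer (Q' : Set G) := by
    by_contra hnot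
    apply hcoef
    unfold subgroupBlockCoeff
    rw [dif_neg hnot]
    exact memLocalIdeal_zero hMp
  have hDp : IsPGroup p D := by
    rw [hDS]
    exact S₀.isPGroup'.map _
  obtain ⟨DG, hDG⟩ : ∃ DG : Subgroup G, DG = D.map T'.subtype := ⟨_, rfl⟩
  have hDGp : IsPGroup p DG := by
    rw [hDG]
    exact hDp.map _
  have hDGT : DG ≤ T' := by
    rw [hDG]
    exact Subgroup.map_subtype_le _
  have hT'N : T' ≤ Subgroup.normalizer (Q' : Set G) := fun t ht => ((hT' t).mp ht).1
  have hDGN : DG ≤ Subgroup.normalizer (Q' : Set G) := hDGT.trans hT'N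
  have hQ'T : Q' ≤ T' := fun q hq => (hT' q).mpr ⟨Subgroup.le_normalizer hq,
    stabilizesBlock_of_commute _ _ (fun k hk => Subgroup.mem_centralizer_iff.mp hk q hq)⟩
  obtain ⟨R, hR⟩ : ∃ R : Subgroup G, R = Q' ⊔ DG := ⟨_, rfl⟩
  have hRp : IsPGroup p R := by
    rw [hR]
    exact IsPGroup.to_sup_of_normal_left' hQ'f'.1 hDGp hDGN
  have hQ'R : Q' ≤ R := by rw [hR]; exact le_sup_left
  have hDGR : DG ≤ R := by rw [hR]; exact le_sup_right
  have hRT : R ≤ T' := by rw [hR]; exact sup_le hQ'T hDGT
  have hRN : R ≤ Subgroup.normalizer (Q' : Set G) := hRT.trans hT'N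
  have hstab : ∀ u ∈ R, StabilizesBlock (Subgroup.centralizer (Q' : Set G)) f' u :=
    fun u hu => ((hT' u).mp (hRT hu)).2
  have hg₀R : (g₀ : G) ∈ Subgroup.centralizer (R : Set G) := by
    have hle : R ≤ Subgroup.centralizer ({(g₀ : G)} : Set G) := by
      rw [hR]
      refine sup_le (fun q hq => ?_) ?_
      · rw [Subgroup.mem_centralizer_iff]
        intro k hk
        rw [Set.mem_singleton_iff] at hk
        subst hk
        exact (Subgroup.mem_centralizer_iff.mp hg₀C q hq).symm
      · rw [hDG, hDS]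
        rintro _ ⟨d, ⟨s, -, rfl⟩, rfl⟩
        rw [Subgroup.mem_centralizer_iff]
        intro k hk
        rw [Set.mem_singleton_iff] at hk
        subst hk
        have := Subgroup.mem_centralizer_iff.mp s.2 g₀ (Set.mem_singleton g₀)
        exact congrArg Subtype.val this
    rw [Subgroup.mem_centralizer_iff]
    intro u hu
    exact (Subgroup.mem_centralizer_iff.mp (hle hu) _ (Set.mem_singleton _)).symm
  obtain ⟨g, hg⟩ := exists_normalSubpair_of_coeff p hM hRp hQ'R hRN hQ'f'.2 hstab (g₀ : G) hg₀R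
    hcoef
  have hQ'B : IsBrauerPairOf p M B Q' f' :=
    (Cfsg.Agent.S4658.result p M hM P Q' e f' hPe hQ'f' hle' B hB).mp hmax.1
  have hRB : IsBrauerPairOf p M B R g := (Cfsg.Agent.S4658.step p M hM Q' R f' g hg B hB).mpr hQ'B
  obtain ⟨y, hy⟩ := exists_conj_subpairLE p hM hmax hRB
  have hstep : NormalSubpairRel p M (conjPair y ⟨Q', f'⟩) (conjPair y ⟨R, g⟩) :=
    isNormalSubpair_conj p y hg
  refine ⟨D, y, hD, hND, Relation.ReflTransGen.head hstep hy, ?_⟩
  have h1 : DG.map (MulAut.conj y).toMonoidHom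
      ≤ P ⊓ Subgroup.normalizer ((Q'.map (MulAut.conj y).toMonoidHom : Subgroup G) : Set G) := by
    apply le_inf
    · exact (Subgroup.map_mono hDGR).trans (subpairLE_le hy)
    · rintro _ ⟨d, hd, rfl⟩
      rw [mem_normalizer_map_conj_iff]
      have e1 : y⁻¹ * ((MulAut.conj y).toMonoidHom d) * y = d := by
        show y⁻¹ * (y * d * y⁻¹) * y = d
        group
      rw [e1]
      exact hDGN hd
  have h2 := Subgroup.card_le_of_le h1
  rw [Subgroup.card_map_of_injective (f := (MulAut.conj y).toMonoidHom) (MulEquiv.injective _),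
    hDG, Subgroup.card_map_of_injective (Subgroup.subtype_injective _)] at h2
  exact h2

/-- **Fully normalized conjugates.** Some conjugate of `(Q, f)` below the maximal pair `(P, e)`
has `N_P` of its subgroup as a defect group of the block of its stabilizer. -/
theorem exists_conj_fully_normalized (hM : IsPModular p M) {B : Set (IrrCharacter G)}
    {P Q : Subgroup G} {e : Set (IrrCharacter (Subgroup.centralizer (P : Set G)))}
    {f : Set (IrrCharacter (Subgroup.centralizer (Q : Set G)))}
    (hmax : IsMaximalBrauerPair p M B P e) (hle : SubpairLE p M Q f P e) :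
    ∃ x : G, SubpairLE p M (Q.map (MulAut.conj x).toMonoidHom) (conjBlock Q x f) P e ∧
      ∀ (T' : Subgroup G), (∀ y : G, y ∈ T' ↔
          y ∈ Subgroup.normalizer ((Q.map (MulAut.conj x).toMonoidHom : Subgroup G) : Set G) ∧
          StabilizesBlock (Subgroup.centralizer
            ((Q.map (MulAut.conj x).toMonoidHom : Subgroup G) : Set G)) (conjBlock Q x f) y) →
        ∃ F' : Set (IrrCharacter T'), IsPBlock M F' ∧
          (∀ t : T', blockCoeff F' t = subgroupBlockCoeff (Subgroup.centralizer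
            ((Q.map (MulAut.conj x).toMonoidHom : Subgroup G) : Set G)) (conjBlock Q x f) (t : G)) ∧
          IsDefectGroup p M F' ((P ⊓ Subgroup.normalizer
            ((Q.map (MulAut.conj x).toMonoidHom : Subgroup G) : Set G)).subgroupOf T') := by
  classical
  have hPe : IsBrauerPair p M P e := hmax.1.1
  obtain ⟨S, hS⟩ : ∃ S : Finset G, S = Finset.univ.filter (fun x =>
      Relation.ReflTransGen (NormalSubpairRel p M) (conjPair x ⟨Q, f⟩) ⟨P, e⟩) := ⟨_, rfl⟩
  have h1S : (1 : G) ∈ S := by
    rw [hS, Finset.mem_filter]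
    refine ⟨Finset.mem_univ _, ?_⟩
    rw [conjPair_one]
    exact hle
  obtain ⟨x, hxS, hxmax⟩ := Finset.exists_max_image S (fun x => Nat.card
    ↥(P ⊓ Subgroup.normalizer ((Q.map (MulAut.conj x).toMonoidHom : Subgroup G) : Set G)))
    ⟨1, h1S⟩
  have hlex : Relation.ReflTransGen (NormalSubpairRel p M) (conjPair x ⟨Q, f⟩) ⟨P, e⟩ := by
    rw [hS, Finset.mem_filter] at hxS
    exact hxS.2
  refine ⟨x, hlex, ?_⟩
  intro T' hT'
  have hQ'f' : IsBrauerPair p M (Q.map (MulAut.conj x).toMonoidHom) (conjBlock Q x f) :=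
    isBrauerPair_of_subpairLE hlex hPe
  obtain ⟨F', hF', hF'c⟩ := exists_block_of_stabilizer p hM hQ'f' T' hT'
  refine ⟨F', hF', hF'c, ?_⟩
  obtain ⟨D, y, hD, hND, hley, hcard⟩ := exists_conj_normalizer_ge p hM hmax
    (Q' := Q.map (MulAut.conj x).toMonoidHom) (f' := conjBlock Q x f) hlex T' hT' hF' hF'c
  have hyx : y * x ∈ S := by
    rw [hS, Finset.mem_filter]
    refine ⟨Finset.mem_univ _, ?_⟩
    rw [← conjPair_mul]
    exact hley
  have hmaxyx := hxmax (y * x) hyx
  rw [map_conj_mul] at hcard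
  have hc1 : Nat.card D ≤ Nat.card ↥(P ⊓ Subgroup.normalizer
      ((Q.map (MulAut.conj x).toMonoidHom : Subgroup G) : Set G)) := hcard.trans hmaxyx
  have hNT : P ⊓ Subgroup.normalizer ((Q.map (MulAut.conj x).toMonoidHom : Subgroup G) : Set G)
      ≤ T' := fun u hu =>
    (hT' u).mpr ⟨hu.2, (stabilizes_of_inf_normalizer p hM hPe hlex).1 u hu⟩
  have hc2 : Nat.card ↥((P ⊓ Subgroup.normalizer
      ((Q.map (MulAut.conj x).toMonoidHom : Subgroup G) : Set G)).subgroupOf T')
      = Nat.card ↥(P ⊓ Subgroup.normalizer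
        ((Q.map (MulAut.conj x).toMonoidHom : Subgroup G) : Set G)) :=
    Nat.card_congr (Subgroup.subgroupOfEquivOfLe hNT).toEquiv
  have heq := Subgroup.eq_of_le_of_card_ge hND (by rw [hc2]; exact hc1)
  rw [heq]
  exact hD

end Main

end Cfsg.Agent.H80
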