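import Cfsg.Agent.H80.AbelDefect

set_option autoImplicit false
set_option linter.unusedSectionVars false
set_option linter.style.haveILetI false

/-!
# helper80: the fusion system of a block on a maximal Brauer pair, as a term

* `subpairLE_of_le_of_le`: two pairs below `(P, e)` on nested subgroups are nested.
* `blockHom`, `blockFusion`: the fusion system.
* `isBlockFusionSystemOn_blockFusion`.
-/

namespace Cfsg.Agent.H80

open Cfsg Cfsg.Agent.H20 Cfsg.Agent.H4

universe u

variable {G : Type u} [Group G] [Fintype G] {M : Ideal AlgInt}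

section Main

variable (p : ℕ) [Fact p.Prime]

/-- Two pairs below `(P, e)` on nested subgroups are nested. -/
theorem subpairLE_of_le_of_le (hM : IsPModular p M) {P : Subgroup G}
    {e : Set (IrrCharacter (Subgroup.centralizer (P : Set G)))} (hPe : IsBrauerPair p M P e)
    {a b : BrauerPairIdx G} (ha : Relation.ReflTransGen (NormalSubpairRel p M) a ⟨P, e⟩)
    (hb : Relation.ReflTransGen (NormalSubpairRel p M) b ⟨P, e⟩) (hab : a.1 ≤ b.1) :
    Relation.ReflTransGen (NormalSubpairRel p M) a b := by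
  obtain ⟨Q, f⟩ := a
  obtain ⟨R, g⟩ := b
  simp only at hab
  have hRg : IsBrauerPair p M R g := isBrauerPair_of_subpairLE hb hPe
  obtain ⟨f', hf', hle'⟩ := exists_subpairLE hM R g hRg _ Q hab rfl
  have h1 : SubpairLE p M Q f' P e := Relation.ReflTransGen.trans hle' hb
  have h2 := subpairLE_unique hM _ P e rfl hPe Q f' f h1 ha
  rw [← h2]
  exact hle'

/-- The maps of the fusion system of a block with source `Q`. -/
def blockHom (M : Ideal AlgInt) (P : Subgroup G)
    (e : Set (IrrCharacter (Subgroup.centralizer (P : Set G)))) (Q : Subgroup G) :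
    Set (Q →* G) :=
  {φ | Q ≤ P ∧ ∃ g : G, (∀ u : Q, φ u = g * (u : G) * g⁻¹) ∧
    Q.map (MulAut.conj g).toMonoidHom ≤ P ∧
    ∃ f : Set (IrrCharacter (Subgroup.centralizer (Q : Set G))),
      SubpairLE p M Q f P e ∧
        SubpairLE p M (Q.map (MulAut.conj g).toMonoidHom) (conjBlock Q g f) P e}

/-- The fusion system of a block on a Brauer pair `(P, e)`. -/
def blockFusion (hM : IsPModular p M) {P : Subgroup G}
    {e : Set (IrrCharacter (Subgroup.centralizer (P : Set G)))} (hPe : IsBrauerPair p M P e) :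
    FusionSystem P where
  Hom := blockHom p M P e
  le_of_mem := by
    intro Q φ h
    obtain ⟨hQP, g, hφ, hgP, -⟩ := h
    exact ⟨hQP, fun x => by rw [hφ]; exact hgP (conj_mem_map_conj Q g x.2)⟩
  injective_of_mem := by
    intro Q φ h
    obtain ⟨-, g, hφ, -⟩ := h
    intro a b hab
    rw [hφ, hφ] at hab
    apply Subtype.ext
    exact mul_left_cancel (mul_right_cancel hab)
  conj_mem := by
    intro Q g hQP hg
    have hMp := isPrime_of_isPModular hM
    refine ⟨hQP, g, fun u => rfl, ?_, ?_⟩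
    · rintro _ ⟨q, hq, rfl⟩
      exact mul_mem (mul_mem hg (hQP hq)) (inv_mem hg)
    · obtain ⟨f, hf, hle⟩ := exists_subpairLE hM P e hPe _ Q hQP rfl
      refine ⟨f, hle, ?_⟩
      have h1 := subpairLE_conj p g hle
      rw [conjPair_eq_of_stab hMp hPe.2 (Subgroup.le_normalizer hg)
        (stabilizesBlock_of_commute _ _ (fun k hk => Subgroup.mem_centralizer_iff.mp hk g hg))] at h1
      exact h1
  comp_mem := by
    intro Q₁ Q₂ φ ψ hφ hψ h
    obtain ⟨hQ₁P, g₁, hφ₁, hg₁P, f₁, hle₁, hle₁'⟩ := hφ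
    obtain ⟨hQ₂P, g₂, hψ₂, hg₂P, f₂, hle₂, hle₂'⟩ := hψ
    have hsub : Q₁.map (MulAut.conj g₁).toMonoidHom ≤ Q₂ := by
      rintro _ ⟨q, hq, rfl⟩
      have := h ⟨q, hq⟩
      rw [hφ₁] at this
      exact this
    refine ⟨hQ₁P, g₂ * g₁, ?_, ?_, f₁, hle₁, ?_⟩
    · intro u
      show ψ (φ.codRestrict Q₂ h u) = _
      rw [hψ₂]
      show g₂ * (φ u) * g₂⁻¹ = _
      rw [hφ₁]
      group
    · rw [← map_conj_mul]
      exact (Subgroup.map_mono hsub).trans hg₂P
    · show Relation.ReflTransGen (NormalSubpairRel p M) (conjPair (g₂ * g₁) ⟨Q₁, f₁⟩) ⟨P, e⟩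
      rw [← conjPair_mul]
      have h3 := subpairLE_of_le_of_le p hM hPe (a := conjPair g₁ ⟨Q₁, f₁⟩) (b := ⟨Q₂, f₂⟩)
        hle₁' hle₂ hsub
      have h4 := subpairLE_conj p g₂ h3
      exact h4.trans hle₂'
  inv_mem := by
    intro Q φ hφ
    obtain ⟨hQP, g, hφg, hgP, f, hle, hle'⟩ := hφ
    have hrange : φ.range = Q.map (MulAut.conj g).toMonoidHom := range_of_conj φ g hφg
    refine ⟨conjHom φ.range g⁻¹, ?_, fun x => ?_⟩
    · have key : ∀ R : Subgroup G, R = Q.map (MulAut.conj g).toMonoidHom →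
          conjHom R g⁻¹ ∈ blockHom p M P e R := by
        intro R hR
        subst hR
        refine ⟨hgP, g⁻¹, fun u => rfl, ?_, conjBlock Q g f, hle', ?_⟩
        · rw [map_conj_mul, inv_mul_cancel, map_conj_one]
          exact hQP
        · show Relation.ReflTransGen (NormalSubpairRel p M)
            (conjPair g⁻¹ (conjPair g ⟨Q, f⟩)) ⟨P, e⟩
          rw [conjPair_mul, inv_mul_cancel, conjPair_one]
          exact hle
      exact key _ hrange
    · show g⁻¹ * (φ x) * g⁻¹⁻¹ = x
      rw [hφg]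
      group

theorem isBlockFusionSystemOn_blockFusion (hM : IsPModular p M) {B : Set (IrrCharacter G)}
    {P : Subgroup G} {e : Set (IrrCharacter (Subgroup.centralizer (P : Set G)))}
    (hmax : IsMaximalBrauerPair p M B P e) :
    IsBlockFusionSystemOn p M B P e (blockFusion p hM hmax.1.1) :=
  ⟨hmax, fun _ _ => Iff.rfl⟩

end Main

end Cfsg.Agent.H80
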