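import Mathlib
import Cfsg.Agent.H58.FzBasic

/-!
# S4306, step 1 (abelian case) on the minimal configuration `FCfg`

Team piece `S4306-S1AB` for helper58: `Cfsg.Agent.H80.Fz.step1_ab`.
-/

set_option autoImplicit false
set_option linter.unusedVariables false
set_option linter.unusedSectionVars false
set_option linter.style.haveILetI false

namespace Cfsg.Agent.H80.Fz

open Cfsg.Agent.H58.Fz
open Cfsg.Agent.H58.FrobAct Cfsg.Agent.H58.Ward
open scoped commutatorElement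

universe u

variable {X : Type u} [Group X] [Finite X]

/-- A subgroup of prime index is maximal. -/
theorem s1_max {r : ℕ} (hr : r.Prime) (K M R : Subgroup X) (hKM : K ≤ M) (hMR : M ≤ R)
    (hidx : Nat.card R = r * Nat.card K) : M = K ∨ M = R := by
  obtain ⟨d, hd⟩ := Subgroup.card_dvd_of_le hKM
  obtain ⟨e, he⟩ := Subgroup.card_dvd_of_le hMR
  have hKpos : 0 < Nat.card K := Nat.card_pos
  have hde : r = d * e := by
    have h1 : Nat.card K * r = Nat.card K * (d * e) := by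
      rw [mul_comm, ← hidx, he, hd, mul_assoc]
    exact Nat.eq_of_mul_eq_mul_left hKpos h1
  rcases (Nat.dvd_prime hr).mp ⟨e, hde⟩ with h1 | h1
  · left
    exact (Subgroup.eq_of_le_of_card_ge hKM (by rw [hd, h1, mul_one])).symm
  · right
    have he1 : e = 1 := by
      have h2 : r * 1 = r * e := by rw [mul_one]; rw [h1] at hde; exact hde
      exact (Nat.eq_of_mul_eq_mul_left hr.pos h2).symm
    exact Subgroup.eq_of_le_of_card_ge hMR (by rw [he, he1, mul_one])

/-- Norm argument: `R` abelian with `C_R(S) = 1` (coprime action); if the `S`-conjugates of `ρ`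
by elements of `T` are congruent to `ρ` modulo `K` and the other conjugates lie in `K`, then
`ρ ∈ K`. -/
theorem s1_norm (R S T K : Subgroup X) (hRc : ∀ a ∈ R, ∀ b ∈ R, a * b = b * a)
    (hSR : S ≤ Subgroup.normalizer (R : Set X))
    (hD : R ⊓ Subgroup.centralizer (S : Set X) = ⊥)
    (hcop : (Nat.card S).Coprime (Nat.card R))
    (ρ : X) (hρ : ρ ∈ R)
    (h1 : ∀ σ ∈ S, σ ∈ T → σ * ρ * σ⁻¹ * ρ⁻¹ ∈ K)
    (h2 : ∀ σ ∈ S, σ ∉ T → σ * ρ * σ⁻¹ ∈ K) : ρ ∈ K := by
  classical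
  letI : Fintype ↥S := Fintype.ofFinite _
  letI : CommGroup ↥R := { (inferInstance : Group ↥R) with
    mul_comm := fun a b => Subtype.ext (hRc a a.2 b b.2) }
  obtain ⟨φ, hφ⟩ : ∃ φ : ↥S →* MulAut ↥R, φ = conjAut R S hSR := ⟨_, rfl⟩
  have hφv : ∀ (σ : S) (v : R), ((φ σ v : R) : X) = σ * v * (σ : X)⁻¹ := by
    intro σ v; rw [hφ]; rfl
  obtain ⟨w', hw'⟩ : ∃ w' : R, (w' : X) = ρ := ⟨⟨ρ, hρ⟩, rfl⟩
  obtain ⟨Nw, hNw⟩ : ∃ Nw : R, Nw = ∏ σ : S, φ σ w' := ⟨_, rfl⟩
  have hfix : ∀ τ : S, φ τ Nw = Nw := by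
    intro τ
    rw [hNw, map_prod]
    have h3 : ∀ σ : S, φ τ (φ σ w') = φ (τ * σ) w' := fun σ => by rw [map_mul]; rfl
    simp_rw [h3]
    exact Equiv.prod_comp (Equiv.mulLeft τ) (fun σ => φ σ w')
  have hN2 : (Nw : X) ∈ R ⊓ Subgroup.centralizer (S : Set X) := by
    refine Subgroup.mem_inf.mpr ⟨Nw.2, ?_⟩
    rw [Subgroup.mem_centralizer_iff]
    intro τ hτ
    have h3 := congrArg Subtype.val (hfix ⟨τ, hτ⟩)
    rw [hφv] at h3
    have h4 : τ * (Nw : X) * τ⁻¹ = Nw := h3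
    calc τ * (Nw : X) = τ * (Nw : X) * τ⁻¹ * τ := by group
      _ = Nw * τ := by rw [h4]
  have hN : Nw = 1 := by
    rw [hD] at hN2
    exact Subtype.ext (Subgroup.mem_bot.mp hN2)
  obtain ⟨n, hn⟩ : ∃ n : ℕ, n = (Finset.univ.filter (fun σ : S => (σ : X) ∈ T)).card := ⟨_, rfl⟩
  have hsplit : Nw = (∏ σ : S, (φ σ w' * (if (σ : X) ∈ T then w'⁻¹ else 1))) * w' ^ n := by
    have h3 : (∏ σ : S, (if (σ : X) ∈ T then w' else 1)) = w' ^ n := by
      rw [Finset.prod_ite, Finset.prod_const, Finset.prod_const_one, mul_one, hn]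
    rw [← h3, ← Finset.prod_mul_distrib, hNw]
    refine Finset.prod_congr rfl (fun σ _ => ?_)
    by_cases hσ : (σ : X) ∈ T
    · rw [if_pos hσ, if_pos hσ, inv_mul_cancel_right]
    · rw [if_neg hσ, if_neg hσ, mul_one, mul_one]
  have hκ : (∏ σ : S, (φ σ w' * (if (σ : X) ∈ T then w'⁻¹ else 1))) ∈ K.subgroupOf R := by
    apply Subgroup.prod_mem
    intro σ _
    rw [Subgroup.mem_subgroupOf]
    by_cases hσ : (σ : X) ∈ T
    · rw [if_pos hσ, Subgroup.coe_mul, hφv, Subgroup.coe_inv, hw']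
      exact h1 σ σ.2 hσ
    · rw [if_neg hσ, mul_one, hφv, hw']
      exact h2 σ σ.2 hσ
  have hpow : w' ^ n ∈ K.subgroupOf R := by
    have h3 : w' ^ n = (∏ σ : S, (φ σ w' * (if (σ : X) ∈ T then w'⁻¹ else 1)))⁻¹ := by
      rw [hN] at hsplit
      exact (eq_inv_of_mul_eq_one_right hsplit.symm)
    rw [h3]; exact Subgroup.inv_mem _ hκ
  have hpow' : ρ ^ n ∈ K := by
    have h3 := Subgroup.mem_subgroupOf.mp hpow
    rwa [Subgroup.coe_pow, hw'] at h3
  have hndvd : n ∣ Nat.card S := by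
    have h3 : n = Nat.card ↥(T.subgroupOf S) := by
      rw [hn, Nat.card_eq_fintype_card, Fintype.card_subtype]
      rfl
    rw [h3]; exact Subgroup.card_subgroup_dvd_card _
  have hord : orderOf ρ ∣ Nat.card R := by
    have h3 : orderOf (⟨ρ, hρ⟩ : R) ∣ Nat.card R := orderOf_dvd_natCard _
    rwa [Subgroup.orderOf_mk] at h3
  have hcop' : n.Coprime (orderOf ρ) :=
    Nat.Coprime.coprime_dvd_left hndvd (Nat.Coprime.coprime_dvd_right hord hcop)
  obtain ⟨m, hm⟩ := exists_pow_eq_self_of_coprime hcop'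
  rw [← hm]; exact K.pow_mem hpow' m

variable {p q k v r s : ℕ} {V R S A : Subgroup X} {y x : X}

/-- `S4306-S1AB`: the abelian case of step 1. -/
theorem step1_ab (aq : AQ X) (ex : EX X) (cyc : CYC X) (c : FCfg p q k v r s V R S A y x)
    (h : S ⊓ Subgroup.centralizer {y} ≤ Subgroup.centralizer (R : Set X))
    (hRc : ∀ a ∈ R, ∀ b ∈ R, a * b = b * a)
    (hR0 : R ⊓ Subgroup.centralizer {y} ≠ ⊥) : False := by
  obtain ⟨R₀, hR₀⟩ : ∃ R₀ : Subgroup X, R₀ = R ⊓ Subgroup.centralizer {y} := ⟨_, rfl⟩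
  obtain ⟨U, hU⟩ : ∃ U : Subgroup X, U = ⁅V, R₀⁆ := ⟨_, rfl⟩
  have hyV : y ∈ Subgroup.normalizer (V : Set X) := c.hAV c.hyA
  have hyR : y ∈ Subgroup.normalizer (R : Set X) := c.hAR c.hyA
  have hyS : y ∈ Subgroup.normalizer (S : Set X) := c.hAS c.hyA
  have hR₀R : R₀ ≤ R := hR₀ ▸ inf_le_left
  have hR₀V : R₀ ≤ Subgroup.normalizer (V : Set X) := hR₀R.trans c.hRV
  have hUV : U ≤ V := hU ▸ Cfsg.Agent.H1.commutator_le_of_le_normalizer R₀ V hR₀V
  have hR₀ne : R₀ ≠ ⊥ := hR₀ ▸ hR0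
  have hUne : U ≠ ⊥ := by
    intro hU0
    rw [hU] at hU0
    have h1 : R₀ ≤ Subgroup.centralizer (V : Set X) :=
      Subgroup.le_centralizer_iff.mp (Subgroup.commutator_eq_bot_iff_le_centralizer.mp hU0)
    exact hR₀ne (c.faith R₀ (hR₀R.trans le_sup_left) h1)
  have hcopR₀V : (Nat.card R₀).Coprime (Nat.card V) := cop_of_le c.copRV hR₀R le_rfl
  have hdisj : (V ⊓ Subgroup.centralizer (R₀ : Set X)) ⊓ U = ⊥ := by
    rw [hU]; exact centralizer_inf_commutator_eq_bot V R₀ c.hVc hR₀V hcopR₀V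
  -- `y` has no fixed points on `U`
  have hyfpf : ∀ u ∈ U, y * u = u * y → u = 1 := by
    intro u hu hyu
    have h1 : u ∈ V ⊓ Subgroup.centralizer {y} := by
      refine Subgroup.mem_inf.mpr ⟨hUV hu, ?_⟩
      rw [Subgroup.mem_centralizer_iff]
      intro g hg
      rw [Set.mem_singleton_iff] at hg
      subst hg
      exact hyu
    have h2 : u ∈ Subgroup.centralizer (R₀ : Set X) := by
      have h3 := c.hVR h1
      rwa [← hR₀] at h3
    have h3 : u ∈ (V ⊓ Subgroup.centralizer (R₀ : Set X)) ⊓ U := ⟨⟨hUV hu, h2⟩, hu⟩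
    rw [hdisj] at h3
    exact Subgroup.mem_bot.mp h3
  have hRR₀ : R ≤ Subgroup.normalizer (R₀ : Set X) := abelian_le_normalizer R R R₀ hRc le_rfl hR₀R
  have hRU : R ≤ Subgroup.normalizer (U : Set X) := fun g hg => by
    rw [hU]; exact normalizer_commutator V R₀ g (c.hRV hg) (hRR₀ hg)
  have hyR₀ : y ∈ Subgroup.normalizer (R₀ : Set X) := by
    rw [hR₀]; exact c.hA_inf_cy R c.hAR c.hyA
  have hyU : y ∈ Subgroup.normalizer (U : Set X) := by
    rw [hU]; exact normalizer_commutator V R₀ y hyV hyR₀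
  have hUc : ∀ u ∈ U, ∀ u' ∈ U, u * u' = u' * u :=
    fun u hu u' hu' => c.hVc u (hUV hu) u' (hUV hu')
  have hcopRU : (Nat.card R).Coprime (Nat.card U) := cop_of_le c.copRV le_rfl hUV
  have haq := aq R U y q c.hq c.hy hRc hUc hyR hRU hyU c.copqR hcopRU hyfpf
  have hRe := c.R_exp_of_comm hRc
  have hUR : U ⊓ Subgroup.centralizer (R : Set X) = ⊥ := by
    rw [eq_bot_iff, ← c.CVR]; exact inf_le_inf_right _ hUV
  obtain ⟨K, hKR, hidx, hW'⟩ := ex R U r c.hr hRc hRe hUc hRU hcopRU hUne hUR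
  -- `C_R(W) = K'` for `K'` of index `r` and `1 ≠ W ≤ C_V(K')`
  have hCK : ∀ (K' W : Subgroup X), K' ≤ R → Nat.card R = r * Nat.card K' → W ≤ V → W ≠ ⊥ →
      W ≤ Subgroup.centralizer (K' : Set X) → R ⊓ Subgroup.centralizer (W : Set X) = K' := by
    intro K' W hK' hidx' hWV hWne hWK'
    rcases s1_max c.hr K' (R ⊓ Subgroup.centralizer (W : Set X)) R
      (le_inf hK' (Subgroup.le_centralizer_iff.mp hWK')) inf_le_left hidx' with h1 | h1
    · exact h1
    · exfalso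
      apply hWne
      rw [eq_bot_iff, ← c.CVR]
      exact le_inf hWV (Subgroup.le_centralizer_iff.mp (inf_eq_left.mp h1))
  -- (★)
  have hstar : ∀ K' : Subgroup X, K' ≤ R → Nat.card R = r * Nat.card K' →
      V ⊓ Subgroup.centralizer (K' : Set X) ≠ ⊥ → ¬ R₀ ≤ K' →
      ∀ a ∈ R, y * a * y⁻¹ * a⁻¹ ∈ K' := by
    intro K' hK' hidx' hWne hnot a ha
    obtain ⟨W, hW⟩ : ∃ W : Subgroup X, W = V ⊓ Subgroup.centralizer (K' : Set X) := ⟨_, rfl⟩
    have hsup : K' ⊔ R₀ = R := by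
      rcases s1_max c.hr K' (K' ⊔ R₀) R le_sup_left (sup_le hK' hR₀R) hidx' with h1 | h1
      · exact absurd (h1 ▸ (le_sup_right : R₀ ≤ K' ⊔ R₀)) hnot
      · exact h1
    have hWR₀ : W ⊓ Subgroup.centralizer (R₀ : Set X) = ⊥ := by
      rw [eq_bot_iff, ← c.CVR]
      intro g hg
      rw [hW] at hg
      refine Subgroup.mem_inf.mpr ⟨hg.1.1, ?_⟩
      have h1 : K' ⊔ R₀ ≤ Subgroup.centralizer {g} := by
        apply sup_le
        · intro z hz
          rw [Subgroup.mem_centralizer_iff]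
          intro g' hg'
          rw [Set.mem_singleton_iff] at hg'
          subst hg'
          exact (Subgroup.mem_centralizer_iff.mp hg.1.2 z hz).symm
        · intro z hz
          rw [Subgroup.mem_centralizer_iff]
          intro g' hg'
          rw [Set.mem_singleton_iff] at hg'
          subst hg'
          exact (Subgroup.mem_centralizer_iff.mp hg.2 z hz).symm
      rw [hsup] at h1
      rw [Subgroup.mem_centralizer_iff]
      intro z hz
      exact (Subgroup.mem_centralizer_iff.mp (h1 hz) g rfl).symm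
    have hRK' : R ≤ Subgroup.normalizer (K' : Set X) := abelian_le_normalizer R R K' hRc le_rfl hK'
    have hRW : R ≤ Subgroup.normalizer (W : Set X) := fun g hg => by
      rw [hW]; exact normalizer_inf_centralizer V K' g (c.hRV hg) (hRK' hg)
    have hWV : W ≤ V := hW ▸ inf_le_left
    have hdec := Cfsg.Agent.H1.coprime_commutator_sup_centralizer R₀ W (hR₀R.trans hRW)
      (cop_of_le c.copRV hR₀R hWV)
      (Or.inr (solvable_of_comm W (fun a ha b hb => c.hVc a (hWV ha) b (hWV hb))))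
    rw [hWR₀, sup_bot_eq] at hdec
    have hWU : W ≤ U := by
      rw [hU, ← hdec]; exact Subgroup.commutator_mono hWV le_rfl
    have hCW := hCK K' W hK' hidx' hWV (hW ▸ hWne) (hW ▸ inf_le_right)
    have h1 : y * a * y⁻¹ * a⁻¹ ∈ R ⊓ Subgroup.centralizer (W : Set X) :=
      ⟨R.mul_mem (conj_mem_of_mem_normalizer hyR ha) (R.inv_mem ha),
        Subgroup.centralizer_le hWU (haq a ha)⟩
    rwa [hCW] at h1
  have hW'V : U ⊓ Subgroup.centralizer (K : Set X) ≤ V := inf_le_left.trans hUV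
  have hCK0 := hCK K (U ⊓ Subgroup.centralizer (K : Set X)) hKR hidx hW'V hW' inf_le_right
  have hyRK : ∀ a ∈ R, y * a * y⁻¹ * a⁻¹ ∈ K := by
    intro a ha
    have h1 : y * a * y⁻¹ * a⁻¹ ∈
        R ⊓ Subgroup.centralizer ((U ⊓ Subgroup.centralizer (K : Set X) : Subgroup X) : Set X) :=
      ⟨R.mul_mem (conj_mem_of_mem_normalizer hyR ha) (R.inv_mem ha),
        Subgroup.centralizer_le (inf_le_left : U ⊓ Subgroup.centralizer (K : Set X) ≤ U)
          (haq a ha)⟩
    rwa [hCK0] at h1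
  have hR₀K : ¬ R₀ ≤ K := by
    intro hle
    apply hW'
    rw [eq_bot_iff, ← hdisj]
    intro g hg
    exact ⟨⟨hUV hg.1, Subgroup.centralizer_le hle hg.2⟩, hg.1⟩
  have hinv : ∀ K' : Subgroup X, K' ≤ R → (∀ a ∈ R, y * a * y⁻¹ * a⁻¹ ∈ K') →
      y ∈ Subgroup.normalizer (K' : Set X) := by
    intro K' hK' hK''
    apply mem_normalizer_of_conj
    intro a ha
    have e : y * a * y⁻¹ = (y * a * y⁻¹ * a⁻¹) * a := by group
    rw [e]; exact K'.mul_mem (hK'' a (hK' ha)) ha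
  have hyK : y ∈ Subgroup.normalizer (K : Set X) := hinv K hKR hyRK
  obtain ⟨T, hT⟩ : ∃ T : Subgroup X, T = S ⊓ Subgroup.normalizer (K : Set X) := ⟨_, rfl⟩
  have hTS : T ≤ S := hT ▸ inf_le_left
  have hTK : T ≤ Subgroup.normalizer (K : Set X) := hT ▸ inf_le_right
  have hS₀T : S ⊓ Subgroup.centralizer (R : Set X) ≤ T := by
    rw [hT]
    refine le_inf inf_le_left ?_
    intro g hg
    apply mem_normalizer_of_comm
    intro z hz
    exact (Subgroup.mem_centralizer_iff.mp hg.2 z (hKR hz)).symm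
  have hST : S ≤ Subgroup.normalizer (T : Set X) := by
    intro σ hσ
    apply mem_normalizer_of_conj
    intro τ hτ
    have h1 : ⁅σ, τ⁆ ∈ ⁅S, S⁆ := Subgroup.commutator_mem_commutator hσ (hTS hτ)
    rw [commutatorElement_def] at h1
    have e : σ * τ * σ⁻¹ = (σ * τ * σ⁻¹ * τ⁻¹) * τ := by group
    rw [e]; exact T.mul_mem (hS₀T (c.SS_le h1)) hτ
  have hyT : y ∈ Subgroup.normalizer (T : Set X) := by
    apply mem_normalizer_of_conj
    intro z hz
    rw [hT] at hz ⊢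
    exact ⟨conj_mem_of_mem_normalizer hyS hz.1,
      Subgroup.mul_mem _ (Subgroup.mul_mem _ hyK hz.2) (Subgroup.inv_mem _ hyK)⟩
  have hZT : Subgroup.zpowers y ≤ Subgroup.normalizer (T : Set X) :=
    (Subgroup.zpowers_le).mpr hyT
  have hcopZS : (Nat.card (Subgroup.zpowers y)).Coprime (Nat.card S) := by
    rw [Nat.card_zpowers, c.orderOf_y]; exact c.copqS.symm
  -- conjugates of `R₀` by elements outside `T` lie in `K`
  have hkey : ∀ σ ∈ S, σ ∉ T → ∀ ρ ∈ R₀, σ * ρ * σ⁻¹ ∈ K := by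
    intro σ hσ hσT ρ hρ
    obtain ⟨K', hK'def⟩ : ∃ K' : Subgroup X, K' = K.map (MulAut.conj σ⁻¹).toMonoidHom :=
      ⟨_, rfl⟩
    have hmem : ∀ g, g ∈ K' ↔ σ * g * σ⁻¹ ∈ K := by
      intro g
      rw [hK'def, Subgroup.mem_map]
      constructor
      · rintro ⟨z, hz, rfl⟩
        have e : σ * ((MulAut.conj σ⁻¹).toMonoidHom z) * σ⁻¹ = z := by
          simp [mul_assoc]
        rw [e]; exact hz
      · intro hg
        exact ⟨σ * g * σ⁻¹, hg, by simp [mul_assoc]⟩
    have hσ' : σ⁻¹ ∈ Subgroup.normalizer (R : Set X) := Subgroup.inv_mem _ (c.hSR hσ)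
    have hK'R : K' ≤ R := by
      intro g hg
      have h1 := hKR ((hmem g).mp hg)
      have h2 := conj_mem_of_mem_normalizer hσ' h1
      have e : σ⁻¹ * (σ * g * σ⁻¹) * σ⁻¹⁻¹ = g := by group
      rwa [e] at h2
    have hcard : Nat.card K' = Nat.card K := by
      rw [hK'def]; exact Subgroup.card_map_of_injective (MulAut.conj σ⁻¹).injective
    have hW'' : V ⊓ Subgroup.centralizer (K' : Set X) ≠ ⊥ := by
      obtain ⟨w', hw'⟩ := (Subgroup.ne_bot_iff_exists_ne_one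
        (H := U ⊓ Subgroup.centralizer (K : Set X))).mp hW'
      obtain ⟨w, hw, hw1⟩ : ∃ w ∈ U ⊓ Subgroup.centralizer (K : Set X), w ≠ 1 :=
        ⟨w'.1, w'.2, fun h => hw' (Subtype.ext h)⟩
      intro hbot
      have h1 : σ⁻¹ * w * σ⁻¹⁻¹ ∈ V ⊓ Subgroup.centralizer (K' : Set X) := by
        refine Subgroup.mem_inf.mpr
          ⟨conj_mem_of_mem_normalizer (Subgroup.inv_mem _ (c.hSV hσ)) (hUV hw.1), ?_⟩
        rw [Subgroup.mem_centralizer_iff]
        intro g hg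
        have h2 := Subgroup.mem_centralizer_iff.mp hw.2 _ ((hmem g).mp hg)
        calc g * (σ⁻¹ * w * σ⁻¹⁻¹) = σ⁻¹ * ((σ * g * σ⁻¹) * w) * σ := by group
          _ = σ⁻¹ * (w * (σ * g * σ⁻¹)) * σ := by rw [h2]
          _ = σ⁻¹ * w * σ⁻¹⁻¹ * g := by group
      rw [hbot, Subgroup.mem_bot] at h1
      apply hw1
      have e : w = σ * (σ⁻¹ * w * σ⁻¹⁻¹) * σ⁻¹ := by group
      rw [e, h1]; group
    by_cases hcase : R₀ ≤ K'
    · exact (hmem ρ).mp (hcase hρ)
    · exfalso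
      have h1 := hstar K' hK'R (by rw [hcard]; exact hidx) hW'' hcase
      have hyK' : y ∈ Subgroup.normalizer (K' : Set X) := hinv K' hK'R h1
      have hfix : ∀ a ∈ Subgroup.zpowers y, a * σ * a⁻¹ * σ⁻¹ ∈ T := by
        intro a ha
        have haK : a ∈ Subgroup.normalizer (K : Set X) := Subgroup.zpowers_le.mpr hyK ha
        have haK' : a ∈ Subgroup.normalizer (K' : Set X) := Subgroup.zpowers_le.mpr hyK' ha
        have haS : a ∈ Subgroup.normalizer (S : Set X) := Subgroup.zpowers_le.mpr hyS ha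
        rw [hT]
        refine Subgroup.mem_inf.mpr
          ⟨S.mul_mem (conj_mem_of_mem_normalizer haS hσ) (S.inv_mem hσ), ?_⟩
        have h2 : σ * a⁻¹ * σ⁻¹ ∈ Subgroup.normalizer (K : Set X) := by
          apply mem_normalizer_of_conj
          intro z hz
          have h3 : σ⁻¹ * z * σ ∈ K' := by
            rw [hmem]
            have e : σ * (σ⁻¹ * z * σ) * σ⁻¹ = z := by group
            rw [e]; exact hz
          have h4 : a⁻¹ * (σ⁻¹ * z * σ) * a⁻¹⁻¹ ∈ K' :=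
            conj_mem_of_mem_normalizer (Subgroup.inv_mem _ haK') h3
          have h5 := (hmem _).mp h4
          have e : σ * a⁻¹ * σ⁻¹ * z * (σ * a⁻¹ * σ⁻¹)⁻¹ =
              σ * (a⁻¹ * (σ⁻¹ * z * σ) * a⁻¹⁻¹) * σ⁻¹ := by group
          rw [e]; exact h5
        have e : a * σ * a⁻¹ * σ⁻¹ = a * (σ * a⁻¹ * σ⁻¹) := by group
        rw [e]; exact Subgroup.mul_mem _ haK h2
      obtain ⟨c₁, hc₁, hc₁'⟩ := Cfsg.Agent.H1.coprime_fixed_points_quotient (Subgroup.zpowers y) S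
        hcopZS (Or.inr c.solvS) T hTS hST hZT σ hσ hfix
      have hc₁T : c₁ ∈ T := by
        apply hS₀T
        refine ⟨hc₁.1, h ⟨hc₁.1, ?_⟩⟩
        have h2 := hc₁.2
        rwa [centralizer_zpowers] at h2
      apply hσT
      have h6 : σ⁻¹ = (σ⁻¹ * c₁) * c₁⁻¹ := by group
      have h7 : σ⁻¹ ∈ T := by rw [h6]; exact T.mul_mem hc₁' (T.inv_mem hc₁T)
      simpa using T.inv_mem h7
  -- `T` centralizes `R / K`
  have hRK : R ≤ Subgroup.normalizer (K : Set X) := abelian_le_normalizer R R K hRc le_rfl hKR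
  have hTcom : T ≤ comSub R K := by
    have hdecT := Cfsg.Agent.H1.coprime_commutator_sup_centralizer (Subgroup.zpowers y) T hZT
      (Nat.Coprime.coprime_dvd_right (Subgroup.card_dvd_of_le hTS) hcopZS)
      (Or.inr (@Cfsg.Agent.H1.isSolvable_of_le _ _ T S hTS c.solvS))
    rw [← hdecT]
    apply sup_le
    · rw [Subgroup.commutator_le]
      intro τ hτ a ha
      have haK : a ∈ Subgroup.normalizer (K : Set X) := Subgroup.zpowers_le.mpr hyK ha
      have haR : a ∈ Subgroup.normalizer (R : Set X) := Subgroup.zpowers_le.mpr hyR ha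
      have hτR : τ ∈ Subgroup.normalizer (R : Set X) := c.hSR (hTS hτ)
      have hτK : τ ∈ Subgroup.normalizer (K : Set X) := hTK hτ
      rw [commutatorElement_def]
      refine ⟨?_, ?_⟩
      · exact Subgroup.mul_mem _ (Subgroup.mul_mem _ (Subgroup.mul_mem _ hτR haR)
          (Subgroup.inv_mem _ hτR)) (Subgroup.inv_mem _ haR)
      · intro e he
        exact cyc R K r τ a c.hr hKR hidx hRK hτR hτK haR haK e he
    · intro g hg
      have hgR : g ∈ Subgroup.centralizer (R : Set X) := by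
        refine h ⟨hTS hg.1, ?_⟩
        have h2 := hg.2
        rwa [centralizer_zpowers] at h2
      refine ⟨c.hSR (hTS hg.1), fun z hz => ?_⟩
      have h1 := Subgroup.mem_centralizer_iff.mp hgR z hz
      have e : g * z * g⁻¹ * z⁻¹ = 1 := by
        rw [← h1]; group
      rw [e]; exact K.one_mem
  -- the final contradiction
  obtain ⟨ρ₀, hρ₀, hρ₀K⟩ := SetLike.not_le_iff_exists.mp hR₀K
  apply hρ₀K
  exact s1_norm R S T K hRc c.hSR (c.D_bot_of_comm hRc) c.copSR ρ₀ (hR₀R hρ₀)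
    (fun σ hσ hσT => (hTcom hσT).2 ρ₀ (hR₀R hρ₀))
    (fun σ hσ hσT => hkey σ hσ hσT ρ₀ hρ₀)

/-- The posted statement, verbatim. -/
example {X : Type u} [Group X] [Finite X] {p q k v r s : ℕ} {V R S A : Subgroup X} {y x : X}
    (aq : AQ X) (ex : EX X) (cyc : CYC X) (c : FCfg p q k v r s V R S A y x)
    (h : S ⊓ Subgroup.centralizer {y} ≤ Subgroup.centralizer (R : Set X))
    (hRc : ∀ a ∈ R, ∀ b ∈ R, a * b = b * a)
    (hR0 : R ⊓ Subgroup.centralizer {y} ≠ ⊥) : False :=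
  step1_ab aq ex cyc c h hRc hR0

end Cfsg.Agent.H80.Fz
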