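import Mathlib
import Cfsg.Agent.H66.HKKDefs

/-!
# Kostrikin–Kreknin: soluble implies nilpotent, family form (piece K2 of S3779)

For a `ZMod p`-indexed family `X` of additive subgroups of a Lie ring, closed under brackets
compatibly with the grading and with `X 0 = ⊥`, the term `c_k = ∑_{j<k} (p-1)^j` of the lower
central series of `X` lies in the `k`-th term of its derived series.
-/

set_option linter.style.haveILetI false
set_option linter.unusedVariables false
set_option linter.unusedSectionVars false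

namespace Cfsg.Agent.H80.HKK

open Cfsg.Agent.H66.HKK

section Basic

variable {L : Type*} [LieRing L] {n : ℕ}

theorem fbr_mono_left {X X' Y : ZMod n → AddSubgroup L} (h : ∀ i, X i ≤ X' i) (i : ZMod n) :
    fbr X Y i ≤ fbr X' Y i := by
  unfold fbr
  apply AddSubgroup.closure_mono
  rintro z ⟨a, b, hab, u, hu, v, hv, rfl⟩
  exact ⟨a, b, hab, u, h a hu, v, hv, rfl⟩

theorem lie_mem_fbr {X Y : ZMod n → AddSubgroup L} {a b : ZMod n} {u v : L} (hu : u ∈ X a)
    (hv : v ∈ Y b) : ⁅u, v⁆ ∈ fbr X Y (a + b) :=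
  AddSubgroup.subset_closure ⟨a, b, rfl, u, hu, v, hv, rfl⟩

theorem fbr_le {X Y Z : ZMod n → AddSubgroup L}
    (h : ∀ a b, ∀ u ∈ X a, ∀ v ∈ Y b, ⁅u, v⁆ ∈ Z (a + b)) (i : ZMod n) : fbr X Y i ≤ Z i := by
  unfold fbr
  rw [AddSubgroup.closure_le]
  rintro z ⟨a, b, hab, u, hu, v, hv, rfl⟩
  rw [← hab]
  exact h a b u hu v hv

theorem flcs_zero (X : ZMod n → AddSubgroup L) : flcs X 0 = X := rfl

theorem flcs_succ (X : ZMod n → AddSubgroup L) (m : ℕ) :
    flcs X (m + 1) = fbr (flcs X m) X := rfl

theorem fder_zero (X : ZMod n → AddSubgroup L) : fder X 0 = X := rfl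

theorem fder_succ (X : ZMod n → AddSubgroup L) (m : ℕ) :
    fder X (m + 1) = fbr (fder X m) (fder X m) := rfl

theorem flcs_succ_le (X : ZMod n → AddSubgroup L) (hX : IsGr X) :
    ∀ m i, flcs X (m + 1) i ≤ flcs X m i := by
  intro m
  induction m with
  | zero =>
    intro i
    rw [flcs_succ, flcs_zero]
    exact fbr_le (fun a b u hu v hv => hX a b u hu v hv) i
  | succ m ih =>
    intro i
    rw [flcs_succ, flcs_succ X m]
    exact fbr_mono_left ih i

theorem flcs_anti (X : ZMod n → AddSubgroup L) (hX : IsGr X) {a b : ℕ} (h : a ≤ b)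
    (i : ZMod n) : flcs X b i ≤ flcs X a i := by
  induction h with
  | refl => exact le_refl _
  | step _ ih => exact le_trans (flcs_succ_le X hX _ i) ih

theorem flcs_le (X : ZMod n → AddSubgroup L) (hX : IsGr X) (m : ℕ) (i : ZMod n) :
    flcs X m i ≤ X i := by
  have := flcs_anti X hX (Nat.zero_le m) i
  rwa [flcs_zero] at this

theorem lie_lie_right (u1 u2 x : L) : ⁅⁅u1, u2⁆, x⁆ = ⁅⁅u1, x⁆, u2⁆ + ⁅u1, ⁅u2, x⁆⁆ := by
  have h := leibniz_lie x u1 u2
  have e1 : ⁅⁅u1, u2⁆, x⁆ = -⁅x, ⁅u1, u2⁆⁆ := (lie_skew _ _).symm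
  have e2 : ⁅x, u1⁆ = -⁅u1, x⁆ := (lie_skew _ _).symm
  have e3 : ⁅x, u2⁆ = -⁅u2, x⁆ := (lie_skew _ _).symm
  rw [e1, h, e2, e3, neg_lie, lie_neg]
  abel

/-- `[γ_{a+1}, γ_{b+1}] ⊆ γ_{a+b+2}` for the lower central series of a family. -/
theorem flcs_lie_flcs (X : ZMod n → AddSubgroup L) (hX : IsGr X) :
    ∀ (b a : ℕ) (i j : ZMod n) (u v : L), u ∈ flcs X a i → v ∈ flcs X b j →
      ⁅u, v⁆ ∈ flcs X (a + b + 1) (i + j) := by
  intro b
  induction b with
  | zero =>
    intro a i j u v hu hv
    exact lie_mem_fbr hu hv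
  | succ b ih =>
    intro a i j u v hu hv
    have hv' : v ∈ fbr (flcs X b) X j := hv
    clear hv
    unfold fbr at hv'
    induction hv' using AddSubgroup.closure_induction with
    | mem z hz =>
      obtain ⟨j1, j2, hj, v1, hv1, x, hx, rfl⟩ := hz
      rw [leibniz_lie]
      apply AddSubgroup.add_mem
      · have h1 := ih a i j1 u v1 hu hv1
        have h2 : ⁅⁅u, v1⁆, x⁆ ∈ fbr (flcs X (a + b + 1)) X (i + j1 + j2) := lie_mem_fbr h1 hx
        have e : i + j1 + j2 = i + j := by rw [add_assoc, hj]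
        rw [e] at h2
        exact h2
      · have hux : ⁅u, x⁆ ∈ flcs X (a + 1) (i + j2) := lie_mem_fbr hu hx
        have h1 := ih (a + 1) (i + j2) j1 ⁅u, x⁆ v1 hux hv1
        have h3 : ⁅v1, ⁅u, x⁆⁆ = -⁅⁅u, x⁆, v1⁆ := (lie_skew _ _).symm
        rw [h3]
        apply AddSubgroup.neg_mem
        have e : i + j2 + j1 = i + j := by rw [add_assoc, add_comm j2 j1, hj]
        have e2 : a + 1 + b + 1 = a + (b + 1) + 1 := by omega
        rw [e, e2] at h1
        exact h1
    | zero => rw [lie_zero]; exact AddSubgroup.zero_mem _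
    | add x y _ _ hx hy => rw [lie_add]; exact AddSubgroup.add_mem _ hx hy
    | neg x _ hx => rw [lie_neg]; exact AddSubgroup.neg_mem _ hx

theorem fder_le (X : ZMod n → AddSubgroup L) (hX : IsGr X) :
    ∀ k i, fder X k i ≤ X i := by
  intro k
  induction k with
  | zero => intro i; exact le_refl _
  | succ k ih =>
    intro i
    rw [fder_succ]
    exact fbr_le (fun a b u hu v hv => hX a b u (ih a hu) v (ih b hv)) i

/-- The terms of the derived series are ideals with respect to the family. -/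
theorem fder_lie_mem (X : ZMod n → AddSubgroup L) (hX : IsGr X) :
    ∀ (k : ℕ) (i j : ZMod n) (u x : L), u ∈ fder X k i → x ∈ X j →
      ⁅u, x⁆ ∈ fder X k (i + j) := by
  intro k
  induction k with
  | zero =>
    intro i j u x hu hx
    exact hX i j u hu x hx
  | succ k ih =>
    intro i j u x hu hx
    have hu' : u ∈ fbr (fder X k) (fder X k) i := hu
    clear hu
    unfold fbr at hu'
    induction hu' using AddSubgroup.closure_induction with
    | mem z hz =>
      obtain ⟨a, b, hab, u1, hu1, u2, hu2, rfl⟩ := hz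
      rw [lie_lie_right]
      apply AddSubgroup.add_mem
      · have h1 := ih a j u1 x hu1 hx
        have h2 : ⁅⁅u1, x⁆, u2⁆ ∈ fbr (fder X k) (fder X k) (a + j + b) := lie_mem_fbr h1 hu2
        have e : a + j + b = i + j := by rw [← hab]; abel
        rw [e] at h2
        exact h2
      · have h1 := ih b j u2 x hu2 hx
        have h2 : ⁅u1, ⁅u2, x⁆⁆ ∈ fbr (fder X k) (fder X k) (a + (b + j)) := lie_mem_fbr hu1 h1
        have e : a + (b + j) = i + j := by rw [← hab]; abel
        rw [e] at h2
        exact h2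
    | zero => rw [zero_lie]; exact AddSubgroup.zero_mem _
    | add x' y _ _ hx' hy => rw [add_lie]; exact AddSubgroup.add_mem _ hx' hy
    | neg x' _ hx' => rw [neg_lie]; exact AddSubgroup.neg_mem _ hx'

end Basic

section Fold

variable {L : Type*} [LieRing L] {n : ℕ}

/-- Left-normed bracket of `a` with the elements of a list of triples (weight, degree, element). -/
def fo (a : L) (l : List (ℕ × ZMod n × L)) : L := l.foldl (fun acc t => ⁅acc, t.2.2⁆) a

/-- Total weight of a list of triples. -/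
def wt (l : List (ℕ × ZMod n × L)) : ℕ := (l.map (fun t => t.1 + 1)).sum

/-- Total degree of a list of triples. -/
def dg (l : List (ℕ × ZMod n × L)) : ZMod n := (l.map (fun t => t.2.1)).sum

/-- Every triple `(w, d, y)` of the list has `y` in the `w`-th term of the lower central series,
in degree `d`. -/
def Gd (X : ZMod n → AddSubgroup L) (l : List (ℕ × ZMod n × L)) : Prop :=
  ∀ t ∈ l, t.2.2 ∈ flcs X t.1 t.2.1

theorem fo_nil (a : L) : fo a ([] : List (ℕ × ZMod n × L)) = a := rfl

theorem fo_cons (a : L) (t : ℕ × ZMod n × L) (l : List (ℕ × ZMod n × L)) :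
    fo a (t :: l) = fo ⁅a, t.2.2⁆ l := rfl

theorem fo_append (a : L) (l₁ l₂ : List (ℕ × ZMod n × L)) :
    fo a (l₁ ++ l₂) = fo (fo a l₁) l₂ := by
  unfold fo
  rw [List.foldl_append]

theorem fo_zero (l : List (ℕ × ZMod n × L)) : fo (0 : L) l = 0 := by
  induction l with
  | nil => rfl
  | cons t l ih => rw [fo_cons, zero_lie, ih]

theorem fo_add (a b : L) (l : List (ℕ × ZMod n × L)) : fo (a + b) l = fo a l + fo b l := by
  induction l generalizing a b with
  | nil => rfl
  | cons t l ih => rw [fo_cons, fo_cons, fo_cons, add_lie, ih]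

theorem fo_neg (a : L) (l : List (ℕ × ZMod n × L)) : fo (-a) l = -fo a l := by
  induction l generalizing a with
  | nil => rfl
  | cons t l ih => rw [fo_cons, fo_cons, neg_lie, ih]

theorem fo_sub (a b : L) (l : List (ℕ × ZMod n × L)) : fo (a - b) l = fo a l - fo b l := by
  rw [sub_eq_add_neg, fo_add, fo_neg, sub_eq_add_neg]

theorem wt_nil : wt ([] : List (ℕ × ZMod n × L)) = 0 := rfl

theorem wt_cons (t : ℕ × ZMod n × L) (l : List (ℕ × ZMod n × L)) :
    wt (t :: l) = t.1 + 1 + wt l := by
  unfold wt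
  rw [List.map_cons, List.sum_cons]

theorem wt_append (l₁ l₂ : List (ℕ × ZMod n × L)) : wt (l₁ ++ l₂) = wt l₁ + wt l₂ := by
  unfold wt
  rw [List.map_append, List.sum_append]

theorem dg_nil : dg ([] : List (ℕ × ZMod n × L)) = 0 := rfl

theorem dg_cons (t : ℕ × ZMod n × L) (l : List (ℕ × ZMod n × L)) :
    dg (t :: l) = t.2.1 + dg l := by
  unfold dg
  rw [List.map_cons, List.sum_cons]

theorem dg_append (l₁ l₂ : List (ℕ × ZMod n × L)) : dg (l₁ ++ l₂) = dg l₁ + dg l₂ := by
  unfold dg
  rw [List.map_append, List.sum_append]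

theorem wt_perm {l₁ l₂ : List (ℕ × ZMod n × L)} (h : l₁.Perm l₂) : wt l₁ = wt l₂ := by
  unfold wt
  exact (h.map _).sum_eq

theorem dg_perm {l₁ l₂ : List (ℕ × ZMod n × L)} (h : l₁.Perm l₂) : dg l₁ = dg l₂ := by
  unfold dg
  exact (h.map _).sum_eq

theorem Gd_perm {X : ZMod n → AddSubgroup L} {l₁ l₂ : List (ℕ × ZMod n × L)} (h : l₁.Perm l₂)
    (h1 : Gd X l₁) : Gd X l₂ := fun t ht => h1 t (h.mem_iff.mpr ht)

theorem Gd_nil (X : ZMod n → AddSubgroup L) : Gd X ([] : List (ℕ × ZMod n × L)) := by
  intro t ht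
  simp at ht

theorem Gd_cons {X : ZMod n → AddSubgroup L} {t : ℕ × ZMod n × L}
    {l : List (ℕ × ZMod n × L)} (ht : t.2.2 ∈ flcs X t.1 t.2.1) (hl : Gd X l) :
    Gd X (t :: l) := by
  intro s hs
  rcases List.mem_cons.mp hs with rfl | hs
  · exact ht
  · exact hl s hs

theorem Gd_append {X : ZMod n → AddSubgroup L} {l₁ l₂ : List (ℕ × ZMod n × L)} (h1 : Gd X l₁)
    (h2 : Gd X l₂) : Gd X (l₁ ++ l₂) := by
  intro s hs
  rcases List.mem_append.mp hs with hs | hs
  · exact h1 s hs
  · exact h2 s hs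

theorem Gd_tail {X : ZMod n → AddSubgroup L} {t : ℕ × ZMod n × L}
    {l : List (ℕ × ZMod n × L)} (h : Gd X (t :: l)) : Gd X l :=
  fun s hs => h s (List.mem_cons_of_mem _ hs)

theorem Gd_head {X : ZMod n → AddSubgroup L} {t : ℕ × ZMod n × L}
    {l : List (ℕ × ZMod n × L)} (h : Gd X (t :: l)) : t.2.2 ∈ flcs X t.1 t.2.1 :=
  h t (List.mem_cons_self ..)

/-- A left-normed bracket starting in an ideal family stays in it. -/
theorem fo_mem {X F : ZMod n → AddSubgroup L} (hX : IsGr X)
    (hF : ∀ (i j : ZMod n) (u x : L), u ∈ F i → x ∈ X j → ⁅u, x⁆ ∈ F (i + j)) :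
    ∀ (l : List (ℕ × ZMod n × L)), Gd X l → ∀ (j : ZMod n) (a : L), a ∈ F j →
      fo a l ∈ F (j + dg l) := by
  intro l
  induction l with
  | nil =>
    intro _ j a ha
    rw [fo_nil, dg_nil, add_zero]
    exact ha
  | cons t l ih =>
    intro hl j a ha
    rw [fo_cons, dg_cons, ← add_assoc]
    exact ih (Gd_tail hl) (j + t.2.1) ⁅a, t.2.2⁆
      (hF j t.2.1 a t.2.2 ha (flcs_le X hX _ _ (Gd_head hl)))

/-- A left-normed bracket with a zero entry vanishes. -/
theorem fo_eq_zero_of_mem (a : L) {l : List (ℕ × ZMod n × L)} {t : ℕ × ZMod n × L}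
    (ht : t ∈ l) (h0 : t.2.2 = 0) : fo a l = 0 := by
  obtain ⟨l₁, l₂, rfl⟩ := List.append_of_mem ht
  rw [fo_append, fo_cons, h0, lie_zero, fo_zero]

end Fold

section SubsetSum

open scoped Pointwise

/-- Sublist sums of a list of nonzero residues modulo a prime `p`: at least `min p (length + 1)`
values are reached. -/
theorem sublist_sums {p : ℕ} [Fact p.Prime] {α : Type*} (f : α → ZMod p) :
    ∀ l : List α, (∀ t ∈ l, f t ≠ 0) → ∃ S : Finset (ZMod p),
      (∀ s ∈ S, ∃ l₁ : List α, l₁.Sublist l ∧ (l₁.map f).sum = s) ∧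
        min p (l.length + 1) ≤ S.card := by
  classical
  intro l
  induction l with
  | nil =>
    intro _
    refine ⟨{0}, ?_, ?_⟩
    · intro s hs
      rw [Finset.mem_singleton] at hs
      exact ⟨[], List.Sublist.refl _, by rw [hs]; rfl⟩
    · rw [Finset.card_singleton]
      exact min_le_right _ _
  | cons d l ih =>
    intro h
    obtain ⟨S, hS, hcard⟩ := ih (fun t ht => h t (List.mem_cons_of_mem _ ht))
    have hd : f d ≠ 0 := h d (List.mem_cons_self ..)
    have hp : p.Prime := Fact.out
    refine ⟨S + ({0, f d} : Finset (ZMod p)), ?_, ?_⟩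
    · intro s hs
      rw [Finset.mem_add] at hs
      obtain ⟨x, hx, y, hy, rfl⟩ := hs
      obtain ⟨l₁, hl₁, hsum⟩ := hS x hx
      rw [Finset.mem_insert, Finset.mem_singleton] at hy
      rcases hy with rfl | rfl
      · exact ⟨l₁, List.Sublist.cons d hl₁, by rw [hsum, add_zero]⟩
      · refine ⟨d :: l₁, List.Sublist.cons_cons d hl₁, ?_⟩
        rw [List.map_cons, List.sum_cons, hsum, add_comm]
    · have hSpos : 0 < S.card := by
        have h1 : 0 < min p (l.length + 1) := lt_min hp.pos (Nat.succ_pos _)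
        omega
      have hSne : S.Nonempty := Finset.card_pos.mp hSpos
      have h2 : ({0, f d} : Finset (ZMod p)).card = 2 := Finset.card_pair (Ne.symm hd)
      have hcd := ZMod.cauchy_davenport hp hSne (t := ({0, f d} : Finset (ZMod p))) ⟨0, by simp⟩
      rw [h2] at hcd
      rw [List.length_cons]
      have h3 : min p (l.length + 1 + 1) ≤ min p (S.card + 2 - 1) := by
        apply le_min
        · exact min_le_left _ _
        · have h4 : min p (l.length + 1 + 1) ≤ l.length + 1 + 1 := min_le_right _ _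
          rcases le_total p (l.length + 1) with h5 | h5
          · have h6 : min p (l.length + 1) = p := min_eq_left h5
            have h7 : min p (l.length + 1 + 1) ≤ p := min_le_left _ _
            omega
          · have h6 : min p (l.length + 1) = l.length + 1 := min_eq_right h5
            omega
      exact le_trans h3 hcd

/-- Among at least `p - 1` nonzero residues modulo a prime `p`, every residue is a sublist sum. -/
theorem exists_sublist_sum {p : ℕ} [Fact p.Prime] {α : Type*} (f : α → ZMod p) (l : List α)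
    (h : ∀ t ∈ l, f t ≠ 0) (hlen : p - 1 ≤ l.length) (s : ZMod p) :
    ∃ l₁ : List α, l₁.Sublist l ∧ (l₁.map f).sum = s := by
  classical
  have hp : p.Prime := Fact.out
  haveI : NeZero p := ⟨hp.ne_zero⟩
  obtain ⟨S, hS, hcard⟩ := sublist_sums f l h
  have h1 : min p (l.length + 1) = p := min_eq_left (by have := hp.pos; omega)
  rw [h1] at hcard
  have h2 : S = Finset.univ := by
    apply Finset.eq_univ_of_card
    have h3 : S.card ≤ Fintype.card (ZMod p) := Finset.card_le_univ S
    rw [ZMod.card] at h3 ⊢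
    omega
  exact hS s (by rw [h2]; exact Finset.mem_univ s)

end SubsetSum

section Step

variable {L : Type*} [LieRing L] {p : ℕ} [Fact p.Prime]

/-- The hypotheses of the inductive step: `A` is the `k`-th derived term, `A'` the next one, and
`flcs X c ≤ A`. -/
structure StepHyp (X A A' : ZMod p → AddSubgroup L) (c : ℕ) : Prop where
  hX : IsGr X
  h0 : X 0 = ⊥
  hAX : ∀ (i j : ZMod p) (u x : L), u ∈ A i → x ∈ X j → ⁅u, x⁆ ∈ A (i + j)
  hA'X : ∀ (i j : ZMod p) (u x : L), u ∈ A' i → x ∈ X j → ⁅u, x⁆ ∈ A' (i + j)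
  hAA : ∀ (i j : ZMod p) (u v : L), u ∈ A i → v ∈ A j → ⁅u, v⁆ ∈ A' (i + j)
  hAle : ∀ i, A i ≤ X i
  hcA : ∀ i, flcs X c i ≤ A i

/-- Permuting the entries of a long left-normed bracket changes it by an element of `A'`. -/
theorem perm_diff {X A A' : ZMod p → AddSubgroup L} {c : ℕ} (H : StepHyp X A A' c) (W m : ℕ)
    (hC : ∀ l : List (ℕ × ZMod p × L), l.length < m → Gd X l → W ≤ wt l →
      ∀ (j : ZMod p) (a : L), a ∈ A j → fo a l ∈ A' (j + dg l))
    {l l' : List (ℕ × ZMod p × L)} (h : l.Perm l') :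
    ∀ pre : List (ℕ × ZMod p × L), Gd X pre → Gd X l → pre.length + l.length ≤ m →
      W ≤ wt pre + wt l → ∀ (j : ZMod p) (a : L), a ∈ A j →
        fo a (pre ++ l) - fo a (pre ++ l') ∈ A' (j + dg pre + dg l) := by
  induction h with
  | nil =>
    intro pre _ _ _ _ j a _
    rw [sub_self]
    exact AddSubgroup.zero_mem _
  | @cons x l₁ l₂ h ih =>
    intro pre hpre hl hlen hW j a ha
    have e1a : pre ++ x :: l₁ = (pre ++ [x]) ++ l₁ := by simp
    have e1b : pre ++ x :: l₂ = (pre ++ [x]) ++ l₂ := by simp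
    rw [e1a, e1b]
    have key := ih (pre ++ [x]) (Gd_append hpre (Gd_cons (Gd_head hl) (Gd_nil X))) (Gd_tail hl)
      (by simp only [List.length_append, List.length_cons, List.length_nil] at hlen ⊢; omega)
      (by rw [wt_append, wt_cons, wt_nil]; rw [wt_cons] at hW; omega) j a ha
    have e2 : j + dg (pre ++ [x]) + dg l₁ = j + dg pre + dg (x :: l₁) := by
      rw [dg_append, dg_cons, dg_nil, dg_cons]
      abel
    rw [e2] at key
    exact key
  | swap x y l =>
    intro pre hpre hl hlen hW j a ha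
    have hbA : fo a pre ∈ A (j + dg pre) := fo_mem H.hX H.hAX pre hpre j a ha
    have hy := Gd_head hl
    have hx := Gd_head (Gd_tail hl)
    have hl' := Gd_tail (Gd_tail hl)
    have e3 : fo a (pre ++ y :: x :: l) - fo a (pre ++ x :: y :: l)
        = fo a (pre ++ (y.1 + x.1 + 1, y.2.1 + x.2.1, ⁅y.2.2, x.2.2⁆) :: l) := by
      rw [fo_append, fo_cons, fo_cons, fo_append, fo_cons, fo_cons, ← fo_sub, fo_append, fo_cons]
      congr 1
      show _ = ⁅fo a pre, ⁅y.2.2, x.2.2⁆⁆
      rw [leibniz_lie (fo a pre) y.2.2 x.2.2]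
      have h3 : ⁅y.2.2, ⁅fo a pre, x.2.2⁆⁆ = -⁅⁅fo a pre, x.2.2⁆, y.2.2⁆ := (lie_skew _ _).symm
      rw [h3]
      abel
    rw [e3]
    have ht : Gd X (pre ++ (y.1 + x.1 + 1, y.2.1 + x.2.1, ⁅y.2.2, x.2.2⁆) :: l) :=
      Gd_append hpre (Gd_cons
        (flcs_lie_flcs X H.hX x.1 y.1 y.2.1 x.2.1 y.2.2 x.2.2 hy hx) hl')
    have key := hC (pre ++ (y.1 + x.1 + 1, y.2.1 + x.2.1, ⁅y.2.2, x.2.2⁆) :: l)
      (by simp only [List.length_append, List.length_cons] at hlen ⊢; omega) ht
      (by rw [wt_append, wt_cons]; rw [wt_cons, wt_cons] at hW; omega) j a ha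
    have e4 : j + dg (pre ++ (y.1 + x.1 + 1, y.2.1 + x.2.1, ⁅y.2.2, x.2.2⁆) :: l)
        = j + dg pre + dg (y :: x :: l) := by
      rw [dg_append, dg_cons, dg_cons, dg_cons]
      simp only [add_assoc]
    rw [e4] at key
    exact key
  | @trans l₁ l₂ l₃ h1 h2 ih1 ih2 =>
    intro pre hpre hl hlen hW j a ha
    have a1 := ih1 pre hpre hl hlen hW j a ha
    have a2 := ih2 pre hpre (Gd_perm h1 hl) (by rw [← h1.length_eq]; exact hlen)
      (by rw [← wt_perm h1]; exact hW) j a ha
    rw [← dg_perm h1] at a2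
    have a3 := AddSubgroup.add_mem _ a1 a2
    rw [sub_add_sub_cancel] at a3
    exact a3

/-- **Claim C**: a left-normed bracket of an element of `A` with entries of total weight at least
`(p - 2) c + 1` lies in `A'`. -/
theorem claimC {X A A' : ZMod p → AddSubgroup L} {c : ℕ} (H : StepHyp X A A' c) :
    ∀ (m : ℕ) (l : List (ℕ × ZMod p × L)), l.length = m → Gd X l → (p - 2) * c + 1 ≤ wt l →
      ∀ (j : ZMod p) (a : L), a ∈ A j → fo a l ∈ A' (j + dg l) := by
  intro m
  induction m using Nat.strong_induction_on with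
  | _ m IH =>
    intro l hlen hl hW j a ha
    classical
    have hC : ∀ l' : List (ℕ × ZMod p × L), l'.length < m → Gd X l' → (p - 2) * c + 1 ≤ wt l' →
        ∀ (j : ZMod p) (a : L), a ∈ A j → fo a l' ∈ A' (j + dg l') :=
      fun l' h1 h2 h3 j a ha => IH l'.length h1 l' rfl h2 h3 j a ha
    have hperm : ∀ l' : List (ℕ × ZMod p × L), l.Perm l' → fo a l - fo a l' ∈ A' (j + dg l) := by
      intro l' hp'
      have key := perm_diff H _ m hC hp' [] (Gd_nil X) hl
        (by rw [List.length_nil, zero_add, hlen]) (by rw [wt_nil, zero_add]; exact hW) j a ha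
      rw [dg_nil, add_zero, List.nil_append, List.nil_append] at key
      exact key
    by_cases h1 : ∃ t ∈ l, c ≤ t.1
    · obtain ⟨t, ht, hct⟩ := h1
      have hp1 : l.Perm (t :: l.erase t) := List.perm_cons_erase ht
      have hd := hperm _ hp1
      have hl2 : Gd X (t :: l.erase t) := Gd_perm hp1 hl
      have htA : t.2.2 ∈ A t.2.1 := H.hcA _ (flcs_anti X H.hX hct _ (hl t ht))
      have h2 : fo a (t :: l.erase t) ∈ A' (j + dg l) := by
        rw [fo_cons]
        have key := fo_mem H.hX H.hA'X (l.erase t) (Gd_tail hl2) (j + t.2.1) ⁅a, t.2.2⁆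
          (H.hAA j t.2.1 a t.2.2 ha htA)
        have e : j + t.2.1 + dg (l.erase t) = j + dg l := by
          rw [dg_perm hp1, dg_cons, add_assoc]
        rw [e] at key
        exact key
      have h3 := AddSubgroup.add_mem _ hd h2
      rwa [sub_add_cancel] at h3
    · push Not at h1
      by_cases h2 : ∃ t ∈ l, t.2.1 = 0
      · obtain ⟨t, ht, ht0⟩ := h2
        have h3 : t.2.2 = 0 := by
          have h4 := flcs_le X H.hX _ _ (hl t ht)
          rw [ht0, H.h0] at h4
          exact AddSubgroup.mem_bot.mp h4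
        rw [fo_eq_zero_of_mem a ht h3]
        exact AddSubgroup.zero_mem _
      · push Not at h2
        have hlen2 : p - 1 ≤ l.length := by
          by_contra hcon
          push Not at hcon
          have h3 : wt l ≤ l.length * c := by
            unfold wt
            have key := List.sum_le_card_nsmul (l.map (fun t => t.1 + 1)) c (by
              intro x hx
              obtain ⟨t, ht, rfl⟩ := List.mem_map.mp hx
              exact h1 t ht)
            rw [List.length_map, smul_eq_mul] at key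
            exact key
          have h4 : l.length * c ≤ (p - 2) * c := Nat.mul_le_mul_right c (by omega)
          omega
        obtain ⟨l₁, hl₁, hsum⟩ :=
          exists_sublist_sum (fun t : ℕ × ZMod p × L => t.2.1) l h2 hlen2 (-j)
        obtain ⟨l₂, hp2⟩ := hl₁.exists_perm_append
        have hd := hperm _ hp2
        have hG := Gd_perm hp2 hl
        have hG1 : Gd X l₁ := fun s hs => hG s (List.mem_append_left _ hs)
        have h5 : fo a l₁ ∈ A (j + dg l₁) := fo_mem H.hX H.hAX l₁ hG1 j a ha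
        have h6 : j + dg l₁ = 0 := by
          unfold dg
          rw [hsum]
          exact add_neg_cancel j
        have h7 : fo a l₁ = 0 := by
          rw [h6] at h5
          have h8 := H.hAle 0 h5
          rw [H.h0] at h8
          exact AddSubgroup.mem_bot.mp h8
        rw [fo_append, h7, fo_zero, sub_zero] at hd
        exact hd

/-- The additive subgroup generated by the left-normed brackets of an element of `flcs X c`
with `s` entries of `X`. -/
def genF (X : ZMod p → AddSubgroup L) (c s : ℕ) (i : ZMod p) : AddSubgroup L :=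
  AddSubgroup.closure {z | ∃ (j : ZMod p) (a : L) (l : List (ℕ × ZMod p × L)),
    a ∈ flcs X c j ∧ Gd X l ∧ l.length = s ∧ (∀ t ∈ l, t.1 = 0) ∧ j + dg l = i ∧ z = fo a l}

theorem flcs_le_genF (X : ZMod p → AddSubgroup L) (c : ℕ) :
    ∀ (s : ℕ) (i : ZMod p), flcs X (c + s) i ≤ genF X c s i := by
  intro s
  induction s with
  | zero =>
    intro i u hu
    exact AddSubgroup.subset_closure ⟨i, u, [], hu, Gd_nil X, rfl, by simp,
      by rw [dg_nil, add_zero], rfl⟩
  | succ s ih =>
    intro i
    have e : flcs X (c + (s + 1)) = fbr (flcs X (c + s)) X := rfl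
    rw [e]
    refine fbr_le (Z := genF X c (s + 1)) ?_ i
    intro a' b u hu v hv
    have hu' := ih a' hu
    clear hu
    unfold genF at hu'
    induction hu' using AddSubgroup.closure_induction with
    | mem z hz =>
      obtain ⟨j, a, l, ha, hl, hlen, hw, hdeg, rfl⟩ := hz
      refine AddSubgroup.subset_closure ⟨j, a, l ++ [(0, b, v)], ha,
        Gd_append hl (Gd_cons (by rw [flcs_zero]; exact hv) (Gd_nil X)), ?_, ?_, ?_, ?_⟩
      · rw [List.length_append, hlen]
        rfl
      · intro t ht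
        rcases List.mem_append.mp ht with h | h
        · exact hw t h
        · rw [List.mem_singleton] at h
          rw [h]
      · rw [dg_append, dg_cons, dg_nil, add_zero, ← add_assoc, hdeg]
      · rw [fo_append, fo_cons, fo_nil]
    | zero => rw [zero_lie]; exact AddSubgroup.zero_mem _
    | add x y _ _ hx hy => rw [add_lie]; exact AddSubgroup.add_mem _ hx hy
    | neg x _ hx => rw [neg_lie]; exact AddSubgroup.neg_mem _ hx

theorem wt_eq_length {l : List (ℕ × ZMod p × L)} (h : ∀ t ∈ l, t.1 = 0) : wt l = l.length := by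
  induction l with
  | nil => rfl
  | cons t l ih =>
    rw [wt_cons, List.length_cons, ih (fun s hs => h s (List.mem_cons_of_mem _ hs)),
      h t (List.mem_cons_self ..)]
    omega

/-- The inductive step of the Kostrikin–Kreknin theorem. -/
theorem step {X A A' : ZMod p → AddSubgroup L} {c : ℕ} (H : StepHyp X A A' c) (i : ZMod p) :
    flcs X ((p - 1) * c + 1) i ≤ A' i := by
  have hp : p.Prime := Fact.out
  have e : (p - 1) * c + 1 = c + ((p - 2) * c + 1) := by
    have h1 : p - 1 = (p - 2) + 1 := by have := hp.two_le; omega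
    rw [h1, add_mul, one_mul]
    omega
  rw [e]
  refine le_trans (flcs_le_genF X c _ i) ?_
  unfold genF
  rw [AddSubgroup.closure_le]
  rintro z ⟨j, a, l, ha, hl, hlen, hw, hdeg, rfl⟩
  have hwt : wt l = l.length := wt_eq_length hw
  have key := claimC H l.length l rfl hl (by rw [hwt, hlen]) j a (H.hcA j ha)
  rw [hdeg] at key
  exact key

end Step

/-- **Kostrikin–Kreknin, family form.**  For a `ZMod p`-graded bracket-closed family `X` with
`X 0 = ⊥`, the `(∑_{j<k} (p-1)^j)`-th term of the lower central series lies in the `k`-th term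
of the derived series. -/
theorem kk {L : Type*} [LieRing L] (p : ℕ) [Fact p.Prime] (X : ZMod p → AddSubgroup L)
    (hX : IsGr X) (h0 : X 0 = ⊥) (k : ℕ) :
    ∀ i, flcs X (∑ j ∈ Finset.range k, (p - 1) ^ j) i ≤ fder X k i := by
  induction k with
  | zero =>
    intro i
    rw [Finset.sum_range_zero, flcs_zero, fder_zero]
  | succ k ih =>
    intro i
    have e : ∑ j ∈ Finset.range (k + 1), (p - 1) ^ j
        = (p - 1) * (∑ j ∈ Finset.range k, (p - 1) ^ j) + 1 := by
      rw [Finset.sum_range_succ', Finset.mul_sum, pow_zero]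
      congr 1
      apply Finset.sum_congr rfl
      intro j _
      rw [pow_succ, mul_comm]
    rw [e]
    exact step (StepHyp.mk hX h0 (fder_lie_mem X hX k) (fder_lie_mem X hX (k + 1))
      (fun i j u v hu hv => lie_mem_fbr hu hv) (fder_le X hX k) ih) i

/-- The statement of piece K2 of S3779, verbatim as posted. -/
example {L : Type*} [LieRing L] (p : ℕ) [Fact p.Prime] (X : ZMod p → AddSubgroup L)
    (hX : IsGr X) (h0 : X 0 = ⊥) (k : ℕ) :
    ∀ i, flcs X (∑ j ∈ Finset.range k, (p - 1) ^ j) i ≤ fder X k i := kk p X hX h0 k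

end Cfsg.Agent.H80.HKK
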