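import Cfsg.Agent.H28.JkDefs
import Cfsg.Agent.H63.SnIfZ

/-!
# JK-Z (piece of helper28's JZ-KILL sub-project for S2951 / S2952)

The involution `z` of `Ω₁Z(S)` lies in `V = Ω₁Z(O₂(L))` and in `O₂(L')`.
-/

set_option autoImplicit false
open Cfsg

namespace Cfsg.Agent.H80.Jk

open Cfsg.Agent.H28.Jk Cfsg.Agent.H64.Jz Cfsg.Agent.H63.Sn

universe u

/-- `O₂(L) ≤ T` for a Sylow 2-subgroup `T` of `L`. -/
theorem pCoreOf_le_sylowTwoIn {G : Type u} [Group G] [Finite G] {T L : Subgroup G}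
    (h : IsSylowTwoIn T L) : pCoreOf 2 L ≤ T := by
  obtain ⟨hle, hT2, hodd⟩ := h
  have : Fact (Nat.Prime 2) := ⟨Nat.prime_two⟩
  have hT' : IsPGroup 2 ↥(T.subgroupOf L) := hT2.comap_subtype
  have hodd' : Odd (T.subgroupOf L).index := hodd
  have hnd : ¬ 2 ∣ (T.subgroupOf L).index := by
    intro h
    exact (Nat.not_even_iff_odd.mpr hodd') (even_iff_two_dvd.mpr h)
  intro x hx
  obtain ⟨hxL, h⟩ := (mem_pCoreOf L).mp hx
  have h1 := Cfsg.Agent.H53.pCore_le_sylow (hT'.toSylow hnd) h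
  have h2 := (IsPGroup.mem_toSylow hT' hnd).mp h1
  exact Subgroup.mem_subgroupOf.mp h2

/-- JK-Z. -/
theorem kz (hKA : StKA.{u}) : StKZ.{u} := by
  intro G _ _ S M K L T' K' L' hR hcard
  obtain ⟨hB, -, hB', -⟩ := hR
  have hLS : L ∈ jOvergroups (S : Subgroup G) := (hKA S M (S : Subgroup G) K L hB).1
  have hLT' : L' ∈ jOvergroups T' := (hKA S L T' K' L' hB').1
  have hT'S : T' ≤ (S : Subgroup G) := hB'.2.2.2.2.2.1
  -- a nontrivial element of `Ω₁Z(S)`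
  obtain ⟨z, hz1⟩ : ∃ z : ↥(omegaCenterOf (S : Subgroup G)), z ≠ 1 := by
    have : Nontrivial ↥(omegaCenterOf (S : Subgroup G)) := by
      rw [← Finite.one_lt_card_iff_nontrivial, hcard]
      norm_num
    exact exists_ne 1
  have hzne : (z : G) ≠ 1 := fun h => hz1 (Subtype.ext h)
  obtain ⟨hzS, hzC, hz2⟩ := mem_omegaCenterOf _ z.2
  -- `z` centralizes every subgroup of `S`
  have hcent : ∀ Q : Subgroup G, Q ≤ (S : Subgroup G) →
      (z : G) ∈ Subgroup.centralizer (Q : Set G) := by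
    intro Q hQ
    rw [Subgroup.mem_centralizer_iff]
    intro q hq
    exact (Subgroup.mem_centralizer_iff.mp hzC) q (hQ hq)
  have hQS : pCoreOf 2 L ≤ (S : Subgroup G) := pCoreOf_le_sylowTwoIn hLS.1
  have hQ'S : pCoreOf 2 L' ≤ (S : Subgroup G) := (pCoreOf_le_sylowTwoIn hLT'.1).trans hT'S
  have hzQ : (z : G) ∈ pCoreOf 2 L := hLS.2.2 (hcent _ hQS)
  have hzQ' : (z : G) ∈ pCoreOf 2 L' := hLT'.2.2 (hcent _ hQ'S)
  exact ⟨z, hzne, omegaCenterOf_mem _ hzQ (hcent _ hQS) hz2, hzQ'⟩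

example (hKA : StKA.{u}) : StKZ.{u} := kz hKA

end Cfsg.Agent.H80.Jk
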