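import Cfsg.Agent.H80.JwEq
import Cfsg.Agent.H12.SpConjG

/-!
# JW piece W-CONJ (S2953): an element `x ∈ M ∩ N_G(T)` outside `L` gives a second configuration
`(K^x, L^x)` with `L^x ≠ L`.
-/

set_option autoImplicit false
open Cfsg

namespace Cfsg.Agent.H80.Jw

universe u

open Cfsg.Agent.H64.Jz Cfsg.Agent.H52.Jw

theorem jw_map_conj_eq {G : Type u} [Group G] (H : Subgroup G) (g : G)
    (hg : g ∈ Subgroup.normalizer (H : Set G)) : H.map (MulAut.conj g).toMonoidHom = H := by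
  ext x
  constructor
  · rintro ⟨y, hy, rfl⟩
    exact (Subgroup.mem_normalizer_iff.mp hg y).mp hy
  · intro hx
    refine ⟨g⁻¹ * x * g, ?_, by simp [mul_assoc]⟩
    exact (Subgroup.mem_normalizer_iff.mp hg (g⁻¹ * x * g)).mpr (by simpa [mul_assoc] using hx)

theorem jw_mem_normalizer {G : Type u} [Group G] (H : Subgroup G) (g : G)
    (h : H.map (MulAut.conj g).toMonoidHom = H) : g ∈ Subgroup.normalizer (H : Set G) := by
  rw [Subgroup.mem_normalizer_iff]
  intro x
  constructor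
  · intro hx
    rw [← h]
    exact ⟨x, hx, rfl⟩
  · intro hx
    rw [← h] at hx
    obtain ⟨y, hy, hyx⟩ := hx
    have hyx' : y = x := by simpa using hyx
    exact hyx' ▸ hy

theorem jw_map_map_inv {G : Type u} [Group G] (H : Subgroup G) (g : G) :
    (H.map (MulAut.conj g).toMonoidHom).map (MulAut.conj g⁻¹).toMonoidHom = H := by
  rw [Subgroup.map_map]
  have h : (MulAut.conj g⁻¹).toMonoidHom.comp (MulAut.conj g).toMonoidHom = MonoidHom.id G := by
    ext y
    simp [mul_assoc]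
  rw [h, Subgroup.map_id]

theorem jw_twoLocal_conj {G : Type u} [Group G] (N : Subgroup G) (g : G) (h : IsTwoLocal N) :
    IsTwoLocal (N.map (MulAut.conj g).toMonoidHom) := by
  obtain ⟨P, hP, hP1, rfl⟩ := h
  refine ⟨P.map (MulAut.conj g).toMonoidHom, hP.map _, ?_, ?_⟩
  · intro h0
    apply hP1
    rwa [Subgroup.map_eq_bot_iff_of_injective _ (MulAut.conj g).injective] at h0
  · exact Subgroup.map_equiv_normalizer_eq P (MulAut.conj g)

theorem jw_maxTwoLocal_conj {G : Type u} [Group G] (L : Subgroup G) (g : G)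
    (h : IsMaximalTwoLocal L) : IsMaximalTwoLocal (L.map (MulAut.conj g).toMonoidHom) := by
  refine ⟨jw_twoLocal_conj L g h.1, ?_⟩
  intro N hN hLN
  have h1 : L ≤ N.map (MulAut.conj g⁻¹).toMonoidHom := by
    have h0 := Subgroup.map_mono (f := (MulAut.conj g⁻¹).toMonoidHom) hLN
    rwa [jw_map_map_inv] at h0
  have h2 := h.2 _ (jw_twoLocal_conj N g⁻¹ hN) h1
  rw [← h2]
  have h3 := jw_map_map_inv N g⁻¹
  rw [inv_inv] at h3
  exact h3.symm

theorem jw_max_selfNorm {G : Type u} [Group G] (L : Subgroup G) (h : IsMaximalTwoLocal L) (n : G)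
    (hLn : L.map (MulAut.conj n).toMonoidHom = L) : n ∈ L := by
  obtain ⟨⟨P, hP, hP1, hLP⟩, hmax⟩ := h
  have hPL : P ≤ L := by rw [hLP]; exact Subgroup.le_normalizer
  have hPQ : P ≤ pCoreOf 2 L := Cfsg.Agent.H51.le_pCoreOf 2 hPL (le_of_eq hLP) hP
  have hQ1 : pCoreOf 2 L ≠ ⊥ := by
    intro h0
    apply hP1
    rw [h0] at hPQ
    exact le_bot_iff.1 hPQ
  have hQ2 : IsPGroup 2 ↥(pCoreOf 2 L) := Cfsg.Agent.H51.pCoreOf_isPGroup 2 L
  have hLN : L ≤ Subgroup.normalizer (pCoreOf 2 L : Set G) :=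
    Cfsg.Agent.H51.le_normalizer_pCoreOf 2 L
  have hNQ : Subgroup.normalizer (pCoreOf 2 L : Set G) = L :=
    hmax _ ⟨pCoreOf 2 L, hQ2, hQ1, rfl⟩ hLN
  have hQn : (pCoreOf 2 L).map (MulAut.conj n).toMonoidHom = pCoreOf 2 L := by
    rw [← Cfsg.Agent.H51.pCoreOf_map 2 L (MulAut.conj n), hLn]
  have h1 := jw_mem_normalizer _ n hQn
  rw [hNQ] at h1
  exact h1

/-- W-CONJ. -/
theorem conjX : StConjX.{u} := by
  intro G _ _ S M T K L hB x hxM hxT hxL
  obtain ⟨hZN, hO, hM, hNJ, hT, hTS, hK, hL, hKL⟩ := hB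
  obtain ⟨⟨hJc, hK0⟩, hKM, hcore⟩ := hK
  have hTx : T.map (MulAut.conj x).toMonoidHom = T := jw_map_conj_eq T x hxT
  have hJx : (thompsonSubgroupOf 2 T).map (MulAut.conj x).toMonoidHom =
      thompsonSubgroupOf 2 T := by
    rw [Cfsg.Agent.H14.thompsonSubgroupOf_conj, hTx]
  have hinj : Function.Injective (MulAut.conj x).toMonoidHom := (MulAut.conj x).injective
  have hinj' : Function.Injective (MulAut.conj x⁻¹).toMonoidHom := (MulAut.conj x⁻¹).injective
  refine ⟨K.map (MulAut.conj x).toMonoidHom, L.map (MulAut.conj x).toMonoidHom,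
    ⟨hZN, hO, hM, hNJ, hT, hTS, ⟨⟨?_, ?_⟩, ?_, ?_⟩, jw_maxTwoLocal_conj L x hL, ?_⟩, ?_⟩
  · have h := Cfsg.Agent.H12.Sp.isJComponent_conj T K x hJc
    rwa [hTx] at h
  · intro S' hJS' hS'
    obtain ⟨hS1, hS2, hS3⟩ := hS'
    have hW : wOf (K.map (MulAut.conj x).toMonoidHom) =
        (wOf K).map (MulAut.conj x).toMonoidHom := Cfsg.Agent.H12.Sp.wOf_conj_map K x
    have hN : (Subgroup.normalizer (wOf (K.map (MulAut.conj x).toMonoidHom) : Set G)).map
        (MulAut.conj x⁻¹).toMonoidHom = Subgroup.normalizer (wOf K : Set G) := by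
      rw [hW, ← Subgroup.map_equiv_normalizer_eq (wOf K) (MulAut.conj x), jw_map_map_inv]
    have hS'' : IsSylowTwoIn (S'.map (MulAut.conj x⁻¹).toMonoidHom)
        (Subgroup.normalizer (wOf K : Set G)) := by
      refine ⟨?_, hS2.map _, ?_⟩
      · rw [← hN]; exact Subgroup.map_mono hS1
      · rw [← hN, Subgroup.relIndex_map_map_of_injective _ _ hinj']; exact hS3
    have hJS'' : thompsonSubgroupOf 2 T ≤ S'.map (MulAut.conj x⁻¹).toMonoidHom := by
      have h := Subgroup.map_mono (f := (MulAut.conj x⁻¹).toMonoidHom) hJS'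
      have e : (thompsonSubgroupOf 2 T).map (MulAut.conj x⁻¹).toMonoidHom =
          thompsonSubgroupOf 2 T := by
        conv_lhs => rw [← hJx]
        exact jw_map_map_inv _ x
      rwa [e] at h
    have h7 := hK0 _ hJS'' hS''
    rw [← Cfsg.Agent.H14.thompsonSubgroupOf_conj 2 x⁻¹ S'] at h7
    have h8 := congrArg (Subgroup.map (MulAut.conj x).toMonoidHom) h7
    rw [hJx] at h8
    have h9 := jw_map_map_inv (thompsonSubgroupOf 2 S') x⁻¹
    rw [inv_inv] at h9
    rw [h9] at h8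
    exact h8
  · intro hle
    apply hKM
    intro k hk
    have h1 : x * k * x⁻¹ ∈ M := hle ⟨k, hk, rfl⟩
    have h2 : k = x⁻¹ * (x * k * x⁻¹) * x := by group
    rw [h2]
    exact M.mul_mem (M.mul_mem (M.inv_mem hxM) h1) hxM
  · intro h0
    apply hcore
    have e : K.map (MulAut.conj x).toMonoidHom ⊔ T =
        (K ⊔ T).map (MulAut.conj x).toMonoidHom := by
      rw [Subgroup.map_sup, hTx]
    rw [e, Cfsg.Agent.H51.pCoreOf_map 2 (K ⊔ T) (MulAut.conj x)] at h0
    rwa [Subgroup.map_eq_bot_iff_of_injective _ hinj] at h0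
  · have e : K.map (MulAut.conj x).toMonoidHom ⊔ thompsonSubgroupOf 2 T =
        (K ⊔ thompsonSubgroupOf 2 T).map (MulAut.conj x).toMonoidHom := by
      rw [Subgroup.map_sup, hJx]
    rw [e]
    exact Subgroup.map_mono hKL
  · intro hLx
    exact hxL (jw_max_selfNorm L hL x hLx)

example : Cfsg.Agent.H52.Jw.StConjX.{u} := conjX.{u}

end Cfsg.Agent.H80.Jw

#print axioms Cfsg.Agent.H80.Jw.conjX
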