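import Cfsg.Agent.H52.JwDefs
import Cfsg.Agent.H14.Thompson

/-!
# JW piece W-EQ (S2953): for `T = S` and `N_G(S) ⊄ L` there is an element of `M ∩ N_G(S)`
outside `L`.  (`N_G(S) ≤ N_G(J(S)) ≤ M`.)
-/

set_option autoImplicit false
open Cfsg

namespace Cfsg.Agent.H80.Jw

universe u

open Cfsg.Agent.H64.Jz Cfsg.Agent.H52.Jw

/-- `N_G(T) ≤ N_G(J(T))`. -/
theorem jw_normalizer_le_normalizer_thompson {G : Type u} [Group G] (T : Subgroup G) :
    Subgroup.normalizer (T : Set G) ≤ Subgroup.normalizer (thompsonSubgroupOf 2 T : Set G) := by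
  intro g hg
  have hT : T.map (MulAut.conj g).toMonoidHom = T := by
    ext x
    constructor
    · rintro ⟨y, hy, rfl⟩
      exact (Subgroup.mem_normalizer_iff.mp hg y).mp hy
    · intro hx
      refine ⟨g⁻¹ * x * g, ?_, by simp [mul_assoc]⟩
      exact (Subgroup.mem_normalizer_iff.mp hg (g⁻¹ * x * g)).mpr (by simpa [mul_assoc] using hx)
  have hJ := Cfsg.Agent.H14.thompsonSubgroupOf_conj 2 g T
  rw [hT] at hJ
  rw [Subgroup.mem_normalizer_iff]
  intro x
  constructor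
  · intro hx
    rw [← hJ]
    exact ⟨x, hx, rfl⟩
  · intro hx
    rw [← hJ] at hx
    obtain ⟨y, hy, hyx⟩ := hx
    have hyx' : y = x := by simpa using hyx
    exact hyx' ▸ hy

/-- W-EQ. -/
theorem eqX : StEqX.{u} := by
  intro G _ _ S M K L hB hN
  obtain ⟨x, hx, hxL⟩ := SetLike.not_le_iff_exists.mp hN
  exact ⟨x, hB.2.2.2.1 (jw_normalizer_le_normalizer_thompson _ hx), hx, hxL⟩

example : Cfsg.Agent.H52.Jw.StEqX.{u} := eqX.{u}

end Cfsg.Agent.H80.Jw

#print axioms Cfsg.Agent.H80.Jw.eqX
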