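import Cfsg.Agent.H80.JwEq

/-!
# JW piece W-S (S2953): a 2-subgroup `T` of `M ≥ N_G(J(S))` lies in a Sylow 2-subgroup `S'`
of `G` with `N_G(J(S')) ≤ M`.
-/

set_option autoImplicit false
open Cfsg
open scoped Pointwise

namespace Cfsg.Agent.H80.Jw

universe u

open Cfsg.Agent.H64.Jz Cfsg.Agent.H52.Jw

/-- W-S. -/
theorem sS : StS.{u} := by
  intro G _ _ S M T hNM hT hTM
  have : Fact (Nat.Prime 2) := ⟨Nat.prime_two⟩
  have hSM : (S : Subgroup G) ≤ M :=
    (Subgroup.le_normalizer.trans (jw_normalizer_le_normalizer_thompson _)).trans hNM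
  have hT' : IsPGroup 2 ↥(T.subgroupOf M) := hT.comap_subtype
  obtain ⟨Q, hQ⟩ := hT'.exists_le_sylow
  obtain ⟨m, hm⟩ := MulAction.exists_smul_eq ↥M (S.subtype hSM) Q
  have hS' : ((((m : G) • S : Sylow 2 G)) : Subgroup G) =
      (S : Subgroup G).map (MulAut.conj (m : G)).toMonoidHom := by
    rw [Sylow.coe_subgroup_smul]
    rfl
  refine ⟨(m : G) • S, ?_, ?_⟩
  · intro x hx
    rw [hS', ← Cfsg.Agent.H14.thompsonSubgroupOf_conj] at hx
    have e1 : ∀ z, (m : G) * z * (m : G)⁻¹ ∈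
        (thompsonSubgroupOf 2 (S : Subgroup G)).map (MulAut.conj (m : G)).toMonoidHom ↔
        z ∈ thompsonSubgroupOf 2 (S : Subgroup G) := by
      intro z
      constructor
      · rintro ⟨w, hw, hwz⟩
        have : w = z := by simpa using hwz
        exact this ▸ hw
      · intro hz
        exact ⟨z, hz, by simp⟩
    have h1 : (m : G)⁻¹ * x * (m : G) ∈
        Subgroup.normalizer (thompsonSubgroupOf 2 (S : Subgroup G) : Set G) := by
      rw [Subgroup.mem_normalizer_iff] at hx ⊢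
      intro y
      have h2 := hx ((m : G) * y * (m : G)⁻¹)
      rw [e1] at h2
      rw [h2, ← e1]
      have h3 : (m : G) * ((m : G)⁻¹ * x * (m : G) * y * ((m : G)⁻¹ * x * (m : G))⁻¹) * (m : G)⁻¹
          = x * ((m : G) * y * (m : G)⁻¹) * x⁻¹ := by group
      rw [h3]
    have h4 := hNM h1
    have h5 : x = (m : G) * ((m : G)⁻¹ * x * (m : G)) * (m : G)⁻¹ := by group
    rw [h5]
    exact M.mul_mem (M.mul_mem m.2 h4) (M.inv_mem m.2)
  · intro t ht
    have h1 : (⟨t, hTM ht⟩ : ↥M) ∈ (Q : Subgroup ↥M) := hQ (Subgroup.mem_subgroupOf.mpr ht)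
    rw [← hm, Sylow.coe_subgroup_smul, Subgroup.mem_pointwise_smul_iff_inv_smul_mem] at h1
    have h2 : ((m⁻¹ * (⟨t, hTM ht⟩ : ↥M) * m : ↥M) : G) ∈ (S : Subgroup G) := by
      have h3 : (MulAut.conj m)⁻¹ • (⟨t, hTM ht⟩ : ↥M) = m⁻¹ * (⟨t, hTM ht⟩ : ↥M) * m := by
        simp [MulAut.smul_def]
      rw [h3] at h1
      exact Subgroup.mem_subgroupOf.mp h1
    rw [hS']
    refine ⟨(m : G)⁻¹ * t * (m : G), h2, ?_⟩
    simp [mul_assoc]

example : Cfsg.Agent.H52.Jw.StS.{u} := sS.{u}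

end Cfsg.Agent.H80.Jw

#print axioms Cfsg.Agent.H80.Jw.sS
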