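import Cfsg.Agent.H80.SylowPair

set_option autoImplicit false
set_option linter.unusedSectionVars false
set_option linter.style.haveILetI false

/-!
# helper80: Brauer pairs of a subgroup `H` and Brauer pairs of `G`

For a subgroup `H ≤ G` and a subgroup `R` of `H` with `C_G(R) ≤ H`, the centralizers `C_H(R)` and
`C_G(R)` are the same group, and a Brauer pair `(R, g)` of `H` can be read as a Brauer pair of
`G`.

* `upEqv`, `upBlock`, `upPair`: the transport.
* `isNormalSubpair_up`, `subpairLE_up`: normal inclusion and inclusion are preserved.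
* `conjPair_up`: compatibility with conjugation by elements of `H`.
* `exists_upPair_eq`: every pair `(P, e)` of `G` with `P ≤ H` and `C_G(P) ≤ H` comes from `H`.
* `isBrauerPairOf_of_up`, `isMaximal_of_up`: Brauer pairs of a block of `H` whose idempotent is
  given by a function on `G`; maximality.
-/

namespace Cfsg.Agent.H80

open Cfsg Cfsg.Agent.H20 Cfsg.Agent.H4

universe u

variable {G : Type u} [Group G] [Fintype G] {M : Ideal AlgInt}

section Up

variable (H : Subgroup G)

/-- `C_H(R) ≃* C_G(R)` when `C_G(R) ≤ H`. -/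
noncomputable def upEqv (R : Subgroup H)
    (h : Subgroup.centralizer ((R.map H.subtype : Subgroup G) : Set G) ≤ H) :
    Subgroup.centralizer (R : Set H)
      ≃* Subgroup.centralizer ((R.map H.subtype : Subgroup G) : Set G) where
  toFun c := ⟨((c : H) : G), by
    rw [Subgroup.mem_centralizer_iff]
    rintro _ ⟨r, hr, rfl⟩
    have := Subgroup.mem_centralizer_iff.mp c.2 r hr
    exact congrArg Subtype.val this⟩
  invFun c' := ⟨⟨(c' : G), h c'.2⟩, by
    rw [Subgroup.mem_centralizer_iff]
    intro r hr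
    apply Subtype.ext
    exact Subgroup.mem_centralizer_iff.mp c'.2 (r : G) ⟨r, hr, rfl⟩⟩
  left_inv c := rfl
  right_inv c' := rfl
  map_mul' a b := rfl

theorem upEqv_apply (R : Subgroup H)
    (h : Subgroup.centralizer ((R.map H.subtype : Subgroup G) : Set G) ≤ H)
    (c : Subgroup.centralizer (R : Set H)) : ((upEqv H R h c : _) : G) = ((c : H) : G) := rfl

theorem upEqv_symm_apply (R : Subgroup H)
    (h : Subgroup.centralizer ((R.map H.subtype : Subgroup G) : Set G) ≤ H)
    (c' : Subgroup.centralizer ((R.map H.subtype : Subgroup G) : Set G)) :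
    ((((upEqv H R h).symm c' : _) : H) : G) = (c' : G) := rfl

/-- The block of `C_G(R)` corresponding to a set of irreducible characters of `C_H(R)`. -/
def upBlock (R : Subgroup H) (g : Set (IrrCharacter (Subgroup.centralizer (R : Set H)))) :
    Set (IrrCharacter (Subgroup.centralizer ((R.map H.subtype : Subgroup G) : Set G))) :=
  {ξ' | ∃ ξ ∈ g, ∀ (c : Subgroup.centralizer (R : Set H))
      (c' : Subgroup.centralizer ((R.map H.subtype : Subgroup G) : Set G)),
      (c' : G) = ((c : H) : G) → (ξ' : _ → ℂ) c' = (ξ : _ → ℂ) c}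

/-- The Brauer pair index of `G` corresponding to a Brauer pair index of `H`. -/
def upPair (a : BrauerPairIdx H) : BrauerPairIdx G :=
  ⟨a.1.map H.subtype, upBlock H a.1 a.2⟩

theorem upBlock_eq_image (R : Subgroup H)
    (h : Subgroup.centralizer ((R.map H.subtype : Subgroup G) : Set G) ≤ H)
    (g : Set (IrrCharacter (Subgroup.centralizer (R : Set H)))) :
    upBlock H R g = eqvIrr (upEqv H R h) '' g := by
  ext ξ'
  constructor
  · rintro ⟨ξ, hξ, hrel⟩
    refine ⟨ξ, hξ, ?_⟩
    apply Subtype.ext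
    funext c'
    rw [eqvIrr_apply]
    exact (hrel ((upEqv H R h).symm c') c' rfl).symm
  · rintro ⟨ξ, hξ, rfl⟩
    refine ⟨ξ, hξ, fun c c' hcc' => ?_⟩
    rw [eqvIrr_apply]
    have e : (upEqv H R h).symm c' = c := by
      apply Subtype.ext
      apply Subtype.ext
      exact hcc'
    rw [e]

theorem mem_upBlock_iff (R : Subgroup H)
    (h : Subgroup.centralizer ((R.map H.subtype : Subgroup G) : Set G) ≤ H)
    (g : Set (IrrCharacter (Subgroup.centralizer (R : Set H))))
    (ξ' : IrrCharacter (Subgroup.centralizer ((R.map H.subtype : Subgroup G) : Set G))) :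
    ξ' ∈ upBlock H R g ↔ eqvIrr (upEqv H R h).symm ξ' ∈ g := by
  rw [upBlock_eq_image H R h, mem_eqvIrr_image_iff]

theorem isPBlock_upBlock (R : Subgroup H)
    (h : Subgroup.centralizer ((R.map H.subtype : Subgroup G) : Set G) ≤ H)
    {g : Set (IrrCharacter (Subgroup.centralizer (R : Set H)))} (hg : IsPBlock M g) :
    IsPBlock M (upBlock H R g) := by
  rw [upBlock_eq_image H R h]
  exact isPBlock_eqvIrr_image _ hg

theorem isPBlock_of_upBlock (R : Subgroup H)
    (h : Subgroup.centralizer ((R.map H.subtype : Subgroup G) : Set G) ≤ H)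
    {g : Set (IrrCharacter (Subgroup.centralizer (R : Set H)))}
    (hg : IsPBlock M (upBlock H R g)) : IsPBlock M g := by
  rw [upBlock_eq_image H R h] at hg
  have h1 := isPBlock_eqvIrr_image (upEqv H R h).symm hg
  have e : eqvIrr (upEqv H R h).symm '' (eqvIrr (upEqv H R h) '' g) = g := by
    rw [Set.image_image]
    simp only [eqvIrr_symm_eqvIrr]
    exact Set.image_id' g
  rw [e] at h1
  exact h1

theorem subgroupBlockCoeff_upBlock (R : Subgroup H)
    (h : Subgroup.centralizer ((R.map H.subtype : Subgroup G) : Set G) ≤ H)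
    (g : Set (IrrCharacter (Subgroup.centralizer (R : Set H)))) (x : H) :
    subgroupBlockCoeff (Subgroup.centralizer ((R.map H.subtype : Subgroup G) : Set G))
        (upBlock H R g) (x : G)
      = subgroupBlockCoeff (Subgroup.centralizer (R : Set H)) g x := by
  classical
  unfold subgroupBlockCoeff
  by_cases hx : x ∈ Subgroup.centralizer (R : Set H)
  · have hx' : (x : G) ∈ Subgroup.centralizer ((R.map H.subtype : Subgroup G) : Set G) :=
      (upEqv H R h ⟨x, hx⟩).2
    rw [dif_pos hx, dif_pos hx', upBlock_eq_image H R h, blockCoeff_eqvIrr_image]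
    rfl
  · have hx' : (x : G) ∉ Subgroup.centralizer ((R.map H.subtype : Subgroup G) : Set G) := by
      intro hx'
      apply hx
      exact ((upEqv H R h).symm ⟨(x : G), hx'⟩).2
    rw [dif_neg hx, dif_neg hx']

theorem subgroupBlockCoeff_upBlock_of_not_mem (R : Subgroup H)
    (h : Subgroup.centralizer ((R.map H.subtype : Subgroup G) : Set G) ≤ H)
    (g : Set (IrrCharacter (Subgroup.centralizer (R : Set H)))) {y : G} (hy : y ∉ H) :
    subgroupBlockCoeff (Subgroup.centralizer ((R.map H.subtype : Subgroup G) : Set G))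
        (upBlock H R g) y = 0 := by
  classical
  unfold subgroupBlockCoeff
  rw [dif_neg (fun hy' => hy (h hy'))]

theorem brauerOmega_up (R : Subgroup H)
    (h : Subgroup.centralizer ((R.map H.subtype : Subgroup G) : Set G) ≤ H)
    (β : H → ℂ) (β' : G → ℂ) (hβ : ∀ x : H, β' (x : G) = β x)
    (ξ : IrrCharacter (Subgroup.centralizer (R : Set H))) :
    brauerOmega (R.map H.subtype) β' (eqvIrr (upEqv H R h) ξ).1 = brauerOmega R β ξ.1 := by
  unfold brauerOmega
  rw [← finsum_comp_equiv (upEqv H R h).toEquiv]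
  apply finsum_congr
  intro c
  rw [eqvIrr_apply, eqvIrr_apply, map_one]
  have e1 : (upEqv H R h).symm ((upEqv H R h).toEquiv c) = c := (upEqv H R h).symm_apply_apply c
  rw [e1]
  have e2 : (((upEqv H R h).toEquiv c : _) : G) = ((c : H) : G) := rfl
  rw [e2, hβ]

theorem mem_normalizer_map_subtype (R : Subgroup H) {x : H}
    (hx : x ∈ Subgroup.normalizer (R : Set H)) :
    (x : G) ∈ Subgroup.normalizer ((R.map H.subtype : Subgroup G) : Set G) := by
  rw [Subgroup.mem_normalizer_iff]
  intro y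
  constructor
  · rintro ⟨r, hr, rfl⟩
    exact ⟨x * r * x⁻¹, (Subgroup.mem_normalizer_iff.mp hx r).mp hr, rfl⟩
  · rintro ⟨r, hr, hry⟩
    refine ⟨x⁻¹ * r * x, ?_, ?_⟩
    · have := (Subgroup.mem_normalizer_iff.mp (inv_mem hx) r).mp hr
      rwa [inv_inv] at this
    · show ((x⁻¹ * r * x : H) : G) = y
      have e : ((x⁻¹ * r * x : H) : G) = (x : G)⁻¹ * (r : G) * (x : G) := rfl
      rw [e]
      have hry' : (r : G) = (x : G) * y * (x : G)⁻¹ := hry
      rw [hry']
      group

theorem stabilizesBlock_up (R : Subgroup H)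
    (h : Subgroup.centralizer ((R.map H.subtype : Subgroup G) : Set G) ≤ H)
    {g : Set (IrrCharacter (Subgroup.centralizer (R : Set H)))} {x : H}
    (hxN : x ∈ Subgroup.normalizer (R : Set H))
    (hx : StabilizesBlock (Subgroup.centralizer (R : Set H)) g x) :
    StabilizesBlock (Subgroup.centralizer ((R.map H.subtype : Subgroup G) : Set G))
      (upBlock H R g) (x : G) := by
  refine ⟨normalizer_le_normalizer_centralizer _ (mem_normalizer_map_subtype H R hxN), ?_⟩
  intro ξ' hξ'
  rw [upBlock_eq_image H R h] at hξ' ⊢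
  obtain ⟨χ, hχ, rfl⟩ := hξ'
  obtain ⟨χ', hχ', hconj⟩ := hx.2 χ hχ
  refine ⟨eqvIrr (upEqv H R h) χ', ⟨χ', hχ', rfl⟩, ?_⟩
  intro k k' hk
  rw [eqvIrr_apply, eqvIrr_apply]
  apply hconj
  apply Subtype.ext
  exact hk

variable (p : ℕ) [Fact p.Prime]

theorem isBrauerPair_up {R : Subgroup H}
    (h : Subgroup.centralizer ((R.map H.subtype : Subgroup G) : Set G) ≤ H)
    {g : Set (IrrCharacter (Subgroup.centralizer (R : Set H)))} (hRg : IsBrauerPair p M R g) :
    IsBrauerPair p M (R.map H.subtype) (upBlock H R g) :=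
  ⟨hRg.1.map _, isPBlock_upBlock H R h hRg.2⟩

theorem isBrauerPair_of_up {R : Subgroup H}
    (h : Subgroup.centralizer ((R.map H.subtype : Subgroup G) : Set G) ≤ H)
    {g : Set (IrrCharacter (Subgroup.centralizer (R : Set H)))}
    (hRg : IsBrauerPair p M (R.map H.subtype) (upBlock H R g)) : IsBrauerPair p M R g :=
  ⟨hRg.1.of_equiv (R.equivMapOfInjective H.subtype H.subtype_injective).symm,
    isPBlock_of_upBlock H R h hRg.2⟩

/-- Normal inclusion of Brauer pairs of `H` gives normal inclusion in `G`. -/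
theorem isNormalSubpair_up {R₁ R₂ : Subgroup H}
    (h₁ : Subgroup.centralizer ((R₁.map H.subtype : Subgroup G) : Set G) ≤ H)
    {g₁ : Set (IrrCharacter (Subgroup.centralizer (R₁ : Set H)))}
    {g₂ : Set (IrrCharacter (Subgroup.centralizer (R₂ : Set H)))}
    (hn : IsNormalSubpair p M R₁ g₁ R₂ g₂) :
    IsNormalSubpair p M (R₁.map H.subtype) (upBlock H R₁ g₁) (R₂.map H.subtype)
      (upBlock H R₂ g₂) := by
  obtain ⟨hp1, hp2, hle, hN, hst, hom⟩ := hn
  have h₂ : Subgroup.centralizer ((R₂.map H.subtype : Subgroup G) : Set G) ≤ H :=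
    (Subgroup.centralizer_le (Subgroup.map_mono hle)).trans h₁
  refine ⟨isBrauerPair_up H p h₁ hp1, isBrauerPair_up H p h₂ hp2, Subgroup.map_mono hle, ?_, ?_, ?_⟩
  · rintro _ ⟨x, hx, rfl⟩
    exact mem_normalizer_map_subtype H R₁ (hN hx)
  · rintro _ ⟨x, hx, rfl⟩
    exact stabilizesBlock_up H R₁ h₁ (hN hx) (hst x hx)
  · intro ξ' hξ'
    rw [upBlock_eq_image H R₂ h₂] at hξ'
    obtain ⟨ξ, hξ, rfl⟩ := hξ'
    rw [brauerOmega_up H R₂ h₂ (subgroupBlockCoeff (Subgroup.centralizer (R₁ : Set H)) g₁) _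
      (fun x => subgroupBlockCoeff_upBlock H R₁ h₁ g₁ x) ξ]
    exact hom ξ hξ

/-- Inclusion of Brauer pairs of `H` gives inclusion in `G`. -/
theorem subpairLE_up {a b : BrauerPairIdx H}
    (ha : Subgroup.centralizer ((a.1.map H.subtype : Subgroup G) : Set G) ≤ H)
    (h : Relation.ReflTransGen (NormalSubpairRel p M) a b) :
    Relation.ReflTransGen (NormalSubpairRel p M) (upPair H a) (upPair H b) := by
  haveI : Fintype ↥H := Fintype.ofFinite _
  induction h with
  | refl => exact Relation.ReflTransGen.refl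
  | @tail b c hab hbc ih =>
    have hb : Subgroup.centralizer ((b.1.map H.subtype : Subgroup G) : Set G) ≤ H :=
      (Subgroup.centralizer_le (Subgroup.map_mono (subpairLE_le hab))).trans ha
    exact ih.tail (isNormalSubpair_up H p hb hbc)

/-- Conjugation by an element of `H` commutes with the transport. -/
theorem conjPair_up (c : H) (a : BrauerPairIdx H)
    (ha : Subgroup.centralizer ((a.1.map H.subtype : Subgroup G) : Set G) ≤ H) :
    upPair H (conjPair c a) = conjPair (c : G) (upPair H a) := by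
  obtain ⟨R, g⟩ := a
  simp only at ha
  have hfst : (R.map (MulAut.conj c).toMonoidHom).map H.subtype
      = (R.map H.subtype).map (MulAut.conj (c : G)).toMonoidHom := by
    rw [Subgroup.map_map, Subgroup.map_map]
    congr 1
  have ha' : Subgroup.centralizer
      (((R.map (MulAut.conj c).toMonoidHom).map H.subtype : Subgroup G) : Set G) ≤ H := by
    rw [hfst]
    intro y hy
    have h1 := (mem_centralizer_map_conj_iff (R.map H.subtype) (c : G) y).mp hy
    have h2 := ha h1
    have h3 := mul_mem (mul_mem c.2 h2) (inv_mem c.2)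
    have e : (c : G) * ((c : G)⁻¹ * y * (c : G)) * (c : G)⁻¹ = y := by group
    rwa [e] at h3
  apply pair_ext hfst
  intro ξ₁ ξ₂ hpt
  show ξ₁ ∈ upBlock H (R.map (MulAut.conj c).toMonoidHom) (conjBlock R c g)
    ↔ ξ₂ ∈ conjBlock (R.map H.subtype) (c : G) (upBlock H R g)
  rw [mem_upBlock_iff H _ ha', conjBlock_eq_image, conjBlock_eq_image, mem_eqvIrr_image_iff,
    mem_eqvIrr_image_iff, mem_upBlock_iff H R ha]
  have e : eqvIrr (centEqv R c).symm
      (eqvIrr (upEqv H (R.map (MulAut.conj c).toMonoidHom) ha').symm ξ₁)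
      = eqvIrr (upEqv H R ha).symm (eqvIrr (centEqv (R.map H.subtype) (c : G)).symm ξ₂) := by
    apply Subtype.ext
    funext k
    rw [eqvIrr_symm_apply, eqvIrr_symm_apply, eqvIrr_symm_apply, eqvIrr_symm_apply]
    apply hpt
    rfl
  rw [e]

/-- Every pair `(P, e)` of `G` with `P ≤ H` and `C_G(P) ≤ H` comes from a pair of `H`. -/
theorem exists_upPair_eq {P : Subgroup G} (hPH : P ≤ H)
    (hC : Subgroup.centralizer (P : Set G) ≤ H)
    (e : Set (IrrCharacter (Subgroup.centralizer (P : Set G)))) :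
    ∃ a : BrauerPairIdx H, a.1 = P.subgroupOf H ∧ upPair H a = ⟨P, e⟩ := by
  have hfst : (P.subgroupOf H).map H.subtype = P := Subgroup.map_subgroupOf_eq_of_le hPH
  have hC' : Subgroup.centralizer ((((P.subgroupOf H).map H.subtype : Subgroup G)) : Set G) ≤ H := by
    rw [hfst]; exact hC
  obtain ⟨ψ, hψ⟩ : ∃ ψ : Subgroup.centralizer ((P.subgroupOf H : Subgroup H) : Set H)
      ≃* Subgroup.centralizer (P : Set G),
      ∀ c, ((ψ c : _) : G) = ((c : H) : G) := by
    refine ⟨(upEqv H (P.subgroupOf H) hC').trans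
      (MulEquiv.subgroupCongr (by rw [hfst])), fun c => rfl⟩
  refine ⟨⟨P.subgroupOf H, eqvIrr ψ.symm '' e⟩, rfl, ?_⟩
  apply pair_ext hfst
  intro ξ₁ ξ₂ hpt
  show ξ₁ ∈ upBlock H (P.subgroupOf H) (eqvIrr ψ.symm '' e) ↔ ξ₂ ∈ e
  rw [mem_upBlock_iff H _ hC', mem_eqvIrr_image_iff]
  have e1 : eqvIrr ψ.symm.symm (eqvIrr (upEqv H (P.subgroupOf H) hC').symm ξ₁) = ξ₂ := by
    apply Subtype.ext
    funext k
    rw [eqvIrr_symm_apply, eqvIrr_symm_apply]
    apply hpt
    have h1 := hψ (ψ.symm k)
    rw [MulEquiv.apply_symm_apply] at h1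
    rw [upEqv_apply]
    exact h1.symm
  rw [e1]

/-- A pair of `H` is a Brauer pair of the block `F` of `H` as soon as the corresponding pair of
`G` satisfies the Brauer-map condition for a function `β` on `G` extending the idempotent
coefficients of `F`. -/
theorem isBrauerPairOf_of_up {F : Set (IrrCharacter H)} (hF : IsPBlock M F) (β : G → ℂ)
    (hβ : ∀ x : H, β (x : G) = blockCoeff F x) (a : BrauerPairIdx H)
    (ha : Subgroup.centralizer ((a.1.map H.subtype : Subgroup G) : Set G) ≤ H)
    (hpair : IsBrauerPair p M (upPair H a).1 (upPair H a).2)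
    (hom : ∀ ξ' ∈ (upPair H a).2, MemLocalIdeal M
      (brauerOmega (upPair H a).1 β (ξ' : _ → ℂ) - 1)) :
    IsBrauerPairOf p M F a.1 a.2 := by
  obtain ⟨R, g⟩ := a
  simp only at ha
  refine ⟨isBrauerPair_of_up H p ha hpair, hF, fun ξ hξ => ?_⟩
  have h1 := hom (eqvIrr (upEqv H R ha) ξ) (by
    show eqvIrr (upEqv H R ha) ξ ∈ upBlock H R g
    rw [upBlock_eq_image H R ha]
    exact ⟨ξ, hξ, rfl⟩)
  have h2 := brauerOmega_up H R ha (blockCoeff F) β hβ ξ
  show MemLocalIdeal M (brauerOmega R (blockCoeff F) ξ.1 - 1)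
  rw [← h2]
  exact h1

/-- Brauer pairs of `B` are closed upwards under inclusion. -/
theorem isBrauerPairOf_of_le (hM : IsPModular p M) {B : Set (IrrCharacter G)}
    {a b : BrauerPairIdx G} (ha : IsBrauerPairOf p M B a.1 a.2)
    (h : Relation.ReflTransGen (NormalSubpairRel p M) a b) : IsBrauerPairOf p M B b.1 b.2 := by
  induction h with
  | refl => exact ha
  | @tail b c _ hbc ih =>
    exact (Cfsg.Agent.S4658.step p M hM b.1 c.1 b.2 c.2 hbc B ha.2.1).mpr ih

/-- Brauer pairs of `B` are closed downwards under inclusion. -/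
theorem isBrauerPairOf_of_ge (hM : IsPModular p M) {B : Set (IrrCharacter G)}
    {a b : BrauerPairIdx G} (hb : IsBrauerPairOf p M B b.1 b.2)
    (h : Relation.ReflTransGen (NormalSubpairRel p M) a b) : IsBrauerPairOf p M B a.1 a.2 := by
  induction h using Relation.ReflTransGen.head_induction_on with
  | refl => exact hb
  | @head a c hac _ ih =>
    exact (Cfsg.Agent.S4658.step p M hM a.1 c.1 a.2 c.2 hac B hb.2.1).mp ih

/-- Maximality passes from `G` to `H`. -/
theorem isMaximal_of_up (hM : IsPModular p M) {B : Set (IrrCharacter G)} {P : Subgroup G}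
    {e : Set (IrrCharacter (Subgroup.centralizer (P : Set G)))}
    (hmax : IsMaximalBrauerPair p M B P e) {F : Set (IrrCharacter H)} (a : BrauerPairIdx H)
    (ha : Subgroup.centralizer ((a.1.map H.subtype : Subgroup G) : Set G) ≤ H)
    (hup : upPair H a = ⟨P, e⟩) (hpair : IsBrauerPairOf p M F a.1 a.2) :
    IsMaximalBrauerPair p M F a.1 a.2 := by
  refine ⟨hpair, fun R g hRg hle => ?_⟩
  have h1 : Relation.ReflTransGen (NormalSubpairRel p M) (upPair H a) (upPair H ⟨R, g⟩) :=
    subpairLE_up H p ha hle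
  rw [hup] at h1
  have h2 : IsBrauerPairOf p M B (upPair H ⟨R, g⟩).1 (upPair H ⟨R, g⟩).2 :=
    isBrauerPairOf_of_le p hM (a := ⟨P, e⟩) hmax.1 h1
  have h3 : R.map H.subtype = P := hmax.2 _ _ h2 h1
  have h4 : a.1.map H.subtype = P := congrArg Sigma.fst hup
  exact Subgroup.map_injective H.subtype_injective (h3.trans h4.symm)

end Up

end Cfsg.Agent.H80
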