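import Mathlib
import Cfsg.Prelude.Def_Blocks
import Cfsg.Agent.H82.Irr
import Cfsg.Agent.H20.CentralChar

/-!
# Integrality of the central character, divisibility form (team piece S0435-CCINT)
-/

set_option autoImplicit false

namespace Cfsg.Agent.H80.M11

open Subgroup
open scoped ComplexConjugate

theorem central_char_dvd {G : Type*} [Group G] [Finite G] (χ : Cfsg.IrrCharacter G) (g : G)
    (n : ℤ) (hn : (χ : G → ℂ) g = (n : ℂ)) :
    (Cfsg.charDegree (χ : G → ℂ) : ℤ) ∣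
      ((Nat.card G / Nat.card (centralizer ({g} : Set G)) : ℕ) : ℤ) * n := by
  classical
  haveI : Fintype G := Fintype.ofFinite G
  have hint := Cfsg.Agent.H20.centralChar_isIntegral χ g
  have h1 := Cfsg.Agent.H82.irr_one_eq_charDegree χ
  have hpos := Cfsg.Agent.H82.charDegree_pos χ
  have hidx : (centralizer ({g} : Set G)).index =
      Nat.card G / Nat.card (centralizer ({g} : Set G)) := by
    have := Subgroup.card_mul_index (centralizer ({g} : Set G))
    rw [← this, Nat.mul_div_cancel_left _ Nat.card_pos]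
  unfold Cfsg.centralChar at hint
  rw [hn, h1, hidx] at hint
  obtain ⟨k, hk⟩ : ∃ k : ℕ, k = Nat.card G / Nat.card (centralizer ({g} : Set G)) := ⟨_, rfl⟩
  obtain ⟨d, hd⟩ : ∃ d : ℕ, d = Cfsg.charDegree (χ : G → ℂ) := ⟨_, rfl⟩
  rw [← hk, ← hd] at hint ⊢
  rw [← hd] at hpos
  have hq : ((k : ℂ) * (n : ℂ) / (d : ℂ)) = algebraMap ℚ ℂ ((k : ℚ) * (n : ℚ) / (d : ℚ)) := by
    simp
  rw [hq] at hint
  have hint' : IsIntegral ℤ ((k : ℚ) * (n : ℚ) / (d : ℚ)) :=
    (isIntegral_algebraMap_iff (algebraMap ℚ ℂ).injective).mp hint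
  obtain ⟨m, hm⟩ := IsIntegrallyClosed.isIntegral_iff.mp hint'
  refine ⟨m, ?_⟩
  have hd0 : (d : ℚ) ≠ 0 := by exact_mod_cast hpos.ne'
  have hfin : (k : ℚ) * n = d * m := by
    rw [eq_div_iff hd0] at hm
    simp only [eq_intCast] at hm
    linarith
  exact_mod_cast hfin

example {G : Type*} [Group G] [Finite G] (χ : Cfsg.IrrCharacter G) (g : G)
    (n : ℤ) (hn : (χ : G → ℂ) g = (n : ℂ)) :
    (Cfsg.charDegree (χ : G → ℂ) : ℤ) ∣
      ((Nat.card G / Nat.card (centralizer ({g} : Set G)) : ℕ) : ℤ) * n :=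
  central_char_dvd χ g n hn

end Cfsg.Agent.H80.M11
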