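import Mathlib
import Cfsg.Prelude.Def_Blocks
import Cfsg.Agent.H82.Irr
import Cfsg.Agent.H83.SkewParity

/-!
# Values of irreducible characters at involutions of a perfect group (team piece S0435-INVVAL)

If every linear character of `G` is trivial and `t` is an involution, then `χ t` is an integer
`n` with `n ≡ χ 1 (mod 4)` and `|n| ≤ χ 1`.
-/

set_option autoImplicit false
set_option linter.style.haveILetI false

namespace Cfsg.Agent.H80.M11

open Subgroup
open scoped ComplexConjugate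

theorem invol_value {G : Type*} [Group G] [Finite G]
    (hperf : ∀ (φ : G →* ℂˣ) (g : G), φ g = 1) (χ : Cfsg.IrrCharacter G) (t : G)
    (ht : orderOf t = 2) :
    ∃ n : ℤ, (χ : G → ℂ) t = (n : ℂ) ∧
      n ≡ (Cfsg.charDegree (χ : G → ℂ) : ℤ) [ZMOD 4] ∧
      |n| ≤ (Cfsg.charDegree (χ : G → ℂ) : ℤ) := by
  classical
  obtain ⟨N, ρ, -, hχ, -, -, hdeg⟩ := Cfsg.Agent.H82.irr_rep χ
  have ht2 : t ^ 2 = 1 := by rw [← ht]; exact pow_orderOf_eq_one t
  set M : Matrix (Fin N) (Fin N) ℂ := LinearMap.toMatrix' (ρ t) with hM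
  have hMM : M * M = 1 := by
    rw [hM, ← LinearMap.toMatrix'_mul, ← map_mul, ← sq, ht2, map_one, LinearMap.toMatrix'_one]
  have hdet : M.det = 1 := by
    let d : G →* ℂ := (LinearMap.det : ((Fin N → ℂ) →ₗ[ℂ] (Fin N → ℂ)) →* ℂ).comp ρ
    have h1 : d.toHomUnits t = 1 := hperf _ t
    have h2 : d t = 1 := by
      have h3 := congrArg Units.val h1
      simpa using h3
    rw [hM, LinearMap.det_toMatrix']
    exact h2
  set E : Matrix (Fin N) (Fin N) ℂ := (1 / 2 : ℂ) • (1 - M) with hE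
  have hEE : E * E = E := by
    rw [hE, smul_mul_smul_comm, sub_mul, mul_sub, mul_sub, hMM, mul_one, one_mul, mul_one]
    rw [show (1 : Matrix (Fin N) (Fin N) ℂ) - M - (M - 1) = (2 : ℂ) • (1 - M) by
      rw [two_smul]; abel, smul_smul]
    norm_num
  have hE'E' : (1 - E) * (1 - E) = 1 - E := by
    rw [sub_mul, mul_sub, mul_sub, hEE, mul_one, one_mul, mul_one]
    abel
  obtain ⟨m, P, Q, hPQ, hQP⟩ := Cfsg.Agent.H83.exists_idem_factorization E hEE
  obtain ⟨m', P', Q', hPQ', hQP'⟩ := Cfsg.Agent.H83.exists_idem_factorization (1 - E) hE'E'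
  have hMeq : M = 1 - ((2 : ℂ) • P) * Q := by
    rw [Matrix.smul_mul, hPQ, hE, smul_smul]
    norm_num
  have hdet2 : M.det = (-1) ^ m := by
    rw [hMeq, Matrix.det_one_sub_mul_comm, Matrix.mul_smul, hQP]
    rw [show (1 : Matrix (Fin m) (Fin m) ℂ) - (2 : ℂ) • 1 = (-1 : ℂ) • 1 by
      rw [two_smul, neg_one_smul]; abel]
    rw [Matrix.det_smul, Matrix.det_one, mul_one, Fintype.card_fin]
  have htr : E.trace = (m : ℂ) := by
    rw [← hPQ, Matrix.trace_mul_comm, hQP, Matrix.trace_one, Fintype.card_fin]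
  have htr' : (1 - E).trace = (m' : ℂ) := by
    rw [← hPQ', Matrix.trace_mul_comm, hQP', Matrix.trace_one, Fintype.card_fin]
  have hsum : m + m' = N := by
    have h1 : (1 - E).trace = (N : ℂ) - E.trace := by
      rw [Matrix.trace_sub, Matrix.trace_one, Fintype.card_fin]
    rw [htr', htr] at h1
    have h2 : ((m + m' : ℕ) : ℂ) = (N : ℂ) := by
      push_cast; rw [h1]; ring
    exact_mod_cast h2
  have hm : Even m := by
    have h1 : (-1 : ℂ) ^ m = 1 := by rw [← hdet2, hdet]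
    exact (neg_one_pow_eq_one_iff_even (by norm_num)).mp h1
  obtain ⟨a, ha⟩ := hm
  have hct : ρ.character t = M.trace := by
    rw [Representation.character, hM, LinearMap.trace_eq_matrix_trace ℂ (Pi.basisFun ℂ (Fin N))]
    rfl
  have h2E : M.trace = (N : ℂ) - 2 * E.trace := by
    rw [hE, Matrix.trace_smul, Matrix.trace_sub, smul_eq_mul, Matrix.trace_one, Fintype.card_fin]
    ring
  refine ⟨(N : ℤ) - 2 * (m : ℤ), ?_, ?_, ?_⟩
  · rw [← hχ, hct, h2E, htr]
    push_cast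
    ring
  · rw [hdeg, ha]
    have : ((N : ℤ) - 2 * ((a + a : ℕ) : ℤ)) = (N : ℤ) + 4 * (-(a : ℤ)) := by
      push_cast; ring
    rw [this]
    exact Int.modEq_iff_dvd.mpr ⟨(a : ℤ), by ring⟩
  · rw [hdeg, abs_le]
    constructor <;> omega

example {G : Type*} [Group G] [Finite G]
    (hperf : ∀ (φ : G →* ℂˣ) (g : G), φ g = 1) (χ : Cfsg.IrrCharacter G) (t : G)
    (ht : orderOf t = 2) :
    ∃ n : ℤ, (χ : G → ℂ) t = (n : ℂ) ∧
      n ≡ (Cfsg.charDegree (χ : G → ℂ) : ℤ) [ZMOD 4] ∧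
      |n| ≤ (Cfsg.charDegree (χ : G → ℂ) : ℤ) :=
  invol_value hperf χ t ht

end Cfsg.Agent.H80.M11
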