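import Mathlib

/-!
# Regularity of `G` on the `(2,3,3)`-pairs (team piece S0420-REG for helper93)
-/

set_option autoImplicit false

namespace Cfsg.Agent.H80.M11

open Subgroup
open scoped ComplexConjugate

theorem orderOf_conj_eq {G : Type*} [Group G] (c y : G) : orderOf (c * y * c⁻¹) = orderOf y := by
  have h := MulEquiv.orderOf_eq (MulAut.conj c) y
  rw [MulAut.conj_apply] at h
  exact h

theorem pair_transitive {G : Type*} [Group G] [Finite G] (hG : Nat.card G = 7920)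
    (hfree : ∀ g x c : G, orderOf g = 2 → orderOf x = 3 → orderOf (g * x) = 3 →
      c * g = g * c → c * x = x * c → c = 1)
    (hcount3 : Nat.card {x : G // orderOf x = 3} = 440)
    (hcount : ∀ x : G, orderOf x = 3 →
      Nat.card {g : G // orderOf g = 2 ∧ orderOf (g * x) = 3} = 18)
    (g x g' x' : G) (hg : orderOf g = 2) (hx : orderOf x = 3) (hgx : orderOf (g * x) = 3)
    (hg' : orderOf g' = 2) (hx' : orderOf x' = 3) (hgx' : orderOf (g' * x') = 3) :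
    ∃ c : G, c * g * c⁻¹ = g' ∧ c * x * c⁻¹ = x' := by
  classical
  haveI : Fintype {x : G // orderOf x = 3} := Fintype.ofFinite _
  -- the set of pairs
  let e : {q : G × G // orderOf q.1 = 2 ∧ orderOf q.2 = 3 ∧ orderOf (q.1 * q.2) = 3} ≃
      Σ y : {x : G // orderOf x = 3}, {g : G // orderOf g = 2 ∧ orderOf (g * y.1) = 3} :=
    { toFun := fun q => ⟨⟨q.1.2, q.2.2.1⟩, ⟨q.1.1, q.2.1, q.2.2.2⟩⟩
      invFun := fun s => ⟨(s.2.1, s.1.1), s.2.2.1, s.1.2, s.2.2.2⟩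
      left_inv := fun _ => rfl
      right_inv := fun _ => rfl }
  have hcard : Nat.card {q : G × G // orderOf q.1 = 2 ∧ orderOf q.2 = 3 ∧
      orderOf (q.1 * q.2) = 3} = 7920 := by
    rw [Nat.card_congr e, Nat.card_sigma]
    rw [Finset.sum_congr rfl (fun y _ => hcount y.1 y.2), Finset.sum_const, Finset.card_univ,
      ← Nat.card_eq_fintype_card, hcount3]
    rfl
  -- the orbit map
  let f : G → {q : G × G // orderOf q.1 = 2 ∧ orderOf q.2 = 3 ∧ orderOf (q.1 * q.2) = 3} :=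
    fun c => ⟨(c * g * c⁻¹, c * x * c⁻¹), by
      refine ⟨?_, ?_, ?_⟩
      · show orderOf (c * g * c⁻¹) = 2
        rw [orderOf_conj_eq, hg]
      · show orderOf (c * x * c⁻¹) = 3
        rw [orderOf_conj_eq, hx]
      · show orderOf (c * g * c⁻¹ * (c * x * c⁻¹)) = 3
        have e1 : c * g * c⁻¹ * (c * x * c⁻¹) = c * (g * x) * c⁻¹ := by group
        rw [e1, orderOf_conj_eq, hgx]⟩
  have hf : ∀ c, ((f c).1 : G × G) = (c * g * c⁻¹, c * x * c⁻¹) := fun _ => rfl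
  have hinj : Function.Injective f := by
    intro c₁ c₂ h12
    have h3 : (c₁ * g * c₁⁻¹, c₁ * x * c₁⁻¹) = (c₂ * g * c₂⁻¹, c₂ * x * c₂⁻¹) := by
      rw [← hf c₁, ← hf c₂, h12]
    have hg12 : c₁ * g * c₁⁻¹ = c₂ * g * c₂⁻¹ := congrArg Prod.fst h3
    have hx12 : c₁ * x * c₁⁻¹ = c₂ * x * c₂⁻¹ := congrArg Prod.snd h3
    have hcg : c₁⁻¹ * c₂ * g = g * (c₁⁻¹ * c₂) := by
      calc c₁⁻¹ * c₂ * g = c₁⁻¹ * (c₂ * g * c₂⁻¹) * c₂ := by group
        _ = c₁⁻¹ * (c₁ * g * c₁⁻¹) * c₂ := by rw [hg12]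
        _ = g * (c₁⁻¹ * c₂) := by group
    have hcx : c₁⁻¹ * c₂ * x = x * (c₁⁻¹ * c₂) := by
      calc c₁⁻¹ * c₂ * x = c₁⁻¹ * (c₂ * x * c₂⁻¹) * c₂ := by group
        _ = c₁⁻¹ * (c₁ * x * c₁⁻¹) * c₂ := by rw [hx12]
        _ = x * (c₁⁻¹ * c₂) := by group
    exact inv_mul_eq_one.mp (hfree g x (c₁⁻¹ * c₂) hg hx hgx hcg hcx)
  have hbij : Function.Bijective f :=
    (Nat.bijective_iff_injective_and_card f).mpr ⟨hinj, by rw [hG, hcard]⟩
  obtain ⟨c, hc⟩ := hbij.2 ⟨(g', x'), hg', hx', hgx'⟩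
  have h3 : (c * g * c⁻¹, c * x * c⁻¹) = (g', x') := by
    rw [← hf c, hc]
  exact ⟨c, congrArg Prod.fst h3, congrArg Prod.snd h3⟩

example {G : Type*} [Group G] [Finite G] (hG : Nat.card G = 7920)
    (hfree : ∀ g x c : G, orderOf g = 2 → orderOf x = 3 → orderOf (g * x) = 3 →
      c * g = g * c → c * x = x * c → c = 1)
    (hcount3 : Nat.card {x : G // orderOf x = 3} = 440)
    (hcount : ∀ x : G, orderOf x = 3 →
      Nat.card {g : G // orderOf g = 2 ∧ orderOf (g * x) = 3} = 18)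
    (g x g' x' : G) (hg : orderOf g = 2) (hx : orderOf x = 3) (hgx : orderOf (g * x) = 3)
    (hg' : orderOf g' = 2) (hx' : orderOf x' = 3) (hgx' : orderOf (g' * x') = 3) :
    ∃ c : G, c * g * c⁻¹ = g' ∧ c * x * c⁻¹ = x' :=
  pair_transitive hG hfree hcount3 hcount g x g' x' hg hx hgx hg' hx' hgx'

end Cfsg.Agent.H80.M11
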