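import Mathlib
import Cfsg.Prelude.Def_Blocks
import Cfsg.Agent.H82.Irr
import Cfsg.Agent.H4.IrrCount

/-!
# Vanishing of a class-product constant (team piece S0435-SC)

If no product of two conjugates of `t` is conjugate to `z`, then
`∑_χ χ(t)² conj(χ(z)) / χ(1) = 0`.
-/

set_option autoImplicit false

namespace Cfsg.Agent.H80.M11

open Subgroup
open scoped ComplexConjugate

theorem class_product_vanish {G : Type*} [Group G] [Finite G] (t z : G)
    (h : ∀ a b : G, ¬ IsConj (a * t * a⁻¹ * (b * t * b⁻¹)) z) :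
    ∑ᶠ χ : Cfsg.IrrCharacter G,
      (χ : G → ℂ) t ^ 2 * conj ((χ : G → ℂ) z) / (χ : G → ℂ) 1 = 0 := by
  classical
  haveI : Fintype G := Fintype.ofFinite G
  letI := Cfsg.Agent.H4.fintypeIrr G
  rw [Cfsg.Agent.H4.finsum_irr_eq_sum]
  have hG : (Nat.card G : ℂ) ≠ 0 := by
    exact_mod_cast (Nat.card_pos (α := G)).ne'
  have h1 : ∀ χ : Cfsg.IrrCharacter G,
      (Nat.card G : ℂ) ^ 2 * ((χ : G → ℂ) t ^ 2 * conj ((χ : G → ℂ) z) / (χ : G → ℂ) 1) =
        ∑ a : G, ∑ b : G,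
          (χ : G → ℂ) (a * t * a⁻¹ * (b * t * b⁻¹)) * conj ((χ : G → ℂ) z) := by
    intro χ
    have e := Cfsg.Agent.H82.irr_sum_sum χ t t
    calc (Nat.card G : ℂ) ^ 2 * ((χ : G → ℂ) t ^ 2 * conj ((χ : G → ℂ) z) / (χ : G → ℂ) 1)
        = (∑ a : G, ∑ b : G, (χ : G → ℂ) (a * t * a⁻¹ * (b * t * b⁻¹))) *
            conj ((χ : G → ℂ) z) := by
          rw [e]; ring
      _ = _ := by
          rw [Finset.sum_mul]
          refine Finset.sum_congr rfl fun a _ => ?_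
          rw [Finset.sum_mul]
  have h2 : ∀ a b : G, ∑ χ : Cfsg.IrrCharacter G,
      (χ : G → ℂ) (a * t * a⁻¹ * (b * t * b⁻¹)) * conj ((χ : G → ℂ) z) = 0 := by
    intro a b
    have e := Cfsg.Agent.H4.column_orthogonality (a * t * a⁻¹ * (b * t * b⁻¹)) z
    rw [Cfsg.Agent.H4.finsum_irr_eq_sum] at e
    rw [e]
    have hemp : IsEmpty {c : G // c * (a * t * a⁻¹ * (b * t * b⁻¹)) * c⁻¹ = z} := by
      refine ⟨fun c => h a b ?_⟩
      exact isConj_iff.mpr ⟨c.1, c.2⟩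
    rw [Nat.card_of_isEmpty]
    simp
  have key : (Nat.card G : ℂ) ^ 2 * ∑ χ : Cfsg.IrrCharacter G,
      (χ : G → ℂ) t ^ 2 * conj ((χ : G → ℂ) z) / (χ : G → ℂ) 1 = 0 := by
    rw [Finset.mul_sum, Finset.sum_congr rfl (fun χ _ => h1 χ), Finset.sum_comm]
    refine Finset.sum_eq_zero fun a _ => ?_
    rw [Finset.sum_comm]
    exact Finset.sum_eq_zero fun b _ => h2 a b
  exact (mul_eq_zero.mp key).resolve_left (pow_ne_zero 2 hG)

example {G : Type*} [Group G] [Finite G] (t z : G)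
    (h : ∀ a b : G, ¬ IsConj (a * t * a⁻¹ * (b * t * b⁻¹)) z) :
    ∑ᶠ χ : Cfsg.IrrCharacter G,
      (χ : G → ℂ) t ^ 2 * conj ((χ : G → ℂ) z) / (χ : G → ℂ) 1 = 0 :=
  class_product_vanish t z h

end Cfsg.Agent.H80.M11
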