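import Mathlib

/-!
# The canonical involution inverts the Sylow 3-subgroup (team piece S0420-TYPE for helper93)
-/

set_option autoImplicit false
set_option linter.style.haveILetI false

namespace Cfsg.Agent.H80.M11

open Subgroup
open scoped ComplexConjugate

theorem orderOf_conj_eq' {G : Type*} [Group G] (c y : G) :
    orderOf (c * y * c⁻¹) = orderOf y := by
  have h := MulEquiv.orderOf_eq (MulAut.conj c) y
  rw [MulAut.conj_apply] at h
  exact h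

theorem canonical_inverts {G : Type*} [Group G] [Finite G]
    (hTI : ∀ (P P' : Sylow 3 G) (x : G), orderOf x = 3 → x ∈ (P : Subgroup G) →
      x ∈ (P' : Subgroup G) → P = P')
    (htrans : ∀ g x g' x' : G, orderOf g = 2 → orderOf x = 3 → orderOf (g * x) = 3 →
      orderOf g' = 2 → orderOf x' = 3 → orderOf (g' * x') = 3 →
      ∃ c : G, c * g * c⁻¹ = g' ∧ c * x * c⁻¹ = x')
    (hcount18 : ∀ x : G, orderOf x = 3 →
      Nat.card {g : G // orderOf g = 2 ∧ orderOf (g * x) = 3} = 18)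
    (hnon : ∀ (P : Sylow 3 G) (x : G), orderOf x = 3 → x ∈ (P : Subgroup G) →
      Nat.card {h : G // orderOf h = 2 ∧ h * x * h⁻¹ = x⁻¹ ∧
        ¬ ∀ p ∈ (P : Subgroup G), h * p * h⁻¹ = p⁻¹} ≤ 3)
    (hfib : ∀ (P : Sylow 3 G) (x h : G), orderOf x = 3 → x ∈ (P : Subgroup G) →
      orderOf h = 2 → h * x * h⁻¹ = x⁻¹ → h ∈ normalizer ((P : Subgroup G) : Set G) →
      (¬ ∀ p ∈ (P : Subgroup G), h * p * h⁻¹ = p⁻¹) →
      Nat.card {g : G // orderOf g = 2 ∧ orderOf (g * x) = 3 ∧ g * h = h * g} ≤ 5)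
    (P : Sylow 3 G) (g x h : G) (hg : orderOf g = 2) (hx : orderOf x = 3)
    (hxP : x ∈ (P : Subgroup G)) (hgx : orderOf (g * x) = 3) (hh : orderOf h = 2)
    (hhg : h * g = g * h) (hhx : h * x * h⁻¹ = x⁻¹) :
    ∀ p ∈ (P : Subgroup G), h * p * h⁻¹ = p⁻¹ := by
  classical
  by_contra hnot
  -- a criterion for normalizing `P`
  have hnormal : ∀ k : G, k⁻¹ * x * k ∈ (P : Subgroup G) →
      k ∈ normalizer ((P : Subgroup G) : Set G) := by
    intro k hk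
    have hmem : x ∈ ((k • P : Sylow 3 G) : Subgroup G) := by
      rw [Sylow.coe_subgroup_smul, Subgroup.mem_pointwise_smul_iff_inv_smul_mem]
      have e : (MulAut.conj k)⁻¹ • x = k⁻¹ * x * k := by
        rw [← map_inv, MulAut.smul_def, MulAut.conj_apply, inv_inv]
      rw [e]
      exact hk
    have h1 := hTI (k • P) P x hx hmem hxP
    exact Sylow.smul_eq_iff_mem_normalizer.mp h1
  have hkey : ∀ a : {g' : G // orderOf g' = 2 ∧ orderOf (g' * x) = 3},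
      ∃ t : {h' : G // orderOf h' = 2 ∧ h' * x * h'⁻¹ = x⁻¹ ∧
        ¬ ∀ p ∈ (P : Subgroup G), h' * p * h'⁻¹ = p⁻¹}, a.1 * t.1 = t.1 * a.1 := by
    rintro ⟨g', hg'2, hg'x⟩
    obtain ⟨c, hcg, hcx⟩ := htrans g x g' x hg hx hgx hg'2 hx hg'x
    have hcx' : c⁻¹ * x * c = x := by
      calc c⁻¹ * x * c = c⁻¹ * (c * x * c⁻¹) * c := by rw [hcx]
        _ = x := by group
    have hcN : c ∈ normalizer ((P : Subgroup G) : Set G) :=
      hnormal c (by rw [hcx']; exact hxP)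
    refine ⟨⟨c * h * c⁻¹, ?_, ?_, ?_⟩, ?_⟩
    · rw [orderOf_conj_eq', hh]
    · calc c * h * c⁻¹ * x * (c * h * c⁻¹)⁻¹ = c * (h * (c⁻¹ * x * c) * h⁻¹) * c⁻¹ := by group
        _ = c * (h * x * h⁻¹) * c⁻¹ := by rw [hcx']
        _ = c * x⁻¹ * c⁻¹ := by rw [hhx]
        _ = (c * x * c⁻¹)⁻¹ := by group
        _ = x⁻¹ := by rw [hcx]
    · intro hinv
      apply hnot
      intro p hp
      have hcp : c * p * c⁻¹ ∈ (P : Subgroup G) :=
        (Subgroup.mem_normalizer_iff.mp hcN p).mp hp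
      have h1 := hinv (c * p * c⁻¹) hcp
      have e : c * h * c⁻¹ * (c * p * c⁻¹) * (c * h * c⁻¹)⁻¹ = c * (h * p * h⁻¹) * c⁻¹ := by
        group
      have e2 : (c * p * c⁻¹)⁻¹ = c * p⁻¹ * c⁻¹ := by group
      rw [e, e2] at h1
      exact mul_left_cancel (mul_right_cancel h1)
    · show g' * (c * h * c⁻¹) = c * h * c⁻¹ * g'
      rw [← hcg]
      calc c * g * c⁻¹ * (c * h * c⁻¹) = c * (g * h) * c⁻¹ := by group
        _ = c * (h * g) * c⁻¹ := by rw [hhg]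
        _ = c * h * c⁻¹ * (c * g * c⁻¹) := by group
  choose tf htf using hkey
  have hF : Function.Injective
      (fun a : {g' : G // orderOf g' = 2 ∧ orderOf (g' * x) = 3} =>
        (⟨tf a, ⟨a.1, a.2.1, a.2.2, htf a⟩⟩ :
          Σ t : {h' : G // orderOf h' = 2 ∧ h' * x * h'⁻¹ = x⁻¹ ∧
            ¬ ∀ p ∈ (P : Subgroup G), h' * p * h'⁻¹ = p⁻¹},
            {g' : G // orderOf g' = 2 ∧ orderOf (g' * x) = 3 ∧ g' * t.1 = t.1 * g'})) := by
    intro a b hab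
    have h1 := congrArg (fun s : (Σ t : {h' : G // orderOf h' = 2 ∧ h' * x * h'⁻¹ = x⁻¹ ∧
            ¬ ∀ p ∈ (P : Subgroup G), h' * p * h'⁻¹ = p⁻¹},
            {g' : G // orderOf g' = 2 ∧ orderOf (g' * x) = 3 ∧ g' * t.1 = t.1 * g'}) =>
          (s.2.1 : G)) hab
    exact Subtype.ext h1
  haveI : Fintype {h' : G // orderOf h' = 2 ∧ h' * x * h'⁻¹ = x⁻¹ ∧
      ¬ ∀ p ∈ (P : Subgroup G), h' * p * h'⁻¹ = p⁻¹} := Fintype.ofFinite _
  have hle := Nat.card_le_card_of_injective _ hF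
  have hA : Nat.card {g' : G // orderOf g' = 2 ∧ orderOf (g' * x) = 3} = 18 := hcount18 x hx
  have hT : Nat.card {h' : G // orderOf h' = 2 ∧ h' * x * h'⁻¹ = x⁻¹ ∧
      ¬ ∀ p ∈ (P : Subgroup G), h' * p * h'⁻¹ = p⁻¹} ≤ 3 := hnon P x hx hxP
  have hR : ∀ t : {h' : G // orderOf h' = 2 ∧ h' * x * h'⁻¹ = x⁻¹ ∧
      ¬ ∀ p ∈ (P : Subgroup G), h' * p * h'⁻¹ = p⁻¹},
      Nat.card {g' : G // orderOf g' = 2 ∧ orderOf (g' * x) = 3 ∧ g' * t.1 = t.1 * g'} ≤ 5 := by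
    intro t
    have htN : t.1 ∈ normalizer ((P : Subgroup G) : Set G) := by
      apply hnormal
      have h1 := t.2.2.1
      have h2 : t.1⁻¹ * x * t.1 = x⁻¹ := by
        calc t.1⁻¹ * x * t.1 = (t.1⁻¹ * x⁻¹ * t.1)⁻¹ := by group
          _ = (t.1⁻¹ * (t.1 * x * t.1⁻¹) * t.1)⁻¹ := by rw [h1]
          _ = x⁻¹ := by group
      rw [h2]
      exact (P : Subgroup G).inv_mem hxP
    exact hfib P x t.1 hx hxP t.2.1 t.2.2.1 htN t.2.2.2
  have hsum : Nat.card (Σ t : {h' : G // orderOf h' = 2 ∧ h' * x * h'⁻¹ = x⁻¹ ∧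
      ¬ ∀ p ∈ (P : Subgroup G), h' * p * h'⁻¹ = p⁻¹},
      {g' : G // orderOf g' = 2 ∧ orderOf (g' * x) = 3 ∧ g' * t.1 = t.1 * g'}) ≤ 15 := by
    rw [Nat.card_sigma]
    calc _ ≤ ∑ _t : {h' : G // orderOf h' = 2 ∧ h' * x * h'⁻¹ = x⁻¹ ∧
          ¬ ∀ p ∈ (P : Subgroup G), h' * p * h'⁻¹ = p⁻¹}, 5 :=
          Finset.sum_le_sum (fun t _ => hR t)
      _ = Fintype.card {h' : G // orderOf h' = 2 ∧ h' * x * h'⁻¹ = x⁻¹ ∧
          ¬ ∀ p ∈ (P : Subgroup G), h' * p * h'⁻¹ = p⁻¹} * 5 := by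
          rw [Finset.sum_const, Finset.card_univ, smul_eq_mul]
      _ ≤ 3 * 5 := by
          apply Nat.mul_le_mul_right
          rw [← Nat.card_eq_fintype_card]
          exact hT
  omega

example {G : Type*} [Group G] [Finite G]
    (hTI : ∀ (P P' : Sylow 3 G) (x : G), orderOf x = 3 → x ∈ (P : Subgroup G) →
      x ∈ (P' : Subgroup G) → P = P')
    (htrans : ∀ g x g' x' : G, orderOf g = 2 → orderOf x = 3 → orderOf (g * x) = 3 →
      orderOf g' = 2 → orderOf x' = 3 → orderOf (g' * x') = 3 →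
      ∃ c : G, c * g * c⁻¹ = g' ∧ c * x * c⁻¹ = x')
    (hcount18 : ∀ x : G, orderOf x = 3 →
      Nat.card {g : G // orderOf g = 2 ∧ orderOf (g * x) = 3} = 18)
    (hnon : ∀ (P : Sylow 3 G) (x : G), orderOf x = 3 → x ∈ (P : Subgroup G) →
      Nat.card {h : G // orderOf h = 2 ∧ h * x * h⁻¹ = x⁻¹ ∧
        ¬ ∀ p ∈ (P : Subgroup G), h * p * h⁻¹ = p⁻¹} ≤ 3)
    (hfib : ∀ (P : Sylow 3 G) (x h : G), orderOf x = 3 → x ∈ (P : Subgroup G) →
      orderOf h = 2 → h * x * h⁻¹ = x⁻¹ → h ∈ normalizer ((P : Subgroup G) : Set G) →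
      (¬ ∀ p ∈ (P : Subgroup G), h * p * h⁻¹ = p⁻¹) →
      Nat.card {g : G // orderOf g = 2 ∧ orderOf (g * x) = 3 ∧ g * h = h * g} ≤ 5)
    (P : Sylow 3 G) (g x h : G) (hg : orderOf g = 2) (hx : orderOf x = 3)
    (hxP : x ∈ (P : Subgroup G)) (hgx : orderOf (g * x) = 3) (hh : orderOf h = 2)
    (hhg : h * g = g * h) (hhx : h * x * h⁻¹ = x⁻¹) :
    ∀ p ∈ (P : Subgroup G), h * p * h⁻¹ = p⁻¹ :=
  canonical_inverts hTI htrans hcount18 hnon hfib P g x h hg hx hxP hgx hh hhg hhx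

end Cfsg.Agent.H80.M11
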