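import Mathlib

/-!
# A word computation in `A₄ × 2` (team piece S0420-WORD for helper93)
-/

set_option autoImplicit false

namespace Cfsg.Agent.H80.M11

open Subgroup
open scoped ComplexConjugate

theorem no_both_lifts {G : Type*} [Group G] (g h x : G) (hg : g * g = 1) (hh : h * h = 1)
    (hgh : h * g = g * h) (hx3 : x ^ 3 = 1) (hx1 : x ≠ 1) (hhx : h * x * h⁻¹ = x⁻¹)
    (h1 : (g * x) ^ 3 = 1) (h2 : (h * g * x) ^ 3 = 1) : False := by
  have hginv : g⁻¹ = g := inv_eq_of_mul_eq_one_left hg
  have hxx : x⁻¹ = x * x := by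
    apply inv_eq_of_mul_eq_one_left
    rw [← hx3, pow_succ, pow_two]
  have h1' : g * x * (g * x) * (g * x) = 1 := by rw [← h1, pow_succ, pow_two]
  have h2' : h * g * x * (h * g * x) * (h * g * x) = 1 := by rw [← h2, pow_succ, pow_two]
  have hB : h * g * x = g * x⁻¹ * h := by
    have hA : h * x = x⁻¹ * h := by
      rw [← hhx]
      group
    calc h * g * x = g * (h * x) := by rw [hgh, mul_assoc]
      _ = g * x⁻¹ * h := by rw [hA, mul_assoc]
  have hC : g * x⁻¹ * g * x * g * x⁻¹ * h = 1 := by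
    calc g * x⁻¹ * g * x * g * x⁻¹ * h
        = g * x⁻¹ * (h * h) * g * x * (g * x⁻¹ * h) := by
          rw [hh]
          simp only [mul_assoc, one_mul]
      _ = g * x⁻¹ * h * (h * g * x) * (g * x⁻¹ * h) := by simp only [mul_assoc]
      _ = h * g * x * (h * g * x) * (h * g * x) := by rw [← hB]
      _ = 1 := h2'
  have e1 : x * g * x * g * x = g := by
    have h3 : g * (x * g * x * g * x) = 1 := by
      rw [← h1']
      simp only [mul_assoc]
    have h4 := eq_inv_of_mul_eq_one_right h3
    rw [hginv] at h4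
    exact h4
  have hD : g * x⁻¹ * g * x * g * x⁻¹ * (g * x) = 1 := by
    rw [hxx]
    calc g * (x * x) * g * x * g * (x * x) * (g * x)
        = g * x * (x * g * x * g * x) * x * g * x := by simp only [mul_assoc]
      _ = g * x * (g * x) * (g * x) := by
          rw [e1]
          simp only [mul_assoc]
      _ = 1 := h1'
  have hhgx : h = g * x := mul_left_cancel (hC.trans hD.symm)
  have hgx1 : g * x = 1 := by
    have h3 : g * x * (g * x) = 1 := by
      rw [← hhgx]
      exact hh
    rw [h3, one_mul] at h1'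
    exact h1'
  have hxg : x = g := by
    have h3 := eq_inv_of_mul_eq_one_right hgx1
    rw [hginv] at h3
    exact h3
  apply hx1
  have hx2 : x * x = 1 := by
    rw [hxg]
    exact hg
  have h5 : x⁻¹ = 1 := by rw [hxx, hx2]
  exact inv_eq_one.mp h5

example {G : Type*} [Group G] (g h x : G) (hg : g * g = 1) (hh : h * h = 1)
    (hgh : h * g = g * h) (hx3 : x ^ 3 = 1) (hx1 : x ≠ 1) (hhx : h * x * h⁻¹ = x⁻¹)
    (h1 : (g * x) ^ 3 = 1) (h2 : (h * g * x) ^ 3 = 1) : False :=
  no_both_lifts g h x hg hh hgh hx3 hx1 hhx h1 h2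

end Cfsg.Agent.H80.M11
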