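import Cfsg.Agent.H80.MaxDefect
import Cfsg.Agent.H80.ConjPair

set_option autoImplicit false
set_option linter.unusedSectionVars false
set_option linter.style.haveILetI false

/-!
# helper80: the normalizer of a maximal Brauer pair is transitive on the blocks at `P`

* `isCF_mul_comm`: class-function elements are central.
* `maxB_of_maximal`, `exists_class_of_maximal`: the good class of a maximal pair.
* `isMaxP_of_coeff_orbElt_mul`: the support of a multiple of the orbit sum of the good class.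
* `exists_normalizer_conj_block`: if `(P, e)` is a maximal Brauer pair of `B` and `(P, e')` is a
  Brauer pair of `B`, then `e'` is an `N_G(P)`-conjugate of `e`.
-/

namespace Cfsg.Agent.H80

open Cfsg Cfsg.Agent.H20 Cfsg.Agent.H4

universe u

variable {G : Type u} [Group G] [Fintype G] {M : Ideal AlgInt}

/-- Elements of `ℂ[G]` whose coefficients form a class function are central. -/
theorem isCF_mul_comm {z : MonoidAlgebra ℂ G} (hz : IsCF z) (w : MonoidAlgebra ℂ G) :
    z * w = w * z := by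
  rw [eq_sum_single w, Finset.mul_sum, Finset.sum_mul]
  apply Finset.sum_congr rfl
  intro g _
  have e : MonoidAlgebra.single g (w.coeff g) = w.coeff g • MonoidAlgebra.single g (1 : ℂ) := by
    rw [MonoidAlgebra.smul_single, smul_eq_mul, mul_one]
  rw [e, mul_smul_comm, smul_mul_assoc, isCF_comm_single hz]

theorem orbElt_mem_brRing (hM : M.IsPrime) (P : Subgroup G) (g : G) :
    orbElt (Subgroup.normalizer (P : Set G)) g ∈ brRing P hM := by
  classical
  refine mem_brRing.mpr ⟨isInv_mono Subgroup.le_normalizer (isInv_orbElt _ g),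
    isInv_mono (Subgroup.centralizer_le_normalizer _) (isInv_orbElt _ g), fun y => ?_⟩
  rw [coeff_orbElt]
  split_ifs
  · exact memLocalRing_one hM
  · exact memLocalRing_zero hM

open scoped Classical in
theorem brLam_orbElt (P : Subgroup G) [Fintype (Subgroup.centralizer (P : Set G))]
    (ξ : Subgroup.centralizer (P : Set G) → ℂ) (g : G) :
    brLam P ξ (orbElt (Subgroup.normalizer (P : Set G)) g)
      = ∑ y ∈ Finset.univ.filter
          (fun y => ∃ n ∈ Subgroup.normalizer (P : Set G), n * g * n⁻¹ = y),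
          extFun (Subgroup.centralizer (P : Set G)) ξ y := by
  unfold brLam
  rw [omega_truncTo_eq_sum, Finset.sum_filter]
  apply Finset.sum_congr rfl
  intro y _
  rw [coeff_orbElt]
  split_ifs <;> simp

theorem extZero_truncTo_orbElt (P : Subgroup G) {g : G}
    (hg : g ∈ Subgroup.centralizer (P : Set G)) :
    extZero (Subgroup.centralizer (P : Set G))
      (truncTo (Subgroup.centralizer (P : Set G)) (orbElt (Subgroup.normalizer (P : Set G)) g))
      = orbElt (Subgroup.normalizer (P : Set G)) g := by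
  classical
  apply MonoidAlgebra.coeff_injective
  ext y
  by_cases hy : y ∈ Subgroup.centralizer (P : Set G)
  · have h1 := coeff_extZero_coe (Subgroup.centralizer (P : Set G))
      (truncTo (Subgroup.centralizer (P : Set G)) (orbElt (Subgroup.normalizer (P : Set G)) g))
      ⟨y, hy⟩
    rw [coeff_truncTo] at h1
    exact h1
  · rw [coeff_extZero_of_not_mem _ _ hy, coeff_orbElt, if_neg]
    rintro ⟨n, hn, rfl⟩
    apply hy
    exact (Subgroup.mem_normalizer_iff.mp (normalizer_le_normalizer_centralizer P hn) g).mp hg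

section Main

variable (p : ℕ) [Fact p.Prime]

/-- The maximality of a Brauer pair, in the form used below. -/
theorem maxB_of_maximal (hM : IsPModular p M) {B : Set (IrrCharacter G)} {P : Subgroup G}
    [Fintype (Subgroup.centralizer (P : Set G))]
    {e : Set (IrrCharacter (Subgroup.centralizer (P : Set G)))}
    (hmax : IsMaximalBrauerPair p M B P e) :
    ∀ R : Subgroup G, IsPGroup p R → P ≤ R → R ≤ Subgroup.normalizer (P : Set G) →
      (∀ x ∈ R, StabilizesBlock (Subgroup.centralizer (P : Set G)) e x) →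
      ∀ g' ∈ Subgroup.centralizer (R : Set G),
        ¬ MemLocalIdeal M ((zB (Subgroup.centralizer (P : Set G)) e).coeff g') → R = P := by
  obtain ⟨⟨⟨hP, he⟩, hB, hlam⟩, hmaxR⟩ := hmax
  intro R hR hPR hRN hstab g' hg' hcoef
  obtain ⟨f, hf⟩ := exists_normalSubpair_of_coeff p hM hR hPR hRN he hstab g' hg'
    (by rw [subgroupBlockCoeff_eq]; exact hcoef)
  have hpair := (Cfsg.Agent.S4658.step p M hM P R e f hf B hB).mpr ⟨⟨hP, he⟩, hB, hlam⟩
  exact hmaxR R f hpair
    (Relation.ReflTransGen.single (show NormalSubpairRel p M ⟨P, e⟩ ⟨R, f⟩ from hf))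

/-- The good class of a maximal pair: an element `g` of `C_G(P)` such that `P` is a maximal
`p`-subgroup of `C_G(g)` and the central character of `ξ₀` does not vanish modulo the ideal on
the `N_G(P)`-orbit of `g`. -/
theorem exists_class_of_maximal (hM : IsPModular p M) (P : Subgroup G)
    [Fintype (Subgroup.centralizer (P : Set G))]
    {e : Set (IrrCharacter (Subgroup.centralizer (P : Set G)))} (he : IsPBlock M e)
    (hmaxB : ∀ R : Subgroup G, IsPGroup p R → P ≤ R → R ≤ Subgroup.normalizer (P : Set G) →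
      (∀ x ∈ R, StabilizesBlock (Subgroup.centralizer (P : Set G)) e x) →
      ∀ g' ∈ Subgroup.centralizer (R : Set G),
        ¬ MemLocalIdeal M ((zB (Subgroup.centralizer (P : Set G)) e).coeff g') → R = P)
    (ξ₀ : IrrCharacter (Subgroup.centralizer (P : Set G))) (hξ₀ : ξ₀ ∈ e) :
    ∃ g ∈ Subgroup.centralizer (P : Set G),
      (∀ Q : Subgroup G, IsPGroup p Q → P ≤ Q → (∀ y ∈ Q, y * g = g * y) → Q = P) ∧
      ¬ MemLocalIdeal M (brLam P ξ₀.1 (orbElt (Subgroup.normalizer (P : Set G)) g)) := by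
  classical
  have hMp := isPrime_of_isPModular hM
  obtain ⟨g, hgσ, hgW⟩ := exists_orbit_class p hM P he ξ₀ hξ₀
  have hgC : g ∈ Subgroup.centralizer (P : Set G) := by
    by_contra hg
    apply hgσ
    unfold zB
    rw [coeff_extZero_of_not_mem _ _ hg]
    exact memLocalIdeal_zero hMp
  refine ⟨g, hgC, fun Q hQ hPQ hQg =>
    eq_of_centralizes_of_coeff p hM P he hmaxB g hgσ Q hQ hPQ hQg, ?_⟩
  rw [brLam_orbElt]
  exact hgW

open scoped Classical in
/-- If `P` is a maximal `p`-subgroup of `C_G(y)` and `y ∈ C_G(P)`, the Brauer map sends the class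
sum of `y` to the `N_G(P)`-orbit sum of `y`. -/
theorem brLam_classSum_of_maxP (P : Subgroup G) [Fintype (Subgroup.centralizer (P : Set G))]
    (hP : IsPGroup p P) (ξ : Subgroup.centralizer (P : Set G) → ℂ) {y : G}
    (hyC : y ∈ Subgroup.centralizer (P : Set G))
    (hsyl : ∀ Q : Subgroup G, IsPGroup p Q → P ≤ Q → (∀ u ∈ Q, u * y = y * u) → Q = P) :
    brLam P ξ (classSum y) = brLam P ξ (orbElt (Subgroup.normalizer (P : Set G)) y) := by
  rw [brLam_orbElt]
  unfold brLam
  rw [omega_truncTo_eq_sum, Finset.sum_filter]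
  apply Finset.sum_congr rfl
  intro z _
  rw [coeff_classSum]
  by_cases hz : z ∈ Subgroup.centralizer (P : Set G)
  · have hiff : IsConj y z ↔ ∃ n ∈ Subgroup.normalizer (P : Set G), n * y * n⁻¹ = z := by
      constructor
      · intro hc
        obtain ⟨t, rfl⟩ := isConj_iff.mp hc
        exact exists_normalizer_conj p P hP y hyC hsyl t hz
      · rintro ⟨n, -, rfl⟩
        exact isConj_iff.mpr ⟨n, rfl⟩
    rw [if_congr hiff rfl rfl]
    split_ifs <;> simp
  · rw [extFun_of_not_mem _ _ hz]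
    simp

open scoped Classical in
/-- If `P` is a maximal `p`-subgroup of `C_G(g)`, and `W` is `N_G(P)`-invariant with local
coefficients, then any `y` at which `O_g * W` has a coefficient outside the ideal again has `P` as
a maximal `p`-subgroup of its centralizer. -/
theorem isMaxP_of_coeff_orbElt_mul (hM : IsPModular p M) (P : Subgroup G) (g : G)
    (hsyl : ∀ Q : Subgroup G, IsPGroup p Q → P ≤ Q → (∀ u ∈ Q, u * g = g * u) → Q = P)
    {W : MonoidAlgebra ℂ G} (hWinv : IsInv (Subgroup.normalizer (P : Set G)) W)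
    (hWR : ∀ y, MemLocalRing M (W.coeff y)) (y : G)
    (hy : ¬ MemLocalIdeal M ((orbElt (Subgroup.normalizer (P : Set G)) g * W).coeff y)) :
    ∀ Q : Subgroup G, IsPGroup p Q → P ≤ Q → (∀ u ∈ Q, u * y = y * u) → Q = P := by
  have hMp := isPrime_of_isPModular hM
  intro Q hQ hPQ hQy
  by_contra hne
  obtain ⟨Q₁, hlt, hQ₁Q, hQ₁N⟩ := exists_normalizing_lt Q P hQ hPQ (fun h => hne h.symm)
  apply hy
  rw [coeff_mul_fintype]
  have e1 : ∑ x : G, (orbElt (Subgroup.normalizer (P : Set G)) g).coeff x * W.coeff (x⁻¹ * y)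
      = ∑ x ∈ Finset.univ.filter
          (fun x => ∃ n ∈ Subgroup.normalizer (P : Set G), n * g * n⁻¹ = x),
          W.coeff (x⁻¹ * y) := by
    rw [Finset.sum_filter]
    apply Finset.sum_congr rfl
    intro x _
    rw [coeff_orbElt]
    split_ifs <;> simp
  rw [e1]
  apply sum_mem_of_conj p Q₁ (hQ.to_le hQ₁Q) (localIdeal M hMp) (fun x => W.coeff (x⁻¹ * y))
  · intro x hx u hu
    rw [Finset.mem_filter] at hx ⊢
    obtain ⟨n, hn, rfl⟩ := hx.2
    refine ⟨Finset.mem_univ _, u * n, mul_mem (hQ₁N hu) hn, ?_⟩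
    group
  · intro x _ u hu
    have huy : u * y = y * u := hQy u (hQ₁Q hu)
    have huy' : u⁻¹ * y = y * u⁻¹ := by
      calc u⁻¹ * y = u⁻¹ * (y * u) * u⁻¹ := by group
        _ = u⁻¹ * (u * y) * u⁻¹ := by rw [huy]
        _ = y * u⁻¹ := by group
    have e : (u * x * u⁻¹)⁻¹ * y = u * (x⁻¹ * y) * u⁻¹ := by
      calc (u * x * u⁻¹)⁻¹ * y = u * x⁻¹ * (u⁻¹ * y) := by group
        _ = u * x⁻¹ * (y * u⁻¹) := by rw [huy']
        _ = u * (x⁻¹ * y) * u⁻¹ := by group
    show W.coeff ((u * x * u⁻¹)⁻¹ * y) = W.coeff (x⁻¹ * y)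
    rw [e]
    exact hWinv u (hQ₁N hu) _
  · intro x hx hxc
    rw [Finset.mem_filter] at hx
    obtain ⟨n, hn, rfl⟩ := hx.2
    have hQ₂ : Q₁.map (MulAut.conj n⁻¹).toMonoidHom = P := by
      apply hsyl _ ((hQ.to_le hQ₁Q).map _)
      · intro u hu
        rw [mem_map_conj_inv_iff]
        exact hlt.le ((Subgroup.mem_normalizer_iff.mp hn u).mp hu)
      · intro u hu
        rw [mem_map_conj_inv_iff] at hu
        have h1 := Subgroup.mem_centralizer_iff.mp hxc _ hu
        calc u * g = n⁻¹ * ((n * u * n⁻¹) * (n * g * n⁻¹)) * n := by group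
          _ = n⁻¹ * ((n * g * n⁻¹) * (n * u * n⁻¹)) * n := by rw [h1]
          _ = g * u := by group
    have hcard : Nat.card Q₁ = Nat.card P := by
      rw [← hQ₂, Subgroup.card_map_of_injective (MulEquiv.injective _)]
    exact hlt.ne (Subgroup.eq_of_le_of_card_ge hlt.le hcard.le)
  · intro x _
    rw [nsmul_eq_mul]
    exact memLocalIdeal_mul_right hMp (memLocalIdeal_natCast_self hM) (hWR _)

open scoped Classical in
/-- **Transitivity.** If `(P, e)` is a maximal Brauer pair of `B` (in the form `hmaxB`) and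
`(P, e')` is a Brauer pair of `B`, then `e'` is a conjugate of `e` under `N_G(P)`. -/
theorem exists_normalizer_conj_block (hM : IsPModular p M) {B : Set (IrrCharacter G)}
    (hB : IsPBlock M B) (P : Subgroup G) [Fintype (Subgroup.centralizer (P : Set G))]
    (hP : IsPGroup p P) {e e' : Set (IrrCharacter (Subgroup.centralizer (P : Set G)))}
    (he : IsPBlock M e) (he' : IsPBlock M e')
    (hmaxB : ∀ R : Subgroup G, IsPGroup p R → P ≤ R → R ≤ Subgroup.normalizer (P : Set G) →
      (∀ x ∈ R, StabilizesBlock (Subgroup.centralizer (P : Set G)) e x) →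
      ∀ g' ∈ Subgroup.centralizer (R : Set G),
        ¬ MemLocalIdeal M ((zB (Subgroup.centralizer (P : Set G)) e).coeff g') → R = P)
    (hlam : ∀ ξ ∈ e, MemLocalIdeal M (brLam P ξ.1 (blockElt B) - 1))
    (hlam' : ∀ ξ ∈ e', MemLocalIdeal M (brLam P ξ.1 (blockElt B) - 1)) :
    ∃ n ∈ Subgroup.normalizer (P : Set G),
      e' = autIrr (conjAut' (Subgroup.centralizer (P : Set G)) n) '' e := by
  have hMp := isPrime_of_isPModular hM
  have hNC := normalizer_le_normalizer_centralizer P
  obtain ⟨ξ₀, hξ₀⟩ : ∃ ξ₀ : IrrCharacter (Subgroup.centralizer (P : Set G)), ξ₀ ∈ e := by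
    obtain ⟨ξ, rfl⟩ := he
    exact ⟨ξ, mem_blockOf_self hMp ξ⟩
  obtain ⟨ξ', hξ'⟩ : ∃ ξ' : IrrCharacter (Subgroup.centralizer (P : Set G)), ξ' ∈ e' := by
    obtain ⟨ξ, rfl⟩ := he'
    exact ⟨ξ, mem_blockOf_self hMp ξ⟩
  obtain ⟨χ₀, hχ₀⟩ : ∃ χ₀ : IrrCharacter G, χ₀ ∈ B := by
    obtain ⟨χ, rfl⟩ := hB
    exact ⟨χ, mem_blockOf_self hMp χ⟩
  obtain ⟨g, hgC, hsyl, hgW⟩ := exists_class_of_maximal p hM P he hmaxB ξ₀ hξ₀
  -- the elements of `ℂ[C_G(P)]`
  obtain ⟨o, ho⟩ : ∃ o : MonoidAlgebra ℂ (Subgroup.centralizer (P : Set G)),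
      o = truncTo (Subgroup.centralizer (P : Set G))
        (orbElt (Subgroup.normalizer (P : Set G)) g) := ⟨_, rfl⟩
  obtain ⟨ε, hε⟩ : ∃ ε : MonoidAlgebra ℂ (Subgroup.centralizer (P : Set G)),
      ε = blockElt (orbitSet (Subgroup.normalizer (P : Set G))
        (Subgroup.centralizer (P : Set G)) e) := ⟨_, rfl⟩
  obtain ⟨c, hc⟩ : ∃ c : ℂ, c = omega ξ₀.1 o := ⟨_, rfl⟩
  have hoR : o ∈ cfSubring (Subgroup.centralizer (P : Set G)) (localRing M hMp) := by
    rw [ho]
    exact truncTo_mem_of_brRing P (orbElt_mem_brRing hMp P g)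
  have hεR : ε ∈ cfSubring (Subgroup.centralizer (P : Set G)) (localRing M hMp) := by
    rw [hε]
    exact blockElt_mem_of_union hMp _ (orbitSet_block hMp _ _ he)
  have hcR : MemLocalRing M c := by
    rw [hc]
    exact omega_memLocalRing hMp ξ₀ hoR
  have hcU : ¬ MemLocalIdeal M c := by
    rw [hc, ho]
    exact hgW
  have hci : MemLocalRing M c⁻¹ := memLocalRing_inv hcR hcU
  have hc0 : c ≠ 0 := fun h0 => hcU (h0 ▸ memLocalIdeal_zero hMp)
  obtain ⟨r, hr⟩ : ∃ r : MonoidAlgebra ℂ (Subgroup.centralizer (P : Set G)),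
      r = 1 - c⁻¹ • o := ⟨_, rfl⟩
  have hrR : r ∈ cfSubring (Subgroup.centralizer (P : Set G)) (localRing M hMp) := by
    rw [hr]
    exact Subring.sub_mem _ (Subring.one_mem _) (smul_mem_cfSubring hci hoR)
  -- invariance of `o` under the normalizer
  have hoinv : ∀ n ∈ Subgroup.normalizer (P : Set G),
      ∀ k : Subgroup.centralizer (P : Set G),
        o.coeff (conjAut' (Subgroup.centralizer (P : Set G)) n k) = o.coeff k := by
    intro n hn k
    rw [ho, coeff_truncTo, coeff_truncTo, conjAut'_eq _ (hNC hn), conjAut_apply]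
    exact isInv_orbElt _ g n hn _
  -- the central characters of `ε * r` lie in the ideal
  have hω : ∀ ψ : IrrCharacter (Subgroup.centralizer (P : Set G)),
      MemLocalIdeal M (omega ψ.1 (ε * r)) := by
    intro ψ
    rw [omega_mul ψ hεR.1, hε, omega_blockElt]
    by_cases hψ : ψ ∈ orbitSet (Subgroup.normalizer (P : Set G))
        (Subgroup.centralizer (P : Set G)) e
    · rw [if_pos hψ, one_mul, hr, omega_sub, omega_one_irr, omega_smul]
      obtain ⟨n, hn, θ, hθ, rfl⟩ := hψ
      rw [omega_autIrr_of_invariant _ θ (hoinv n hn)]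
      have hsame : SameBlock M θ.1 ξ₀.1 := by
        obtain ⟨ξ, rfl⟩ := he
        exact sameBlock_trans hMp (sameBlock_symm hθ) hξ₀
      have e2 := omega_sub_omega_memLocalIdeal hMp θ.1 ξ₀.1 (irr_isClassFunction _)
        (irr_isClassFunction _) hsame hoR
      rw [← hc] at e2
      have e3 : 1 - c⁻¹ * omega θ.1 o = -(c⁻¹ * (omega θ.1 o - c)) := by
        field_simp
        ring
      rw [e3]
      exact memLocalIdeal_neg (memLocalIdeal_mul_left hMp hci e2)
    · rw [if_neg hψ, zero_mul]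
      exact memLocalIdeal_zero hMp
  obtain ⟨n, hn, hcoef⟩ := exists_pow_coeff_memLocalIdeal hMp (Subring.mul_mem _ hεR hrR) hω
  -- the identity `ε = (ε r)^n + o (ε v)`
  obtain ⟨v, hv⟩ : ∃ v : MonoidAlgebra ℂ (Subgroup.centralizer (P : Set G)),
      v = c⁻¹ • ∑ j ∈ Finset.range n, r ^ j := ⟨_, rfl⟩
  have hvR : v ∈ cfSubring (Subgroup.centralizer (P : Set G)) (localRing M hMp) := by
    rw [hv]
    exact smul_mem_cfSubring hci (Subring.sum_mem _ (fun j _ => Subring.pow_mem _ hrR j))
  have hεε : ε * ε = ε := by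
    rw [hε]
    exact blockElt_mul_self _
  have hεpow : ∀ k : ℕ, 0 < k → ε ^ k = ε := by
    intro k hk
    induction k with
    | zero => exact absurd hk (lt_irrefl 0)
    | succ k ih =>
      rcases Nat.eq_zero_or_pos k with h0 | hpos
      · rw [h0, zero_add, pow_one]
      · rw [pow_succ, ih hpos, hεε]
  have hpow : (ε * r) ^ n = ε * r ^ n := by
    have hcomm : Commute ε r := isCF_mul_comm hεR.1 r
    rw [hcomm.mul_pow, hεpow n hn]
  have hgeo : r ^ n = 1 - o * v := by
    have h1 := mul_neg_geom_sum r n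
    have e1 : 1 - r = c⁻¹ • o := by
      rw [hr, sub_sub_cancel]
    rw [e1, smul_mul_assoc, ← mul_smul_comm, ← hv] at h1
    rw [h1, sub_sub_cancel]
  have hid : ε = (ε * r) ^ n + o * (ε * v) := by
    rw [hpow, hgeo, mul_sub, mul_one, ← mul_assoc o ε v, ← isCF_mul_comm hεR.1 o, mul_assoc,
      sub_add_cancel]
  -- the elements of `ℂ[G]`
  obtain ⟨W, hW⟩ : ∃ W : MonoidAlgebra ℂ G,
      W = extZero (Subgroup.centralizer (P : Set G)) (ε * v) := ⟨_, rfl⟩
  have hO : extZero (Subgroup.centralizer (P : Set G)) o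
      = orbElt (Subgroup.normalizer (P : Set G)) g := by
    rw [ho]
    exact extZero_truncTo_orbElt P hgC
  have hWR : ∀ y, MemLocalRing M (W.coeff y) := by
    intro y
    rw [hW]
    exact coeff_extZero_mem_of _ _ (localRing M hMp).toAddSubgroup
      (Subring.mul_mem _ hεR hvR).2 y
  have hWinv : IsInv (Subgroup.normalizer (P : Set G)) W := by
    rw [hW, extZero_mul, hv, extZero_smul, extZero_sum]
    have hr' : IsInv (Subgroup.normalizer (P : Set G))
        (extZero (Subgroup.centralizer (P : Set G)) r) := by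
      rw [hr, extZero_sub, extZero_one, extZero_smul, hO]
      exact isInv_sub (isInv_one _) (isInv_smul _ (isInv_orbElt _ g))
    have hj : ∀ j : ℕ, extZero (Subgroup.centralizer (P : Set G)) (r ^ j)
        ∈ invSubring (Subgroup.normalizer (P : Set G)) ⊤ := by
      intro j
      rw [extZero_pow]
      have hrmem : extZero (Subgroup.centralizer (P : Set G)) r
          ∈ invSubring (Subgroup.normalizer (P : Set G)) ⊤ :=
        mem_invSubring.mpr ⟨hr', fun _ => Subring.mem_top _⟩
      exact Subring.pow_mem _ hrmem j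
    have hε' : IsInv (Subgroup.normalizer (P : Set G))
        (extZero (Subgroup.centralizer (P : Set G)) ε) := by
      rw [hε]
      exact isInv_zB_orbitSet _ _ hNC e
    exact isInv_mul hε' (isInv_smul _ (Subring.sum_mem _ (fun j _ => hj j)).1)
  obtain ⟨Z, hZ⟩ : ∃ Z : MonoidAlgebra ℂ G,
      Z = orbElt (Subgroup.normalizer (P : Set G)) g * W := ⟨_, rfl⟩
  have hZext : Z = extZero (Subgroup.centralizer (P : Set G)) (o * (ε * v)) := by
    rw [hZ, extZero_mul, hO, hW]
  have hZinv : IsInv (Subgroup.normalizer (P : Set G)) Z := by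
    rw [hZ]
    exact isInv_mul (isInv_orbElt _ g) hWinv
  have hAR : o * (ε * v) ∈ cfSubring (Subgroup.centralizer (P : Set G)) (localRing M hMp) :=
    Subring.mul_mem _ hoR (Subring.mul_mem _ hεR hvR)
  have hZR : ∀ y, MemLocalRing M (Z.coeff y) := by
    intro y
    rw [hZext]
    exact coeff_extZero_mem_of _ _ (localRing M hMp).toAddSubgroup hAR.2 y
  -- the central characters of `(ε r)^n`
  have hT : ∀ ξ : IrrCharacter (Subgroup.centralizer (P : Set G)),
      MemLocalIdeal M (omega ξ.1 ((ε * r) ^ n)) := by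
    intro ξ
    exact omega_mem_of_coeff _ (irr_isClassFunction ξ) (localIdeal M hMp)
      (Subring.pow_mem _ (Subring.mul_mem _ hεR hrR) n).1
      (fun k => memLocalIdeal_mul_right hMp (hcoef k) (centralChar_memLocalRing hMp ξ k))
  -- the central characters of `o (ε v)`
  have hA : ∀ ξ : IrrCharacter (Subgroup.centralizer (P : Set G)),
      omega ξ.1 (o * (ε * v))
        = ∑ y : G, Z.coeff y * extFun (Subgroup.centralizer (P : Set G)) ξ.1 y := by
    intro ξ
    rw [← omega_truncTo_eq_sum, hZext, truncTo_extZero]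
  have h1 := hlam ξ₀ hξ₀
  have h1' := hlam' ξ' hξ'
  have hdiff : MemLocalIdeal M (omega ξ'.1 (o * (ε * v)) - omega ξ₀.1 (o * (ε * v))) := by
    rw [hA, hA, ← Finset.sum_sub_distrib]
    have e0 : ∀ y : G, Z.coeff y * extFun (Subgroup.centralizer (P : Set G)) ξ'.1 y
        - Z.coeff y * extFun (Subgroup.centralizer (P : Set G)) ξ₀.1 y
        = Z.coeff y * (extFun (Subgroup.centralizer (P : Set G)) ξ'.1 y
          - extFun (Subgroup.centralizer (P : Set G)) ξ₀.1 y) := fun y => by ring
    rw [Finset.sum_congr rfl (fun y _ => e0 y)]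
    apply sum_mem_of_subgroup_conj_orbits (Subgroup.normalizer (P : Set G)) (localIdeal M hMp)
    intro y₀
    have e1 : ∑ y ∈ Finset.univ.filter
          (fun y => ∃ n ∈ Subgroup.normalizer (P : Set G), n * y₀ * n⁻¹ = y),
          Z.coeff y * (extFun (Subgroup.centralizer (P : Set G)) ξ'.1 y
            - extFun (Subgroup.centralizer (P : Set G)) ξ₀.1 y)
        = Z.coeff y₀ * (brLam P ξ'.1 (orbElt (Subgroup.normalizer (P : Set G)) y₀)
            - brLam P ξ₀.1 (orbElt (Subgroup.normalizer (P : Set G)) y₀)) := by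
      rw [brLam_orbElt, brLam_orbElt, ← Finset.sum_sub_distrib, Finset.mul_sum]
      apply Finset.sum_congr rfl
      intro y hy
      obtain ⟨m, hm, rfl⟩ := (Finset.mem_filter.mp hy).2
      rw [hZinv m hm y₀]
    rw [e1]
    have hbr := orbElt_mem_brRing hMp P y₀
    by_cases hy₀ : MemLocalIdeal M (Z.coeff y₀)
    · exact memLocalIdeal_mul_right hMp hy₀
        (memLocalRing_sub hMp (brLam_memLocalRing P hbr ξ') (brLam_memLocalRing P hbr ξ₀))
    · have hy₀C : y₀ ∈ Subgroup.centralizer (P : Set G) := by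
        by_contra hnot
        apply hy₀
        rw [hZext, coeff_extZero_of_not_mem _ _ hnot]
        exact memLocalIdeal_zero hMp
      have hmaxP := isMaxP_of_coeff_orbElt_mul p hM P g hsyl hWinv hWR y₀ (hZ ▸ hy₀)
      rw [← brLam_classSum_of_maxP p P hP ξ'.1 hy₀C hmaxP,
        ← brLam_classSum_of_maxP p P hP ξ₀.1 hy₀C hmaxP]
      have h2 := brLam_sub_omega_mem p hM P hP hB ξ' h1' (classSum_mem (localRing M hMp) y₀) hχ₀
      have h3 := brLam_sub_omega_mem p hM P hP hB ξ₀ h1 (classSum_mem (localRing M hMp) y₀) hχ₀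
      have h4 := memLocalIdeal_sub hMp h2 h3
      rw [sub_sub_sub_cancel_right] at h4
      exact memLocalIdeal_mul_left hMp (hZR y₀) h4
  -- conclusion
  have hkey : MemLocalIdeal M (omega ξ'.1 ε - omega ξ₀.1 ε) := by
    have e1 : ∀ ξ : IrrCharacter (Subgroup.centralizer (P : Set G)),
        omega ξ.1 ε = omega ξ.1 ((ε * r) ^ n) + omega ξ.1 (o * (ε * v)) := by
      intro ξ
      rw [← omega_add, ← hid]
    rw [e1 ξ', e1 ξ₀]
    have h5 := memLocalIdeal_add hMp (memLocalIdeal_sub hMp (hT ξ') (hT ξ₀)) hdiff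
    have e2 : omega ξ'.1 ((ε * r) ^ n) - omega ξ₀.1 ((ε * r) ^ n)
        + (omega ξ'.1 (o * (ε * v)) - omega ξ₀.1 (o * (ε * v)))
        = omega ξ'.1 ((ε * r) ^ n) + omega ξ'.1 (o * (ε * v))
          - (omega ξ₀.1 ((ε * r) ^ n) + omega ξ₀.1 (o * (ε * v))) := by ring
    rwa [e2] at h5
  have hξ'O : ξ' ∈ orbitSet (Subgroup.normalizer (P : Set G))
      (Subgroup.centralizer (P : Set G)) e := by
    by_contra hnot
    rw [hε, omega_blockElt, omega_blockElt, if_neg hnot, if_pos (subset_orbitSet _ _ e hξ₀),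
      zero_sub] at hkey
    have := memLocalIdeal_neg hkey
    rw [neg_neg] at this
    exact not_memLocalIdeal_one hMp this
  obtain ⟨x, hx, hξ'x⟩ := hξ'O
  refine ⟨x, hx, ?_⟩
  obtain ⟨χ', hχ'⟩ := isPBlock_autIrr_image (M := M)
    (conjAut' (Subgroup.centralizer (P : Set G)) x) he
  obtain ⟨χ'', rfl⟩ := he'
  rw [hχ'] at hξ'x ⊢
  rw [← blockOf_eq_of_mem hMp hξ', ← blockOf_eq_of_mem hMp hξ'x]

end Main

end Cfsg.Agent.H80
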