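import Cfsg.Agent.H80.NormSylow

set_option autoImplicit false
set_option linter.unusedSectionVars false
set_option linter.style.haveILetI false

/-!
# helper80: extension of conjugations to normalizers, and nilpotent blocks

* `exists_mul_of_mem_sup`: elements of `A ⊔ C` are products when `A` normalizes `C`.
* `isMaximal_of_card_defectGroup`: a Brauer pair of a block on a subgroup as large as a defect
  group is maximal.
* `exists_down_pair`: pairs of `G` normally above `(Q, f)` inside a subgroup `H ⊇ C_G(Q)` whose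
  block has the idempotent of `f`.
* `exists_extend_normalizer`: the extension lemma for fully normalized pairs.
* `stab_le_sup_of_nilpotent`, `exists_inner_of_nilpotent`: the fusion system of a nilpotent block
  is inner.
-/

namespace Cfsg.Agent.H80

open Cfsg Cfsg.Agent.H20 Cfsg.Agent.H4

universe u

open scoped Pointwise in
theorem exists_mul_of_mem_sup {G : Type*} [Group G] {A C : Subgroup G}
    (hAN : A ≤ Subgroup.normalizer (C : Set G)) {x : G} (hx : x ∈ A ⊔ C) :
    ∃ u ∈ A, ∃ c ∈ C, x = u * c := by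
  have h : x ∈ ((A ⊔ C : Subgroup G) : Set G) := hx
  rw [Subgroup.coe_mul_of_left_le_normalizer_right A C hAN] at h
  obtain ⟨u, hu, c, hc, rfl⟩ := Set.mem_mul.mp h
  exact ⟨u, hu, c, hc, rfl⟩

section Abstract

variable {H : Type u} [Group H] [Fintype H] {M : Ideal AlgInt} (p : ℕ) [Fact p.Prime]

/-- A Brauer pair of a block on a subgroup at least as large as a defect group is maximal. -/
theorem isMaximal_of_card_defectGroup (hM : IsPModular p M) {F : Set (IrrCharacter H)}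
    {R : Subgroup H} {g : Set (IrrCharacter (Subgroup.centralizer (R : Set H)))}
    (hRg : IsBrauerPairOf p M F R g) {D : Subgroup H} (hD : IsDefectGroup p M F D)
    (hcard : Nat.card D ≤ Nat.card R) : IsMaximalBrauerPair p M F R g := by
  refine ⟨hRg, fun R' g' hR'g' hle => ?_⟩
  obtain ⟨P₁, e₁, hmax₁, hle₁⟩ := exists_maximal_ge p _ R' g' hR'g' rfl
  have hD₁ := isDefectGroup_of_maximal p hM F P₁ e₁ hmax₁
  have hc := card_defectGroup_eq p hM hRg.2.1 hD₁ hD
  have h1 : R ≤ R' := subpairLE_le hle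
  have h2 : R' ≤ P₁ := subpairLE_le hle₁
  have h3 : Nat.card R' ≤ Nat.card R :=
    calc Nat.card R' ≤ Nat.card P₁ := Subgroup.card_le_of_le h2
      _ = Nat.card D := hc
      _ ≤ Nat.card R := hcard
  exact (Subgroup.eq_of_le_of_card_ge h1 h3).symm

end Abstract

variable {G : Type u} [Group G] [Fintype G] {M : Ideal AlgInt}

section Main

variable (p : ℕ) [Fact p.Prime]

/-- A pair of `G` normally above `(Q, f)`, on a subgroup of `H ⊇ C_G(Q)`, comes from a Brauer pair
of the block of `H` whose idempotent is that of `f`. -/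
theorem exists_down_pair (H : Subgroup G) {F : Set (IrrCharacter H)} (hF : IsPBlock M F)
    {Q : Subgroup G} {f : Set (IrrCharacter (Subgroup.centralizer (Q : Set G)))}
    (hFc : ∀ x : H, blockCoeff F x
      = subgroupBlockCoeff (Subgroup.centralizer (Q : Set G)) f (x : G))
    (hCH : Subgroup.centralizer (Q : Set G) ≤ H) {R : Subgroup G}
    {g : Set (IrrCharacter (Subgroup.centralizer (R : Set G)))}
    (hnorm : IsNormalSubpair p M Q f R g) (hRH : R ≤ H) :
    ∃ a : BrauerPairIdx H, a.1 = R.subgroupOf H ∧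
      Subgroup.centralizer ((a.1.map H.subtype : Subgroup G) : Set G) ≤ H ∧
      upPair H a = ⟨R, g⟩ ∧ IsBrauerPairOf p M F a.1 a.2 := by
  have hCR : Subgroup.centralizer (R : Set G) ≤ H :=
    (Subgroup.centralizer_le hnorm.2.2.1).trans hCH
  obtain ⟨a, ha1, hup⟩ := exists_upPair_eq H hRH hCR g
  have hfst : a.1.map H.subtype = R := congrArg Sigma.fst hup
  have ha : Subgroup.centralizer ((a.1.map H.subtype : Subgroup G) : Set G) ≤ H := by
    rw [hfst]; exact hCR
  refine ⟨a, ha1, ha, hup, ?_⟩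
  apply isBrauerPairOf_of_up H p hF (subgroupBlockCoeff (Subgroup.centralizer (Q : Set G)) f)
    (fun x => (hFc x).symm) a ha
  · rw [hup]; exact hnorm.2.1
  · rw [hup]; exact hnorm.2.2.2.2.2

/-- **Extension to normalizers.** Let `(Q*, f*) ≤ (P, e)` be such that `N_P(Q*)` is a defect
group of the block of the stabilizer `T*` with the idempotent of `f*`.  If `(Q, f) ≤ (P, e)` is
conjugate to `(Q*, f*)`, then some `h` carries `(Q, f)` to `(Q*, f*)` and the pair on `N_P(Q)`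
below `(P, e)` to a pair below `(P, e)`. -/
theorem exists_extend_normalizer (hM : IsPModular p M) {B : Set (IrrCharacter G)}
    {P : Subgroup G} {e : Set (IrrCharacter (Subgroup.centralizer (P : Set G)))}
    (hmax : IsMaximalBrauerPair p M B P e) {Q : Subgroup G}
    {f : Set (IrrCharacter (Subgroup.centralizer (Q : Set G)))} (hle : SubpairLE p M Q f P e)
    {Qs : Subgroup G} {fs : Set (IrrCharacter (Subgroup.centralizer (Qs : Set G)))}
    (hles : SubpairLE p M Qs fs P e) (T : Subgroup G)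
    (hT : ∀ y : G, y ∈ T ↔ y ∈ Subgroup.normalizer (Qs : Set G) ∧
      StabilizesBlock (Subgroup.centralizer (Qs : Set G)) fs y)
    {F : Set (IrrCharacter T)} (hF : IsPBlock M F)
    (hFc : ∀ t : T, blockCoeff F t
      = subgroupBlockCoeff (Subgroup.centralizer (Qs : Set G)) fs (t : G))
    (hD : IsDefectGroup p M F ((P ⊓ Subgroup.normalizer (Qs : Set G)).subgroupOf T))
    (h₀ : G) (hh₀ : conjPair h₀ ⟨Q, f⟩ = ⟨Qs, fs⟩) :
    ∃ h : G, conjPair h ⟨Q, f⟩ = ⟨Qs, fs⟩ ∧
      ∃ fN : Set (IrrCharacter (Subgroup.centralizer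
          ((P ⊓ Subgroup.normalizer (Q : Set G) : Subgroup G) : Set G))),
        SubpairLE p M (P ⊓ Subgroup.normalizer (Q : Set G)) fN P e ∧
        Relation.ReflTransGen (NormalSubpairRel p M)
          (conjPair h ⟨P ⊓ Subgroup.normalizer (Q : Set G), fN⟩) ⟨P, e⟩ := by
  classical
  haveI : Fintype ↥T := Fintype.ofFinite _
  have hMp := isPrime_of_isPModular hM
  have hPe : IsBrauerPair p M P e := hmax.1.1
  have hQP : Q ≤ P := subpairLE_le hle
  have hQsP : Qs ≤ P := subpairLE_le hles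
  have hfs : IsPBlock M fs := (isBrauerPair_of_subpairLE hles hPe).2
  have hCT : Subgroup.centralizer (Qs : Set G) ≤ T := fun c hc =>
    (hT c).mpr ⟨Subgroup.centralizer_le_normalizer _ hc, stabilizesBlock_of_mem _ _ hc⟩
  -- the pair on `N_P(Q)`
  obtain ⟨fN, hfN, hleN⟩ := exists_subpairLE hM P e hPe _ (P ⊓ Subgroup.normalizer (Q : Set G))
    inf_le_left rfl
  have hnorm : IsNormalSubpair p M Q f (P ⊓ Subgroup.normalizer (Q : Set G)) fN :=
    normalSubpair_of_le_of_le p hM hPe (le_inf hQP Subgroup.le_normalizer) inf_le_right hle hleN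
  -- its conjugate by `h₀`
  obtain ⟨N', f'N, hb⟩ : ∃ (N' : Subgroup G)
      (f'N : Set (IrrCharacter (Subgroup.centralizer (N' : Set G)))),
      conjPair h₀ ⟨P ⊓ Subgroup.normalizer (Q : Set G), fN⟩ = ⟨N', f'N⟩ := ⟨_, _, rfl⟩
  have hnorm' : IsNormalSubpair p M Qs fs N' f'N := by
    have h1 : NormalSubpairRel p M (conjPair h₀ ⟨Q, f⟩)
        (conjPair h₀ ⟨P ⊓ Subgroup.normalizer (Q : Set G), fN⟩) :=
      isNormalSubpair_conj p h₀ hnorm
    rw [hh₀, hb] at h1
    exact h1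
  have hN'T : N' ≤ T := fun y hy =>
    (hT y).mpr ⟨hnorm'.2.2.2.1 hy, hnorm'.2.2.2.2.1 y hy⟩
  obtain ⟨a', -, ha', hup', hpair'⟩ := exists_down_pair p T hF hFc hCT hnorm' hN'T
  -- the pair on `N_P(Q*)`
  obtain ⟨fNs, hfNs, hleNs⟩ := exists_subpairLE hM P e hPe _
    (P ⊓ Subgroup.normalizer (Qs : Set G)) inf_le_left rfl
  have hnorms : IsNormalSubpair p M Qs fs (P ⊓ Subgroup.normalizer (Qs : Set G)) fNs :=
    normalSubpair_of_le_of_le p hM hPe (le_inf hQsP Subgroup.le_normalizer) inf_le_right hles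
      hleNs
  have hNsT : P ⊓ Subgroup.normalizer (Qs : Set G) ≤ T := fun y hy =>
    (hT y).mpr ⟨hnorms.2.2.2.1 hy, hnorms.2.2.2.2.1 y hy⟩
  obtain ⟨as, has1, has, hups, hpairs⟩ := exists_down_pair p T hF hFc hCT hnorms hNsT
  have hmaxs : IsMaximalBrauerPair p M F as.1 as.2 := by
    apply isMaximal_of_card_defectGroup p hM hpairs hD
    rw [has1]
  -- a maximal pair above `a'`, and conjugacy
  obtain ⟨D₁, e₁, hmax₁, hle₁⟩ := exists_maximal_ge p _ a'.1 a'.2 hpair' rfl
  obtain ⟨as1, as2⟩ := as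
  obtain ⟨t, ht⟩ := exists_conjPair_eq_of_maximal p hM hmaxs hmax₁
  have hle₁' : Relation.ReflTransGen (NormalSubpairRel p M) a' ⟨D₁, e₁⟩ := hle₁
  have h1 := subpairLE_up T p ha' hle₁'
  have h2 := subpairLE_conj p (t : G) h1
  have hD₁c : Subgroup.centralizer ((D₁.map T.subtype : Subgroup G) : Set G) ≤ T :=
    (Subgroup.centralizer_le (Subgroup.map_mono (subpairLE_le hle₁'))).trans ha'
  rw [← conjPair_up T t ⟨D₁, e₁⟩ hD₁c, ht, hups, hup', ← hb, conjPair_mul] at h2
  refine ⟨(t : G) * h₀, ?_, fN, hleN, h2.trans hleNs⟩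
  rw [← conjPair_mul, hh₀]
  exact conjPair_eq_of_stab hMp hfs ((hT _).mp t.2).1 ((hT _).mp t.2).2

/-- For a nilpotent block, the stabilizer of a maximal Brauer pair is `P C_G(P)`. -/
theorem stab_le_sup_of_nilpotent_max (hM : IsPModular p M) {B : Set (IrrCharacter G)}
    {P : Subgroup G} {e : Set (IrrCharacter (Subgroup.centralizer (P : Set G)))}
    (hmax : IsMaximalBrauerPair p M B P e) (hnil : IsNilpotentBlock p M B) (t : G)
    (htN : t ∈ Subgroup.normalizer (P : Set G))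
    (htst : StabilizesBlock (Subgroup.centralizer (P : Set G)) e t) :
    ∃ u ∈ P, ∃ c ∈ Subgroup.centralizer (P : Set G), t = u * c := by
  have hMp := isPrime_of_isPModular hM
  have hPe := hmax.1.1
  obtain ⟨TP, hTP⟩ := exists_stabilizer' hMp P hPe.2
  have htT : t ∈ TP := (hTP t).mpr ⟨htN, htst⟩
  obtain ⟨m, k, α, β, -, hv, hw, hdec⟩ := exists_pPart_decomp p t 0
  have h1 : t ^ (p ^ k) ∈ Subgroup.centralizer (P : Set G) := by
    have hT := (hTP _).mp (pow_mem htT (p ^ k))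
    exact hnil.2 P e hmax.1 _ hT.1 hT.2 hw
  have h2 : t ^ m ∈ P ⊔ Subgroup.centralizer (P : Set G) := by
    have hZ : IsPGroup p (Subgroup.zpowers (t ^ m)) := by
      rintro ⟨y, hy⟩
      obtain ⟨i, rfl⟩ := Subgroup.mem_zpowers_iff.mp hy
      refine ⟨k, Subtype.ext ?_⟩
      show ((t ^ m) ^ i) ^ (p ^ k) = 1
      rw [← zpow_natCast, ← zpow_mul, mul_comm, zpow_mul, zpow_natCast, hv, one_zpow]
    have hZT : Subgroup.zpowers (t ^ m) ≤ TP := by
      rw [Subgroup.zpowers_le]; exact pow_mem htT m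
    have h3 := le_sup_centralizer_of_maximal p hM hmax _ hZ
      (fun s hs => ((hTP s).mp (hZT hs)).1) (fun s hs => ((hTP s).mp (hZT hs)).2)
    exact h3 (Subgroup.mem_zpowers _)
  have h4 : t ∈ P ⊔ Subgroup.centralizer (P : Set G) := by
    rw [hdec]
    exact mul_mem (zpow_mem h2 α) (zpow_mem (Subgroup.mem_sup_right h1) β)
  exact exists_mul_of_mem_sup
    (Subgroup.le_normalizer.trans (normalizer_le_normalizer_centralizer P)) h4

/-- For a nilpotent block and a fully normalized pair `(Q*, f*) ≤ (P, e)`, the stabilizer of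
`(Q*, f*)` is `N_P(Q*) C_G(Q*)`. -/
theorem stab_le_sup_of_nilpotent (hM : IsPModular p M) {B : Set (IrrCharacter G)}
    {P : Subgroup G} {e : Set (IrrCharacter (Subgroup.centralizer (P : Set G)))}
    (hmax : IsMaximalBrauerPair p M B P e) (hnil : IsNilpotentBlock p M B)
    {Qs : Subgroup G} {fs : Set (IrrCharacter (Subgroup.centralizer (Qs : Set G)))}
    (hles : SubpairLE p M Qs fs P e) (T : Subgroup G)
    (hT : ∀ y : G, y ∈ T ↔ y ∈ Subgroup.normalizer (Qs : Set G) ∧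
      StabilizesBlock (Subgroup.centralizer (Qs : Set G)) fs y)
    {F : Set (IrrCharacter T)} (hF : IsPBlock M F)
    (hFc : ∀ t : T, blockCoeff F t
      = subgroupBlockCoeff (Subgroup.centralizer (Qs : Set G)) fs (t : G))
    (hD : IsDefectGroup p M F ((P ⊓ Subgroup.normalizer (Qs : Set G)).subgroupOf T))
    (t : G) (ht : t ∈ T) :
    ∃ n ∈ P ⊓ Subgroup.normalizer (Qs : Set G), ∃ c ∈ Subgroup.centralizer (Qs : Set G),
      t = n * c := by
  classical
  have hpp := (Fact.out : p.Prime)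
  have hPe : IsBrauerPair p M P e := hmax.1.1
  have hBpair : IsBrauerPairOf p M B Qs fs :=
    isBrauerPairOf_of_ge p hM (a := ⟨Qs, fs⟩) (b := ⟨P, e⟩) hmax.1 hles
  have hCT : Subgroup.centralizer (Qs : Set G) ≤ T := fun c hc =>
    (hT c).mpr ⟨Subgroup.centralizer_le_normalizer _ hc, stabilizesBlock_of_mem _ _ hc⟩
  have hTN : T ≤ Subgroup.normalizer (Qs : Set G) := fun t ht => ((hT t).mp ht).1
  have hTNC : T ≤ Subgroup.normalizer ((Subgroup.centralizer (Qs : Set G) : Subgroup G) : Set G) :=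
    fun t ht => normalizer_le_normalizer_centralizer Qs (hTN ht)
  have hNT : P ⊓ Subgroup.normalizer (Qs : Set G) ≤ T := fun u hu =>
    (hT u).mpr ⟨hu.2, (stabilizes_of_inf_normalizer p hM hPe hles).1 u hu⟩
  have h1 := not_dvd_relIndex_of_defectGroup p hM hPe hles T hT hF hFc hD
  haveI hnormal : ((Subgroup.centralizer (Qs : Set G)).subgroupOf T).Normal :=
    Subgroup.normal_subgroupOf_of_le_normalizer hTNC
  have hpg : IsPGroup p (↥T ⧸ (Subgroup.centralizer (Qs : Set G)).subgroupOf T) := by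
    intro q
    obtain ⟨t', rfl⟩ := QuotientGroup.mk_surjective q
    obtain ⟨m, k, α, β, -, -, hw, -⟩ := exists_pPart_decomp p (t' : G) 0
    refine ⟨k, ?_⟩
    rw [← QuotientGroup.mk_pow, QuotientGroup.eq_one_iff]
    have hT' := (hT _).mp (pow_mem t'.2 (p ^ k))
    exact hnil.2 Qs fs hBpair _ hT'.1 hT'.2 hw
  obtain ⟨n, hn⟩ := IsPGroup.iff_card.mp hpg
  have h2 : (Subgroup.centralizer (Qs : Set G)).relIndex T = p ^ n := hn
  have h3 : ((P ⊓ Subgroup.normalizer (Qs : Set G)) ⊔ Subgroup.centralizer (Qs : Set G)).relIndex T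
      ∣ (Subgroup.centralizer (Qs : Set G)).relIndex T :=
    Subgroup.relIndex_dvd_of_le_left T le_sup_right
  rw [h2] at h3
  obtain ⟨j, -, hj⟩ := (Nat.dvd_prime_pow hpp).mp h3
  have hj0 : j = 0 := by
    by_contra hne
    apply h1
    rw [hj]
    exact dvd_pow_self p hne
  rw [hj0, pow_zero] at hj
  have h4 : T ≤ (P ⊓ Subgroup.normalizer (Qs : Set G)) ⊔ Subgroup.centralizer (Qs : Set G) :=
    Subgroup.relIndex_eq_one.mp hj
  exact exists_mul_of_mem_sup (hNT.trans hTNC) (h4 ht)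

/-- **The fusion system of a nilpotent block is inner.** -/
theorem exists_inner_of_nilpotent (hM : IsPModular p M) {B : Set (IrrCharacter G)}
    {P : Subgroup G} {e : Set (IrrCharacter (Subgroup.centralizer (P : Set G)))}
    (hmax : IsMaximalBrauerPair p M B P e) (hnil : IsNilpotentBlock p M B) :
    ∀ (n : ℕ) (Q : Subgroup G) (f : Set (IrrCharacter (Subgroup.centralizer (Q : Set G))))
      (g : G), Nat.card P - Nat.card Q = n → SubpairLE p M Q f P e →
      Relation.ReflTransGen (NormalSubpairRel p M) (conjPair g ⟨Q, f⟩) ⟨P, e⟩ →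
      ∃ u ∈ P, ∀ x ∈ Q, g * x * g⁻¹ = u * x * u⁻¹ := by
  classical
  have hMp := isPrime_of_isPModular hM
  have hPe : IsBrauerPair p M P e := hmax.1.1
  intro n
  induction n using Nat.strong_induction_on with
  | _ n ih =>
    intro Q f g hn hle hle'
    have hQP : Q ≤ P := subpairLE_le hle
    by_cases hQ : Q = P
    · subst hQ
      have hfe : f = e := subpairLE_unique hM _ Q e rfl hPe Q f e hle Relation.ReflTransGen.refl
      subst hfe
      have hsub : Q.map (MulAut.conj g).toMonoidHom ≤ Q := subpairLE_le hle'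
      have hPg : Q.map (MulAut.conj g).toMonoidHom = Q := by
        apply Subgroup.eq_of_le_of_card_ge hsub
        rw [Subgroup.card_map_of_injective (MulEquiv.injective _)]
      obtain ⟨e'', he''⟩ := exists_snd_of_fst_eq (conjPair g ⟨Q, f⟩) hPg
      rw [he''] at hle'
      have hee : e'' = f :=
        subpairLE_unique hM _ Q f rfl hPe Q e'' f hle' Relation.ReflTransGen.refl
      rw [hee] at he''
      obtain ⟨hgN, hgst⟩ := stab_of_conjPair_eq hMp hPe.2 he''
      obtain ⟨u, hu, c, hc, rfl⟩ := stab_le_sup_of_nilpotent_max p hM hmax hnil g hgN hgst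
      refine ⟨u, hu, fun x hx => ?_⟩
      have h1 := Subgroup.mem_centralizer_iff.mp hc x hx
      calc u * c * x * (u * c)⁻¹ = u * (c * x) * c⁻¹ * u⁻¹ := by group
        _ = u * (x * c) * c⁻¹ * u⁻¹ := by rw [h1]
        _ = u * x * u⁻¹ := by group
    · obtain ⟨Q₁, hlt, hQ₁P, hQ₁N⟩ := exists_normalizing_lt P Q hPe.1 hQP hQ
      have hQN : Q < P ⊓ Subgroup.normalizer (Q : Set G) :=
        lt_of_lt_of_le hlt (le_inf hQ₁P hQ₁N)
      have hcQN : Nat.card Q < Nat.card ↥(P ⊓ Subgroup.normalizer (Q : Set G)) := by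
        by_contra hcon
        push Not at hcon
        exact absurd (Subgroup.eq_of_le_of_card_ge hQN.le hcon) hQN.ne
      have hcNP : Nat.card ↥(P ⊓ Subgroup.normalizer (Q : Set G)) ≤ Nat.card P :=
        Subgroup.card_le_of_le inf_le_left
      obtain ⟨x, hlex, hx⟩ := exists_conj_fully_normalized p hM hmax hle
      have hfs : IsPBlock M (conjBlock Q x f) := (isBrauerPair_of_subpairLE hlex hPe).2
      obtain ⟨T, hT⟩ := exists_stabilizer' hMp (Q.map (MulAut.conj x).toMonoidHom) hfs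
      obtain ⟨F, hF, hFc, hD⟩ := hx T hT
      obtain ⟨h, hh, fN, hleN, hleN'⟩ :=
        exists_extend_normalizer p hM hmax hle hlex T hT hF hFc hD x rfl
      obtain ⟨Q₂, f₂, hb⟩ : ∃ (Q₂ : Subgroup G)
          (f₂ : Set (IrrCharacter (Subgroup.centralizer (Q₂ : Set G)))),
          conjPair g ⟨Q, f⟩ = ⟨Q₂, f₂⟩ := ⟨_, _, rfl⟩
      rw [hb] at hle'
      have hQ₂eq : Q.map (MulAut.conj g).toMonoidHom = Q₂ := congrArg Sigma.fst hb
      have hcQ₂ : Nat.card Q₂ = Nat.card Q := by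
        rw [← hQ₂eq, Subgroup.card_map_of_injective (MulEquiv.injective _)]
      have hQ₂P : Q₂ ≤ P := subpairLE_le hle'
      have hQ₂ne : Q₂ ≠ P := by
        intro h
        apply hQ
        apply Subgroup.eq_of_le_of_card_ge hQP
        rw [← hcQ₂, h]
      have hh₀ : conjPair (x * g⁻¹) ⟨Q₂, f₂⟩ = conjPair x ⟨Q, f⟩ := by
        rw [← hb, conjPair_mul, inv_mul_cancel_right]
      obtain ⟨h₂, hh₂, fN₂, hleN₂, hleN₂'⟩ :=
        exists_extend_normalizer p hM hmax hle' hlex T hT hF hFc hD (x * g⁻¹) hh₀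
      obtain ⟨Q₃, hlt₂, hQ₃P, hQ₃N⟩ := exists_normalizing_lt P Q₂ hPe.1 hQ₂P hQ₂ne
      have hQN₂ : Q₂ < P ⊓ Subgroup.normalizer (Q₂ : Set G) :=
        lt_of_lt_of_le hlt₂ (le_inf hQ₃P hQ₃N)
      have hcQN₂ : Nat.card Q₂ < Nat.card ↥(P ⊓ Subgroup.normalizer (Q₂ : Set G)) := by
        by_contra hcon
        push Not at hcon
        exact absurd (Subgroup.eq_of_le_of_card_ge hQN₂.le hcon) hQN₂.ne
      have hcNP₂ : Nat.card ↥(P ⊓ Subgroup.normalizer (Q₂ : Set G)) ≤ Nat.card P :=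
        Subgroup.card_le_of_le inf_le_left
      obtain ⟨u, hu, hux⟩ := ih (Nat.card P - Nat.card ↥(P ⊓ Subgroup.normalizer (Q : Set G)))
        (by omega) _ fN h rfl hleN hleN'
      obtain ⟨u₂, hu₂, hux₂⟩ := ih (Nat.card P - Nat.card ↥(P ⊓ Subgroup.normalizer (Q₂ : Set G)))
        (by omega) _ fN₂ h₂ rfl hleN₂ hleN₂'
      have ht : conjPair (h₂ * g * h⁻¹) (conjPair x ⟨Q, f⟩) = conjPair x ⟨Q, f⟩ := by
        calc conjPair (h₂ * g * h⁻¹) (conjPair x ⟨Q, f⟩)
            = conjPair (h₂ * g * h⁻¹) (conjPair h ⟨Q, f⟩) := by rw [hh]; rfl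
          _ = conjPair (h₂ * g) ⟨Q, f⟩ := by rw [conjPair_mul, inv_mul_cancel_right]
          _ = conjPair h₂ (conjPair g ⟨Q, f⟩) := by rw [conjPair_mul]
          _ = conjPair x ⟨Q, f⟩ := by rw [hb, hh₂]; rfl
      obtain ⟨htN, htst⟩ := stab_of_conjPair_eq hMp hfs ht
      obtain ⟨n', hn', c, hc, htnc⟩ := stab_le_sup_of_nilpotent p hM hmax hnil hlex T hT hF hFc hD
        _ ((hT _).mpr ⟨htN, htst⟩)
      refine ⟨u₂⁻¹ * n' * u, mul_mem (mul_mem (inv_mem hu₂) hn'.1) hu, fun x' hx' => ?_⟩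
      have e1 : h * x' * h⁻¹ = u * x' * u⁻¹ := hux x' (hQN.le hx')
      have hy1 : h * x' * h⁻¹ ∈ Q.map (MulAut.conj x).toMonoidHom := by
        have h5 : Q.map (MulAut.conj h).toMonoidHom = Q.map (MulAut.conj x).toMonoidHom :=
          congrArg Sigma.fst hh
        rw [← h5]
        exact conj_mem_map_conj Q h hx'
      have e2 : c * (h * x' * h⁻¹) = (h * x' * h⁻¹) * c :=
        (Subgroup.mem_centralizer_iff.mp hc _ hy1).symm
      have hy2 : n' * (h * x' * h⁻¹) * n'⁻¹ ∈ Q.map (MulAut.conj x).toMonoidHom :=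
        (Subgroup.mem_normalizer_iff.mp hn'.2 _).mp hy1
      have hQ₂s : Q₂.map (MulAut.conj h₂).toMonoidHom = Q.map (MulAut.conj x).toMonoidHom :=
        congrArg Sigma.fst hh₂
      rw [← hQ₂s, mem_map_conj_iff] at hy2
      have e3 := hux₂ _ (hQN₂.le hy2)
      have e4 : h₂⁻¹ * (n' * (h * x' * h⁻¹) * n'⁻¹) * h₂
          = u₂⁻¹ * (n' * (h * x' * h⁻¹) * n'⁻¹) * u₂ := by
        calc h₂⁻¹ * (n' * (h * x' * h⁻¹) * n'⁻¹) * h₂
            = u₂⁻¹ * (u₂ * (h₂⁻¹ * (n' * (h * x' * h⁻¹) * n'⁻¹) * h₂) * u₂⁻¹) * u₂ := by group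
          _ = u₂⁻¹ * (h₂ * (h₂⁻¹ * (n' * (h * x' * h⁻¹) * n'⁻¹) * h₂) * h₂⁻¹) * u₂ := by rw [e3]
          _ = u₂⁻¹ * (n' * (h * x' * h⁻¹) * n'⁻¹) * u₂ := by group
      have hg : g = h₂⁻¹ * (n' * c) * h := by rw [← htnc]; group
      calc g * x' * g⁻¹
          = h₂⁻¹ * (n' * (c * (h * x' * h⁻¹)) * c⁻¹ * n'⁻¹) * h₂ := by rw [hg]; group
        _ = h₂⁻¹ * (n' * ((h * x' * h⁻¹) * c) * c⁻¹ * n'⁻¹) * h₂ := by rw [e2]
        _ = h₂⁻¹ * (n' * (h * x' * h⁻¹) * n'⁻¹) * h₂ := by group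
        _ = u₂⁻¹ * (n' * (h * x' * h⁻¹) * n'⁻¹) * u₂ := e4
        _ = u₂⁻¹ * (n' * (u * x' * u⁻¹) * n'⁻¹) * u₂ := by rw [e1]
        _ = u₂⁻¹ * n' * u * x' * (u₂⁻¹ * n' * u)⁻¹ := by group

end Main

end Cfsg.Agent.H80
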