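import Cfsg.Agent.H80.FusionSys

set_option autoImplicit false
set_option linter.unusedSectionVars false
set_option linter.style.haveILetI false

/-!
# helper80: the Sylow property of the stabilizer of a fully normalized pair

* `relIndex_sup_of_le_normalizer`, `relIndex_mul_card_inf`, `not_dvd_relIndex_sup_of_sylow`:
  index computations.
* `not_dvd_relIndex_of_defectGroup`: if `(Q, f) ≤ (P, e)` and `N_P(Q)` is a defect group of the
  block of the stabilizer `T` of `(Q, f)` with the idempotent of `f`, then `p` does not divide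
  `|T : N_P(Q) C_G(Q)|`.
-/

namespace Cfsg.Agent.H80

open Cfsg Cfsg.Agent.H20 Cfsg.Agent.H4

universe u

theorem relIndex_sup_of_le_normalizer {G : Type*} [Group G] (A C : Subgroup G)
    (hAN : A ≤ Subgroup.normalizer (C : Set G)) : C.relIndex (A ⊔ C) = C.relIndex A := by
  have hCN : C ≤ Subgroup.normalizer (C : Set G) := Subgroup.le_normalizer
  rw [← Subgroup.relIndex_subgroupOf (H := C) (sup_le hAN hCN),
    ← Subgroup.relIndex_subgroupOf (H := C) hAN, Subgroup.subgroupOf_sup hAN hCN,
    Subgroup.relIndex_sup_right]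

theorem relIndex_mul_card_inf {G : Type*} [Group G] (C A : Subgroup G) :
    C.relIndex A * Nat.card ↥(A ⊓ C) = Nat.card A := by
  have h1 := Subgroup.index_mul_card (C.subgroupOf A)
  have h2 : Nat.card ↥(C.subgroupOf A) = Nat.card ↥(A ⊓ C) := by
    rw [← Subgroup.inf_subgroupOf_left C A]
    exact Nat.card_congr (Subgroup.subgroupOfEquivOfLe (inf_le_left : A ⊓ C ≤ A)).toEquiv
  rw [h2] at h1
  exact h1

theorem not_dvd_relIndex_sup_of_sylow {G : Type*} [Group G] [Finite G] (p : ℕ) [Fact p.Prime]
    (T C N A S : Subgroup G) (hCT : C ≤ T) (hNT : N ≤ T) (hAT : A ≤ T) (hSAC : S ≤ A ⊔ C)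
    (hTN : T ≤ Subgroup.normalizer (C : Set G)) (hS : ¬ p ∣ S.relIndex T)
    (h1 : (Nat.card A).factorization p ≤ (Nat.card N).factorization p)
    (h2 : (Nat.card ↥(N ⊓ C)).factorization p ≤ (Nat.card ↥(A ⊓ C)).factorization p) :
    ¬ p ∣ (N ⊔ C).relIndex T := by
  have hpp := (Fact.out : p.Prime)
  have hACT : A ⊔ C ≤ T := sup_le hAT hCT
  have hNCT : N ⊔ C ≤ T := sup_le hNT hCT
  have e1 : C.relIndex (A ⊔ C) * (A ⊔ C).relIndex T = C.relIndex T :=
    Subgroup.relIndex_mul_relIndex _ _ _ le_sup_right hACT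
  have e2 : C.relIndex (N ⊔ C) * (N ⊔ C).relIndex T = C.relIndex T :=
    Subgroup.relIndex_mul_relIndex _ _ _ le_sup_right hNCT
  rw [relIndex_sup_of_le_normalizer A C (hAT.trans hTN)] at e1
  rw [relIndex_sup_of_le_normalizer N C (hNT.trans hTN)] at e2
  have e3 := relIndex_mul_card_inf C A
  have e4 := relIndex_mul_card_inf C N
  have e5 : S.relIndex (A ⊔ C) * (A ⊔ C).relIndex T = S.relIndex T :=
    Subgroup.relIndex_mul_relIndex _ _ _ hSAC hACT
  have h6c : ¬ p ∣ (A ⊔ C).relIndex T := fun hdvd => hS (e5 ▸ Dvd.dvd.mul_left hdvd _)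
  have nz : ∀ X Y : Subgroup G, X.relIndex Y ≠ 0 := fun X Y => Subgroup.index_ne_zero_of_finite
  have cz : ∀ X : Subgroup G, Nat.card X ≠ 0 := fun X => Nat.card_pos.ne'
  have f1 := congrArg (fun n => n.factorization p) e1
  have f2 := congrArg (fun n => n.factorization p) e2
  have f3 := congrArg (fun n => n.factorization p) e3
  have f4 := congrArg (fun n => n.factorization p) e4
  rw [Nat.factorization_mul (nz _ _) (nz _ _), Finsupp.add_apply] at f1 f2
  rw [Nat.factorization_mul (nz _ _) (cz _), Finsupp.add_apply] at f3 f4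
  have f6 : ((A ⊔ C).relIndex T).factorization p = 0 := Nat.factorization_eq_zero_of_not_dvd h6c
  have f7 : ((N ⊔ C).relIndex T).factorization p = 0 := by omega
  intro hdvd
  rcases (Nat.factorization_eq_zero_iff _ p).mp f7 with h | h | h
  · exact h hpp
  · exact h hdvd
  · exact nz _ _ h

variable {G : Type u} [Group G] [Fintype G] {M : Ideal AlgInt}

section Main

variable (p : ℕ) [Fact p.Prime]

/-- If `(Q, f) ≤ (P, e)` and `N_P(Q)` is a defect group of the block of the stabilizer `T` of
`(Q, f)` whose idempotent is that of `f`, then `p` does not divide `|T : N_P(Q) C_G(Q)|`. -/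
theorem not_dvd_relIndex_of_defectGroup (hM : IsPModular p M) {P Q : Subgroup G}
    {e : Set (IrrCharacter (Subgroup.centralizer (P : Set G)))}
    {f : Set (IrrCharacter (Subgroup.centralizer (Q : Set G)))}
    (hPe : IsBrauerPair p M P e) (hle : SubpairLE p M Q f P e) (T : Subgroup G)
    (hT : ∀ y : G, y ∈ T ↔ y ∈ Subgroup.normalizer (Q : Set G) ∧
      StabilizesBlock (Subgroup.centralizer (Q : Set G)) f y)
    {F' : Set (IrrCharacter T)} (hF' : IsPBlock M F')
    (hF'c : ∀ t : T, blockCoeff F' t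
      = subgroupBlockCoeff (Subgroup.centralizer (Q : Set G)) f (t : G))
    (hD : IsDefectGroup p M F' ((P ⊓ Subgroup.normalizer (Q : Set G)).subgroupOf T)) :
    ¬ p ∣ ((P ⊓ Subgroup.normalizer (Q : Set G)) ⊔ Subgroup.centralizer (Q : Set G)).relIndex T := by
  classical
  haveI : Fintype ↥T := Fintype.ofFinite _
  haveI : Fintype ↥(Subgroup.centralizer (Q : Set G)) := Fintype.ofFinite _
  have hMp := isPrime_of_isPModular hM
  have hpp := (Fact.out : p.Prime)
  have hf : IsPBlock M f := (isBrauerPair_of_subpairLE hle hPe).2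
  have hCT : Subgroup.centralizer (Q : Set G) ≤ T := fun c hc =>
    (hT c).mpr ⟨Subgroup.centralizer_le_normalizer _ hc, stabilizesBlock_of_mem _ _ hc⟩
  have hTN : T ≤ Subgroup.normalizer (Q : Set G) := fun t ht => ((hT t).mp ht).1
  have hTNC : T ≤ Subgroup.normalizer ((Subgroup.centralizer (Q : Set G) : Subgroup G) : Set G) :=
    fun t ht => normalizer_le_normalizer_centralizer Q (hTN ht)
  have hNT : P ⊓ Subgroup.normalizer (Q : Set G) ≤ T := fun u hu =>
    (hT u).mpr ⟨hu.2, (stabilizes_of_inf_normalizer p hM hPe hle).1 u hu⟩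
  -- a Sylow subgroup of `T`
  obtain ⟨S⟩ : Nonempty (Sylow p T) := inferInstance
  have hS : IsPGroup p ((S : Subgroup T).map T.subtype) := S.isPGroup'.map _
  have hST : (S : Subgroup T).map T.subtype ≤ T := Subgroup.map_subtype_le _
  obtain ⟨k, hk1, hk2, hk3⟩ := exists_fixed_class_of_stab p hM _ hf _ hS
    (fun s hs => ((hT s).mp (hST hs)).2)
  have hkT : (k : G) ∈ T := hCT k.2
  obtain ⟨A, hA⟩ : ∃ A : Subgroup G, A = T ⊓ Subgroup.centralizer ({(k : G)} : Set G) := ⟨_, rfl⟩
  have hAT : A ≤ T := by rw [hA]; exact inf_le_left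
  have hAk : ∀ a ∈ A, (k : G) * a = a * (k : G) := by
    intro a ha
    rw [hA] at ha
    exact Subgroup.mem_centralizer_iff.mp (Subgroup.mem_inf.mp ha).2 (k : G) (Set.mem_singleton _)
  have hSAC : (S : Subgroup T).map T.subtype ≤ A ⊔ Subgroup.centralizer (Q : Set G) := by
    intro s hs
    obtain ⟨c, hc, hcs⟩ := hk3 s hs
    have h1 : c * s ∈ A := by
      rw [hA]
      refine Subgroup.mem_inf.mpr ⟨mul_mem (hCT hc) (hST hs), ?_⟩
      rw [Subgroup.mem_centralizer_iff]
      intro y hy
      rw [Set.mem_singleton_iff] at hy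
      subst hy
      have e1 : (c * s) * (k : G) = (c * (s * (k : G) * s⁻¹) * c⁻¹) * (c * s) := by group
      rw [e1, hcs]
    have e2 : s = c⁻¹ * (c * s) := by group
    rw [e2]
    exact mul_mem (Subgroup.mem_sup_right (inv_mem hc)) (Subgroup.mem_sup_left h1)
  have hSidx : ¬ p ∣ ((S : Subgroup T).map T.subtype).relIndex T := by
    have h2 : ((S : Subgroup T).map T.subtype).relIndex T = (S : Subgroup T).index := by
      unfold Subgroup.relIndex
      congr 1
      exact Subgroup.comap_map_eq_self_of_injective T.subtype_injective _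
    rw [h2]
    exact S.not_dvd_index
  -- Claim 1
  have hN : IsPGroup p ↥(P ⊓ Subgroup.normalizer (Q : Set G)) := hPe.1.to_le inf_le_left
  have c1 : (Nat.card A).factorization p
      ≤ (Nat.card ↥(P ⊓ Subgroup.normalizer (Q : Set G))).factorization p := by
    obtain ⟨U⟩ : Nonempty (Sylow p A) := inferInstance
    have hUcard := U.card_eq_multiplicity
    have hUG : (U : Subgroup A).map A.subtype ≤ A := Subgroup.map_subtype_le _
    have hUGcard : Nat.card ↥((U : Subgroup A).map A.subtype) = Nat.card (U : Subgroup A) :=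
      Subgroup.card_map_of_injective A.subtype_injective
    have hUT : IsPGroup p ↥(((U : Subgroup A).map A.subtype).subgroupOf T) :=
      IsPGroup.comap_subtype (U.isPGroup'.map _)
    have hcoef : ¬ MemLocalIdeal M (blockCoeff F' ⟨(k : G), hkT⟩) := by
      rw [hF'c]
      unfold subgroupBlockCoeff
      rw [dif_pos k.2]
      exact hk1
    have hcent : ((U : Subgroup A).map A.subtype).subgroupOf T
        ≤ Subgroup.centralizer ({(⟨(k : G), hkT⟩ : T)} : Set T) := by
      intro d hd
      have hd' : (d : G) ∈ A := hUG hd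
      rw [Subgroup.mem_centralizer_iff]
      intro y hy
      rw [Set.mem_singleton_iff] at hy
      subst hy
      apply Subtype.ext
      exact hAk _ hd'
    obtain ⟨D, hD', hUD⟩ := exists_defectGroup_ge p hM hF' ⟨(k : G), hkT⟩ hcoef _ hUT hcent
    have h3 := card_defectGroup_eq p hM hF' hD' hD
    have h4 : Nat.card ↥((P ⊓ Subgroup.normalizer (Q : Set G)).subgroupOf T)
        = Nat.card ↥(P ⊓ Subgroup.normalizer (Q : Set G)) :=
      Nat.card_congr (Subgroup.subgroupOfEquivOfLe hNT).toEquiv
    have h5 : Nat.card ↥(((U : Subgroup A).map A.subtype).subgroupOf T)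
        = Nat.card ↥((U : Subgroup A).map A.subtype) :=
      Nat.card_congr (Subgroup.subgroupOfEquivOfLe (hUG.trans hAT)).toEquiv
    have h6 : Nat.card ↥(((U : Subgroup A).map A.subtype).subgroupOf T) ≤ Nat.card D :=
      Subgroup.card_le_of_le hUD
    obtain ⟨j, hj⟩ := IsPGroup.iff_card.mp hN
    rw [h5, hUGcard, hUcard, h3, h4, hj] at h6
    rw [hj, Nat.Prime.factorization_pow hpp, Finsupp.single_eq_same]
    exact (Nat.pow_le_pow_iff_right hpp.one_lt).mp h6
  -- Claim 2
  have c2 : (Nat.card ↥((P ⊓ Subgroup.normalizer (Q : Set G)) ⊓ Subgroup.centralizer (Q : Set G))).factorization p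
      ≤ (Nat.card ↥(A ⊓ Subgroup.centralizer (Q : Set G))).factorization p := by
    have e1 : (P ⊓ Subgroup.normalizer (Q : Set G)) ⊓ Subgroup.centralizer (Q : Set G)
        = P ⊓ Subgroup.centralizer (Q : Set G) := by
      rw [inf_assoc, inf_eq_right.mpr (Subgroup.centralizer_le_normalizer _)]
    rw [e1]
    obtain ⟨W⟩ : Nonempty (Sylow p (Subgroup.centralizer ({k} : Set (Subgroup.centralizer (Q : Set G))))) :=
      inferInstance
    have hWcard := W.card_eq_multiplicity
    have hloc : MemLocalRing M (blockCoeff f k) := by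
      obtain ⟨χ₀, rfl⟩ := hf
      exact blockCoeff_memLocalRing hMp χ₀ k
    have hDW : IsDefectGroup p M f ((W : Subgroup _).map
        (Subgroup.centralizer ({k} : Set (Subgroup.centralizer (Q : Set G)))).subtype) :=
      ⟨k, ⟨hloc, hk1, hk2⟩, W, rfl⟩
    obtain ⟨D₂, hD₂, hle₂⟩ := exists_defectGroup_ge_centralizer p hM hPe hle
    have h3 := card_defectGroup_eq p hM hf hD₂ hDW
    have h4 : Nat.card ↥((W : Subgroup _).map
        (Subgroup.centralizer ({k} : Set (Subgroup.centralizer (Q : Set G)))).subtype)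
        = Nat.card ↥(W : Subgroup ↥(Subgroup.centralizer
          ({k} : Set (Subgroup.centralizer (Q : Set G))))) :=
      Subgroup.card_map_of_injective (Subgroup.subtype_injective _)
    have h5 : Nat.card ↥((P ⊓ Subgroup.centralizer (Q : Set G)).subgroupOf
        (Subgroup.centralizer (Q : Set G))) = Nat.card ↥(P ⊓ Subgroup.centralizer (Q : Set G)) :=
      Nat.card_congr (Subgroup.subgroupOfEquivOfLe inf_le_right).toEquiv
    have h6 := Subgroup.card_le_of_le hle₂
    have hPC : IsPGroup p ↥(P ⊓ Subgroup.centralizer (Q : Set G)) := hPe.1.to_le inf_le_left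
    obtain ⟨i, hi⟩ := IsPGroup.iff_card.mp hPC
    rw [h5, h3, h4, hWcard, hi] at h6
    have h7 : i ≤ (Nat.card ↥(Subgroup.centralizer
        ({k} : Set (Subgroup.centralizer (Q : Set G))))).factorization p :=
      (Nat.pow_le_pow_iff_right hpp.one_lt).mp h6
    have h8 : (Subgroup.centralizer ({k} : Set (Subgroup.centralizer (Q : Set G)))).map
        (Subgroup.centralizer (Q : Set G)).subtype ≤ A ⊓ Subgroup.centralizer (Q : Set G) := by
      rintro _ ⟨z, hz, rfl⟩
      refine Subgroup.mem_inf.mpr ⟨?_, z.2⟩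
      rw [hA]
      refine Subgroup.mem_inf.mpr ⟨hCT z.2, ?_⟩
      rw [Subgroup.mem_centralizer_iff]
      intro y hy
      rw [Set.mem_singleton_iff] at hy
      subst hy
      have := Subgroup.mem_centralizer_iff.mp hz k (Set.mem_singleton _)
      exact congrArg Subtype.val this
    have h9 := Subgroup.card_dvd_of_le h8
    rw [Subgroup.card_map_of_injective (Subgroup.subtype_injective _)] at h9
    have h10 := (Nat.factorization_le_iff_dvd Nat.card_pos.ne' Nat.card_pos.ne').mpr h9 p
    rw [hi, Nat.Prime.factorization_pow hpp, Finsupp.single_eq_same]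
    exact h7.trans h10
  exact not_dvd_relIndex_sup_of_sylow p T _ _ A _ hCT hNT hAT hSAC hTNC hSidx c1 c2

end Main

end Cfsg.Agent.H80
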