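import Mathlib
import Cfsg.Agent.H33.O2.Defs

/-!
# S2072-G56: no set of 56 vertices of a graph with parameters `(100, 22, 0, 6)` has the
regularity properties of an orbit (pure graph counting)
-/

set_option autoImplicit false

namespace Cfsg.Agent.H80.O2

open Cfsg.Agent.H22.SRG Cfsg.Agent.H33.O2 Finset
open Classical

/-- double counting of the edges between two sets of vertices -/
theorem dc_edges {V : Type} [Fintype V] (Γ : SimpleGraph V) (A B : Finset V) :
    ∑ a ∈ A, (nb Γ a ∩ B).card = ∑ b ∈ B, (nb Γ b ∩ A).card := by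
  have key := Finset.sum_card_bipartiteAbove_eq_sum_card_bipartiteBelow (s := A) (t := B)
    (r := fun a b => Γ.Adj a b)
  simp only [bipartiteAbove, bipartiteBelow] at key
  have e1 : ∀ a, nb Γ a ∩ B = B.filter (fun b => Γ.Adj a b) := by
    intro a; ext x; simp [and_comm]
  have e2 : ∀ b, nb Γ b ∩ A = A.filter (fun a => Γ.Adj a b) := by
    intro b; ext x; simp [and_comm, SimpleGraph.adj_comm]
  simp_rw [e1, e2]
  exact key

theorem g56 : StG56 := by
  intro V _ Γ hyp O d hO hd hd3 hT
  set S : Finset V := O.toFinset with hS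
  have hmemS : ∀ v, v ∈ S ↔ v ∈ O := fun v => Set.mem_toFinset
  have hScard : S.card = 56 := by
    rw [← hO, Set.ncard_eq_toFinset_card']
  have hdS : ∀ v ∈ S, (nb Γ v ∩ S).card = d := by
    intro v hv
    rw [← hd v ((hmemS v).1 hv), Set.ncard_eq_toFinset_card']
    congr 1
    ext u
    simp [hmemS]
  have hout : ∀ v ∈ S, (nb Γ v ∩ Sᶜ).card + d = 22 := by
    intro v hv
    rw [← hdS v hv, ← hyp.deg v, ← sdiff_eq_inter_compl]
    exact card_sdiff_add_card_inter _ _
  have hcompl : (Sᶜ).card = 44 := by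
    rw [card_compl, hyp.card, hScard]
  have hcross : ∑ u ∈ Sᶜ, (nb Γ u ∩ S).card + 56 * d = 56 * 22 := by
    rw [← dc_edges Γ S Sᶜ]
    have h1 : ∑ v ∈ S, ((nb Γ v ∩ Sᶜ).card + d) = ∑ v ∈ S, 22 := sum_congr rfl hout
    rw [sum_add_distrib, sum_const, sum_const, hScard] at h1
    simpa using h1
  rcases hd3 with rfl | rfl | rfl
  · -- d = 0
    have h1 : ∑ u ∈ Sᶜ, (nb Γ u ∩ S).card ≤ ∑ u ∈ Sᶜ, 22 := by
      apply sum_le_sum
      intro u _
      rw [← hyp.deg u]
      exact card_le_card inter_subset_left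
    rw [sum_const, hcompl] at h1
    simp only [smul_eq_mul] at h1
    omega
  · -- d = 11
    obtain ⟨T, n, hTO, hTnb, hTn⟩ := hT rfl
    set T' : Finset V := T.toFinset with hT'
    have hmemT : ∀ v, v ∈ T' ↔ v ∈ T := fun v => Set.mem_toFinset
    have hTsub : T' ⊆ Sᶜ := by
      intro u hu
      rw [mem_compl, hmemS]
      intro huO
      exact Set.disjoint_left.1 hTO ((hmemT u).1 hu) huO
    have hTn' : ∀ u ∈ T', (nb Γ u ∩ S).card = n := by
      intro u hu
      rw [← hTn u ((hmemT u).1 hu), Set.ncard_eq_toFinset_card']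
      congr 1
      ext v
      simp [hmemS]
    have hzero : ∀ u ∈ Sᶜ, u ∉ T' → (nb Γ u ∩ S).card = 0 := by
      intro u hu huT
      rw [card_eq_zero, eq_empty_iff_forall_notMem]
      intro v hv
      rw [mem_inter, mem_nb, hmemS] at hv
      apply huT
      rw [hmemT]
      refine hTnb v hv.2 u hv.1.symm ?_
      rw [mem_compl, hmemS] at hu
      exact hu
    have hsumT : ∑ u ∈ Sᶜ, (nb Γ u ∩ S).card = n * T'.card := by
      rw [← sum_subset hTsub hzero, sum_congr rfl hTn', sum_const, smul_eq_mul, mul_comm]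
    obtain ⟨y, hy⟩ : S.Nonempty := by
      rw [← card_pos, hScard]; norm_num
    have hn : n = 15 := by
      have e1 : ∑ u ∈ nb Γ y, (nb Γ u ∩ S).card = 11 * 11 + 11 * n := by
        rw [← sum_filter_add_sum_filter_not (nb Γ y) (fun u => u ∈ S), filter_mem_eq_inter,
          filter_notMem_eq_sdiff]
        have a1 : ∑ u ∈ nb Γ y ∩ S, (nb Γ u ∩ S).card = 11 * 11 := by
          rw [sum_congr rfl (fun u hu => hdS u (mem_inter.1 hu).2), sum_const, hdS y hy,
            smul_eq_mul]
        have a2 : ∑ u ∈ nb Γ y \ S, (nb Γ u ∩ S).card = 11 * n := by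
          have hc : (nb Γ y \ S).card = 11 := by
            have h1 := hout y hy
            rw [← sdiff_eq_inter_compl] at h1
            omega
          have h2 : ∀ u ∈ nb Γ y \ S, (nb Γ u ∩ S).card = n := by
            intro u hu
            rw [mem_sdiff, mem_nb, hmemS] at hu
            apply hTn' u
            rw [hmemT]
            exact hTnb y ((hmemS y).1 hy) u hu.1 hu.2
          rw [sum_congr rfl h2, sum_const, hc, smul_eq_mul]
        rw [a1, a2]
      have e2 : ∑ u ∈ nb Γ y, (nb Γ u ∩ S).card = 286 := by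
        rw [dc_edges Γ (nb Γ y) S, ← add_sum_erase S _ hy,
          ← sum_filter_add_sum_filter_not (S.erase y) (fun w => Γ.Adj y w)]
        have b0 : (nb Γ y ∩ nb Γ y).card = 22 := by rw [inter_self, hyp.deg]
        have b1 : ∑ w ∈ (S.erase y).filter (fun w => Γ.Adj y w), (nb Γ w ∩ nb Γ y).card = 0 := by
          apply sum_eq_zero
          intro w hw
          rw [mem_filter] at hw
          rw [card_eq_zero, eq_empty_iff_forall_notMem]
          intro x hx
          rw [mem_inter, mem_nb, mem_nb] at hx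
          exact hyp.tri y w x hw.2 hx.2 hx.1
        have hc1 : ((S.erase y).filter (fun w => Γ.Adj y w)).card = 11 := by
          rw [← hdS y hy]
          congr 1
          ext w
          simp only [mem_filter, mem_erase, mem_inter, mem_nb]
          constructor
          · rintro ⟨⟨-, h1⟩, h2⟩; exact ⟨h2, h1⟩
          · rintro ⟨h2, h1⟩; exact ⟨⟨fun h => Γ.ne_of_adj h2 h.symm, h1⟩, h2⟩
        have hc2 : ((S.erase y).filter (fun w => ¬ Γ.Adj y w)).card = 44 := by
          have h1 := card_filter_add_card_filter_not (s := S.erase y)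
            (fun w => Γ.Adj y w)
          rw [hc1, card_erase_of_mem hy, hScard] at h1
          omega
        have b2' : ∀ w ∈ (S.erase y).filter (fun w => ¬ Γ.Adj y w),
            (nb Γ w ∩ nb Γ y).card = 6 := by
          intro w hw
          rw [mem_filter, mem_erase] at hw
          exact hyp.mu w y hw.1.1 (fun h => hw.2 h.symm)
        rw [b0, b1, sum_congr rfl b2', sum_const, hc2]
        rfl
      omega
    rw [hsumT, hn] at hcross
    omega
  · -- d = 22
    have hsub : ∀ v ∈ S, nb Γ v ⊆ S := by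
      intro v hv
      have h1 := hdS v hv
      have h2 : nb Γ v ∩ S = nb Γ v :=
        eq_of_subset_of_card_le inter_subset_left (by rw [h1, hyp.deg])
      rw [← h2]; exact inter_subset_right
    obtain ⟨y, hy⟩ : S.Nonempty := by rw [← card_pos, hScard]; norm_num
    obtain ⟨z, hz⟩ : (Sᶜ).Nonempty := by rw [← card_pos, hcompl]; norm_num
    rw [mem_compl] at hz
    by_cases hyz : Γ.Adj y z
    · exact hz (hsub y hy (mem_nb.2 hyz))
    · have hne : y ≠ z := fun h => hz (h ▸ hy)
      have h6 := hyp.mu y z hne hyz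
      obtain ⟨w, hw⟩ : (nb Γ y ∩ nb Γ z).Nonempty := by rw [← card_pos, h6]; norm_num
      rw [mem_inter, mem_nb, mem_nb] at hw
      exact hz (hsub w (hsub y hy (mem_nb.2 hw.1)) (mem_nb.2 hw.2.symm))

example : Cfsg.Agent.H33.O2.StG56 := Cfsg.Agent.H80.O2.g56

end Cfsg.Agent.H80.O2
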