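import Mathlib
import Cfsg.Agent.H33.O2.Defs

/-!
# S2072-K56: a subgroup containing an element of order 11 has no orbit of length 56 through
the fixed vertex of that element (given the graph counting statement `StG56`)
-/

set_option autoImplicit false

namespace Cfsg.Agent.H80.O2

open Cfsg.Agent.H22.SRG Cfsg.Agent.H33.O2

/-- a permutation of prime order without fixed points on an invariant set: the prime divides
the size of the set -/
theorem dvd_ncard_of_fixfree {V : Type} [Fintype V] (σ : Equiv.Perm V) (p : ℕ) [Fact p.Prime]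
    (hσ : σ ^ p = 1) (D : Set V) (hD : ∀ u, σ u ∈ D ↔ u ∈ D) (hfix : ∀ u ∈ D, σ u ≠ u) :
    p ∣ D.ncard := by
  classical
  by_contra hnd
  have h1 : ¬ p ∣ Fintype.card D := by
    rwa [← Nat.card_eq_fintype_card, Nat.card_coe_set_eq]
  obtain ⟨a, ha⟩ := Equiv.Perm.exists_fixed_point_of_prime (n := 1) h1
    (σ := σ.subtypePerm hD) (by
      rw [pow_one]
      ext x
      simp [Equiv.Perm.subtypePerm_pow, hσ])
  exact hfix a.1 a.2 (congrArg Subtype.val ha)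

theorem k56 : StK56 := by
  intro H V _ _ Γ ρ hR hF hG K y g hgK hg11 hgy hO
  classical
  set O : Set V := {v | ∃ k ∈ K, ρ k y = v} with hOdef
  have hyp := hR.hyp
  -- basic facts on the action
  have hmul : ∀ a b : H, ∀ v, ρ (a * b) v = ρ a (ρ b v) := by
    intro a b v; rw [map_mul]; rfl
  have hinv : ∀ a : H, ∀ v, ρ a⁻¹ (ρ a v) = v := by
    intro a v; rw [← hmul, inv_mul_cancel, map_one]; rfl
  have hinv' : ∀ a : H, ∀ v, ρ a (ρ a⁻¹ v) = v := by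
    intro a v; rw [← hmul, mul_inv_cancel, map_one]; rfl
  have hadj : ∀ a : H, ∀ u v, Γ.Adj (ρ a u) (ρ a v) ↔ Γ.Adj u v :=
    fun a u v => (ρ a).map_rel_iff
  have hadjfix : ∀ a : H, ρ a y = y → ∀ u, Γ.Adj y (ρ a u) ↔ Γ.Adj y u := by
    intro a ha u
    have h1 := hadj a y u
    rw [ha] at h1
    exact h1
  have hOinv : ∀ k ∈ K, ∀ v, ρ k v ∈ O ↔ v ∈ O := by
    intro k hk v
    constructor
    · rintro ⟨k', hk', h⟩
      refine ⟨k⁻¹ * k', K.mul_mem (K.inv_mem hk) hk', ?_⟩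
      rw [hmul, h, hinv]
    · rintro ⟨k', hk', rfl⟩
      exact ⟨k * k', K.mul_mem hk hk', hmul k k' y⟩
  -- transport of the counts
  have htr : ∀ (k : H), k ∈ K → ∀ w : V,
      {u | Γ.Adj (ρ k w) u ∧ u ∈ O}.ncard = {u | Γ.Adj w u ∧ u ∈ O}.ncard := by
    intro k hk w
    have h1 : {u | Γ.Adj (ρ k w) u ∧ u ∈ O} = (ρ k) '' {u | Γ.Adj w u ∧ u ∈ O} := by
      ext v
      constructor
      · rintro ⟨h1, h2⟩
        refine ⟨ρ k⁻¹ v, ⟨?_, ?_⟩, hinv' k v⟩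
        · rw [← hadj k, hinv']; exact h1
        · rw [← hOinv k hk, hinv']; exact h2
      · rintro ⟨u, ⟨h1, h2⟩, rfl⟩
        exact ⟨(hadj k w u).2 h1, (hOinv k hk u).2 h2⟩
    rw [h1, Set.ncard_image_of_injective _ (ρ k).injective]
  have hdall : ∀ v ∈ O, {u | Γ.Adj v u ∧ u ∈ O}.ncard = {u | Γ.Adj y u ∧ u ∈ O}.ncard := by
    rintro v ⟨k, hk, rfl⟩
    exact htr k hk y
  -- fixed vertices of the powers of g
  have hgSt : g ∈ St ρ y := hgy
  have hpowfix : ∀ m : ℕ, ρ (g ^ m) y = y := fun m => (St ρ y).pow_mem hgSt m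
  have hfix : ∀ m : ℕ, ¬ 11 ∣ m → ∀ u, ρ (g ^ m) u = u → u = y := by
    intro m hm u hu
    have ho : orderOf (g ^ m) = 11 := by
      rw [Nat.Coprime.orderOf_pow, hg11]
      rw [hg11]
      exact (Nat.Prime.coprime_iff_not_dvd (by norm_num)).2 hm
    obtain ⟨x, hx, hux⟩ := hF.1 (g ^ m) ho
    rw [hux u hu, hux y (hpowfix m)]
  have hgpowK : ∀ m : ℕ, g ^ m ∈ K := fun m => K.pow_mem hgK m
  -- the permutation induced by g
  let toP : (Γ ≃g Γ) →* Equiv.Perm V := ⟨⟨fun f => f.toEquiv, rfl⟩, fun _ _ => rfl⟩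
  have hσ11 : (toP (ρ g)) ^ 11 = 1 := by
    rw [← map_pow, ← map_pow, ← hg11, pow_orderOf_eq_one, map_one, map_one]
  have : Fact (Nat.Prime 11) := ⟨by norm_num⟩
  have hDdvd : 11 ∣ {u | Γ.Adj y u ∧ u ∈ O}.ncard := by
    apply dvd_ncard_of_fixfree (toP (ρ g)) 11 hσ11
    · intro u
      show (Γ.Adj y (ρ g u) ∧ ρ g u ∈ O) ↔ (Γ.Adj y u ∧ u ∈ O)
      rw [hOinv g hgK, hadjfix g hgy]
    · rintro u ⟨h1, -⟩ h
      have h2 := hfix 1 (by norm_num) u (by rw [pow_one]; exact h)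
      rw [h2] at h1
      exact Γ.irrefl h1
  have hDsub : {u | Γ.Adj y u ∧ u ∈ O} ⊆ (↑(nb Γ y) : Set V) := by
    rintro u ⟨h1, -⟩
    simpa using h1
  have hDle : {u | Γ.Adj y u ∧ u ∈ O}.ncard ≤ 22 := by
    rw [← hyp.deg y, ← Set.ncard_coe_finset]
    exact Set.ncard_le_ncard hDsub (Finset.finite_toSet _)
  have hd3 : {u | Γ.Adj y u ∧ u ∈ O}.ncard = 0 ∨ {u | Γ.Adj y u ∧ u ∈ O}.ncard = 11 ∨
      {u | Γ.Adj y u ∧ u ∈ O}.ncard = 22 := by
    obtain ⟨c, hc⟩ := hDdvd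
    omega
  apply hG Γ hyp O _ hO hdall hd3
  intro hd11
  -- the neighbours of y outside O form one orbit of ⟨g⟩
  set E : Set V := {u | Γ.Adj y u ∧ u ∉ O} with hE
  have hEcard : E.ncard = 11 := by
    have h1 : E = (↑(nb Γ y) : Set V) \ {u | Γ.Adj y u ∧ u ∈ O} := by
      ext u
      simp only [hE, Set.mem_ofPred_eq, Set.mem_sdiff, Finset.mem_coe, mem_nb]
      tauto
    have h2 := Set.ncard_sdiff_add_ncard_of_subset hDsub (Finset.finite_toSet _)
    rw [← h1, Set.ncard_coe_finset, hyp.deg, hd11] at h2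
    omega
  obtain ⟨u0, hu0⟩ : E.Nonempty := by
    rw [← Set.ncard_pos (Set.toFinite E), hEcard]; norm_num
  have hlt : ∀ i j : ℕ, i < j → j < 11 → ρ (g ^ i) u0 ≠ ρ (g ^ j) u0 := by
    intro i j hij hj h
    have e : g ^ j = g ^ i * g ^ (j - i) := by rw [← pow_add]; congr 1; omega
    rw [e, hmul] at h
    have h' := (ρ (g ^ i)).injective h
    have h2 := hfix (j - i)
      (by intro hdv; have := Nat.le_of_dvd (by omega) hdv; omega) u0 h'.symm
    rw [h2] at hu0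
    exact Γ.irrefl hu0.1
  have hφinj : Function.Injective (fun i : Fin 11 => ρ (g ^ (i : ℕ)) u0) := by
    intro i j h
    rcases lt_trichotomy (i : ℕ) (j : ℕ) with h1 | h1 | h1
    · exact absurd h (hlt _ _ h1 j.2)
    · exact Fin.ext h1
    · exact absurd h.symm (hlt _ _ h1 i.2)
  have hφE : Set.range (fun i : Fin 11 => ρ (g ^ (i : ℕ)) u0) ⊆ E := by
    rintro _ ⟨i, rfl⟩
    refine ⟨(hadjfix _ (hpowfix _) u0).2 hu0.1, ?_⟩
    show ρ (g ^ (i : ℕ)) u0 ∉ O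
    rw [hOinv _ (hgpowK _)]
    exact hu0.2
  have hrange : Set.range (fun i : Fin 11 => ρ (g ^ (i : ℕ)) u0) = E := by
    apply Set.eq_of_subset_of_ncard_le hφE _ (Set.toFinite E)
    rw [hEcard, ← Nat.card_coe_set_eq, Nat.card_range_of_injective hφinj, Nat.card_fin]
  refine ⟨{v | ∃ k ∈ K, ρ k u0 = v}, {v | Γ.Adj u0 v ∧ v ∈ O}.ncard, ?_, ?_, ?_⟩
  · rw [Set.disjoint_left]
    rintro _ ⟨k, hk, rfl⟩ h
    exact hu0.2 ((hOinv k hk u0).1 h)
  · rintro _ ⟨k, hk, rfl⟩ u hadj1 huO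
    have hu' : ρ k⁻¹ u ∈ E := by
      constructor
      · rw [← hadj k, hinv']; exact hadj1
      · intro h
        exact huO ((hOinv k⁻¹ (K.inv_mem hk) u).1 h)
    rw [← hrange] at hu'
    obtain ⟨i, hi⟩ := hu'
    refine ⟨k * g ^ (i : ℕ), K.mul_mem hk (hgpowK _), ?_⟩
    rw [hmul]
    have hi' : ρ (g ^ (i : ℕ)) u0 = ρ k⁻¹ u := hi
    rw [hi', hinv']
  · rintro _ ⟨k, hk, rfl⟩
    exact htr k hk u0

example : Cfsg.Agent.H33.O2.StK56 := Cfsg.Agent.H80.O2.k56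

end Cfsg.Agent.H80.O2
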