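import Cfsg.Agent.H80.MaxConj2

set_option autoImplicit false
set_option linter.unusedSectionVars false
set_option linter.style.haveILetI false

/-!
# helper80: a `p`-group acting on a block fixes a defect class

* `sum_mem_of_pgroup_action'`: the orbit-sum lemma with invariance only modulo the subgroup.
* `conjClassesAction`: a group acting through automorphisms acts on the conjugacy classes.
* `exists_fixed_class`: if a finite `p`-group `Γ` acts on `K` through automorphisms fixing the
  block `e`, then some element `k` has its class fixed by `Γ`, its idempotent coefficient outside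
  the local ideal and its central character value outside the local ideal.
* `exists_pPart_decomp`: splitting an element into a `p`-element and a `p`-regular power.
-/

namespace Cfsg.Agent.H80

open Cfsg Cfsg.Agent.H20 Cfsg.Agent.H4

universe u

open scoped Classical in
theorem sum_mem_of_pgroup_action' {Γ X A : Type*} [Group Γ] [Finite Γ] [MulAction Γ X]
    [AddCommGroup A] (p : ℕ) [Fact p.Prime] (hΓ : IsPGroup p Γ) (I : AddSubgroup A) (f : X → A) :
    ∀ T : Finset X, (∀ x ∈ T, ∀ γ : Γ, γ • x ∈ T) → (∀ x ∈ T, ∀ γ : Γ, f (γ • x) - f x ∈ I) →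
      (∀ x ∈ T, ∃ γ : Γ, γ • x ≠ x) → (∀ x ∈ T, p • f x ∈ I) → ∑ x ∈ T, f x ∈ I := by
  intro T
  induction T using Finset.strongInduction with
  | H T ih =>
    intro hstab hinv hfix hI
    rcases T.eq_empty_or_nonempty with hempty | ⟨x, hx⟩
    · rw [hempty, Finset.sum_empty]; exact I.zero_mem
    · set O := T.filter (fun y => y ∈ MulAction.orbit Γ x) with hO
      have hOT : O ⊆ T := Finset.filter_subset _ _
      have hxO : x ∈ O := by
        rw [hO, Finset.mem_filter]; exact ⟨hx, MulAction.mem_orbit_self x⟩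
      have hOset : (O : Set X) = MulAction.orbit Γ x := by
        ext y
        rw [hO, Finset.coe_filter]
        constructor
        · intro hy; exact hy.2
        · intro hy
          refine ⟨?_, hy⟩
          obtain ⟨γ, rfl⟩ := MulAction.mem_orbit_iff.mp hy
          exact hstab x hx γ
      have hsub : T \ O ⊂ T := by
        refine Finset.ssubset_iff_subset_ne.mpr ⟨Finset.sdiff_subset, ?_⟩
        intro heq
        have : x ∈ T \ O := by rw [heq]; exact hx
        exact (Finset.mem_sdiff.mp this).2 hxO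
      have hstab' : ∀ y ∈ T \ O, ∀ γ : Γ, γ • y ∈ T \ O := by
        intro y hy γ
        rw [Finset.mem_sdiff] at hy ⊢
        refine ⟨hstab y hy.1 γ, ?_⟩
        intro hγ
        apply hy.2
        rw [hO, Finset.mem_filter] at hγ ⊢
        refine ⟨hy.1, ?_⟩
        have h1 : MulAction.orbit Γ (γ • y) = MulAction.orbit Γ x := MulAction.orbit_eq_iff.mpr hγ.2
        rw [MulAction.orbit_smul] at h1
        rw [← h1]
        exact MulAction.mem_orbit_self y
      have h1 := ih (T \ O) hsub hstab' (fun y hy => hinv y (Finset.mem_sdiff.mp hy).1)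
        (fun y hy => hfix y (Finset.mem_sdiff.mp hy).1) (fun y hy => hI y (Finset.mem_sdiff.mp hy).1)
      have h2 : ∑ y ∈ O, (f y - f x) ∈ I := by
        apply I.sum_mem
        intro y hy
        rw [hO, Finset.mem_filter] at hy
        obtain ⟨γ, rfl⟩ := MulAction.mem_orbit_iff.mp hy.2
        exact hinv x hx γ
      have hcard : O.card = Nat.card (MulAction.orbit Γ x) := by
        rw [← hOset]
        simp
      haveI : Finite (MulAction.orbit Γ x) := by
        rw [← hOset]; exact Finite.of_fintype _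
      obtain ⟨k, hk⟩ := hΓ.card_orbit x
      have hk0 : k ≠ 0 := by
        intro h0
        rw [h0, pow_zero] at hk
        obtain ⟨γ, hγ⟩ := hfix x hx
        apply hγ
        have hsubs : Subsingleton (MulAction.orbit Γ x) :=
          (Nat.card_eq_one_iff_unique.mp hk).1
        have := Subsingleton.elim (⟨γ • x, MulAction.mem_orbit x γ⟩ : MulAction.orbit Γ x)
          ⟨x, MulAction.mem_orbit_self x⟩
        exact congrArg Subtype.val this
      have h3 : O.card • f x ∈ I := by
        rw [hcard, hk]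
        obtain ⟨j, rfl⟩ := Nat.exists_eq_succ_of_ne_zero hk0
        rw [pow_succ, mul_smul]
        exact I.nsmul_mem (hI x hx) _
      have h4 : ∑ y ∈ O, f y = ∑ y ∈ O, (f y - f x) + O.card • f x := by
        rw [Finset.sum_sub_distrib, Finset.sum_const]
        abel
      rw [← Finset.sum_sdiff hOT, h4]
      exact I.add_mem h1 (I.add_mem h2 h3)

/-- A group acting on `K` through automorphisms acts on the conjugacy classes of `K`. -/
@[instance_reducible]
def conjClassesAction {K : Type*} [Group K] {Γ : Type*} [Group Γ] (φ : Γ →* MulAut K) :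
    MulAction Γ (ConjClasses K) where
  smul γ c := ConjClasses.map (φ γ).toMonoidHom c
  one_smul c := by
    obtain ⟨k, rfl⟩ := ConjClasses.mk_surjective c
    show ConjClasses.mk ((φ 1) k) = ConjClasses.mk k
    rw [map_one]
    rfl
  mul_smul γ δ c := by
    obtain ⟨k, rfl⟩ := ConjClasses.mk_surjective c
    show ConjClasses.mk ((φ (γ * δ)) k) = ConjClasses.mk ((φ γ) ((φ δ) k))
    rw [map_mul]
    rfl

variable {M : Ideal AlgInt}

open scoped Classical in
/-- A finite `p`-group acting on `K` through automorphisms that fix the block `e` fixes the class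
of an element at which the idempotent coefficient of `e` and the central character of a member
of `e` are both outside the local ideal. -/
theorem exists_fixed_class {K : Type u} [Group K] [Fintype K] {Γ : Type*} [Group Γ] [Finite Γ]
    (p : ℕ) [Fact p.Prime] (hM : IsPModular p M) (hΓ : IsPGroup p Γ) (φ : Γ →* MulAut K)
    {e : Set (IrrCharacter K)} (he : IsPBlock M e) (hstab : ∀ γ : Γ, autIrr (φ γ) '' e = e)
    (ξ₀ : IrrCharacter K) (hξ₀ : ξ₀ ∈ e) :
    ∃ k : K, ¬ MemLocalIdeal M (blockCoeff e k) ∧ ¬ MemLocalIdeal M (centralChar ξ₀.1 k) ∧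
      ∀ γ : Γ, IsConj (φ γ k) k := by
  have hMp := isPrime_of_isPModular hM
  letI := conjClassesAction φ
  have hsmul : ∀ (γ : Γ) (k : K), γ • ConjClasses.mk k = ConjClasses.mk (φ γ k) := fun _ _ => rfl
  obtain ⟨χ₀, hχ₀⟩ := he
  have hloc : ∀ k : K, MemLocalRing M (blockCoeff e k) := by
    intro k
    rw [hχ₀]
    exact blockCoeff_memLocalRing hMp χ₀ k
  by_contra hcon
  push Not at hcon
  obtain ⟨F, hF⟩ : ∃ F : K → ℂ, F = fun k => blockCoeff e k * ξ₀.1 k / ξ₀.1 1 := ⟨_, rfl⟩
  have htot : ∑ k, F k = 1 := by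
    have h1 := omega_blockElt e ξ₀
    rw [if_pos hξ₀] at h1
    unfold omega at h1
    rw [Finset.sum_div] at h1
    rw [← h1, hF]
    apply Finset.sum_congr rfl
    intro k _
    rw [coeff_blockElt]
  obtain ⟨Ft, hFt⟩ : ∃ Ft : ConjClasses K → ℂ,
      Ft = fun c => ∑ k ∈ Finset.univ.filter (fun k => ConjClasses.mk k = c), F k := ⟨_, rfl⟩
  have hFt_mk : ∀ k, Ft (ConjClasses.mk k) = blockCoeff e k * centralChar ξ₀.1 k := by
    intro k
    rw [hFt, ← omega_classSum _ (irr_isClassFunction ξ₀)]
    unfold omega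
    rw [Finset.sum_div, Finset.mul_sum]
    simp only [coeff_classSum]
    rw [Finset.sum_filter]
    apply Finset.sum_congr rfl
    intro k' _
    by_cases hk : IsConj k k'
    · rw [if_pos hk, if_pos (ConjClasses.mk_eq_mk_iff_isConj.mpr hk.symm), hF]
      obtain ⟨c, hc⟩ := isConj_iff.mp hk
      simp only
      rw [← hc, blockCoeff_conj_invariant]
      ring
    · rw [if_neg hk, if_neg (fun h => hk (ConjClasses.mk_eq_mk_iff_isConj.mp h).symm)]
      ring
  have hsum : ∑ k, F k = ∑ c : ConjClasses K, Ft c := by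
    rw [hFt]
    exact (Finset.sum_fiberwise Finset.univ ConjClasses.mk F).symm
  have hFtloc : ∀ c, MemLocalRing M (Ft c) := by
    intro c
    obtain ⟨k, rfl⟩ := ConjClasses.mk_surjective c
    rw [hFt_mk]
    exact memLocalRing_mul hMp (hloc k) (centralChar_memLocalRing hMp ξ₀ k)
  have hcoefinv : ∀ (γ : Γ) (k : K), blockCoeff e (φ γ k) = blockCoeff e k := by
    intro γ k
    have h1 := blockCoeff_autIrr_image (φ γ)⁻¹ e k
    rw [← map_inv, hstab γ⁻¹] at h1
    rw [h1, map_inv]
    rfl
  have hccinv : ∀ (γ : Γ) (k : K),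
      MemLocalIdeal M (centralChar ξ₀.1 (φ γ k) - centralChar ξ₀.1 k) := by
    intro γ k
    have h1 := centralChar_autIrr (φ γ)⁻¹ ξ₀ k
    have h2 : autIrr (φ γ)⁻¹ ξ₀ ∈ e := by
      rw [← hstab γ⁻¹, map_inv]
      exact ⟨ξ₀, hξ₀, rfl⟩
    have e1 : centralChar ξ₀.1 (φ γ k) = centralChar (autIrr (φ γ)⁻¹ ξ₀).1 k := by
      rw [h1]
      rfl
    rw [e1]
    rw [hχ₀] at h2 hξ₀
    have h3 := h2 k
    have h4 := hξ₀ k
    have h5 := memLocalIdeal_sub hMp h4 h3
    have e2 : centralChar χ₀.1 k - centralChar ξ₀.1 k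
        - (centralChar χ₀.1 k - centralChar (autIrr (φ γ)⁻¹ ξ₀).1 k)
        = centralChar (autIrr (φ γ)⁻¹ ξ₀).1 k - centralChar ξ₀.1 k := by ring
    rw [e2] at h5
    exact h5
  have hFtinv : ∀ (c : ConjClasses K) (γ : Γ), MemLocalIdeal M (Ft (γ • c) - Ft c) := by
    intro c γ
    obtain ⟨k, rfl⟩ := ConjClasses.mk_surjective c
    rw [hsmul, hFt_mk, hFt_mk, hcoefinv, ← mul_sub]
    exact memLocalIdeal_mul_left hMp (hloc k) (hccinv γ k)
  have hnon : (∑ c ∈ Finset.univ.filter (fun c : ConjClasses K => ¬ ∀ γ : Γ, γ • c = c), Ft c)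
      ∈ localIdeal M hMp := by
    apply sum_mem_of_pgroup_action' p hΓ (localIdeal M hMp) Ft
    · intro c hc γ
      rw [Finset.mem_filter] at hc ⊢
      refine ⟨Finset.mem_univ _, fun hfix => hc.2 fun δ => ?_⟩
      have h1 := hfix (γ * δ * γ⁻¹)
      rw [← mul_smul, inv_mul_cancel_right, mul_smul] at h1
      exact smul_left_cancel γ h1
    · intro c _ γ
      exact hFtinv c γ
    · intro c hc
      rw [Finset.mem_filter] at hc
      have := hc.2
      push Not at this
      exact this
    · intro c _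
      rw [nsmul_eq_mul]
      exact memLocalIdeal_mul_right hMp (memLocalIdeal_natCast_self hM) (hFtloc c)
  have hfixsum : MemLocalIdeal M
      (∑ c ∈ Finset.univ.filter (fun c : ConjClasses K => ∀ γ : Γ, γ • c = c), Ft c) := by
    apply memLocalIdeal_sum hMp
    intro c hc
    rw [Finset.mem_filter] at hc
    obtain ⟨k, rfl⟩ := ConjClasses.mk_surjective c
    rw [hFt_mk]
    have hfixk : ∀ γ : Γ, IsConj (φ γ k) k := by
      intro γ
      have := hc.2 γ
      rw [hsmul] at this
      exact ConjClasses.mk_eq_mk_iff_isConj.mp this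
    by_cases h1 : MemLocalIdeal M (blockCoeff e k)
    · exact memLocalIdeal_mul_right hMp h1 (centralChar_memLocalRing hMp ξ₀ k)
    · by_cases h2 : MemLocalIdeal M (centralChar ξ₀.1 k)
      · exact memLocalIdeal_mul_left hMp (hloc k) h2
      · obtain ⟨γ, hγ⟩ := hcon k h1 h2
        exact absurd (hfixk γ) hγ
  have hsplit := Finset.sum_filter_add_sum_filter_not (Finset.univ : Finset (ConjClasses K))
    (fun c => ∀ γ : Γ, γ • c = c) Ft
  have hall : MemLocalIdeal M (∑ c : ConjClasses K, Ft c) := by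
    rw [← hsplit]
    exact memLocalIdeal_add hMp hfixsum hnon
  rw [← hsum, htot] at hall
  exact not_memLocalIdeal_one hMp hall

/-- Splitting an element of a finite group into a `p`-element and a `p`-regular element, both
powers of it; the exponent `p ^ k` may be taken as large as wanted. -/
theorem exists_pPart_decomp {G : Type*} [Group G] [Finite G] (p : ℕ) [Fact p.Prime] (u : G)
    (a : ℕ) : ∃ (m k : ℕ) (α β : ℤ), a ≤ k ∧ (u ^ m) ^ (p ^ k) = 1 ∧
      ¬ p ∣ orderOf (u ^ (p ^ k)) ∧ u = (u ^ m) ^ α * (u ^ (p ^ k)) ^ β := by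
  have hp := (Fact.out : p.Prime)
  have ho : 0 < orderOf u := orderOf_pos u
  obtain ⟨b, m, hpm, hom⟩ : ∃ b m : ℕ, ¬ p ∣ m ∧ orderOf u = p ^ b * m := by
    obtain ⟨b, m, hm, h⟩ := Nat.exists_eq_pow_mul_and_not_dvd ho.ne' p hp.ne_one
    exact ⟨b, m, hm, h⟩
  have h1 : (u ^ m) ^ (p ^ (a + b)) = 1 := by
    have e : m * p ^ (a + b) = orderOf u * p ^ a := by rw [hom, pow_add]; ring
    rw [← pow_mul, e, pow_mul, pow_orderOf_eq_one, one_pow]
  have h2 : ¬ p ∣ orderOf (u ^ (p ^ (a + b))) := by
    intro hdvd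
    apply hpm
    apply hdvd.trans
    apply orderOf_dvd_of_pow_eq_one
    have e : p ^ (a + b) * m = orderOf u * p ^ a := by rw [hom, pow_add]; ring
    rw [← pow_mul, e, pow_mul, pow_orderOf_eq_one, one_pow]
  have hcop : Nat.Coprime m (p ^ (a + b)) :=
    Nat.Coprime.pow_right _ ((Nat.Prime.coprime_iff_not_dvd hp).mpr hpm).symm
  have hbez := Int.gcd_eq_gcd_ab (m : ℤ) ((p ^ (a + b) : ℕ) : ℤ)
  have hg : Int.gcd (m : ℤ) ((p ^ (a + b) : ℕ) : ℤ) = 1 := by
    rw [Int.gcd_natCast_natCast]
    exact hcop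
  rw [hg] at hbez
  refine ⟨m, a + b, Int.gcdA (m : ℤ) ((p ^ (a + b) : ℕ) : ℤ),
    Int.gcdB (m : ℤ) ((p ^ (a + b) : ℕ) : ℤ), Nat.le_add_right a b, h1, h2, ?_⟩
  rw [← zpow_natCast u m, ← zpow_natCast u (p ^ (a + b)), ← zpow_mul, ← zpow_mul, ← zpow_add,
    ← hbez]
  simp

end Cfsg.Agent.H80
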