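import Mathlib
import Cfsg.Agent.H83.PCDefs
/-!
S3366 (helper83), piece PC-INV (helper80): under `Hyp R f` there is an involution `t` over
`-1 ∈ SL(2,3)` inverting `R` modulo its centre.

`t := u⁶` for `u` over an element `J` of order 4 (`J² = -1`).  Then `t = (u³)²` centralizes
`Z(R)` (of order 3).  For `r ∈ R` the element `p = (t r t⁻¹) r` is fixed by `t`; if some such
`p₁` were not central in `R`, a second one `p₂` would not commute with it, `⟨p₁, p₂⟩ = R`
(order 27), `t` would centralize `R`, be central in `X` and generate a normal 2-subgroup.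
-/
set_option autoImplicit false

namespace Cfsg.Agent.H80.PC

open Cfsg.Agent.H83.PC

universe u

theorem comm_of_card_dvd_nine {K : Type*} [Group K] [Finite K] (h : Nat.card K ∣ 9) (a b : K) :
    a * b = b * a := by
  have hle : Nat.card K ≤ 9 := Nat.le_of_dvd (by norm_num) h
  have hpos : 0 < Nat.card K := Nat.card_pos
  have h3 : Nat.card K = 1 ∨ Nat.card K = 3 ∨ Nat.card K = 9 := by
    generalize Nat.card K = n at h hle hpos ⊢
    interval_cases n <;> omega
  rcases h3 with h1 | h1 | h1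
  · have hs := (Nat.card_eq_one_iff_unique.mp h1).1
    rw [Subsingleton.elim a b]
  · have : Fact (Nat.Prime 3) := ⟨Nat.prime_three⟩
    have hc := isCyclic_of_prime_card h1
    exact (IsCyclic.commGroup (α := K)).mul_comm a b
  · have : Fact (Nat.Prime 3) := ⟨Nat.prime_three⟩
    exact (IsPGroup.isMulCommutative_of_card_eq_prime_sq (p := 3) (by rw [h1]; norm_num)).is_comm.comm a b

theorem card3_elems {C : Type*} [Group C] (h : Nat.card C = 3) (c c' : C) (hc : c ≠ 1) :
    c' = 1 ∨ c' = c ∨ c' = c⁻¹ := by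
  have : Fact (Nat.Prime 3) := ⟨Nat.prime_three⟩
  have hfin : Finite C := Nat.finite_of_card_ne_zero (by omega)
  obtain ⟨k, rfl⟩ := Subgroup.mem_zpowers_iff.mp (mem_zpowers_of_prime_card h hc (g' := c'))
  have h3 : c ^ (3 : ℤ) = 1 := by
    have h0 := pow_card_eq_one' (G := C) (x := c)
    rw [h] at h0
    exact_mod_cast h0
  have hk : c ^ k = c ^ (k % 3) := by
    conv_lhs => rw [← Int.emod_add_mul_ediv k 3, zpow_add, zpow_mul, h3, one_zpow, mul_one]
  rw [hk]
  have hcases : k % 3 = 0 ∨ k % 3 = 1 ∨ k % 3 = 2 := by omega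
  rcases hcases with e | e | e
  · left; rw [e, zpow_zero]
  · right; left; rw [e, zpow_one]
  · right; right
    rw [e, eq_inv_iff_mul_eq_one]
    have h4 : c ^ (2 : ℤ) * c = c ^ (3 : ℤ) := by
      rw [show (3 : ℤ) = 2 + 1 from rfl, zpow_add, zpow_one]
    rw [h4, h3]

theorem p27_facts {G : Type*} [Group G] [Finite G] (hG : Nat.card G = 27)
    (hnc : ∃ a b : G, a * b ≠ b * a) :
    Nat.card (Subgroup.center G) = 3 ∧ ∀ a b : G, a * b * a⁻¹ * b⁻¹ ∈ Subgroup.center G := by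
  have : Fact (Nat.Prime 3) := ⟨Nat.prime_three⟩
  obtain ⟨a0, b0, hab⟩ := hnc
  obtain ⟨k, hk0, hk⟩ := IsPGroup.card_center_eq_prime_pow (p := 3) (n := 3) (G := G)
    (by rw [hG]; norm_num) (by norm_num)
  have hq := Subgroup.card_eq_card_quotient_mul_card_subgroup (Subgroup.center G)
  rw [hG, hk] at hq
  have hqpos : 0 < Nat.card (G ⧸ Subgroup.center G) := Nat.card_pos
  have hk3 : k ≤ 3 := by
    by_contra hcon
    push Not at hcon
    have h4 : 3 ^ 4 ≤ 3 ^ k := Nat.pow_le_pow_right (by norm_num) hcon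
    nlinarith
  have hk1 : k = 1 := by
    interval_cases k
    · rfl
    · exfalso
      have h3 : Nat.card (G ⧸ Subgroup.center G) = 3 := by norm_num at hq; omega
      have hc := isCyclic_of_prime_card h3
      exact hab (commutative_of_cyclic_center_quotient (QuotientGroup.mk' (Subgroup.center G))
        (by rw [QuotientGroup.ker_mk']) a0 b0)
    · exfalso
      have h1 : Nat.card (G ⧸ Subgroup.center G) = 1 := by norm_num at hq; omega
      have hs := (Nat.card_eq_one_iff_unique.mp h1).1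
      have hmem : a0 ∈ Subgroup.center G := by
        rw [← QuotientGroup.eq_one_iff]; exact Subsingleton.elim _ _
      exact hab ((Subgroup.mem_center_iff.mp hmem b0).symm)
  subst hk1
  refine ⟨by simpa using hk, ?_⟩
  have h9 : Nat.card (G ⧸ Subgroup.center G) = 9 := by norm_num at hq; omega
  intro a b
  rw [← QuotientGroup.eq_one_iff]
  have hc := comm_of_card_dvd_nine (K := G ⧸ Subgroup.center G) (by rw [h9])
    (a : G ⧸ Subgroup.center G) (b : G ⧸ Subgroup.center G)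
  simp only [QuotientGroup.mk_mul, QuotientGroup.mk_inv]
  rw [hc]
  group

theorem inv : StInv.{u} := by
  intro X _ _ R f hyp
  obtain ⟨hRn, hR27, hR3, ⟨a, ha, b, hb, hab⟩, hfs, hker, hO3, hO2, -⟩ := hyp
  classical
  have hmemR : ∀ g : X, g ∈ R ↔ f g = 1 := by
    intro g; rw [← hker]; exact MonoidHom.mem_ker
  have hconjR : ∀ (g r : X), r ∈ R → g * r * g⁻¹ ∈ R := fun g r hr => hRn.conj_mem r hr g
  have hcube : ∀ r ∈ R, r * r = 1 → r = 1 := by
    intro r hr h
    have h3 := hR3 r hr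
    calc r = r ^ 3 * (r * r)⁻¹ := by group
      _ = 1 := by rw [h3, h]; simp
  obtain ⟨hZ3, hcomm⟩ := p27_facts (G := ↥R) hR27
    ⟨⟨a, ha⟩, ⟨b, hb⟩, fun h => hab (congrArg Subtype.val h)⟩
  have hZ2 : ∀ r ∈ R, ∀ s ∈ R, IsZ R (r * s * r⁻¹ * s⁻¹) := by
    intro r hr s hs
    have h := hcomm ⟨r, hr⟩ ⟨s, hs⟩
    refine ⟨R.mul_mem (R.mul_mem (R.mul_mem hr hs) (R.inv_mem hr)) (R.inv_mem hs), ?_⟩
    intro s' hs'
    have h2 := Subgroup.mem_center_iff.mp h ⟨s', hs'⟩
    exact (congrArg Subtype.val h2).symm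
  have hZc : ∀ z : X, IsZ R z → ∃ hz : z ∈ R, (⟨z, hz⟩ : ↥R) ∈ Subgroup.center ↥R := by
    intro z hz
    refine ⟨hz.1, Subgroup.mem_center_iff.mpr fun g => ?_⟩
    apply Subtype.ext
    exact (hz.2 g g.2).symm
  have hZ1 : ∀ z z' : X, IsZ R z → z ≠ 1 → IsZ R z' → z' = 1 ∨ z' = z ∨ z' = z⁻¹ := by
    intro z z' hz hz1 hz'
    obtain ⟨hzR, hzc⟩ := hZc z hz
    obtain ⟨hzR', hzc'⟩ := hZc z' hz'
    have hc1 : (⟨⟨z, hzR⟩, hzc⟩ : Subgroup.center ↥R) ≠ 1 := by
      intro h
      exact hz1 (congrArg (fun c : Subgroup.center ↥R => ((c : ↥R) : X)) h)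
    rcases card3_elems hZ3 (⟨⟨z, hzR⟩, hzc⟩ : Subgroup.center ↥R) ⟨⟨z', hzR'⟩, hzc'⟩ hc1
      with h | h | h
    · left; exact congrArg (fun c : Subgroup.center ↥R => ((c : ↥R) : X)) h
    · right; left; exact congrArg (fun c : Subgroup.center ↥R => ((c : ↥R) : X)) h
    · right; right; exact congrArg (fun c : Subgroup.center ↥R => ((c : ↥R) : X)) h
  have hconjZ : ∀ (g z : X), IsZ R z → IsZ R (g * z * g⁻¹) := by
    intro g z hz
    refine ⟨hconjR g z hz.1, fun s hs => ?_⟩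
    have hs' : g⁻¹ * s * g ∈ R := by
      have h0 := hconjR g⁻¹ s hs
      rwa [inv_inv] at h0
    have h1 := hz.2 (g⁻¹ * s * g) hs'
    calc g * z * g⁻¹ * s = g * (z * (g⁻¹ * s * g)) * g⁻¹ := by group
      _ = g * ((g⁻¹ * s * g) * z) * g⁻¹ := by rw [h1]
      _ = s * (g * z * g⁻¹) := by group
  -- the element of order 4 of SL(2,3)
  obtain ⟨J, hJ2⟩ : ∃ J : SL23, (J * J).1 = -1 :=
    ⟨⟨!![0, -1; 1, 0], by rw [Matrix.det_fin_two_of]; decide⟩, by decide⟩
  have hm_central : ∀ g : SL23, g * (J * J) = (J * J) * g := by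
    intro g
    apply Subtype.ext
    show g.1 * (J * J).1 = (J * J).1 * g.1
    rw [hJ2]; simp
  have hJ4 : (J * J) * (J * J) = 1 := by
    apply Subtype.ext
    show (J * J).1 * (J * J).1 = 1
    rw [hJ2]; simp
  have hm_ne : J * J ≠ 1 := by
    intro h
    have h0 : (J * J).1 0 0 = (1 : SL23).1 0 0 := by rw [h]
    rw [hJ2] at h0
    revert h0
    decide
  obtain ⟨u, hu⟩ := hfs J
  obtain ⟨w, hw⟩ : ∃ w, w = u ^ 3 := ⟨_, rfl⟩
  obtain ⟨t, ht⟩ : ∃ t, t = u ^ 6 := ⟨_, rfl⟩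
  have hft : f t = J * J := by
    rw [ht, map_pow, hu]
    have h6 : J ^ 6 = (J * J) * (J * J) * (J * J) := by
      rw [show (6 : ℕ) = 2 + 2 + 2 from rfl, pow_add, pow_add, pow_two]
    rw [h6, hJ4, one_mul]
  have hu4 : u ^ 4 ∈ R := by
    rw [hmemR, map_pow, hu]
    have h4 : J ^ 4 = (J * J) * (J * J) := by
      rw [show (4 : ℕ) = 2 + 2 from rfl, pow_add, pow_two]
    rw [h4, hJ4]
  have htt : t * t = 1 := by
    have h := hR3 _ hu4
    rw [← pow_mul] at h
    rw [ht, ← pow_add]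
    exact h
  have ht1 : t ≠ 1 := by
    intro h
    rw [h, map_one] at hft
    exact hm_ne hft.symm
  have hfneg : (f t).1 = -1 := by rw [hft]; exact hJ2
  have hwt : t = w * w := by rw [ht, hw, ← pow_add]
  -- `t` centralizes the centre of `R`
  have hcentZ : ∀ z : X, IsZ R z → t * z = z * t := by
    intro z hz
    by_cases hz1 : z = 1
    · rw [hz1]; simp
    have hz'' := hconjZ w z hz
    rcases hZ1 z (w * z * w⁻¹) hz hz1 hz'' with h | h | h
    · exfalso
      apply hz1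
      have e : z = w⁻¹ * (w * z * w⁻¹) * w := by group
      rw [e, h]; group
    · have h1 : w * z = z * w := by
        calc w * z = (w * z * w⁻¹) * w := by group
          _ = z * w := by rw [h]
      rw [hwt, mul_assoc, h1, ← mul_assoc, h1, mul_assoc]
    · have h1 : w * z = z⁻¹ * w := by
        calc w * z = (w * z * w⁻¹) * w := by group
          _ = z⁻¹ * w := by rw [h]
      have h2 : w * z⁻¹ = z * w := by
        calc w * z⁻¹ = (w * z * w⁻¹)⁻¹ * w := by group
          _ = z * w := by rw [h, inv_inv]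
      rw [hwt, mul_assoc, h1, ← mul_assoc, h2, mul_assoc]
  -- `t` does not centralize `R`
  have hnotcent : ¬ (∀ r ∈ R, t * r = r * t) := by
    intro hc
    have hcentral : ∀ g : X, g * t * g⁻¹ = t := by
      intro g
      obtain ⟨r', hr'⟩ : ∃ r', r' = t⁻¹ * (g * t * g⁻¹) := ⟨_, rfl⟩
      have hr'R : r' ∈ R := by
        rw [hmemR, hr']
        simp only [map_mul, map_inv, hft]
        rw [hm_central (f g)]
        group
      have hconj2 : (g * t * g⁻¹) * (g * t * g⁻¹) = 1 := by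
        calc (g * t * g⁻¹) * (g * t * g⁻¹) = g * (t * t) * g⁻¹ := by group
          _ = 1 := by rw [htt]; group
      have e : g * t * g⁻¹ = t * r' := by rw [hr']; group
      rw [e] at hconj2
      have hcr := hc r' hr'R
      have h2 : r' * r' = 1 := by
        calc r' * r' = (t * t) * (r' * r') := by rw [htt, one_mul]
          _ = t * (t * r') * r' := by group
          _ = t * (r' * t) * r' := by rw [hcr]
          _ = (t * r') * (t * r') := by group
          _ = 1 := hconj2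
      rw [e, hcube r' hr'R h2, mul_one]
    have hN : (Subgroup.zpowers t).Normal := by
      constructor
      intro n hn g
      obtain ⟨k, rfl⟩ := Subgroup.mem_zpowers_iff.mp hn
      have e : g * t ^ k * g⁻¹ = (g * t * g⁻¹) ^ k := by rw [conj_zpow]
      rw [e, hcentral g]
      exact Subgroup.zpow_mem_zpowers t k
    have h2g : IsPGroup 2 (Subgroup.zpowers t) := by
      have ho : orderOf t = 2 := orderOf_eq_prime (by rw [pow_two]; exact htt) ht1
      exact IsPGroup.of_card (n := 1) (by rw [Nat.card_zpowers, ho, pow_one])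
    have hbot := hO2 _ hN h2g
    exact ht1 (Subgroup.zpowers_eq_bot.mp hbot)
  refine ⟨t, htt, hfneg, ?_⟩
  -- `(t r t⁻¹) r` is fixed by `t`
  have hp_fix : ∀ r ∈ R, t * (t * r * t⁻¹ * r) * t⁻¹ = t * r * t⁻¹ * r := by
    intro r hr
    have hτr : t * r * t⁻¹ ∈ R := hconjR t r hr
    have hz0 := hZ2 r⁻¹ (R.inv_mem hr) (t * r * t⁻¹)⁻¹ (R.inv_mem hτr)
    obtain ⟨z0, hz0def⟩ : ∃ z0, z0 = r⁻¹ * (t * r * t⁻¹)⁻¹ * r⁻¹⁻¹ * (t * r * t⁻¹)⁻¹⁻¹ := ⟨_, rfl⟩
    rw [← hz0def] at hz0
    have h1 : t * (t * r * t⁻¹ * r) * t⁻¹ = (t * r * t⁻¹ * r) * z0 := by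
      have e1 : t * (t * r * t⁻¹ * r) * t⁻¹ = (t * t) * r * (t * t)⁻¹ * (t * r * t⁻¹) := by group
      rw [e1, htt, hz0def]; group
    have h2 : t * ((t * r * t⁻¹ * r) * z0) * t⁻¹ = (t * r * t⁻¹ * r) * z0 * z0 := by
      have e2 : t * ((t * r * t⁻¹ * r) * z0) * t⁻¹ =
          (t * (t * r * t⁻¹ * r) * t⁻¹) * (t * z0 * t⁻¹) := by group
      have e3 : t * z0 * t⁻¹ = z0 := by rw [hcentZ z0 hz0]; group
      rw [e2, h1, e3]
    have h3 : t * (t * (t * r * t⁻¹ * r) * t⁻¹) * t⁻¹ = t * r * t⁻¹ * r := by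
      have e4 : t * (t * (t * r * t⁻¹ * r) * t⁻¹) * t⁻¹ =
          (t * t) * (t * r * t⁻¹ * r) * (t * t)⁻¹ := by group
      rw [e4, htt]; group
    rw [h1, h2] at h3
    have h4 : z0 * z0 = 1 := by
      have h5 : (t * r * t⁻¹ * r) * (z0 * z0) = (t * r * t⁻¹ * r) * 1 := by
        rw [mul_one, ← mul_assoc]; exact h3
      exact mul_left_cancel h5
    rw [h1, hcube z0 hz0.1 h4, mul_one]
  intro r0 hr0
  by_contra hnotZ
  obtain ⟨p1, hp1def⟩ : ∃ p1, p1 = t * r0 * t⁻¹ * r0 := ⟨_, rfl⟩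
  rw [← hp1def] at hnotZ
  have hp1R : p1 ∈ R := by rw [hp1def]; exact R.mul_mem (hconjR t r0 hr0) hr0
  have hp1t : t * p1 * t⁻¹ = p1 := by rw [hp1def]; exact hp_fix r0 hr0
  have hex : ∃ s ∈ R, p1 * s ≠ s * p1 := by
    by_contra hcon
    push Not at hcon
    exact hnotZ ⟨hp1R, hcon⟩
  obtain ⟨s, hs, hps⟩ := hex
  obtain ⟨p2, hp2def⟩ : ∃ p2, p2 = t * s * t⁻¹ * s := ⟨_, rfl⟩
  have hp2R : p2 ∈ R := by rw [hp2def]; exact R.mul_mem (hconjR t s hs) hs
  have hp2t : t * p2 * t⁻¹ = p2 := by rw [hp2def]; exact hp_fix s hs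
  have hc := hZ2 p1 hp1R s hs
  obtain ⟨c, hcdef⟩ : ∃ c, c = p1 * s * p1⁻¹ * s⁻¹ := ⟨_, rfl⟩
  rw [← hcdef] at hc
  have hc2 : p1 * (t * s * t⁻¹) * p1⁻¹ * (t * s * t⁻¹)⁻¹ = c := by
    have e1 : t * c * t⁻¹ = c := by rw [hcentZ c hc]; group
    have e2 : t * c * t⁻¹ =
        (t * p1 * t⁻¹) * (t * s * t⁻¹) * (t * p1 * t⁻¹)⁻¹ * (t * s * t⁻¹)⁻¹ := by
      rw [hcdef]; group
    rw [← e1, e2, hp1t]
  have hp12 : p1 * p2 ≠ p2 * p1 := by
    intro hcomm12
    have h1 : p1 * s * p1⁻¹ = c * s := by rw [hcdef]; group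
    have h2 : p1 * (t * s * t⁻¹) * p1⁻¹ = c * (t * s * t⁻¹) := by rw [← hc2]; group
    have h3 : p1 * p2 * p1⁻¹ = c * c * p2 := by
      have e : p1 * p2 * p1⁻¹ = (p1 * (t * s * t⁻¹) * p1⁻¹) * (p1 * s * p1⁻¹) := by
        rw [hp2def]; group
      rw [e, h1, h2, hp2def]
      have hcc := hc.2 (t * s * t⁻¹) (hconjR t s hs)
      calc c * (t * s * t⁻¹) * (c * s) = c * ((t * s * t⁻¹) * c) * s := by group
        _ = c * (c * (t * s * t⁻¹)) * s := by rw [← hcc]
        _ = c * c * (t * s * t⁻¹ * s) := by group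
    have h4 : p1 * p2 * p1⁻¹ = p2 := by rw [hcomm12]; group
    rw [h4] at h3
    have h5 : c * c = 1 := by
      have h6 : (c * c) * p2 = 1 * p2 := by rw [one_mul]; exact h3.symm
      exact mul_right_cancel h6
    have h6 := hcube c hc.1 h5
    apply hps
    have h7 : p1 * s * p1⁻¹ = s := by rw [h1, h6, one_mul]
    calc p1 * s = (p1 * s * p1⁻¹) * p1 := by group
      _ = s * p1 := by rw [h7]
  -- `⟨p1, p2⟩ = R`
  have hK_le : Subgroup.closure ({p1, p2} : Set X) ≤ R := by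
    rw [Subgroup.closure_le]
    intro x hx
    rcases hx with hx | hx
    · rw [hx]; exact hp1R
    · rw [Set.mem_singleton_iff.mp hx]; exact hp2R
  have hKcard : Nat.card (Subgroup.closure ({p1, p2} : Set X)) = 27 := by
    have hd : Nat.card (Subgroup.closure ({p1, p2} : Set X)) ∣ 27 := by
      rw [← hR27]; exact Subgroup.card_dvd_of_le hK_le
    by_contra hne
    have hd9 : Nat.card (Subgroup.closure ({p1, p2} : Set X)) ∣ 9 := by
      generalize Nat.card (Subgroup.closure ({p1, p2} : Set X)) = n at hd hne ⊢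
      have hle : n ≤ 27 := Nat.le_of_dvd (by norm_num) hd
      interval_cases n <;> first | omega | (simp at hd)
    have hcm := comm_of_card_dvd_nine hd9
      (⟨p1, Subgroup.subset_closure (Set.mem_insert _ _)⟩ : Subgroup.closure ({p1, p2} : Set X))
      ⟨p2, Subgroup.subset_closure (Set.mem_insert_of_mem _ rfl)⟩
    exact hp12 (congrArg Subtype.val hcm)
  have hKR : Subgroup.closure ({p1, p2} : Set X) = R :=
    Subgroup.eq_of_le_of_card_ge hK_le (by rw [hKcard, hR27])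
  apply hnotcent
  intro r hr
  have hle : Subgroup.closure ({p1, p2} : Set X) ≤ Subgroup.centralizer ({t} : Set X) := by
    rw [Subgroup.closure_le]
    intro x hx
    rw [SetLike.mem_coe, Subgroup.mem_centralizer_iff]
    intro h hh
    rw [Set.mem_singleton_iff.mp hh]
    rcases hx with hx | hx
    · rw [hx]
      calc t * p1 = (t * p1 * t⁻¹) * t := by group
        _ = p1 * t := by rw [hp1t]
    · rw [Set.mem_singleton_iff.mp hx]
      calc t * p2 = (t * p2 * t⁻¹) * t := by group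
        _ = p2 * t := by rw [hp2t]
  rw [← hKR] at hr
  exact Subgroup.mem_centralizer_iff.mp (hle hr) t (Set.mem_singleton t)

example : StInv.{u} := inv

end Cfsg.Agent.H80.PC
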