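import Mathlib
import Cfsg.Agent.H7.RTDefs0

/-!
# RT-NORMCENT (S2359, helper7): in a finite group whose 2-subgroups have order at most 4 and
which has no element of order 3, the normalizer of a four-group centralizes it
-/

set_option autoImplicit false

namespace Cfsg.Agent.H80.RT

open Cfsg.Agent.H7.RT

universe u

theorem normCent : StNormCent.{u} := by
  intro G _ _ V hV hexp h2 h3 n hn
  classical
  -- `V` is abelian
  have hVab : ∀ a ∈ V, ∀ b ∈ V, a * b = b * a := by
    intro a ha b hb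
    have h1 := hexp (a * b) (V.mul_mem ha hb)
    have ha2 := hexp a ha
    have hb2 := hexp b hb
    have e1 : a * b = a * (a * b * (a * b)) * b := by rw [h1, mul_one]
    have e2 : a * (a * b * (a * b)) * b = (a * a) * (b * a) * (b * b) := by group
    rw [e1, e2, ha2, hb2, one_mul, mul_one]
  -- conjugation by `n` as a permutation of `V`
  let f : ↥V → ↥V := fun v => ⟨n * (v : G) * n⁻¹, hn v v.2⟩
  have hfinj : Function.Injective f := by
    intro a b h
    have h1 : n * (a : G) * n⁻¹ = n * (b : G) * n⁻¹ := congrArg Subtype.val h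
    apply Subtype.ext
    exact mul_left_cancel (mul_right_cancel h1)
  let σ : Equiv.Perm ↥V := Equiv.ofBijective f (Finite.injective_iff_bijective.1 hfinj)
  have hσpow : ∀ k : ℕ, ∀ v : ↥V, (((σ ^ k) v : ↥V) : G) = n ^ k * (v : G) * (n ^ k)⁻¹ := by
    intro k
    induction k with
    | zero => intro v; simp
    | succ k ih =>
      intro v
      rw [pow_succ', Equiv.Perm.mul_apply]
      show n * (((σ ^ k) v : ↥V) : G) * n⁻¹ = _
      rw [ih, pow_succ']
      group
  have hσ24 : σ ^ 24 = 1 := by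
    have h1 : σ ^ Nat.card (Equiv.Perm ↥V) = 1 := pow_card_eq_one'
    rw [Nat.card_perm, hV] at h1
    exact h1
  have h24 : ∀ v ∈ V, n ^ 24 * v = v * n ^ 24 := by
    intro v hv
    have h1 := hσpow 24 ⟨v, hv⟩
    rw [hσ24] at h1
    have h2' : v = n ^ 24 * v * (n ^ 24)⁻¹ := h1
    calc n ^ 24 * v = (n ^ 24 * v * (n ^ 24)⁻¹) * n ^ 24 := by group
      _ = v * n ^ 24 := by rw [← h2']
  -- the order of `n`
  have ho : orderOf n ≠ 0 := (orderOf_pos n).ne'
  have h3o : ¬ 3 ∣ orderOf n := by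
    intro h
    exact h3 _ (orderOf_pow_orderOf_div ho h)
  obtain ⟨a, c, hc, hac⟩ := Nat.exists_eq_two_pow_mul_odd ho
  have hcdvd : c ∣ orderOf n := ⟨2 ^ a, by rw [hac, mul_comm]⟩
  have hc0 : c ≠ 0 := by
    rintro rfl
    simp at hc
  have h3c : ¬ 3 ∣ c := fun h => h3o (h.trans hcdvd)
  have hcop : Nat.Coprime c 24 := by
    have h1 : Nat.Coprime c 2 := Nat.Coprime.symm (Nat.coprime_two_left.2 hc)
    have h2' : Nat.Coprime c 3 :=
      Nat.Coprime.symm ((Nat.Prime.coprime_iff_not_dvd Nat.prime_three).2 h3c)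
    have h4 : (24 : ℕ) = 2 ^ 3 * 3 := by norm_num
    rw [h4]
    exact Nat.Coprime.mul_right (Nat.Coprime.pow_right 3 h1) h2'
  -- `n ^ c` is a 2-element normalizing `V`, so it lies in `V`
  have hnN : n ∈ Subgroup.normalizer (V : Set G) :=
    Subgroup.mem_normalizer_fintype (fun v hv => hn v hv)
  have hcV : n ^ c ∈ V := by
    have hord : orderOf (n ^ c) = 2 ^ a := by
      rw [orderOf_pow_of_dvd hc0 hcdvd, hac, Nat.mul_div_cancel _ (Nat.pos_of_ne_zero hc0)]
    have hpg : IsPGroup 2 (Subgroup.zpowers (n ^ c)) :=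
      IsPGroup.of_card (n := a) (by rw [Nat.card_zpowers, hord])
    have hVpg : IsPGroup 2 V := IsPGroup.of_card (n := 2) (by rw [hV]; norm_num)
    have hle : Subgroup.zpowers (n ^ c) ≤ Subgroup.normalizer (V : Set G) := by
      rw [Subgroup.zpowers_le]
      exact Subgroup.pow_mem _ hnN c
    have hT : IsPGroup 2 (Subgroup.zpowers (n ^ c) ⊔ V : Subgroup G) :=
      IsPGroup.to_sup_of_normal_right' hpg hVpg hle
    have hTcard := h2 _ hT
    have hVT : V = Subgroup.zpowers (n ^ c) ⊔ V :=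
      Subgroup.eq_of_le_of_card_ge le_sup_right (by rw [hV]; exact hTcard)
    rw [hVT]
    exact (le_sup_left : Subgroup.zpowers (n ^ c) ≤ _) (Subgroup.mem_zpowers _)
  -- Bezout
  have hcop' : IsCoprime (c : ℤ) (24 : ℤ) := by
    have := Nat.isCoprime_iff_coprime.2 hcop
    simpa using this
  obtain ⟨u, w, huw⟩ := hcop'
  intro v hv
  have hc1 : Commute (n ^ c) v := hVab _ hcV v hv
  have hc2 : Commute (n ^ 24) v := h24 v hv
  have hn1 : n = (n ^ c) ^ u * (n ^ 24) ^ w := by
    rw [← zpow_natCast n c, ← zpow_natCast n 24, ← zpow_mul, ← zpow_mul, ← zpow_add]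
    have e : (c : ℤ) * u + ((24 : ℕ) : ℤ) * w = 1 := by
      push_cast
      linarith
    rw [e, zpow_one]
  have hcomm : Commute ((n ^ c) ^ u * (n ^ 24) ^ w) v :=
    (hc1.zpow_left u).mul_left (hc2.zpow_left w)
  rw [hn1]
  exact hcomm.eq

example : Cfsg.Agent.H7.RT.StNormCent.{u} := Cfsg.Agent.H80.RT.normCent.{u}

end Cfsg.Agent.H80.RT
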