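import Cfsg.Agent.H44.SL2Sylow
import Cfsg.Agent.H7.RTDefs0
/-!
Team project S2359 (helper7), piece RT-SL2I (helper80): in `SL₂(q)`, `q ≡ 3 (mod 4)`, the
centralizer of a non-trivial element of odd order dividing `q + 1` contains an element of
square `-1`.
-/
set_option autoImplicit false
open Cfsg Cfsg.Agent.H7.RT Matrix

namespace Cfsg.Agent.H80.RT

universe u

theorem sl2I (hT : StSL2Tor.{u}) : StSL2I.{u} := by
  intro F _ _ hodd h4 t ht1 hoddt hdvd
  obtain ⟨hcyc, hcard⟩ := hT F hodd t ht1 hoddt hdvd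
  have h2 : (2 : F) ≠ 0 := Cfsg.Agent.H44.two_ne_zero_of_odd hodd
  obtain ⟨g, hg⟩ := hcyc.exists_generator
  have hord : orderOf g = Fintype.card F + 1 := by
    rw [orderOf_eq_card_of_forall_mem_zpowers hg, hcard]
  obtain ⟨k, hk⟩ := h4
  have hk0 : 0 < k := by omega
  have hi : orderOf (g ^ k) = 4 := by
    rw [orderOf_pow_of_dvd hk0.ne' ⟨4, by rw [hord, hk]; ring⟩, hord, hk]
    exact Nat.mul_div_cancel _ hk0
  have hi' : orderOf ((g ^ k : ↥(Subgroup.centralizer ({t} : Set (SpecialLinearGroup (Fin 2) F)))) :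
      SpecialLinearGroup (Fin 2) F) = 4 := by
    rw [Subgroup.orderOf_coe]; exact hi
  refine ⟨((g ^ k : ↥(Subgroup.centralizer ({t} : Set (SpecialLinearGroup (Fin 2) F)))) :
      SpecialLinearGroup (Fin 2) F), (g ^ k).2, ?_⟩
  generalize ((g ^ k : ↥(Subgroup.centralizer ({t} : Set (SpecialLinearGroup (Fin 2) F)))) :
      SpecialLinearGroup (Fin 2) F) = i at hi' ⊢
  have h1 : i ^ 4 = 1 := by rw [← hi']; exact pow_orderOf_eq_one i
  have hsq : (i * i) * (i * i) = 1 := by rw [← h1]; simp only [pow_succ, pow_zero, one_mul, mul_assoc]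
  rcases Cfsg.Agent.H65.SL2.eq_one_or_neg_one h2 (i * i) hsq with h | h
  · exfalso
    have hd : orderOf i ∣ 2 := orderOf_dvd_of_pow_eq_one (by rw [pow_two]; exact h)
    rw [hi'] at hd
    omega
  · exact h

example (hT : StSL2Tor.{u}) : StSL2I.{u} := sl2I hT

end Cfsg.Agent.H80.RT
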