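import Cfsg.Agent.H44.SL2Sylow
import Cfsg.Agent.H7.RTDefs0
/-!
Team project S2359 (helper7), piece RT-SL2TOR (helper80): in `SL₂(q)`, `q` odd, a non-trivial
element of odd order dividing `q + 1` has cyclic centralizer of order `q + 1`
(from helper44's torus library).
-/
set_option autoImplicit false
open Cfsg Cfsg.Agent.H7.RT Matrix

namespace Cfsg.Agent.H80.RT

universe u

theorem sl2Tor : StSL2Tor.{u} := by
  intro F _ _ hodd t ht1 hoddt hdvd
  obtain ⟨p, hp⟩ := CharP.exists F
  have hpp : Fact p.Prime := ⟨CharP.char_is_prime F p⟩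
  obtain ⟨n, -, hqn⟩ := FiniteField.card F p
  have hq1 : 1 < Fintype.card F := Fintype.one_lt_card
  have hone : orderOf t ≠ 1 := fun h => ht1 (orderOf_eq_one_iff.mp h)
  have hcop2 : Nat.Coprime (orderOf t) 2 := Nat.Coprime.symm (Nat.coprime_two_left.mpr hoddt)
  have htr : (t.1 0 0 + t.1 1 1) ^ 2 ≠ 4 := by
    intro h4
    have h2p := Cfsg.Agent.H65.SL2.pow_two_mul_char_eq_one p t h4
    have hd1 : orderOf t ∣ 2 * p := orderOf_dvd_of_pow_eq_one h2p
    have hd2 : orderOf t ∣ p := hcop2.dvd_of_dvd_mul_left hd1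
    have hd3 : orderOf t ∣ Fintype.card F := by
      rw [hqn]; exact hd2.trans (dvd_pow_self p n.ne_zero)
    have hd4 : orderOf t ∣ 1 := by
      have := Nat.dvd_sub hdvd hd3
      rwa [Nat.add_sub_cancel_left] at this
    exact hone (Nat.dvd_one.mp hd4)
  by_cases hell : Cfsg.Agent.H44.Elliptic (t : Matrix (Fin 2) (Fin 2) F)
  · exact ⟨Cfsg.Agent.H44.sl2_isCyclic_centralizer hodd t htr,
      Cfsg.Agent.H44.sl2_card_centralizer_elliptic hodd t hell⟩
  · exfalso
    have hc := Cfsg.Agent.H44.sl2_card_centralizer_split hodd t htr hell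
    have hmem : t ∈ Subgroup.centralizer ({t} : Set (SpecialLinearGroup (Fin 2) F)) :=
      Subgroup.mem_centralizer_iff.mpr (fun y hy => by rw [Set.mem_singleton_iff.mp hy])
    have hd1 : orderOf t ∣ Fintype.card F - 1 := by
      rw [← hc]; exact Subgroup.orderOf_dvd_natCard _ hmem
    have hd2 : orderOf t ∣ 2 := by
      have := Nat.dvd_sub hdvd hd1
      have e : Fintype.card F + 1 - (Fintype.card F - 1) = 2 := by omega
      rwa [e] at this
    have hd3 : orderOf t ∣ 1 := by
      have := hcop2.dvd_of_dvd_mul_left (show orderOf t ∣ 2 * 1 from by simpa using hd2)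
      exact this
    exact hone (Nat.dvd_one.mp hd3)

example : StSL2Tor.{u} := sl2Tor

end Cfsg.Agent.H80.RT
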