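import Cfsg.Agent.H80.NilFusion

set_option autoImplicit false
set_option linter.unusedSectionVars false
set_option linter.style.haveILetI false

/-!
# helper80: fully normalized pairs are receptive

* `exists_block_between`: the idempotent of `f` is a block idempotent of every subgroup between
  `Q C_G(Q)` and the stabilizer of `(Q, f)`.
* `exists_conj_le_of_maximal_down`: inside a subgroup `H`, every Brauer pair of a block is
  conjugate into a given maximal one (upstairs form).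
* `isMaximal_down_normalizer`: for a fully normalized pair `(Q, f) ≤ (P, e)`, the pair on `N_P(Q)`
  is a maximal pair of the block of `N_P(Q) C_G(Q)` with the idempotent of `f`.
* `isReceptive_blockFusion`: such a `Q` is receptive in the fusion system of the block.
-/

namespace Cfsg.Agent.H80

open Cfsg Cfsg.Agent.H20 Cfsg.Agent.H4

universe u

variable {G : Type u} [Group G] [Fintype G] {M : Ideal AlgInt}

section Main

variable (p : ℕ) [Fact p.Prime]

/-- The idempotent of `f` is a block idempotent of every subgroup `H` with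
`Q C_G(Q) ≤ H ≤ N_G(Q, f)`. -/
theorem exists_block_between (hM : IsPModular p M) {Q : Subgroup G}
    {f : Set (IrrCharacter (Subgroup.centralizer (Q : Set G)))} (hQf : IsBrauerPair p M Q f)
    (H : Subgroup G) (hQH : Q ≤ H) (hHN : H ≤ Subgroup.normalizer (Q : Set G))
    (hCH : Subgroup.centralizer (Q : Set G) ≤ H)
    (hstab : ∀ x ∈ H, StabilizesBlock (Subgroup.centralizer (Q : Set G)) f x) :
    ∃ F : Set (IrrCharacter H), IsPBlock M F ∧ ∀ t : H,
      blockCoeff F t = subgroupBlockCoeff (Subgroup.centralizer (Q : Set G)) f (t : G) := by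
  classical
  haveI : Fintype ↥(Subgroup.centralizer (Q : Set G)) := Fintype.ofFinite _
  haveI : Fintype ↥H := Fintype.ofFinite _
  obtain ⟨E, hE, hEelt⟩ := exists_block_of_stable_centralizer p hM Q H hQf.1 hQH hHN hCH hQf.2
    hstab
  refine ⟨E, hE, fun t => ?_⟩
  rw [← coeff_blockElt, hEelt, coeff_truncTo, subgroupBlockCoeff_eq]
  rfl

/-- Inside `H`: a Brauer pair of a block of `H` is `H`-conjugate below a given maximal one;
stated for the corresponding pairs of `G`. -/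
theorem exists_conj_le_of_maximal_down (hM : IsPModular p M) (H : Subgroup G)
    {F : Set (IrrCharacter H)} (as a' : BrauerPairIdx H)
    (hmaxs : IsMaximalBrauerPair p M F as.1 as.2)
    (hpair' : IsBrauerPairOf p M F a'.1 a'.2)
    (ha' : Subgroup.centralizer ((a'.1.map H.subtype : Subgroup G) : Set G) ≤ H) :
    ∃ t : H, Relation.ReflTransGen (NormalSubpairRel p M)
      (conjPair (t : G) (upPair H a')) (upPair H as) := by
  classical
  haveI : Fintype ↥H := Fintype.ofFinite _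
  obtain ⟨D₁, e₁, hmax₁, hle₁⟩ := exists_maximal_ge p _ a'.1 a'.2 hpair' rfl
  obtain ⟨as1, as2⟩ := as
  obtain ⟨t, ht⟩ := exists_conjPair_eq_of_maximal p hM hmaxs hmax₁
  have hle₁' : Relation.ReflTransGen (NormalSubpairRel p M) a' ⟨D₁, e₁⟩ := hle₁
  have h1 := subpairLE_up H p ha' hle₁'
  have h2 := subpairLE_conj p (t : G) h1
  have hD₁c : Subgroup.centralizer ((D₁.map H.subtype : Subgroup G) : Set G) ≤ H :=
    (Subgroup.centralizer_le (Subgroup.map_mono (subpairLE_le hle₁'))).trans ha'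
  rw [← conjPair_up H t ⟨D₁, e₁⟩ hD₁c, ht] at h2
  exact ⟨t, h2⟩

/-- For a fully normalized pair `(Qs, fs) ≤ (P, e)`: the pair on `N_P(Qs)` below `(P, e)`,
viewed in a subgroup `H` with `C_G(Qs) ≤ H ≤ N_G(Qs)`, is a maximal pair of its block. -/
theorem isMaximal_down_normalizer (hM : IsPModular p M) {B : Set (IrrCharacter G)}
    {P : Subgroup G} {e : Set (IrrCharacter (Subgroup.centralizer (P : Set G)))}
    (hmax : IsMaximalBrauerPair p M B P e)
    {Qs : Subgroup G} {fs : Set (IrrCharacter (Subgroup.centralizer (Qs : Set G)))}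
    (hles : SubpairLE p M Qs fs P e) (T : Subgroup G)
    (hT : ∀ y : G, y ∈ T ↔ y ∈ Subgroup.normalizer (Qs : Set G) ∧
      StabilizesBlock (Subgroup.centralizer (Qs : Set G)) fs y)
    {F' : Set (IrrCharacter T)} (hF' : IsPBlock M F')
    (hF'c : ∀ t : T, blockCoeff F' t
      = subgroupBlockCoeff (Subgroup.centralizer (Qs : Set G)) fs (t : G))
    (hD : IsDefectGroup p M F' ((P ⊓ Subgroup.normalizer (Qs : Set G)).subgroupOf T))
    (H : Subgroup G) (hHN : H ≤ Subgroup.normalizer (Qs : Set G))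
    (hCH : Subgroup.centralizer (Qs : Set G) ≤ H)
    {F'' : Set (IrrCharacter H)} (as : BrauerPairIdx H)
    {fN : Set (IrrCharacter (Subgroup.centralizer
      ((P ⊓ Subgroup.normalizer (Qs : Set G) : Subgroup G) : Set G)))}
    (hleN : SubpairLE p M (P ⊓ Subgroup.normalizer (Qs : Set G)) fN P e)
    (hup : upPair H as = ⟨P ⊓ Subgroup.normalizer (Qs : Set G), fN⟩)
    (hpair : IsBrauerPairOf p M F'' as.1 as.2) :
    IsMaximalBrauerPair p M F'' as.1 as.2 := by
  classical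
  have hPe : IsBrauerPair p M P e := hmax.1.1
  have hQsP : Qs ≤ P := subpairLE_le hles
  have hFsys := isBlockFusionSystemOn_blockFusion p hM hmax
  have hFN : (blockFusion p hM hmax.1.1).IsFullyNormalized Qs :=
    (fullyNormalized_iff p hM hFsys hles T hT).mpr ⟨F', hF', hF'c, hD⟩
  have hfst : as.1.map H.subtype = P ⊓ Subgroup.normalizer (Qs : Set G) :=
    congrArg Sigma.fst hup
  have has : Subgroup.centralizer ((as.1.map H.subtype : Subgroup G) : Set G) ≤ H := by
    rw [hfst]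
    exact (Subgroup.centralizer_le (le_inf hQsP Subgroup.le_normalizer)).trans hCH
  refine ⟨hpair, fun R₁ g₁ hR₁g₁ hle₁ => ?_⟩
  have hle₁' : Relation.ReflTransGen (NormalSubpairRel p M) as ⟨R₁, g₁⟩ := hle₁
  have h1 := subpairLE_up H p has hle₁'
  rw [hup] at h1
  have hBN : IsBrauerPairOf p M B (P ⊓ Subgroup.normalizer (Qs : Set G)) fN :=
    isBrauerPairOf_of_ge p hM (a := ⟨_, fN⟩) (b := ⟨P, e⟩) hmax.1 hleN
  have hBR : IsBrauerPairOf p M B (upPair H ⟨R₁, g₁⟩).1 (upPair H ⟨R₁, g₁⟩).2 :=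
    isBrauerPairOf_of_le p hM (a := ⟨_, fN⟩) hBN h1
  obtain ⟨z, hz⟩ := exists_conj_subpairLE p hM hmax hBR
  have hQN : Relation.ReflTransGen (NormalSubpairRel p M) (⟨Qs, fs⟩ : BrauerPairIdx G)
      ⟨P ⊓ Subgroup.normalizer (Qs : Set G), fN⟩ :=
    subpairLE_of_le_of_le p hM hPe hles hleN (le_inf hQsP Subgroup.le_normalizer)
  have hz' : Relation.ReflTransGen (NormalSubpairRel p M) (conjPair z ⟨Qs, fs⟩) ⟨P, e⟩ :=
    ((subpairLE_conj p z hQN).trans (subpairLE_conj p z h1)).trans hz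
  have hconj : (blockFusion p hM hmax.1.1).IsConj Qs (Qs.map (MulAut.conj z).toMonoidHom) :=
    (isConj_iff_of_blockFusion p hM hFsys hles _).mpr ⟨z, rfl, hz'⟩
  have hc : Nat.card ↥(P ⊓ Subgroup.normalizer
      ((Qs.map (MulAut.conj z).toMonoidHom : Subgroup G) : Set G))
      ≤ Nat.card ↥(P ⊓ Subgroup.normalizer (Qs : Set G)) := hFN.2 _ hconj
  have hR₁z : (R₁.map H.subtype).map (MulAut.conj z).toMonoidHom
      ≤ P ⊓ Subgroup.normalizer ((Qs.map (MulAut.conj z).toMonoidHom : Subgroup G) : Set G) := by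
    refine le_inf (subpairLE_le hz) ?_
    rintro _ ⟨y, ⟨y', hy', rfl⟩, rfl⟩
    rw [mem_normalizer_map_conj_iff]
    have h2 : z⁻¹ * ((MulAut.conj z).toMonoidHom (H.subtype y')) * z = (y' : G) := by
      show z⁻¹ * (z * (y' : G) * z⁻¹) * z = (y' : G)
      group
    rw [h2]
    exact hHN y'.2
  have hle : as.1 ≤ R₁ := subpairLE_le hle₁'
  have hcard : Nat.card R₁ ≤ Nat.card as.1 :=
    calc Nat.card R₁ = Nat.card ↥(R₁.map H.subtype) :=
          (Subgroup.card_map_of_injective H.subtype_injective).symm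
      _ = Nat.card ↥((R₁.map H.subtype).map (MulAut.conj z).toMonoidHom) :=
          (Subgroup.card_map_of_injective (MulEquiv.injective _)).symm
      _ ≤ Nat.card ↥(P ⊓ Subgroup.normalizer
            ((Qs.map (MulAut.conj z).toMonoidHom : Subgroup G) : Set G)) :=
          Subgroup.card_le_of_le hR₁z
      _ ≤ Nat.card ↥(P ⊓ Subgroup.normalizer (Qs : Set G)) := hc
      _ = Nat.card ↥(as.1.map H.subtype) := by rw [hfst]
      _ = Nat.card as.1 := Subgroup.card_map_of_injective H.subtype_injective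
  exact (Subgroup.eq_of_le_of_card_ge hle hcard).symm

/-- **Fully normalized pairs are receptive.** -/
theorem isReceptive_blockFusion (hM : IsPModular p M) {B : Set (IrrCharacter G)}
    {P : Subgroup G} {e : Set (IrrCharacter (Subgroup.centralizer (P : Set G)))}
    (hmax : IsMaximalBrauerPair p M B P e)
    {Qs : Subgroup G} {fs : Set (IrrCharacter (Subgroup.centralizer (Qs : Set G)))}
    (hles : SubpairLE p M Qs fs P e) (T : Subgroup G)
    (hT : ∀ y : G, y ∈ T ↔ y ∈ Subgroup.normalizer (Qs : Set G) ∧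
      StabilizesBlock (Subgroup.centralizer (Qs : Set G)) fs y)
    {F' : Set (IrrCharacter T)} (hF' : IsPBlock M F')
    (hF'c : ∀ t : T, blockCoeff F' t
      = subgroupBlockCoeff (Subgroup.centralizer (Qs : Set G)) fs (t : G))
    (hD : IsDefectGroup p M F' ((P ⊓ Subgroup.normalizer (Qs : Set G)).subgroupOf T)) :
    (blockFusion p hM hmax.1.1).IsReceptive Qs := by
  classical
  have hMp := isPrime_of_isPModular hM
  have hPe : IsBrauerPair p M P e := hmax.1.1
  have hQsP : Qs ≤ P := subpairLE_le hles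
  have hQsfs : IsBrauerPair p M Qs fs := isBrauerPair_of_subpairLE hles hPe
  have hCT : Subgroup.centralizer (Qs : Set G) ≤ T := fun c hc =>
    (hT c).mpr ⟨Subgroup.centralizer_le_normalizer _ hc, stabilizesBlock_of_mem _ _ hc⟩
  have hNT : P ⊓ Subgroup.normalizer (Qs : Set G) ≤ T := fun u hu =>
    (hT u).mpr ⟨hu.2, (stabilizes_of_inf_normalizer p hM hPe hles).1 u hu⟩
  -- the subgroup `H = N_P(Qs) C_G(Qs)` and its block
  obtain ⟨H, hH⟩ : ∃ H : Subgroup G, H = (P ⊓ Subgroup.normalizer (Qs : Set G))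
      ⊔ Subgroup.centralizer (Qs : Set G) := ⟨_, rfl⟩
  have hNH : P ⊓ Subgroup.normalizer (Qs : Set G) ≤ H := by rw [hH]; exact le_sup_left
  have hCH : Subgroup.centralizer (Qs : Set G) ≤ H := by rw [hH]; exact le_sup_right
  have hHT : H ≤ T := by rw [hH]; exact sup_le hNT hCT
  have hHN : H ≤ Subgroup.normalizer (Qs : Set G) := fun y hy => ((hT y).mp (hHT hy)).1
  have hQsH : Qs ≤ H := (le_inf hQsP Subgroup.le_normalizer).trans hNH
  obtain ⟨F'', hF'', hF''c⟩ := exists_block_between p hM hQsfs H hQsH hHN hCH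
    (fun y hy => ((hT y).mp (hHT hy)).2)
  -- the pair on `N_P(Qs)`
  obtain ⟨fN, hfN, hleN⟩ := exists_subpairLE hM P e hPe _
    (P ⊓ Subgroup.normalizer (Qs : Set G)) inf_le_left rfl
  have hnorms : IsNormalSubpair p M Qs fs (P ⊓ Subgroup.normalizer (Qs : Set G)) fN :=
    normalSubpair_of_le_of_le p hM hPe (le_inf hQsP Subgroup.le_normalizer) inf_le_right hles
      hleN
  obtain ⟨as, has1, has, hups, hpairs⟩ := exists_down_pair p H hF'' hF''c hCH hnorms hNH
  have hmaxs : IsMaximalBrauerPair p M F'' as.1 as.2 :=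
    isMaximal_down_normalizer p hM hmax hles T hT hF' hF'c hD H hHN hCH as hleN hups hpairs
  refine ⟨hQsP, fun R φ hφ hrange => ?_⟩
  obtain ⟨hRP, g₀, hφg, hg₀P, fR, hleR, hleR'⟩ := hφ
  have hmapR : R.map (MulAut.conj g₀).toMonoidHom = Qs := by
    rw [← range_of_conj φ g₀ hφg]; exact hrange
  obtain ⟨f'', hf''⟩ := exists_snd_of_fst_eq (conjPair g₀ ⟨R, fR⟩) hmapR
  have hleR'' : Relation.ReflTransGen (NormalSubpairRel p M) (conjPair g₀ ⟨R, fR⟩) ⟨P, e⟩ :=
    hleR'
  rw [hf''] at hleR''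
  have hff : f'' = fs := subpairLE_unique hM _ P e rfl hPe Qs f'' fs hleR'' hles
  rw [hff] at hf''
  -- the extender
  obtain ⟨X, hX⟩ : ∃ X : Subgroup G, X = FusionSystem.extender P R φ := ⟨_, rfl⟩
  have hXle : X ≤ P ⊓ Subgroup.normalizer (R : Set G) := by
    rw [hX]
    exact (Subgroup.closure_le _).mpr (fun g hg => ⟨hg.1, hg.2.1⟩)
  have hRX : R ≤ X := by
    intro x hx
    rw [hX]
    refine Subgroup.subset_closure ⟨hRP hx, Subgroup.le_normalizer hx, g₀ * x * g₀⁻¹,
      hg₀P (conj_mem_map_conj R g₀ hx), fun y hy => ?_⟩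
    rw [hφg, hφg]
    show g₀ * (x * (y : G) * x⁻¹) * g₀⁻¹ = _
    group
  have hXH : X.map (MulAut.conj g₀).toMonoidHom ≤ H := by
    rw [Subgroup.map_le_iff_le_comap, hX]
    refine (Subgroup.closure_le _).mpr ?_
    rintro g ⟨hgP, hgN, h, hhP, hh⟩
    show g₀ * g * g₀⁻¹ ∈ H
    have hcC : h⁻¹ * (g₀ * g * g₀⁻¹) ∈ Subgroup.centralizer (Qs : Set G) := by
      rw [Subgroup.mem_centralizer_iff]
      intro q hq
      rw [← hmapR] at hq
      obtain ⟨x, hx, rfl⟩ := hq
      have hx' : g * x * g⁻¹ ∈ R := (Subgroup.mem_normalizer_iff.mp hgN x).mp hx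
      have h1 := hh ⟨x, hx⟩ hx'
      rw [hφg, hφg] at h1
      have h1' : g₀ * (g * x * g⁻¹) * g₀⁻¹ = h * (g₀ * x * g₀⁻¹) * h⁻¹ := h1
      show g₀ * x * g₀⁻¹ * (h⁻¹ * (g₀ * g * g₀⁻¹)) = h⁻¹ * (g₀ * g * g₀⁻¹) * (g₀ * x * g₀⁻¹)
      have h2 : g₀ * x * g₀⁻¹ = h⁻¹ * (g₀ * (g * x * g⁻¹) * g₀⁻¹) * h := by rw [h1']; group
      calc g₀ * x * g₀⁻¹ * (h⁻¹ * (g₀ * g * g₀⁻¹))
          = h⁻¹ * (g₀ * (g * x * g⁻¹) * g₀⁻¹) * h * (h⁻¹ * (g₀ * g * g₀⁻¹)) := by rw [← h2]
        _ = h⁻¹ * (g₀ * g * g₀⁻¹) * (g₀ * x * g₀⁻¹) := by group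
    have hgN' : g₀ * g * g₀⁻¹ ∈ Subgroup.normalizer (Qs : Set G) := by
      rw [← hmapR, mem_normalizer_map_conj_iff]
      have h3 : g₀⁻¹ * (g₀ * g * g₀⁻¹) * g₀ = g := by group
      rw [h3]; exact hgN
    have hhN : h ∈ Subgroup.normalizer (Qs : Set G) := by
      have h3 : h = (g₀ * g * g₀⁻¹) * (h⁻¹ * (g₀ * g * g₀⁻¹))⁻¹ := by group
      rw [h3]
      exact mul_mem hgN' (inv_mem (Subgroup.centralizer_le_normalizer _ hcC))
    have h4 : g₀ * g * g₀⁻¹ = h * (h⁻¹ * (g₀ * g * g₀⁻¹)) := by group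
    rw [h4]
    exact mul_mem (hNH ⟨hhP, hhN⟩) (hCH hcC)
  -- the pair on `X`
  obtain ⟨fX, hfX, hleX⟩ := exists_subpairLE hM P e hPe _ X (hXle.trans inf_le_left) rfl
  have hnormR : IsNormalSubpair p M R fR X fX :=
    normalSubpair_of_le_of_le p hM hPe hRX (hXle.trans inf_le_right) hleR hleX
  obtain ⟨X', fX', hb⟩ : ∃ (X' : Subgroup G)
      (fX' : Set (IrrCharacter (Subgroup.centralizer (X' : Set G)))),
      conjPair g₀ ⟨X, fX⟩ = ⟨X', fX'⟩ := ⟨_, _, rfl⟩
  have hX'eq : X.map (MulAut.conj g₀).toMonoidHom = X' := congrArg Sigma.fst hb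
  have hnorm' : IsNormalSubpair p M Qs fs X' fX' := by
    have h1 : NormalSubpairRel p M (conjPair g₀ ⟨R, fR⟩) (conjPair g₀ ⟨X, fX⟩) :=
      isNormalSubpair_conj p g₀ hnormR
    rw [hf'', hb] at h1
    exact h1
  have hX'H : X' ≤ H := by rw [← hX'eq]; exact hXH
  obtain ⟨a', -, ha', hup', hpair'⟩ := exists_down_pair p H hF'' hF''c hCH hnorm' hX'H
  obtain ⟨t, ht⟩ := exists_conj_le_of_maximal_down p hM H as a' hmaxs hpair' ha'
  rw [hup', hups, ← hb, conjPair_mul] at ht
  -- `t = n * c`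
  have hNnorm : P ⊓ Subgroup.normalizer (Qs : Set G)
      ≤ Subgroup.normalizer ((Subgroup.centralizer (Qs : Set G) : Subgroup G) : Set G) :=
    fun n hn => normalizer_le_normalizer_centralizer Qs hn.2
  have htH : (t : G) ∈ (P ⊓ Subgroup.normalizer (Qs : Set G))
      ⊔ Subgroup.centralizer (Qs : Set G) := by
    rw [← hH]; exact t.2
  obtain ⟨n, hn, c, hc, htnc⟩ := exists_mul_of_mem_sup hNnorm htH
  have hcg : c * g₀ = n⁻¹ * ((t : G) * g₀) := by rw [htnc]; group
  have hlec : Relation.ReflTransGen (NormalSubpairRel p M) (conjPair (c * g₀) ⟨X, fX⟩)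
      ⟨P, e⟩ := by
    rw [hcg, ← conjPair_mul]
    have h1 := subpairLE_conj p n⁻¹ (ht.trans hleN)
    rw [conjPair_eq_of_stab hMp hPe.2 (Subgroup.le_normalizer (inv_mem hn.1))
      (stabilizesBlock_of_commute _ _
        (fun k hk => Subgroup.mem_centralizer_iff.mp hk n⁻¹ (inv_mem hn.1)))] at h1
    exact h1
  subst hX
  refine ⟨conjHom _ (c * g₀), ⟨hXle.trans inf_le_left, c * g₀, fun u => rfl,
    subpairLE_le hlec, fX, hleX, hlec⟩, fun x hP hN => ?_⟩
  rw [hφg]
  show c * g₀ * x * (c * g₀)⁻¹ = g₀ * x * g₀⁻¹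
  have h1 : g₀ * x * g₀⁻¹ ∈ Qs := by rw [← hmapR]; exact conj_mem_map_conj R g₀ hP
  have h2 := Subgroup.mem_centralizer_iff.mp hc _ h1
  calc c * g₀ * x * (c * g₀)⁻¹ = c * (g₀ * x * g₀⁻¹) * c⁻¹ := by group
    _ = (g₀ * x * g₀⁻¹) * c * c⁻¹ := by rw [← h2]
    _ = g₀ * x * g₀⁻¹ := by group

end Main

end Cfsg.Agent.H80
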