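import Mathlib
import Cfsg.Agent.H52.SoDefs
import Cfsg.Agent.H80.GroupBasic
/-!
Team project S2943 (helper52), piece SO-WID (helper80): `W_K = [V, K]` for a `J(T)`-component
`K ≤ L` not centralizing `V = Ω₁(Z(O₂(L)))`.

In `G`: `Q = O₂(L)`, `V = Ω₁(Z(Q))` (abelian of exponent 2, normalized by `L`), `O = O₂(K) ≤ Q`
of index 3 in `K`, so `k³ ∈ O` centralizes `V` for every `k ∈ K`.  For `v ∈ V`, `k ∈ K`, with
`a = v^k`, `b = a^k`: `[v, k] = v a = [a b, k]` and `a b ∈ V ∩ K ≤ Ω₁(Z(O))`; hence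
`[V, K] ≤ [Ω₁(Z(O)), K] = W_K`.  If `k` does not centralize `v`, then `1`, `v a`, `a b` are three
distinct elements of `[V, K]`, whose order divides `|W_K| = 4`.
-/
set_option autoImplicit false
open Cfsg
open scoped commutatorElement

namespace Cfsg.Agent.H80.Sn

open Cfsg.Agent.H52.Sn

universe u

theorem wid : StWid.{u} := by
  intro G _ _ T L K M hK hKL hF hOQ hKC
  obtain ⟨-, -, hK3, -, hW4, -⟩ := hK
  have hp2 : Fact (Nat.Prime 2) := ⟨Nat.prime_two⟩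
  have hQn : (pCore 2 ↥L).Normal := Cfsg.Agent.H80.pCore_normal 2 ↥L
  have hQp : IsPGroup 2 (pCore 2 ↥L) := Cfsg.Agent.H80.pCore_isPGroup 2 ↥L
  have hQK0 := hF.hQK
  clear hF
  obtain ⟨Q, hQdef⟩ : ∃ Q : Subgroup G, Q = pCoreOf 2 L := ⟨_, rfl⟩
  rw [← hQdef] at hKC ⊢
  obtain ⟨V, hVdef⟩ : ∃ V : Subgroup G, V = omegaCenterOf Q := ⟨_, rfl⟩
  rw [← hVdef] at hKC ⊢
  obtain ⟨O, hOdef⟩ : ∃ O : Subgroup G, O = pCoreOf 2 K := ⟨_, rfl⟩
  rw [← hOdef] at hOQ hK3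
  have hW : wOf K = ⁅omegaCenterOf O, K⁆ := by rw [hOdef]; rfl
  -- facts about `Q`
  have hQL : Q ≤ L := by rw [hQdef]; unfold pCoreOf; exact Subgroup.map_subtype_le _
  have hmemQ : ∀ x : ↥L, x ∈ pCore 2 ↥L ↔ (x : G) ∈ Q := by
    intro x
    rw [hQdef]; unfold pCoreOf
    constructor
    · intro hx; exact ⟨x, hx, rfl⟩
    · rintro ⟨y, hy, hyx⟩
      have e : y = x := Subtype.ext hyx
      rw [← e]; exact hy
  have hLQ : ∀ l ∈ L, ∀ q ∈ Q, l * q * l⁻¹ ∈ Q := by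
    intro l hl q hq
    have hq' : (⟨q, hQL hq⟩ : ↥L) ∈ pCore 2 ↥L := (hmemQ _).mpr hq
    have h := hQn.conj_mem _ hq' ⟨l, hl⟩
    exact (hmemQ _).mp h
  have hQ2 : IsPGroup 2 ↥Q := by rw [hQdef]; unfold pCoreOf; exact hQp.map _
  have hQK : ∀ q ∈ Q, ∀ k ∈ K, q * k * q⁻¹ ∈ K := by
    intro q hq k hk
    have hq' : (⟨q, hQL hq⟩ : ↥L) ∈ pCore 2 ↥L := (hmemQ _).mpr hq
    have hn := hQK0 hq'
    have h := (Subgroup.mem_normalizer_iff.mp hn ⟨k, hKL hk⟩).mp (Subgroup.mem_subgroupOf.mpr hk)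
    exact Subgroup.mem_subgroupOf.mp h
  -- facts about `V`
  have hVmem : ∀ v ∈ V, v ∈ Q ∧ v ∈ Subgroup.centralizer (Q : Set G) ∧ v * v = 1 := by
    intro v hv
    rw [hVdef] at hv
    unfold omegaCenterOf omegaOne at hv
    refine Subgroup.closure_induction
      (p := fun x _ => x ∈ Q ∧ x ∈ Subgroup.centralizer (Q : Set G) ∧ x * x = 1) ?_ ?_ ?_ ?_ hv
    · rintro x ⟨⟨hx1, hx2⟩, hx3⟩
      exact ⟨hx1, hx2, by rw [← pow_two]; exact hx3⟩
    · exact ⟨Q.one_mem, Subgroup.one_mem _, by simp⟩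
    · rintro x y _ _ ⟨hx1, hx2, hx3⟩ ⟨hy1, hy2, hy3⟩
      refine ⟨Q.mul_mem hx1 hy1, Subgroup.mul_mem _ hx2 hy2, ?_⟩
      have hc : y * x = x * y := Subgroup.mem_centralizer_iff.mp hx2 y hy1
      calc x * y * (x * y) = x * (y * x) * y := by group
        _ = x * (x * y) * y := by rw [hc]
        _ = (x * x) * (y * y) := by group
        _ = 1 := by rw [hx3, hy3, one_mul]
    · rintro x _ ⟨hx1, hx2, hx3⟩
      refine ⟨Q.inv_mem hx1, Subgroup.inv_mem _ hx2, ?_⟩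
      calc x⁻¹ * x⁻¹ = (x * x)⁻¹ := by group
        _ = 1 := by rw [hx3, inv_one]
  have hVmem' : ∀ v : G, v ∈ Q → v ∈ Subgroup.centralizer (Q : Set G) → v * v = 1 → v ∈ V := by
    intro v h1 h2 h3
    rw [hVdef]; unfold omegaCenterOf omegaOne
    exact Subgroup.subset_closure ⟨⟨h1, h2⟩, by rw [pow_two]; exact h3⟩
  have hLV : ∀ l ∈ L, ∀ v ∈ V, l * v * l⁻¹ ∈ V := by
    intro l hl v hv
    obtain ⟨h1, h2, h3⟩ := hVmem v hv
    refine hVmem' _ (hLQ l hl v h1) ?_ ?_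
    · rw [Subgroup.mem_centralizer_iff]
      intro q hq
      have hq' : l⁻¹ * q * l ∈ Q := by
        have h := hLQ l⁻¹ (L.inv_mem hl) q hq
        rwa [inv_inv] at h
      have hc := Subgroup.mem_centralizer_iff.mp h2 _ hq'
      calc q * (l * v * l⁻¹) = l * ((l⁻¹ * q * l) * v) * l⁻¹ := by group
        _ = l * (v * (l⁻¹ * q * l)) * l⁻¹ := by rw [hc]
        _ = l * v * l⁻¹ * q := by group
    · calc l * v * l⁻¹ * (l * v * l⁻¹) = l * (v * v) * l⁻¹ := by group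
        _ = 1 := by rw [h3]; group
  have hVcomm : ∀ a ∈ V, ∀ b ∈ V, a * b = b * a := by
    intro a ha b hb
    exact Subgroup.mem_centralizer_iff.mp (hVmem b hb).2.1 a (hVmem a ha).1
  have hVinv : ∀ a ∈ V, a⁻¹ = a := by
    intro a ha
    exact inv_eq_of_mul_eq_one_left (hVmem a ha).2.2
  have hVL : V ≤ L := fun v hv => hQL (hVmem v hv).1
  -- facts about `O`
  have hOK : O ≤ K := by rw [hOdef]; unfold pCoreOf; exact Subgroup.map_subtype_le _
  have hOQ' : O ≤ Q := by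
    intro o ho
    have h1 : (⟨o, hKL (hOK ho)⟩ : ↥L) ∈ O.subgroupOf L := Subgroup.mem_subgroupOf.mpr ho
    exact (hmemQ _).mp (hOQ h1)
  have hcube : ∀ k ∈ K, k ^ 3 ∈ O := by
    intro k hk
    have hn : (pCore 2 ↥K).Normal := Cfsg.Agent.H80.pCore_normal 2 ↥K
    have hidx : (pCore 2 ↥K).index = 3 := by
      have e : O.subgroupOf K = pCore 2 ↥K := by
        rw [hOdef]; unfold pCoreOf
        ext x
        rw [Subgroup.mem_subgroupOf]
        constructor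
        · rintro ⟨y, hy, hyx⟩
          have e' : y = x := Subtype.ext hyx
          rw [← e']; exact hy
        · intro hx; exact ⟨x, hx, rfl⟩
      have h3 : (O.subgroupOf K).index = 3 := hK3
      rw [e] at h3; exact h3
    have h := Subgroup.pow_index_mem (pCore 2 ↥K) (⟨k, hk⟩ : ↥K)
    rw [hidx] at h
    rw [hOdef]; unfold pCoreOf
    exact ⟨_, h, rfl⟩
  have hQKO : ∀ x ∈ Q, x ∈ K → x ∈ O := by
    intro x hxQ hxK
    have hN : ((Q ⊓ K).subgroupOf K).Normal := by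
      constructor
      intro n hn g
      rw [Subgroup.mem_subgroupOf] at hn ⊢
      show (g : G) * (n : G) * (g : G)⁻¹ ∈ Q ⊓ K
      exact ⟨hLQ _ (hKL g.2) _ hn.1, K.mul_mem (K.mul_mem g.2 n.2) (K.inv_mem g.2)⟩
    have hNp : IsPGroup 2 ↥((Q ⊓ K).subgroupOf K) := (hQ2.to_le inf_le_left).comap_subtype
    have hle := Cfsg.Agent.H80.le_pCore 2 _ hN hNp
    have hx' : (⟨x, hxK⟩ : ↥K) ∈ (Q ⊓ K).subgroupOf K :=
      Subgroup.mem_subgroupOf.mpr ⟨hxQ, hxK⟩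
    rw [hOdef]; unfold pCoreOf
    exact ⟨_, hle hx', rfl⟩
  have hZmem : ∀ z : G, z ∈ O → z ∈ Subgroup.centralizer (O : Set G) → z * z = 1 →
      z ∈ omegaCenterOf O := by
    intro z h1 h2 h3
    unfold omegaCenterOf omegaOne
    exact Subgroup.subset_closure ⟨⟨h1, h2⟩, by rw [pow_two]; exact h3⟩
  have hVO : ∀ v ∈ V, v ∈ Subgroup.centralizer (O : Set G) := by
    intro v hv
    rw [Subgroup.mem_centralizer_iff]
    intro o ho
    exact Subgroup.mem_centralizer_iff.mp (hVmem v hv).2.1 o (hOQ' ho)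
  -- `k³` centralizes `V`
  have hkey : ∀ v ∈ V, ∀ k ∈ K, k * (k * (k * v * k⁻¹) * k⁻¹) * k⁻¹ = v := by
    intro v hv k hk
    have h3 : k * k * k ∈ Q := by
      have h := hOQ' (hcube k hk)
      have e : k ^ 3 = k * k * k := by rw [pow_succ, pow_two]
      rwa [e] at h
    have hc := Subgroup.mem_centralizer_iff.mp (hVmem v hv).2.1 _ h3
    calc k * (k * (k * v * k⁻¹) * k⁻¹) * k⁻¹ = (k * k * k * v) * (k * k * k)⁻¹ := by group
      _ = v * (k * k * k) * (k * k * k)⁻¹ := by rw [hc]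
      _ = v := by group
  -- upper bound
  have hle : ⁅V, K⁆ ≤ wOf K := by
    rw [Subgroup.commutator_le]
    intro v hv k hk
    have hkL : k ∈ L := hKL hk
    have ha : k * v * k⁻¹ ∈ V := hLV k hkL v hv
    obtain ⟨a, hadef⟩ : ∃ a, a = k * v * k⁻¹ := ⟨_, rfl⟩
    rw [← hadef] at ha
    have hb : k * a * k⁻¹ ∈ V := hLV k hkL a ha
    obtain ⟨b, hbdef⟩ : ∃ b, b = k * a * k⁻¹ := ⟨_, rfl⟩
    rw [← hbdef] at hb
    have hc : k * b * k⁻¹ = v := by rw [hbdef, hadef]; exact hkey v hv k hk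
    have hw : ⁅v, k⁆ = v * a := by
      rw [commutatorElement_def, hVinv v hv, hadef]; group
    have hzV : a * b ∈ V := V.mul_mem ha hb
    have hwK : v * a ∈ K := by
      have h1 : v * k * v⁻¹ ∈ K := hQK v (hVmem v hv).1 k hk
      have e : v * a = (v * k * v⁻¹) * k⁻¹ := by rw [hadef, hVinv v hv]; group
      rw [e]; exact K.mul_mem h1 (K.inv_mem hk)
    have hzK : a * b ∈ K := by
      have e : a * b = k * (v * a) * k⁻¹ := by rw [hbdef, hadef]; group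
      rw [e]; exact K.mul_mem (K.mul_mem hk hwK) (K.inv_mem hk)
    have hzZ : a * b ∈ omegaCenterOf O :=
      hZmem _ (hQKO _ (hVmem _ hzV).1 hzK) (hVO _ hzV) (hVmem _ hzV).2.2
    have hcomm : ⁅a * b, k⁆ = v * a := by
      rw [commutatorElement_def]
      have e0 : k * (a * b) * k⁻¹ = b * v := by
        calc k * (a * b) * k⁻¹ = (k * a * k⁻¹) * (k * b * k⁻¹) := by group
          _ = b * v := by rw [← hbdef, hc]
      have e1 : k * (a * b)⁻¹ * k⁻¹ = (b * v)⁻¹ := by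
        calc k * (a * b)⁻¹ * k⁻¹ = (k * (a * b) * k⁻¹)⁻¹ := by group
          _ = (b * v)⁻¹ := by rw [e0]
      calc a * b * k * (a * b)⁻¹ * k⁻¹ = a * b * (k * (a * b)⁻¹ * k⁻¹) := by group
        _ = a * b * (v * b) := by rw [e1, mul_inv_rev, hVinv v hv, hVinv b hb]
        _ = a * (b * v) * b := by group
        _ = a * (v * b) * b := by rw [hVcomm b hb v hv]
        _ = a * v * (b * b) := by group
        _ = a * v := by rw [(hVmem b hb).2.2, mul_one]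
        _ = v * a := hVcomm a ha v hv
    rw [hw, ← hcomm, hW]
    exact Subgroup.commutator_mem_commutator hzZ hk
  -- lower bound
  obtain ⟨k0, hk0, v0, hv0, hne⟩ : ∃ k ∈ K, ∃ v ∈ V, k * v ≠ v * k := by
    by_contra hcon
    push Not at hcon
    apply hKC
    intro k' hk'
    rw [Subgroup.mem_centralizer_iff]
    intro v' hv'
    have h1 : (k' : G) ∈ K := Subgroup.mem_subgroupOf.mp hk'
    have h2 : (v' : G) ∈ V := Subgroup.mem_subgroupOf.mp hv'
    apply Subtype.ext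
    show (v' : G) * (k' : G) = (k' : G) * (v' : G)
    exact (hcon _ h1 _ h2).symm
  have ha0 : k0 * v0 * k0⁻¹ ∈ V := hLV k0 (hKL hk0) v0 hv0
  obtain ⟨a0, ha0def⟩ : ∃ a, a = k0 * v0 * k0⁻¹ := ⟨_, rfl⟩
  rw [← ha0def] at ha0
  have hb0 : k0 * a0 * k0⁻¹ ∈ V := hLV k0 (hKL hk0) a0 ha0
  obtain ⟨b0, hb0def⟩ : ∃ b, b = k0 * a0 * k0⁻¹ := ⟨_, rfl⟩
  rw [← hb0def] at hb0
  have hc0 : k0 * b0 * k0⁻¹ = v0 := by rw [hb0def, ha0def]; exact hkey v0 hv0 k0 hk0
  have hav : a0 ≠ v0 := by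
    intro h
    apply hne
    calc k0 * v0 = (k0 * v0 * k0⁻¹) * k0 := by group
      _ = v0 * k0 := by rw [← ha0def, h]
  have hw1 : v0 * a0 ∈ ⁅V, K⁆ := by
    have e : ⁅v0, k0⁆ = v0 * a0 := by
      rw [commutatorElement_def, hVinv v0 hv0, ha0def]; group
    rw [← e]; exact Subgroup.commutator_mem_commutator hv0 hk0
  have hw2 : a0 * b0 ∈ ⁅V, K⁆ := by
    have e : ⁅a0, k0⁆ = a0 * b0 := by
      rw [commutatorElement_def, hVinv a0 ha0, hb0def]; group
    rw [← e]; exact Subgroup.commutator_mem_commutator ha0 hk0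
  have hne1 : v0 * a0 ≠ 1 := by
    intro h
    apply hav
    have e : a0 = v0⁻¹ := eq_inv_of_mul_eq_one_right h
    rw [e, hVinv v0 hv0]
  have hne2 : a0 * b0 ≠ 1 := by
    intro h
    have hb : b0 = a0 := by
      have e : b0 = a0⁻¹ := eq_inv_of_mul_eq_one_right h
      rw [e, hVinv a0 ha0]
    apply hav
    calc a0 = b0 := hb.symm
      _ = k0 * a0 * k0⁻¹ := hb0def
      _ = k0 * b0 * k0⁻¹ := by rw [hb]
      _ = v0 := hc0
  have hne3 : v0 * a0 ≠ a0 * b0 := by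
    intro h
    have hvb : v0 = b0 := by
      have h' : v0 * a0 = b0 * a0 := by rw [h, hVcomm a0 ha0 b0 hb0]
      exact mul_right_cancel h'
    apply hav
    calc a0 = k0 * v0 * k0⁻¹ := ha0def
      _ = k0 * b0 * k0⁻¹ := by rw [← hvb]
      _ = v0 := hc0
  have hdvd : Nat.card ↥⁅V, K⁆ ∣ 4 := by rw [← hW4]; exact Subgroup.card_dvd_of_le hle
  have hcard : Nat.card ↥⁅V, K⁆ = 4 := by
    have hle4 : Nat.card ↥⁅V, K⁆ ≤ 4 := Nat.le_of_dvd (by norm_num) hdvd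
    have hpos : 0 < Nat.card ↥⁅V, K⁆ := Nat.card_pos
    have hcases : Nat.card ↥⁅V, K⁆ = 1 ∨ Nat.card ↥⁅V, K⁆ = 2 ∨ Nat.card ↥⁅V, K⁆ = 4 := by
      generalize Nat.card ↥⁅V, K⁆ = n at hdvd hle4 hpos ⊢
      interval_cases n <;> omega
    rcases hcases with h1 | h2 | h4
    · exfalso
      have hbot := Subgroup.eq_bot_of_card_eq _ h1
      rw [hbot, Subgroup.mem_bot] at hw1
      exact hne1 hw1
    · exfalso
      obtain ⟨y, -, huniq⟩ := (Nat.card_eq_two_iff' (1 : ↥⁅V, K⁆)).mp h2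
      have e1 := huniq ⟨v0 * a0, hw1⟩ (fun h => hne1 (congrArg Subtype.val h))
      have e2 := huniq ⟨a0 * b0, hw2⟩ (fun h => hne2 (congrArg Subtype.val h))
      exact hne3 (congrArg Subtype.val (e1.trans e2.symm))
    · exact h4
  have hWeq : ⁅V, K⁆ = wOf K := Subgroup.eq_of_le_of_card_ge hle (by rw [hW4, hcard])
  rw [Subgroup.map_commutator, Subgroup.map_subgroupOf_eq_of_le hVL,
    Subgroup.map_subgroupOf_eq_of_le hKL]
  exact hWeq

example : StWid.{u} := wid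

end Cfsg.Agent.H80.Sn
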