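import Cfsg.Agent.H80.Subpair
import Cfsg.Agent.S4653

set_option autoImplicit false
set_option linter.unusedSectionVars false
set_option linter.style.haveILetI false

/-!
# helper80: a stable block of `C` as a block of a subgroup `T ⊇ C`

* `incl h : ℂ[C] →+* ℂ[T]` for subgroups `C ≤ T` of `G`, `incl_eq : incl h w = truncTo T (extZero C w)`.
* `exists_block_of_stable`: if every element of `T` stabilizes the block `e` of `C ≤ T` and every
  block idempotent of `T` is supported on `C`, then the idempotent of `e` is the idempotent of a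
  block of `T`.
* `exists_block_of_stable_centralizer`: the case `C = C_G(P)`, `P` a `p`-subgroup with
  `P ≤ T ≤ N_G(P)`.
-/

namespace Cfsg.Agent.H80

open Cfsg Cfsg.Agent.H20 Cfsg.Agent.H4

universe u

variable {G : Type u} [Group G] [Fintype G] {M : Ideal AlgInt}

/-- The inclusion of group algebras for subgroups `C ≤ T`. -/
noncomputable def incl {C T : Subgroup G} (h : C ≤ T) : MonoidAlgebra ℂ C →+* MonoidAlgebra ℂ T :=
  MonoidAlgebra.mapDomainRingHom ℂ (Subgroup.inclusion h)

theorem coeff_incl_of_mem {C T : Subgroup G} (h : C ≤ T) (w : MonoidAlgebra ℂ C) (t : T)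
    (ht : (t : G) ∈ C) : (incl h w).coeff t = w.coeff ⟨(t : G), ht⟩ := by
  have e : t = Subgroup.inclusion h ⟨(t : G), ht⟩ := Subtype.ext rfl
  show (MonoidAlgebra.mapDomain (Subgroup.inclusion h) w).coeff t = _
  rw [MonoidAlgebra.coeff_mapDomain]
  conv_lhs => rw [e]
  rw [Finsupp.mapDomain_apply (Subgroup.inclusion_injective h)]

theorem coeff_incl_of_not_mem {C T : Subgroup G} (h : C ≤ T) (w : MonoidAlgebra ℂ C) (t : T)
    (ht : (t : G) ∉ C) : (incl h w).coeff t = 0 := by
  show (MonoidAlgebra.mapDomain (Subgroup.inclusion h) w).coeff t = _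
  rw [MonoidAlgebra.coeff_mapDomain]
  apply Finsupp.mapDomain_of_notMem_range
  rintro ⟨c, rfl⟩
  exact ht c.2

theorem incl_eq {C T : Subgroup G} (h : C ≤ T) (w : MonoidAlgebra ℂ C) :
    incl h w = truncTo T (extZero C w) := by
  apply MonoidAlgebra.coeff_injective
  ext t
  rw [coeff_truncTo]
  by_cases ht : (t : G) ∈ C
  · rw [coeff_incl_of_mem h w t ht]
    exact (coeff_extZero_coe C w ⟨(t : G), ht⟩).symm
  · rw [coeff_incl_of_not_mem h w t ht, coeff_extZero_of_not_mem C w ht]

theorem incl_injective {C T : Subgroup G} (h : C ≤ T) : Function.Injective (incl h) := by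
  intro w w' hw
  apply MonoidAlgebra.coeff_injective
  ext c
  have h1 := coeff_incl_of_mem h w ⟨(c : G), h c.2⟩ c.2
  have h2 := coeff_incl_of_mem h w' ⟨(c : G), h c.2⟩ c.2
  rw [hw] at h1
  exact h1.symm.trans h2

theorem eq_zero_or_one_of_mul_self {x : ℂ} (h : x = x * x) : x = 0 ∨ x = 1 := by
  by_cases hx : x = 0
  · exact Or.inl hx
  · right
    have h' : x * 1 = x * x := by rw [mul_one]; exact h
    exact (mul_left_cancel₀ hx h').symm

open scoped Classical in
/-- If every element of `T` stabilizes the block `e` of `C ≤ T` and every block idempotent of `T`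
is supported on `C`, then the idempotent of `e` is the idempotent of a block of `T`. -/
theorem exists_block_of_stable (hM : M.IsPrime) (C T : Subgroup G) [Fintype C] [Fintype T]
    (hCT : C ≤ T) {e : Set (IrrCharacter C)} (he : IsPBlock M e)
    (hstab : ∀ x ∈ T, StabilizesBlock C e x)
    (hsupp : ∀ E₀ : Set (IrrCharacter T), IsPBlock M E₀ → ∀ t : T, (t : G) ∉ C →
      blockCoeff E₀ t = 0) :
    ∃ E : Set (IrrCharacter T), IsPBlock M E ∧ blockElt E = truncTo T (zB C e) := by
  obtain ⟨εT, hεT⟩ : ∃ εT : MonoidAlgebra ℂ T, εT = truncTo T (zB C e) := ⟨_, rfl⟩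
  have hεincl : εT = incl hCT (blockElt e) := by rw [hεT, incl_eq]; rfl
  have hεcf : εT ∈ cfSubring T (localRing M hM) := by
    rw [hεT]
    exact truncTo_mem_cfSubring ⟨isInv_zB_of_stab C hM he T hstab, coeff_zB_memLocalRing C hM he⟩
  have hεidem : εT * εT = εT := by rw [hεincl, ← map_mul, blockElt_mul_self]
  have h01 : ∀ ψ : IrrCharacter T, omega ψ.1 εT = 0 ∨ omega ψ.1 εT = 1 := by
    intro ψ
    have := omega_mul ψ hεcf.1 εT
    rw [hεidem] at this
    exact eq_zero_or_one_of_mul_self this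
  obtain ⟨E, hEdef⟩ : ∃ E : Set (IrrCharacter T), E = {ψ | omega ψ.1 εT = 1} := ⟨_, rfl⟩
  have hE : εT = blockElt E := by
    apply eq_blockElt_of_omega hεcf.1 E
    intro ψ
    by_cases hψ : ψ ∈ E
    · rw [if_pos hψ]
      rw [hEdef] at hψ
      exact hψ
    · rw [if_neg hψ]
      rw [hEdef] at hψ
      exact (h01 ψ).resolve_right hψ
  have hene : blockElt e ≠ 0 := by
    obtain ⟨χ, rfl⟩ := he
    intro h
    have h1 := omega_blockElt (blockOf M χ.1) χ
    rw [if_pos (mem_blockOf_self hM χ), h, omega_zero] at h1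
    exact zero_ne_one h1
  have hne : εT ≠ 0 := by
    rw [hεincl]
    intro h
    exact hene (incl_injective hCT (by rw [h, map_zero]))
  obtain ⟨ψ₀, hψ₀⟩ : ∃ ψ₀ : IrrCharacter T, ψ₀ ∈ E := by
    by_contra hcon
    push Not at hcon
    have : E = ∅ := Set.eq_empty_of_forall_notMem hcon
    rw [this, blockElt_empty] at hE
    exact hne hE
  have hψ₀1 : omega ψ₀.1 εT = 1 := by rw [hEdef] at hψ₀; exact hψ₀
  have hsub : blockOf M ψ₀.1 ⊆ E := by
    intro ψ hψ
    have h := omega_sub_omega_memLocalIdeal hM ψ₀.1 ψ.1 (irr_isClassFunction _)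
      (irr_isClassFunction _) hψ hεcf
    rcases h01 ψ with h0 | h1
    · rw [hψ₀1, h0, sub_zero] at h
      exact absurd h (not_memLocalIdeal_one hM)
    · rw [hEdef]; exact h1
  have hE₀ : IsPBlock M (blockOf M ψ₀.1) := ⟨ψ₀, rfl⟩
  obtain ⟨β, hβ⟩ : ∃ β : MonoidAlgebra ℂ C,
      β = truncTo C (extZero T (blockElt (blockOf M ψ₀.1))) := ⟨_, rfl⟩
  have hinclβ : incl hCT β = blockElt (blockOf M ψ₀.1) := by
    apply MonoidAlgebra.coeff_injective
    ext t
    by_cases ht : (t : G) ∈ C
    · rw [coeff_incl_of_mem hCT β t ht, hβ, coeff_truncTo]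
      exact coeff_extZero_coe T _ t
    · rw [coeff_incl_of_not_mem hCT β t ht, coeff_blockElt, hsupp _ hE₀ t ht]
  have hβcf : β ∈ cfSubring C (localRing M hM) := by
    rw [hβ]
    apply truncTo_mem_cfSubring
    refine ⟨isInv_mono hCT (isInv_extZero (isCF_blockElt _)), fun g => ?_⟩
    exact coeff_extZero_mem_of T _ (localRing M hM).toAddSubgroup
      (fun t => (blockElt_mem hM ψ₀).2 t) g
  have hββ : β * β = β := incl_injective hCT (by rw [map_mul, hinclβ, blockElt_mul_self])
  have hβe : β * blockElt e = β := incl_injective hCT (by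
    rw [map_mul, hinclβ, ← hεincl, hE, blockElt_mul_blockElt, Set.inter_eq_left.mpr hsub])
  have hβ01 : ∀ θ : IrrCharacter C, omega θ.1 β = 0 ∨ omega θ.1 β = 1 := by
    intro θ
    have := omega_mul θ hβcf.1 β
    rw [hββ] at this
    exact eq_zero_or_one_of_mul_self this
  have hβoff : ∀ θ : IrrCharacter C, θ ∉ e → omega θ.1 β = 0 := by
    intro θ hθ
    have := omega_mul θ hβcf.1 (blockElt e)
    rw [hβe, omega_blockElt, if_neg hθ, mul_zero] at this
    exact this
  have hβne : β ≠ 0 := by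
    intro h
    rw [h, map_zero] at hinclβ
    have h1 := omega_blockElt (blockOf M ψ₀.1) ψ₀
    rw [if_pos (mem_blockOf_self hM ψ₀), ← hinclβ, omega_zero] at h1
    exact zero_ne_one h1
  obtain ⟨θ₁, hθ₁⟩ : ∃ θ₁ : IrrCharacter C, omega θ₁.1 β ≠ 0 := by
    by_contra hcon
    push Not at hcon
    exact hβne (eq_of_omega_eq hβcf.1 isCF_zero (fun θ => by rw [hcon θ, omega_zero]))
  have hθ₁e : θ₁ ∈ e := by
    by_contra h
    exact hθ₁ (hβoff θ₁ h)
  have hθ₁1 : omega θ₁.1 β = 1 := (hβ01 θ₁).resolve_left hθ₁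
  have hβon : ∀ θ : IrrCharacter C, θ ∈ e → omega θ.1 β = 1 := by
    intro θ hθ
    obtain ⟨χ, rfl⟩ := he
    have hsb : SameBlock M θ₁.1 θ.1 := sameBlock_trans hM (sameBlock_symm hθ₁e) hθ
    have h := omega_sub_omega_memLocalIdeal hM θ₁.1 θ.1 (irr_isClassFunction _)
      (irr_isClassFunction _) hsb hβcf
    rcases hβ01 θ with h0 | h1
    · rw [hθ₁1, h0, sub_zero] at h
      exact absurd h (not_memLocalIdeal_one hM)
    · exact h1
  have hβeq : β = blockElt e := by
    apply eq_blockElt_of_omega hβcf.1 e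
    intro θ
    by_cases hθ : θ ∈ e
    · rw [if_pos hθ]; exact hβon θ hθ
    · rw [if_neg hθ]; exact hβoff θ hθ
  have hEE₀ : blockElt (blockOf M ψ₀.1) = blockElt E := by rw [← hinclβ, hβeq, ← hεincl, hE]
  have hEeq : blockOf M ψ₀.1 = E := by
    ext ψ
    have h1 := omega_blockElt (blockOf M ψ₀.1) ψ
    have h2 := omega_blockElt E ψ
    rw [hEE₀, h2] at h1
    by_cases ha : ψ ∈ blockOf M ψ₀.1 <;> by_cases hb : ψ ∈ E <;> simp [ha, hb] at h1 ⊢
  exact ⟨E, hEeq ▸ hE₀, hE.symm.trans hεT⟩

/-- The case `C = C_G(P)` for a `p`-subgroup `P` with `P ≤ T ≤ N_G(P)` and `C_G(P) ≤ T`. -/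
theorem exists_block_of_stable_centralizer (p : ℕ) [Fact p.Prime] (hM : IsPModular p M)
    (P T : Subgroup G) [Fintype (Subgroup.centralizer (P : Set G))] [Fintype T]
    (hP : IsPGroup p P) (hPT : P ≤ T) (hTN : T ≤ Subgroup.normalizer (P : Set G))
    (hCT : Subgroup.centralizer (P : Set G) ≤ T)
    {e : Set (IrrCharacter (Subgroup.centralizer (P : Set G)))} (he : IsPBlock M e)
    (hstab : ∀ x ∈ T, StabilizesBlock (Subgroup.centralizer (P : Set G)) e x) :
    ∃ E : Set (IrrCharacter T), IsPBlock M E ∧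
      blockElt E = truncTo T (zB (Subgroup.centralizer (P : Set G)) e) := by
  have hMp := isPrime_of_isPModular hM
  apply exists_block_of_stable hMp _ T hCT he hstab
  intro E₀ hE₀ t ht
  haveI : (P.subgroupOf T).Normal := Subgroup.normal_subgroupOf_of_le_normalizer hTN
  apply Cfsg.Agent.S4653.result p M hM (P.subgroupOf T) (IsPGroup.comap_subtype hP) E₀ hE₀ t
  intro htc
  apply ht
  rw [Subgroup.mem_centralizer_iff] at htc ⊢
  intro x hx
  have := htc ⟨x, hPT hx⟩ (Subgroup.mem_subgroupOf.mpr hx)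
  exact congrArg Subtype.val this

/-! ### Elements that stabilize every block -/

theorem stabilizesBlock_of_mem (K : Subgroup G) (f : Set (IrrCharacter K)) {x : G} (hx : x ∈ K) :
    StabilizesBlock K f x := by
  refine ⟨Subgroup.le_normalizer hx, fun χ hχ => ⟨χ, hχ, ?_⟩⟩
  intro k k' hk
  have e : k' = ⟨x, hx⟩ * k * ⟨x, hx⟩⁻¹ := Subtype.ext hk
  rw [e]
  exact irr_isClassFunction χ k ⟨x, hx⟩

theorem stabilizesBlock_of_commute (K : Subgroup G) (f : Set (IrrCharacter K)) {x : G}
    (hx : ∀ k ∈ K, x * k = k * x) : StabilizesBlock K f x := by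
  have hconj : ∀ k ∈ K, x * k * x⁻¹ = k := fun k hk => by rw [hx k hk, mul_inv_cancel_right]
  refine ⟨?_, fun χ hχ => ⟨χ, hχ, ?_⟩⟩
  · rw [Subgroup.mem_normalizer_iff]
    intro h
    constructor
    · intro hh
      rw [hconj h hh]; exact hh
    · intro hh
      have h1 := hconj _ hh
      have h2 : h = x * h * x⁻¹ := by
        have : x⁻¹ * (x * (x * h * x⁻¹) * x⁻¹) * x = x⁻¹ * (x * h * x⁻¹) * x := by rw [h1]
        have e1 : x⁻¹ * (x * (x * h * x⁻¹) * x⁻¹) * x = x * h * x⁻¹ := by group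
        have e2 : x⁻¹ * (x * h * x⁻¹) * x = h := by group
        rw [e1, e2] at this
        exact this.symm
      rw [h2]; exact hh
  · intro k k' hk
    have e : k' = k := Subtype.ext (by rw [hk, hconj k k.2])
    rw [e]

/-! ### Unions of blocks -/

theorem extZero_smul (K : Subgroup G) (c : ℂ) (w : MonoidAlgebra ℂ K) :
    extZero K (c • w) = c • extZero K w := by
  apply MonoidAlgebra.coeff_injective
  ext g
  rw [MonoidAlgebra.coeff_smul, Finsupp.smul_apply]
  by_cases hg : g ∈ K
  · have h1 := coeff_extZero_coe K (c • w) ⟨g, hg⟩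
    have h2 := coeff_extZero_coe K w ⟨g, hg⟩
    simp only at h1 h2
    rw [h1, h2, MonoidAlgebra.coeff_smul, Finsupp.smul_apply]
  · rw [coeff_extZero_of_not_mem K _ hg, coeff_extZero_of_not_mem K _ hg, smul_zero]

open scoped Classical in
/-- The idempotent of a union of blocks has local coefficients. -/
theorem blockElt_mem_of_union (hM : M.IsPrime) (O : Set (IrrCharacter G))
    (hO : ∀ θ ∈ O, blockOf M θ.1 ⊆ O) : blockElt O ∈ cfSubring G (localRing M hM) := by
  have key : blockElt O = ∑ f ∈ (blocksFinset M G).filter (fun f => f ⊆ O), blockElt f := by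
    symm
    have hcf : (∑ f ∈ (blocksFinset M G).filter (fun f => f ⊆ O), blockElt f)
        ∈ cfSubring G (localRing M hM) := by
      apply Subring.sum_mem
      intro f hf
      obtain ⟨χ, rfl⟩ := mem_blocksFinset.mp (Finset.mem_filter.mp hf).1
      exact blockElt_mem hM χ
    apply eq_blockElt_of_omega hcf.1
    intro θ
    rw [omega_sum]
    by_cases hθ : θ ∈ O
    · rw [if_pos hθ, Finset.sum_eq_single (blockOf M θ.1)]
      · rw [omega_blockElt, if_pos (mem_blockOf_self hM θ)]
      · intro f hf hne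
        rw [omega_blockElt, if_neg]
        intro hθf
        obtain ⟨χ, rfl⟩ := mem_blocksFinset.mp (Finset.mem_filter.mp hf).1
        exact hne (blockOf_eq_of_mem hM hθf).symm
      · intro h
        exact absurd (Finset.mem_filter.mpr ⟨mem_blocksFinset.mpr ⟨θ, rfl⟩, hO θ hθ⟩) h
    · rw [if_neg hθ]
      apply Finset.sum_eq_zero
      intro f hf
      rw [omega_blockElt, if_neg]
      exact fun hθf => hθ ((Finset.mem_filter.mp hf).2 hθf)
  rw [key]
  apply Subring.sum_mem
  intro f hf
  obtain ⟨χ, rfl⟩ := mem_blocksFinset.mp (Finset.mem_filter.mp hf).1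
  exact blockElt_mem hM χ

end Cfsg.Agent.H80
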