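import Cfsg.Agent.H80.SubpairStep
import Cfsg.Agent.S4656

set_option autoImplicit false
set_option linter.unusedSectionVars false
set_option linter.style.haveILetI false

/-!
# helper80: inclusion of Brauer pairs

* `normalSubpair_of_normal`: if `(Q, f)` and `(R, g)` are both normally below `(P, e)` and `Q ≤ R`
  then `(Q, f)` is normally below `(R, g)`.
* `subpairLE_le`, `isBrauerPair_of_subpairLE`, `subpairLE_cases`.
* `exists_subpairLE`, `subpairLE_unique`: below a Brauer pair `(P, e)` there is exactly one pair on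
  each subgroup `Q ≤ P`.
-/

namespace Cfsg.Agent.H80

open Cfsg Cfsg.Agent.H20 Cfsg.Agent.H4

universe u

variable {G : Type u} [Group G] [Fintype G] {M : Ideal AlgInt} {p : ℕ} [Fact p.Prime]

/-- If `(Q, f)` and `(R, g)` are normally below `(P, e)` and `Q ≤ R`, then `(Q, f)` is normally
below `(R, g)`. -/
theorem normalSubpair_of_normal (hM : IsPModular p M) {Q R P : Subgroup G}
    {f : Set (IrrCharacter (Subgroup.centralizer (Q : Set G)))}
    {g : Set (IrrCharacter (Subgroup.centralizer (R : Set G)))}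
    {e : Set (IrrCharacter (Subgroup.centralizer (P : Set G)))} (hQR : Q ≤ R)
    (h1 : IsNormalSubpair p M Q f P e) (h2 : IsNormalSubpair p M R g P e) :
    IsNormalSubpair p M Q f R g := by
  classical
  haveI : Fintype ↥(Subgroup.centralizer (P : Set G)) := Fintype.ofFinite _
  haveI : Fintype ↥(Subgroup.centralizer (Q : Set G)) := Fintype.ofFinite _
  haveI : Fintype ↥(Subgroup.centralizer (R : Set G)) := Fintype.ofFinite _
  have hMp := isPrime_of_isPModular hM
  obtain ⟨⟨hQ, hf⟩, ⟨hP, ξ₀, rfl⟩, hQP, hPNQ, hstabf, hlamf⟩ := h1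
  obtain ⟨⟨hR, hg⟩, -, hRP, hPNR, hstabg, hlamg⟩ := h2
  have hξ₀ := mem_blockOf_self hMp ξ₀
  have hf1 := hlamf ξ₀ hξ₀
  rw [brauerOmega_subgroupBlockCoeff] at hf1
  have hg1 := hlamg ξ₀ hξ₀
  rw [brauerOmega_subgroupBlockCoeff] at hg1
  have hCQ : Subgroup.centralizer (P : Set G) ≤ Subgroup.centralizer (Q : Set G) :=
    Subgroup.centralizer_le hQP
  have hE : zB (Subgroup.centralizer (Q : Set G)) f ∈ brRing P hMp :=
    zB_mem_brRing _ hMp hf P hCQ hstabf
  have hEK : IsInv (Subgroup.centralizer (R : Set G)) (zB (Subgroup.centralizer (Q : Set G)) f) :=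
    isInv_mono (Subgroup.centralizer_le hQR) (isInv_zB_self _ f)
  refine ⟨⟨hQ, hf⟩, ⟨hR, hg⟩, hQR, hRP.trans hPNQ, fun x hx => hstabf x (hRP hx), fun θ hθ => ?_⟩
  rw [brauerOmega_subgroupBlockCoeff]
  exact step_down p P R hM hP hRP hPNR hg hstabg hE hEK (zB_mul_self _ f) ξ₀ hg1 hf1 θ hθ

/-- A pair normally below `(P, e)` on the same subgroup `P` is `(P, e)`. -/
theorem eq_of_normalSubpair_self (hM : IsPModular p M) {P : Subgroup G}
    {g e : Set (IrrCharacter (Subgroup.centralizer (P : Set G)))}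
    (h : IsNormalSubpair p M P g P e) : g = e := by
  classical
  haveI : Fintype ↥(Subgroup.centralizer (P : Set G)) := Fintype.ofFinite _
  have hMp := isPrime_of_isPModular hM
  obtain ⟨⟨-, hg⟩, ⟨hP, ξ₀, rfl⟩, -, -, -, hlam⟩ := h
  have h1 := hlam ξ₀ (mem_blockOf_self hMp ξ₀)
  rw [brauerOmega_subgroupBlockCoeff] at h1
  have e1 : brLam P ξ₀.1 (zB (Subgroup.centralizer (P : Set G)) g) = omega ξ₀.1 (blockElt g) := by
    unfold brLam
    rw [truncTo_zB]
  rw [e1, omega_blockElt] at h1
  by_cases hξ : ξ₀ ∈ g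
  · obtain ⟨χ, rfl⟩ := hg
    exact (blockOf_eq_of_mem hMp hξ).symm
  · rw [if_neg hξ, zero_sub] at h1
    have := memLocalIdeal_neg h1
    rw [neg_neg] at this
    exact absurd this (not_memLocalIdeal_one hMp)

theorem subpairLE_le {a b : BrauerPairIdx G}
    (h : Relation.ReflTransGen (NormalSubpairRel p M) a b) : a.1 ≤ b.1 := by
  induction h with
  | refl => exact le_refl _
  | tail _ hbc ih => exact ih.trans hbc.2.2.1

theorem isBrauerPair_of_subpairLE {a b : BrauerPairIdx G}
    (h : Relation.ReflTransGen (NormalSubpairRel p M) a b) (hb : IsBrauerPair p M b.1 b.2) :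
    IsBrauerPair p M a.1 a.2 := by
  rcases h.cases_head with rfl | ⟨c, hac, -⟩
  · exact hb
  · exact hac.1

/-- A chain of normal inclusions is trivial or ends with a normal step from a proper subgroup. -/
theorem subpairLE_cases (hM : IsPModular p M) {a b : BrauerPairIdx G}
    (h : Relation.ReflTransGen (NormalSubpairRel p M) a b) :
    a = b ∨ ∃ c : BrauerPairIdx G, c.1 < b.1 ∧ Relation.ReflTransGen (NormalSubpairRel p M) a c ∧
      NormalSubpairRel p M c b := by
  induction h with
  | refl => exact Or.inl rfl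
  | @tail b c hab hbc ih =>
    by_cases hlt : b.1 = c.1
    · obtain ⟨R, g⟩ := b
      obtain ⟨P, e⟩ := c
      simp only at hlt
      subst hlt
      have hge : g = e := eq_of_normalSubpair_self hM hbc
      subst hge
      exact ih
    · exact Or.inr ⟨b, lt_of_le_of_ne hbc.2.2.1 hlt, hab, hbc⟩

/-- A proper subgroup `Q` of a finite `p`-group `P` is properly contained in a subgroup of `P`
normalizing it. -/
theorem exists_normalizing_lt (P Q : Subgroup G) (hP : IsPGroup p P) (hQP : Q ≤ P)
    (hne : Q ≠ P) : ∃ Q₁ : Subgroup G, Q < Q₁ ∧ Q₁ ≤ P ∧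
      Q₁ ≤ Subgroup.normalizer (Q : Set G) := by
  haveI : Group.IsNilpotent P := hP.isNilpotent
  have hlt : Q.subgroupOf P < ⊤ := by
    rw [lt_top_iff_ne_top, Ne, Subgroup.subgroupOf_eq_top]
    exact fun h => hne (le_antisymm hQP h)
  have hnc := Group.normalizerCondition_of_isNilpotent (G := P) (Q.subgroupOf P) hlt
  refine ⟨(Subgroup.normalizer ((Q.subgroupOf P : Subgroup P) : Set P)).map P.subtype, ?_,
    Subgroup.map_subtype_le _, ?_⟩
  · have h := Subgroup.map_subtype_lt_map_subtype.mpr hnc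
    rwa [Subgroup.map_subgroupOf_eq_of_le hQP] at h
  · rintro x ⟨y, hy, rfl⟩
    rw [Subgroup.mem_normalizer_iff]
    intro q
    have hy' := Subgroup.mem_normalizer_iff.mp hy
    constructor
    · intro hq
      have := (hy' ⟨q, hQP hq⟩).mp (Subgroup.mem_subgroupOf.mpr hq)
      exact Subgroup.mem_subgroupOf.mp this
    · intro hq
      have hqP : q ∈ P := by
        have h1 : (y : G)⁻¹ * ((y : G) * q * (y : G)⁻¹) * (y : G) ∈ P :=
          P.mul_mem (P.mul_mem (P.inv_mem y.2) (hQP hq)) y.2
        have e : (y : G)⁻¹ * ((y : G) * q * (y : G)⁻¹) * (y : G) = q := by group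
        rwa [e] at h1
      have := (hy' ⟨q, hqP⟩).mpr (Subgroup.mem_subgroupOf.mpr hq)
      exact Subgroup.mem_subgroupOf.mp this

/-- Existence of a pair below `(P, e)` on each subgroup of `P`. -/
theorem exists_subpairLE (hM : IsPModular p M) (P : Subgroup G)
    (e : Set (IrrCharacter (Subgroup.centralizer (P : Set G)))) (hPe : IsBrauerPair p M P e) :
    ∀ (n : ℕ) (Q : Subgroup G), Q ≤ P → Nat.card P - Nat.card Q = n →
      ∃ f : Set (IrrCharacter (Subgroup.centralizer (Q : Set G))),
        IsPBlock M f ∧ SubpairLE p M Q f P e := by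
  intro n
  induction n using Nat.strong_induction_on with
  | _ n ih =>
    intro Q hQP hn
    by_cases hne : Q = P
    · subst hne
      exact ⟨e, hPe.2, Relation.ReflTransGen.refl⟩
    · obtain ⟨Q₁, hlt, hQ₁P, hQ₁N⟩ := exists_normalizing_lt P Q hPe.1 hQP hne
      have hc1 : Nat.card Q < Nat.card Q₁ := by
        by_contra hcon
        push Not at hcon
        exact absurd (Subgroup.eq_of_le_of_card_ge hlt.le hcon) hlt.ne
      have hc2 : Nat.card Q₁ ≤ Nat.card P := Subgroup.card_le_of_le hQ₁P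
      obtain ⟨f₁, hf₁, hle₁⟩ := ih (Nat.card P - Nat.card Q₁) (by omega) Q₁ hQ₁P rfl
      have hpair : IsBrauerPair p M Q₁ f₁ := ⟨hPe.1.to_le hQ₁P, hf₁⟩
      obtain ⟨f, hf, -⟩ := Cfsg.Agent.S4656.result p M hM Q₁ Q f₁ hpair hlt.le hQ₁N
      have hstep : NormalSubpairRel p M ⟨Q, f⟩ ⟨Q₁, f₁⟩ := hf
      exact ⟨f, hf.1.2, Relation.ReflTransGen.head hstep hle₁⟩

/-- Uniqueness of the pair below `(P, e)` on a given subgroup. -/
theorem subpairLE_unique (hM : IsPModular p M) :
    ∀ (n : ℕ) (P : Subgroup G) (e : Set (IrrCharacter (Subgroup.centralizer (P : Set G)))),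
      Nat.card P = n → IsBrauerPair p M P e → ∀ (Q : Subgroup G)
        (f f' : Set (IrrCharacter (Subgroup.centralizer (Q : Set G)))),
        SubpairLE p M Q f P e → SubpairLE p M Q f' P e → f = f' := by
  intro n
  induction n using Nat.strong_induction_on with
  | _ n ih =>
    intro P e hn hPe Q f f' h1 h2
    rcases subpairLE_cases hM h1 with heq | ⟨⟨R, g⟩, hRlt, hQR, hRn⟩
    · rcases subpairLE_cases hM h2 with heq' | ⟨⟨R', g'⟩, hRlt', hQR', -⟩
      · have := heq.trans heq'.symm
        rw [Sigma.mk.inj_iff] at this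
        exact eq_of_heq this.2
      · exfalso
        have h3 : Q ≤ R' := subpairLE_le hQR'
        have h4 : Q = P := congrArg Sigma.fst heq
        rw [h4] at h3
        exact absurd (lt_of_le_of_lt h3 hRlt') (lt_irrefl _)
    · rcases subpairLE_cases hM h2 with heq' | ⟨⟨R', g'⟩, hRlt', hQR', hRn'⟩
      · exfalso
        have h3 : Q ≤ R := subpairLE_le hQR
        have h4 : Q = P := congrArg Sigma.fst heq'
        rw [h4] at h3
        exact absurd (lt_of_le_of_lt h3 hRlt) (lt_irrefl _)
      · simp only at hRlt hRlt'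
        have hRn0 : IsNormalSubpair p M R g P e := hRn
        have hRn0' : IsNormalSubpair p M R' g' P e := hRn'
        have hQR0 : Q ≤ R := subpairLE_le hQR
        have hQR0' : Q ≤ R' := subpairLE_le hQR'
        -- the pair on `R ⊓ R'`
        have hDP : R ⊓ R' ≤ P := inf_le_left.trans hRlt.le
        have hPND : P ≤ Subgroup.normalizer ((R ⊓ R' : Subgroup G) : Set G) := by
          intro x hx
          have hx1 := Subgroup.mem_normalizer_iff.mp (hRn0.2.2.2.1 hx)
          have hx2 := Subgroup.mem_normalizer_iff.mp (hRn0'.2.2.2.1 hx)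
          rw [Subgroup.mem_normalizer_iff]
          intro y
          exact ⟨fun hy => ⟨(hx1 y).mp hy.1, (hx2 y).mp hy.2⟩,
            fun hy => ⟨(hx1 y).mpr hy.1, (hx2 y).mpr hy.2⟩⟩
        obtain ⟨h, hh, -⟩ := Cfsg.Agent.S4656.result p M hM P (R ⊓ R') e hPe hDP hPND
        have hDR := normalSubpair_of_normal hM (inf_le_left : R ⊓ R' ≤ R) hh hRn0
        have hDR' := normalSubpair_of_normal hM (inf_le_right : R ⊓ R' ≤ R') hh hRn0'
        obtain ⟨f₂, -, hf₂⟩ := exists_subpairLE hM (R ⊓ R') h hh.1 _ Q (le_inf hQR0 hQR0') rfl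
        have hcard : ∀ S : Subgroup G, S < P → Nat.card S < n := by
          intro S hS
          rw [← hn]
          by_contra hcon
          push Not at hcon
          exact absurd (Subgroup.eq_of_le_of_card_ge hS.le hcon) hS.ne
        have hstep : NormalSubpairRel p M ⟨R ⊓ R', h⟩ ⟨R, g⟩ := hDR
        have hstep' : NormalSubpairRel p M ⟨R ⊓ R', h⟩ ⟨R', g'⟩ := hDR'
        have e1 : f₂ = f := ih (Nat.card R) (hcard R hRlt) R g rfl hRn0.1 Q f₂ f
          (Relation.ReflTransGen.tail hf₂ hstep) hQR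
        have e2 : f₂ = f' := ih (Nat.card R') (hcard R' hRlt') R' g' rfl hRn0'.1 Q f₂ f'
          (Relation.ReflTransGen.tail hf₂ hstep') hQR'
        exact e1.symm.trans e2

end Cfsg.Agent.H80
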