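import Mathlib
import Cfsg.Agent.Lib.Lead.SylAlt.Defs

/-!
# S2221-DEC2: an orbit of size 2 and two big orbits make `T ⊓ Alt` decomposable
-/

set_option autoImplicit false
set_option linter.unusedVariables false

namespace Cfsg.Agent.H80.SylAlt

open Equiv Cfsg.Agent.Lib.Lead.SylAlt

variable {α : Type*} [Fintype α] [DecidableEq α]

theorem dec_two (T : Subgroup (Perm α)) (hT : IsSyl2 T) (hs : HSplit T) (htr : HTr T)
    (x₀ : α) (h0 : Two T x₀) (x₁ x₂ : α) (h₁ : Bigp T x₁) (h₂ : Bigp T x₂)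
    (h12 : ¬ ∃ g ∈ T, g x₁ = x₂) : Dec (T ⊓ alternatingGroup α) := by
  classical
  obtain ⟨y₀, hy₀, ⟨k₀, hk₀, hk₀x⟩, hE⟩ := h0
  -- the transposition of the small orbit
  have hτ : swap x₀ y₀ ∈ T := by
    obtain ⟨y, hy, hsw⟩ := htr x₀ ⟨k₀, hk₀, by rw [hk₀x]; exact hy₀⟩
    rcases hE _ hsw with h | h
    · rw [swap_apply_left] at h
      exact absurd h hy
    · rw [swap_apply_left] at h
      rw [← h]
      exact hsw
  have hττ : swap x₀ y₀ * swap x₀ y₀ = 1 := swap_mul_self _ _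
  have hsτ : Perm.sign (swap x₀ y₀) = -1 := Perm.sign_swap hy₀.symm
  -- every element of `T` preserves `{x₀, y₀}`
  have hEinv : ∀ g ∈ T, (g x₀ = x₀ ∧ g y₀ = y₀) ∨ (g x₀ = y₀ ∧ g y₀ = x₀) := by
    intro g hg
    have hy : g y₀ = x₀ ∨ g y₀ = y₀ := by
      have := hE (g * k₀) (T.mul_mem hg hk₀)
      rwa [Perm.mul_apply, hk₀x] at this
    rcases hE g hg with h | h
    · left
      refine ⟨h, ?_⟩
      rcases hy with h' | h'
      · exact absurd (g.injective (h'.trans h.symm)) hy₀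
      · exact h'
    · right
      refine ⟨h, ?_⟩
      rcases hy with h' | h'
      · exact h'
      · exact absurd (g.injective (h.trans h'.symm)) hy₀.symm
  -- big points are not in the small orbit
  have hnotbig : ∀ z, Bigp T z → z ≠ x₀ ∧ z ≠ y₀ := by
    intro z hz
    constructor
    · rintro rfl
      obtain ⟨g, hg, h1, h2⟩ := hz y₀
      rcases hE g hg with h | h
      · exact h1 h
      · exact h2 h
    · rintro rfl
      obtain ⟨g, hg, h1, h2⟩ := hz x₀
      rcases hEinv g hg with ⟨-, h⟩ | ⟨-, h⟩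
      · exact h1 h
      · exact h2 h
  have hO1inv : ∀ g ∈ T, ∀ z, z ∈ orb T x₁ ↔ g z ∈ orb T x₁ := by
    intro g hg z
    constructor
    · exact orb_inv T x₁ g hg z
    · intro h
      have := orb_inv T x₁ g⁻¹ (T.inv_mem hg) _ h
      simpa using this
  have hbigO : ∀ z ∈ orb T x₁, Bigp T z := by
    rintro z ⟨g, hg, rfl⟩ y
    obtain ⟨k, hk, h1, h2⟩ := h₁ (g⁻¹ y)
    have e : (g * k * g⁻¹) (g x₁) = g (k x₁) := by simp
    refine ⟨g * k * g⁻¹, T.mul_mem (T.mul_mem hg hk) (T.inv_mem hg), ?_, ?_⟩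
    · rw [e]
      intro h
      exact h1 (g.injective h)
    · rw [e]
      intro h
      apply h2
      rw [← h]
      simp
  have hx₀O : x₀ ∉ orb T x₁ := fun h => (hnotbig _ (hbigO _ h)).1 rfl
  have hy₀O : y₀ ∉ orb T x₁ := fun h => (hnotbig _ (hbigO _ h)).2 rfl
  have hx₁O : x₁ ∈ orb T x₁ := mem_orb_self T x₁
  -- the two factors
  set U : Set α := orb T x₁ ∪ {x₀, y₀} with hU
  have hnU : ∀ z, z ∉ U ↔ z ∉ orb T x₁ ∧ z ≠ x₀ ∧ z ≠ y₀ := by
    intro z
    rw [hU]
    simp only [Set.mem_union, Set.mem_insert_iff, Set.mem_singleton_iff, not_or]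
  have hnC : ∀ z, z ∉ (orb T x₁)ᶜ ↔ z ∈ orb T x₁ := by
    intro z
    rw [Set.mem_compl_iff, not_not]
  have hτfix : ∀ z, z ≠ x₀ → z ≠ y₀ → swap x₀ y₀ z = z := fun z h1 h2 =>
    swap_apply_of_ne_of_ne h1 h2
  have hmemA : ∀ f : Perm α, Perm.sign f = 1 → f ∈ alternatingGroup α :=
    fun f h => Perm.mem_alternatingGroup.mpr h
  refine ⟨res T U ⊓ alternatingGroup α, res T (orb T x₁)ᶜ ⊓ alternatingGroup α, ?_, ?_, ?_, ?_, ?_,
    ?_, ?_⟩
  · -- `S₁ ≠ ⊥`
    obtain ⟨g, hg, hgx, -⟩ := h₁ x₁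
    obtain ⟨y₁, hy₁, hsw⟩ := htr x₁ ⟨g, hg, hgx⟩
    have hy₁O : y₁ ∈ orb T x₁ := ⟨swap x₁ y₁, hsw, swap_apply_left _ _⟩
    have hmem : swap x₁ y₁ * swap x₀ y₀ ∈ res T U ⊓ alternatingGroup α := by
      refine ⟨⟨T.mul_mem hsw hτ, ?_⟩, ?_⟩
      · intro z hz
        rw [hnU] at hz
        rw [Perm.mul_apply, hτfix z hz.2.1 hz.2.2]
        apply swap_apply_of_ne_of_ne
        · rintro rfl; exact hz.1 hx₁O
        · rintro rfl; exact hz.1 hy₁O
      · apply hmemA
        rw [map_mul, hsτ, Perm.sign_swap hy₁.symm]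
        rfl
    intro hbot
    rw [hbot, Subgroup.mem_bot] at hmem
    have h1 := congrArg (fun f : Perm α => f x₁) hmem
    simp only [Perm.mul_apply, Perm.one_apply] at h1
    rw [hτfix x₁ (hnotbig x₁ h₁).1 (hnotbig x₁ h₁).2, swap_apply_left] at h1
    exact hy₁ h1
  · -- `S₂ ≠ ⊥`
    obtain ⟨g, hg, hgx, -⟩ := h₂ x₂
    obtain ⟨y₂, hy₂, hsw⟩ := htr x₂ ⟨g, hg, hgx⟩
    have hx₂O : x₂ ∉ orb T x₁ := h12
    have hy₂O : y₂ ∉ orb T x₁ := by
      intro h
      have h1 := orb_inv T x₁ (swap x₂ y₂) hsw _ h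
      rw [swap_apply_right] at h1
      exact hx₂O h1
    have hmem : swap x₂ y₂ * swap x₀ y₀ ∈ res T (orb T x₁)ᶜ ⊓ alternatingGroup α := by
      refine ⟨⟨T.mul_mem hsw hτ, ?_⟩, ?_⟩
      · intro z hz
        rw [hnC] at hz
        have hz0 : z ≠ x₀ := by rintro rfl; exact hx₀O hz
        have hz1 : z ≠ y₀ := by rintro rfl; exact hy₀O hz
        rw [Perm.mul_apply, hτfix z hz0 hz1]
        apply swap_apply_of_ne_of_ne
        · rintro rfl; exact hx₂O hz
        · rintro rfl; exact hy₂O hz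
      · apply hmemA
        rw [map_mul, hsτ, Perm.sign_swap hy₂.symm]
        rfl
    intro hbot
    rw [hbot, Subgroup.mem_bot] at hmem
    have h1 := congrArg (fun f : Perm α => f x₂) hmem
    simp only [Perm.mul_apply, Perm.one_apply] at h1
    rw [hτfix x₂ (hnotbig x₂ h₂).1 (hnotbig x₂ h₂).2, swap_apply_left] at h1
    exact hy₂ h1
  · exact inf_le_inf (res_le T U) le_rfl
  · exact inf_le_inf (res_le T _) le_rfl
  · -- the factors commute
    rintro s₁ ⟨⟨hs₁T, hs₁⟩, -⟩ s₂ ⟨⟨hs₂T, hs₂⟩, -⟩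
    ext z
    rw [Perm.mul_apply, Perm.mul_apply]
    by_cases hz : z ∈ orb T x₁
    · rw [hs₂ z ((hnC z).mpr hz), hs₂ _ ((hnC _).mpr ((hO1inv s₁ hs₁T z).mp hz))]
    · by_cases hz0 : z = x₀
      · subst hz0
        rcases hEinv s₁ hs₁T with ⟨a1, a2⟩ | ⟨a1, a2⟩ <;>
          rcases hEinv s₂ hs₂T with ⟨b1, b2⟩ | ⟨b1, b2⟩ <;>
          simp only [a1, a2, b1, b2]
      · by_cases hz1 : z = y₀
        · subst hz1
          rcases hEinv s₁ hs₁T with ⟨a1, a2⟩ | ⟨a1, a2⟩ <;>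
            rcases hEinv s₂ hs₂T with ⟨b1, b2⟩ | ⟨b1, b2⟩ <;>
            simp only [a1, a2, b1, b2]
        · have h1 : s₁ z = z := hs₁ z ((hnU z).mpr ⟨hz, hz0, hz1⟩)
          have h2 : s₂ z ∉ U := by
            rw [hnU]
            refine ⟨fun h => hz ((hO1inv s₂ hs₂T z).mpr h), ?_, ?_⟩
            · intro h
              rcases hEinv s₂ hs₂T with ⟨b1, b2⟩ | ⟨b1, b2⟩
              · exact hz0 (s₂.injective (h.trans b1.symm))
              · exact hz1 (s₂.injective (h.trans b2.symm))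
            · intro h
              rcases hEinv s₂ hs₂T with ⟨b1, b2⟩ | ⟨b1, b2⟩
              · exact hz1 (s₂.injective (h.trans b2.symm))
              · exact hz0 (s₂.injective (h.trans b1.symm))
          rw [h1, hs₁ _ h2]
  · -- trivial intersection
    rw [eq_bot_iff]
    rintro s ⟨⟨⟨hsT, hs1⟩, hsA⟩, ⟨⟨-, hs2⟩, -⟩⟩
    rw [Subgroup.mem_bot]
    replace hsA : Perm.sign s = 1 := Perm.mem_alternatingGroup.mp hsA
    have hfix : ∀ z, z ≠ x₀ → z ≠ y₀ → s z = z := by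
      intro z hz0 hz1
      by_cases hz : z ∈ orb T x₁
      · exact hs2 z ((hnC z).mpr hz)
      · exact hs1 z ((hnU z).mpr ⟨hz, hz0, hz1⟩)
    rcases hEinv s hsT with ⟨a1, a2⟩ | ⟨a1, a2⟩
    · ext z
      by_cases hz0 : z = x₀
      · subst hz0; rw [a1]; rfl
      · by_cases hz1 : z = y₀
        · subst hz1; rw [a2]; rfl
        · rw [hfix z hz0 hz1]; rfl
    · exfalso
      have hsw : s = swap x₀ y₀ := by
        ext z
        by_cases hz0 : z = x₀
        · subst hz0; rw [a1, swap_apply_left]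
        · by_cases hz1 : z = y₀
          · subst hz1; rw [a2, swap_apply_right]
          · rw [hfix z hz0 hz1, hτfix z hz0 hz1]
      rw [hsw, hsτ] at hsA
      exact absurd hsA (by decide)
  · -- generation
    apply le_antisymm
    · exact sup_le (inf_le_inf (res_le T U) le_rfl) (inf_le_inf (res_le T _) le_rfl)
    · rintro g ⟨hgT, hgA⟩
      replace hgA : Perm.sign g = 1 := Perm.mem_alternatingGroup.mp hgA
      obtain ⟨a, ha, b, hb, rfl⟩ := hs (orb T x₁) (orb_inv T x₁) g hgT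
      rw [map_mul] at hgA
      have haU : ∀ z, z ∉ U → a z = z := fun z hz => ha.2 z ((hnU z).mp hz).1
      rcases Int.units_eq_one_or (Perm.sign a) with hsa | hsa
      · have hsb : Perm.sign b = 1 := by
          rw [hsa, one_mul] at hgA
          exact hgA
        apply Subgroup.mul_mem_sup
        · exact ⟨⟨ha.1, haU⟩, hmemA _ hsa⟩
        · exact ⟨hb, hmemA _ hsb⟩
      · have hsb : Perm.sign b = -1 := by
          rw [hsa] at hgA
          have h1 : Perm.sign b = -(-1 * Perm.sign b) := by simp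
          rw [h1, hgA]
        have heq : a * b = (a * swap x₀ y₀) * (swap x₀ y₀ * b) := by
          rw [mul_assoc, ← mul_assoc (swap x₀ y₀), hττ, one_mul]
        rw [heq]
        apply Subgroup.mul_mem_sup
        · refine ⟨⟨T.mul_mem ha.1 hτ, ?_⟩, ?_⟩
          · intro z hz
            have hz' := (hnU z).mp hz
            rw [Perm.mul_apply, hτfix z hz'.2.1 hz'.2.2]
            exact haU z hz
          · apply hmemA
            rw [map_mul, hsa, hsτ]
            rfl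
        · refine ⟨⟨T.mul_mem hτ hb.1, ?_⟩, ?_⟩
          · intro z hz
            have hz' := (hnC z).mp hz
            rw [Perm.mul_apply, hb.2 z hz]
            apply hτfix
            · rintro rfl; exact hx₀O hz'
            · rintro rfl; exact hy₀O hz'
          · apply hmemA
            rw [map_mul, hsτ, hsb]
            rfl

example (T : Subgroup (Perm α)) (hT : IsSyl2 T) (hs : HSplit T) (htr : HTr T)
    (x₀ : α) (h0 : Two T x₀) (x₁ x₂ : α) (h₁ : Bigp T x₁) (h₂ : Bigp T x₂)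
    (h12 : ¬ ∃ g ∈ T, g x₁ = x₂) : Dec (T ⊓ alternatingGroup α) :=
  dec_two T hT hs htr x₀ h0 x₁ x₂ h₁ h₂ h12

end Cfsg.Agent.H80.SylAlt
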