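import Cfsg.Agent.H80.PAct
import Cfsg.Agent.H80.BlockFusion2

set_option autoImplicit false
set_option linter.unusedSectionVars false
set_option linter.style.haveILetI false

/-!
# helper80: `p`-subgroups of the stabilizer of a maximal Brauer pair

* `pow_mem_mul_of_normalizer`: `(c s) ^ n ∈ C s ^ n` for `c ∈ C` and `s` normalizing `C`.
* `exists_fixed_class_of_stab`: a `p`-subgroup stabilizing the block `e` of `K` fixes the class of
  a good element of `K`.
* `le_sup_centralizer_of_maximal`: for a maximal Brauer pair `(P, e)`, every `p`-subgroup of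
  the stabilizer of `e` in `N_G(P)` lies in `P C_G(P)`.
-/

namespace Cfsg.Agent.H80

open Cfsg Cfsg.Agent.H20 Cfsg.Agent.H4

universe u

variable {G : Type u} [Group G] [Fintype G] {M : Ideal AlgInt}

theorem pow_mem_mul_of_normalizer {G : Type*} [Group G] (C : Subgroup G) {c s : G} (hc : c ∈ C)
    (hs : s ∈ Subgroup.normalizer (C : Set G)) (n : ℕ) : ∃ c' ∈ C, (c * s) ^ n = c' * s ^ n := by
  induction n with
  | zero => exact ⟨1, one_mem _, by simp⟩
  | succ n ih =>
    obtain ⟨c', hc', h⟩ := ih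
    have hsn : s ^ n ∈ Subgroup.normalizer (C : Set G) := pow_mem hs n
    refine ⟨c' * (s ^ n * c * (s ^ n)⁻¹), mul_mem hc' ((Subgroup.mem_normalizer_iff.mp hsn c).mp hc),
      ?_⟩
    rw [pow_succ, h, pow_succ]
    group

section Main

variable (p : ℕ) [Fact p.Prime]

/-- A `p`-subgroup `S` normalizing `K` and stabilizing the block `e` of `K` fixes the `K`-class of
an element `k` of `K` at which the idempotent coefficient of `e` and the central character of the
members of `e` are outside the local ideal. -/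
theorem exists_fixed_class_of_stab (hM : IsPModular p M) (K : Subgroup G)
    {e : Set (IrrCharacter K)} (he : IsPBlock M e) (S : Subgroup G) (hS : IsPGroup p S)
    (hSst : ∀ s ∈ S, StabilizesBlock K e s) :
    ∃ k : K, ¬ MemLocalIdeal M (blockCoeff e k) ∧
      (∀ ξ ∈ e, ¬ MemLocalIdeal M (centralChar (ξ : K → ℂ) k)) ∧
      ∀ s ∈ S, ∃ c ∈ K, c * (s * (k : G) * s⁻¹) * c⁻¹ = (k : G) := by
  classical
  haveI : Fintype ↥K := Fintype.ofFinite _
  have hMp := isPrime_of_isPModular hM
  have hSN : S ≤ Subgroup.normalizer (K : Set G) := fun s hs => (hSst s hs).1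
  obtain ⟨φ, hφdef⟩ : ∃ φ : S →* MulAut K,
      φ = K.normalizerMonoidHom.comp (Subgroup.inclusion hSN) := ⟨_, rfl⟩
  have hφ : ∀ y : S, φ y = conjAut K (y : G) (hSN y.2) := fun y => by
    rw [hφdef]; rfl
  have hstab : ∀ γ : S, autIrr (φ γ) '' e = e := by
    intro γ
    obtain ⟨hx, h⟩ := (stabilizesBlock_iff hMp K he (γ : G)).mp (hSst γ γ.2)
    rw [hφ]
    exact h
  obtain ⟨ξ₀, hξ₀⟩ : ∃ ξ₀ : IrrCharacter K, ξ₀ ∈ e := by
    obtain ⟨ξ, rfl⟩ := he
    exact ⟨ξ, mem_blockOf_self hMp ξ⟩
  obtain ⟨k, hk1, hk2, hk3⟩ := exists_fixed_class p hM hS φ he hstab ξ₀ hξ₀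
  refine ⟨k, hk1, fun ξ hξ hcon => ?_, fun s hs => ?_⟩
  · apply hk2
    obtain ⟨χ₀, rfl⟩ := he
    have h3 := hξ k
    have h4 := hξ₀ k
    have h5 := memLocalIdeal_sub hMp h3 h4
    have e2 : centralChar χ₀.1 k - centralChar ξ.1 k
        - (centralChar χ₀.1 k - centralChar ξ₀.1 k)
        = centralChar ξ₀.1 k - centralChar ξ.1 k := by ring
    rw [e2] at h5
    have h6 := memLocalIdeal_add hMp h5 hcon
    rw [sub_add_cancel] at h6
    exact h6
  · obtain ⟨c, hc⟩ := isConj_iff.mp (hk3 ⟨s, hs⟩)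
    refine ⟨c, c.2, ?_⟩
    have h1 := congrArg (Subtype.val) hc
    rw [hφ] at h1
    exact h1

/-- For a maximal Brauer pair `(P, e)`, every `p`-subgroup of the stabilizer of `e` in `N_G(P)`
lies in `P C_G(P)`. -/
theorem le_sup_centralizer_of_maximal (hM : IsPModular p M) {B : Set (IrrCharacter G)}
    {P : Subgroup G} {e : Set (IrrCharacter (Subgroup.centralizer (P : Set G)))}
    (hmax : IsMaximalBrauerPair p M B P e) (S : Subgroup G) (hS : IsPGroup p S)
    (hSN : S ≤ Subgroup.normalizer (P : Set G))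
    (hSst : ∀ s ∈ S, StabilizesBlock (Subgroup.centralizer (P : Set G)) e s) :
    S ≤ P ⊔ Subgroup.centralizer (P : Set G) := by
  classical
  haveI : Fintype ↥(Subgroup.centralizer (P : Set G)) := Fintype.ofFinite _
  have hMp := isPrime_of_isPModular hM
  have hP : IsPGroup p P := hmax.1.1.1
  have he : IsPBlock M e := hmax.1.1.2
  have hNC := normalizer_le_normalizer_centralizer P
  obtain ⟨T, hT⟩ := exists_stabilizer' hMp P he
  have hST : S ≤ T := fun s hs => (hT s).mpr ⟨hSN hs, hSst s hs⟩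
  have hCT : Subgroup.centralizer (P : Set G) ≤ T := fun c hc =>
    (hT c).mpr ⟨Subgroup.centralizer_le_normalizer _ hc, stabilizesBlock_of_mem _ _ hc⟩
  have hPT : P ≤ T := fun q hq => (hT q).mpr ⟨Subgroup.le_normalizer hq,
    stabilizesBlock_of_commute _ _ (fun k hk => Subgroup.mem_centralizer_iff.mp hk q hq)⟩
  have hmaxB := maxB_of_maximal p hM hmax
  obtain ⟨k, hk1, -, hk3⟩ := exists_fixed_class_of_stab p hM _ he S hS hSst
  have hcoef : ¬ MemLocalIdeal M ((zB (Subgroup.centralizer (P : Set G)) e).coeff (k : G)) := by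
    have h1 := coeff_extZero_coe (Subgroup.centralizer (P : Set G)) (blockElt e) k
    unfold zB
    rw [h1, coeff_blockElt]
    exact hk1
  intro s hs
  obtain ⟨c, hc, hcs⟩ := hk3 s hs
  -- the element `u = c s` centralizes `k`
  have huT : c * s ∈ T := mul_mem (hCT hc) (hST hs)
  have hucomm : (c * s) * (k : G) = (k : G) * (c * s) := by
    have e1 : (c * s) * (k : G) = (c * (s * (k : G) * s⁻¹) * c⁻¹) * (c * s) := by group
    rw [e1, hcs]
  obtain ⟨j, hj⟩ := hS ⟨s, hs⟩
  have hsj : s ^ (p ^ j) = 1 := by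
    have := congrArg Subtype.val hj
    simpa using this
  obtain ⟨m, n, α, β, hjn, hv, -, hdec⟩ := exists_pPart_decomp p (c * s) j
  -- the `p`-regular part lies in the centralizer
  have hw : (c * s) ^ (p ^ n) ∈ Subgroup.centralizer (P : Set G) := by
    obtain ⟨c', hc', h⟩ := pow_mem_mul_of_normalizer _ hc (hNC (hSN hs)) (p ^ n)
    have hsn : s ^ (p ^ n) = 1 := by
      obtain ⟨d, rfl⟩ := Nat.exists_eq_add_of_le hjn
      rw [pow_add, pow_mul, hsj, one_pow]
    rw [h, hsn, mul_one]
    exact hc'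
  -- the `p`-part lies in `P`
  have hvP : (c * s) ^ m ∈ P := by
    have hvT : (c * s) ^ m ∈ T := pow_mem huT m
    have hvcomm : (c * s) ^ m * (k : G) = (k : G) * (c * s) ^ m :=
      (Commute.pow_left (show Commute (c * s) (k : G) from hucomm) m).eq
    have hZ : IsPGroup p (Subgroup.zpowers ((c * s) ^ m)) := by
      rintro ⟨y, hy⟩
      obtain ⟨i, rfl⟩ := Subgroup.mem_zpowers_iff.mp hy
      refine ⟨n, Subtype.ext ?_⟩
      show (((c * s) ^ m) ^ i) ^ (p ^ n) = 1
      rw [← zpow_natCast, ← zpow_mul, mul_comm, zpow_mul, zpow_natCast, hv, one_zpow]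
    have hZN : Subgroup.zpowers ((c * s) ^ m) ≤ Subgroup.normalizer (P : Set G) := by
      rw [Subgroup.zpowers_le]
      exact ((hT _).mp hvT).1
    have hQ₁ : IsPGroup p (P ⊔ Subgroup.zpowers ((c * s) ^ m) : Subgroup G) :=
      IsPGroup.to_sup_of_normal_left' hP hZ hZN
    have hQ₁T : P ⊔ Subgroup.zpowers ((c * s) ^ m) ≤ T :=
      sup_le hPT (by rw [Subgroup.zpowers_le]; exact hvT)
    have hkC : (k : G) ∈ Subgroup.centralizer
        ((P ⊔ Subgroup.zpowers ((c * s) ^ m) : Subgroup G) : Set G) := by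
      have h1 : P ⊔ Subgroup.zpowers ((c * s) ^ m)
          ≤ Subgroup.centralizer ({(k : G)} : Set G) := by
        apply sup_le
        · intro q hq
          rw [Subgroup.mem_centralizer_iff]
          intro y hy
          rw [Set.mem_singleton_iff] at hy
          subst hy
          exact (Subgroup.mem_centralizer_iff.mp k.2 q hq).symm
        · rw [Subgroup.zpowers_le, Subgroup.mem_centralizer_iff]
          intro y hy
          rw [Set.mem_singleton_iff] at hy
          subst hy
          exact hvcomm.symm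
      rw [Subgroup.mem_centralizer_iff]
      intro q hq
      have := Subgroup.mem_centralizer_iff.mp (h1 hq) (k : G) (Set.mem_singleton _)
      exact this.symm
    have hEq := hmaxB _ hQ₁ le_sup_left (fun x hx => ((hT x).mp (hQ₁T hx)).1)
      (fun x hx => ((hT x).mp (hQ₁T hx)).2) _ hkC hcoef
    have : (c * s) ^ m ∈ P ⊔ Subgroup.zpowers ((c * s) ^ m) :=
      (le_sup_right : Subgroup.zpowers ((c * s) ^ m) ≤ _) (Subgroup.mem_zpowers _)
    rw [hEq] at this
    exact this
  have hu : c * s ∈ P ⊔ Subgroup.centralizer (P : Set G) := by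
    rw [hdec]
    exact mul_mem ((le_sup_left : P ≤ _) (zpow_mem hvP α))
      ((le_sup_right : Subgroup.centralizer (P : Set G) ≤ _) (zpow_mem hw β))
  have e1 : s = c⁻¹ * (c * s) := by group
  rw [e1]
  exact mul_mem ((le_sup_right : Subgroup.centralizer (P : Set G) ≤ _) (inv_mem hc)) hu

end Main

end Cfsg.Agent.H80
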