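import Mathlib
import Cfsg.Agent.H77.UfDefs3

/-!
# S2149, piece UF-PRES (helper80, for helper77)

The seven matrices `R4, S2, D3, P3, A5, A7m, Z1m` preserve the list `Yl` of 105 points:
table certificates `PresT M tM` (kernel `decide`) and the generic `PresT M t → Pres M`;
`Z1m` is scalar.
-/

set_option autoImplicit false

namespace Cfsg.Agent.H80.Uf

open Matrix
open Cfsg.Agent.H77.Uf

theorem Yl_length : Yl.length = 105 := by decide

/-- A table certificate gives `Pres`. -/
theorem pres_of_presT (M : Matrix (Fin 3) (Fin 3) F25) (t : List (ℕ × F25)) (h : PresT M t) :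
    Pres M := by
  intro v hv
  obtain ⟨i, hi, rfl⟩ := List.getElem_of_mem hv
  have hi' : i < 105 := by rw [← Yl_length]; exact hi
  obtain ⟨h1, h2⟩ := h ⟨i, hi'⟩
  have h1' : (t.getD i (0, 0)).1 < Yl.length := by rw [Yl_length]; exact h1
  refine ⟨Yl[(t.getD i (0, 0)).1], List.getElem_mem _, (t.getD i (0, 0)).2, ?_⟩
  have e1 : Yl.getD i 0 = Yl[i] := List.getD_eq_getElem _ _ hi
  have e2 : Yl.getD (t.getD i (0, 0)).1 0 = Yl[(t.getD i (0, 0)).1] :=
    List.getD_eq_getElem _ _ h1'
  have h2' : M *ᵥ Yl.getD i 0 = (t.getD i (0, 0)).2 • Yl.getD (t.getD i (0, 0)).1 0 := h2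
  rw [e1, e2] at h2'
  exact h2'

set_option maxRecDepth 100000 in
theorem presT_R4 : PresT R4 tR4 := by decide +kernel

set_option maxRecDepth 100000 in
theorem presT_S2 : PresT S2 tS2 := by decide +kernel

set_option maxRecDepth 100000 in
theorem presT_D3 : PresT D3 tD3 := by decide +kernel

set_option maxRecDepth 100000 in
theorem presT_P3 : PresT P3 tP3 := by decide +kernel

set_option maxRecDepth 100000 in
theorem presT_A5 : PresT A5 tA5 := by decide +kernel

set_option maxRecDepth 100000 in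
theorem presT_A7m : PresT A7m tA7m := by decide +kernel

set_option maxRecDepth 100000 in
theorem Z1m_eq : Z1m = (⟨2, 2⟩ : F25) • (1 : Matrix (Fin 3) (Fin 3) F25) := by decide +kernel

theorem pres_Z1m : Pres Z1m := by
  intro v hv
  refine ⟨v, hv, (⟨2, 2⟩ : F25), ?_⟩
  rw [Z1m_eq, Matrix.smul_mulVec, Matrix.one_mulVec]

/-- **UF-PRES**. -/
theorem presAll : StPresAll :=
  ⟨pres_of_presT _ _ presT_R4, pres_of_presT _ _ presT_S2, pres_of_presT _ _ presT_D3,
    pres_of_presT _ _ presT_P3, pres_of_presT _ _ presT_A5, pres_of_presT _ _ presT_A7m,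
    pres_Z1m⟩

example : StPresAll := presAll

end Cfsg.Agent.H80.Uf
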