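import Mathlib
import Cfsg.Agent.H67.UmDefs

/-!
# UM-J3 (piece of S2263): a unitary matrix of size three and order four over the field with
four elements
-/

set_option autoImplicit false
open Matrix

namespace Cfsg.Agent.H80.Um

universe u

/-- UM-J3. -/
theorem j3 : Cfsg.Agent.H67.Um.StJ3.{u} := by
  intro F _ _ hcard
  -- characteristic two
  have h4 : (4 : F) = 0 := by
    have h := Nat.cast_card_eq_zero F
    rw [hcard] at h
    exact_mod_cast h
  have h2 : (2 : F) = 0 := by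
    have h : (2 : F) * 2 = 0 := by rw [← h4]; norm_num
    exact mul_self_eq_zero.mp h
  -- an element outside the prime field
  obtain ⟨w, hw0, hw1⟩ : ∃ w : F, w ≠ 0 ∧ w ≠ 1 := by
    classical
    by_contra hne
    push Not at hne
    have hsub : (Finset.univ : Finset F) ⊆ {0, 1} := by
      intro x _
      by_cases hx : x = 0
      · simp [hx]
      · simp [hne x hx]
    have h1 := Finset.card_le_card hsub
    rw [Finset.card_univ, hcard] at h1
    have h2' : ({0, 1} : Finset F).card ≤ 2 := Finset.card_le_two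
    omega
  have hw3 : w ^ 3 = 1 := by
    have h := FiniteField.pow_card_sub_one_eq_one w hw0
    rw [hcard] at h
    exact h
  have hw : w * w + w + 1 = 0 := by
    have h : (w - 1) * (w * w + w + 1) = 0 := by
      have e : (w - 1) * (w * w + w + 1) = w ^ 3 - 1 := by ring
      rw [e, hw3, sub_self]
    rcases mul_eq_zero.mp h with h' | h'
    · exact absurd (sub_eq_zero.mp h') hw1
    · exact h'
  obtain ⟨J, hJ⟩ : ∃ J : Matrix (Fin 3) (Fin 3) F,
      J = !![1, 1, 1; 1, w, w * w; 1, w * w, w] := ⟨_, rfl⟩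
  obtain ⟨P, hP⟩ : ∃ P : Matrix (Fin 3) (Fin 3) F,
      P = !![1, 0, 0; 0, 0, 1; 0, 1, 0] := ⟨_, rfl⟩
  have hJJ : J * J = P := by
    rw [hJ, hP]
    ext i j
    fin_cases i <;> fin_cases j <;>
      simp [Matrix.mul_apply, Fin.sum_univ_three] <;>
      first
        | linear_combination (exp := 1) (1 : F) * h2
        | linear_combination (exp := 1) (1 : F) * hw
        | linear_combination (exp := 1) (1 - w + w * w) * hw
        | linear_combination (exp := 1) (-2 + 2 * w) * hw + (1 : F) * h2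
  have hPP : P * P = 1 := by
    rw [hP]
    ext i j
    fin_cases i <;> fin_cases j <;> simp [Matrix.mul_apply, Fin.sum_univ_three]
  have hJ4 : J ^ 4 = 1 := by
    have e : J ^ 4 = (J * J) * (J * J) := by
      rw [pow_succ, pow_succ, pow_succ, pow_one, mul_assoc, mul_assoc]
    rw [e, hJJ, hPP]
  have hU : Cfsg.Agent.H67.Um.IsU 3 2 J := by
    intro u v
    rw [hJ]
    simp [Cfsg.hermForm, Fin.sum_univ_three, Matrix.mulVec, dotProduct]
    linear_combination (exp := 1) ((-2) * (u 2) * (v 2) * (v 2) + (2) * (u 2) * (v 2) * (v 2) * w + (-1) * (u 2) * (v 2) * (v 2) * w * w * w + (1) * (u 2) * (v 2) * (v 2) * w * w * w * w + (2) * (u 2) * (v 1) * (v 2) + (-2) * (u 2) * (v 1) * (v 2) * w + (2) * (u 2) * (v 1) * (v 2) * w * w * w + (1) * (u 2) * (v 1) * (v 1) + (-1) * (u 2) * (v 1) * (v 1) * w + (1) * (u 2) * (v 1) * (v 1) * w * w * w + (2) * (u 2) * (v 0) * (v 2) + (-2) * (u 2) * (v 0) * (v 2) * w + (2) * (u 2) * (v 0) * (v 2) * w * w + (-4)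 * (u 2) * (v 0) * (v 1) + (4) * (u 2) * (v 0) * (v 1) * w + (1) * (u 2) * (v 0) * (v 0) + (1) * (u 1) * (v 2) * (v 2) + (-1) * (u 1) * (v 2) * (v 2) * w + (1) * (u 1) * (v 2) * (v 2) * w * w * w + (2) * (u 1) * (v 1) * (v 2) + (-2) * (u 1) * (v 1) * (v 2) * w + (2) * (u 1) * (v 1) * (v 2) * w * w * w + (-2) * (u 1) * (v 1) * (v 1) + (2) * (u 1) * (v 1) * (v 1) * w + (-1) * (u 1) * (v 1) * (v 1) * w * w * w + (1) * (u 1) * (v 1) * (v 1) * w * w * w * w + (-4) * (u 1) * (v 0) * (v 2) + (4) * (u 1) * (v 0) * (v 2) * w + (2) * (u 1) * (v 0) * (v 1) + (-2) * (u 1) * (v 0) * (v 1) * w + (2) * (u 1) * (v 0) * (v 1) * w * w + (1) * (u 1) * (v 0) * (v 0) + (1) * (u 0) * (v 2) * (v 2) + (-1) * (u 0) * (v 2) * (v 2) * w + (1) * (u 0) * (v 2) * (v 2) * w * w + (-4) * (u 0) * (v 1) * (v 2) + (4) * (u 0) * (v 1) * (v 2) * w + (1) * (u 0) * (v 1) * (v 1) + (-1) * (u 0) * (v 1) * (v 1) * w + (1) * (u 0) * (v 1) * (v 1) * w * w + (2) * (u 0) * (v 0) * (v 2)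 + (2) * (u 0) * (v 0) * (v 1)) * hw + ((1) * (u 2) * (v 2) * (v 2) + (3) * (u 2) * (v 0) * (v 1) + (1) * (u 1) * (v 1) * (v 1) + (3) * (u 1) * (v 0) * (v 2) + (3) * (u 0) * (v 1) * (v 2) + (1) * (u 0) * (v 0) * (v 0)) * h2
  refine ⟨J, hU, ?_⟩
  intro N c hN
  obtain ⟨r, hr⟩ : ∃ r, r = N % 4 := ⟨_, rfl⟩
  have hr4 : r < 4 := by rw [hr]; exact Nat.mod_lt _ (by norm_num)
  have hNr : J ^ N = J ^ r := by
    conv_lhs => rw [← Nat.div_add_mod N 4]
    rw [pow_add, pow_mul, hJ4, one_pow, one_mul, hr]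
  rw [hNr] at hN
  interval_cases r
  · -- r = 0
    refine ⟨Nat.dvd_of_mod_eq_zero hr.symm, ?_⟩
    have h := congrFun (congrFun hN 0) 0
    simp at h
    exact h.symm
  · exfalso
    rw [pow_one, hJ] at hN
    have h := congrFun (congrFun hN 0) 1
    simp at h
  · exfalso
    rw [pow_two, hJJ, hP] at hN
    have h := congrFun (congrFun hN 1) 2
    simp at h
  · exfalso
    have e : J ^ 3 = P * J := by rw [pow_succ, pow_two, hJJ]
    rw [e, hJ, hP] at hN
    have h := congrFun (congrFun hN 0) 1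
    simp [Matrix.mul_apply, Fin.sum_univ_three] at h

example : Cfsg.Agent.H67.Um.StJ3.{u} := j3

end Cfsg.Agent.H80.Um
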