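import Mathlib
import Cfsg.Agent.H74.W2PDefs

/-!
# S0720-LA10X2: the dimension of the centralizer algebra is the number of distinct characters

Team piece for helper70: `Cfsg.Agent.H80.W2P.finrank_centSub_eq_ncard`.
-/

set_option autoImplicit false
set_option linter.style.haveILetI false

namespace Cfsg.Agent.H80.W2P

open Cfsg.Agent.H74.W2P Equiv MulAction

variable {Ω : Type*} [Fintype Ω] [DecidableEq Ω]

/-- The centralizer algebra as a submonoid of the matrices. -/
def centMon (G : Subgroup (Perm Ω)) : Submonoid (Matrix Ω Ω ℂ) where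
  carrier := {A | CentC G A}
  one_mem' := by
    intro g _ i j
    simp only [Matrix.one_apply, EmbeddingLike.apply_eq_iff_eq]
  mul_mem' := by
    intro A B hA hB g hg i j
    rw [Matrix.mul_apply, Matrix.mul_apply, ← Equiv.sum_comp g]
    exact Finset.sum_congr rfl (fun k _ => by rw [hA g hg i k, hB g hg k j])

/-- `S0720-LA10X2`. -/
theorem finrank_centSub_eq_ncard (G : Subgroup (Perm Ω)) {ι : Type*} [Finite ι]
    (L : ι → (Matrix Ω Ω ℂ →ₗ[ℂ] ℂ))
    (hmul : ∀ i, L i 1 = 1 ∧ ∀ A B, CentC G A → CentC G B → L i (A * B) = L i A * L i B)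
    (hinj : ∀ A, CentC G A → (∀ i, L i A = 0) → A = 0) :
    Module.finrank ℂ ↥(centSub G) =
      (Set.range (fun i => (L i).domRestrict (centSub G))).ncard := by
  classical
  obtain ⟨R, hR⟩ : ∃ R : ι → Module.Dual ℂ ↥(centSub G),
      R = fun i => (L i).domRestrict (centSub G) := ⟨_, rfl⟩
  rw [← hR]
  have hRapp : ∀ i (v : ↥(centSub G)), R i v = L i (v : Matrix Ω Ω ℂ) := by
    intro i v
    rw [hR]
    rfl
  -- (1) the `R i` span the dual
  have hspan : Submodule.span ℂ (Set.range R) = ⊤ := by
    have h1 : (Submodule.span ℂ (Set.range R)).dualCoannihilator = ⊥ := by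
      rw [eq_bot_iff]
      intro v hv
      rw [Submodule.mem_dualCoannihilator] at hv
      rw [Submodule.mem_bot]
      apply Subtype.ext
      apply hinj v.1 v.2
      intro i
      rw [← hRapp i v]
      exact hv (R i) (Submodule.subset_span ⟨i, rfl⟩)
    have h2 := Subspace.dualCoannihilator_dualAnnihilator_eq
      (W := Submodule.span ℂ (Set.range R))
    rw [h1, Submodule.dualAnnihilator_bot] at h2
    exact h2.symm
  -- (2) the distinct `R i` are linearly independent
  have hli : LinearIndependent ℂ (Subtype.val : Set.range R → Module.Dual ℂ ↥(centSub G)) := by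
    obtain ⟨T, hT⟩ : ∃ T : Module.Dual ℂ ↥(centSub G) →ₗ[ℂ] (centMon G → ℂ),
        ∀ φ A, T φ A = φ ⟨A.1, A.2⟩ :=
      ⟨{ toFun := fun φ A => φ ⟨A.1, A.2⟩
         map_add' := fun φ ψ => rfl
         map_smul' := fun c φ => rfl }, fun φ A => rfl⟩
    have hTinj : Function.Injective T := by
      intro φ ψ h
      apply LinearMap.ext
      intro v
      have h0 := congrFun h ⟨v.1, v.2⟩
      rw [hT, hT] at h0
      exact h0
    obtain ⟨hom, hhom⟩ : ∃ hom : ι → (centMon G →* ℂ), ∀ i A, hom i A = L i A.1 :=
      ⟨fun i =>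
        { toFun := fun A => L i A.1
          map_one' := (hmul i).1
          map_mul' := fun A B => (hmul i).2 A.1 B.1 A.2 B.2 }, fun i A => rfl⟩
    have hThom : ∀ i, T (R i) = ⇑(hom i) := by
      intro i
      funext A
      rw [hT, hhom]
      exact hRapp i ⟨A.1, A.2⟩
    apply LinearIndependent.of_comp T
    have hchoose : ∀ s : Set.range R, ∃ i, R i = s.1 := fun s => s.2
    choose idx hidx using hchoose
    have hfun : (T ∘ (Subtype.val : Set.range R → Module.Dual ℂ ↥(centSub G))) =
        (fun f : centMon G →* ℂ => (f : centMon G → ℂ)) ∘ (fun s => hom (idx s)) := by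
      funext s
      simp only [Function.comp_apply]
      rw [← hThom, hidx s]
    rw [hfun]
    apply (linearIndependent_monoidHom (centMon G) ℂ).comp
    intro s s' h
    apply Subtype.ext
    apply hTinj
    rw [← hidx s, ← hidx s', hThom, hThom]
    exact congrArg (fun f : centMon G →* ℂ => (f : centMon G → ℂ)) h
  -- (3) count
  haveI : Finite (Set.range R) := (Set.finite_range R).to_subtype
  letI : Fintype (Set.range R) := Fintype.ofFinite _
  have h3 := finrank_span_set_eq_card hli
  rw [hspan, finrank_top, Subspace.dual_finrank_eq] at h3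
  rw [h3, Set.ncard_eq_toFinset_card']

/-- The posted statement, verbatim. -/
example (G : Subgroup (Perm Ω)) {ι : Type*} [Finite ι]
    (L : ι → (Matrix Ω Ω ℂ →ₗ[ℂ] ℂ))
    (hmul : ∀ i, L i 1 = 1 ∧ ∀ A B, CentC G A → CentC G B → L i (A * B) = L i A * L i B)
    (hinj : ∀ A, CentC G A → (∀ i, L i A = 0) → A = 0) :
    Module.finrank ℂ ↥(centSub G) =
      (Set.range (fun i => (L i).domRestrict (centSub G))).ncard :=
  finrank_centSub_eq_ncard G L hmul hinj

end Cfsg.Agent.H80.W2P
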