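import Cfsg.Agent.H21.E2Wbo

/-!
# Weak block orthogonality for the prime `p`, read modulo `q`

Team piece `S0496-WBO` for helper21: `Cfsg.Agent.H80.Wbo.wbo_mod`.
-/

set_option autoImplicit false
set_option linter.unusedSectionVars false
set_option linter.style.haveILetI false

namespace Cfsg.Agent.H80.Wbo

open Cfsg

open scoped ComplexConjugate

/-- `S0496-WBO`: weak block orthogonality (S0907) for the prime `p`, read modulo `q`. -/
theorem wbo_mod {G : Type*} [Group G] [Finite G] (p : ℕ) [Fact p.Prime]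
    (Mp : Ideal AlgInt) (hMp : IsPModular p Mp) (q : ℕ) (Bq : Set (IrrCharacter G))
    (hout : ∀ ψ : IrrCharacter G, ψ ∉ Bq → q ∣ charDegree (ψ : G → ℂ)) :
    ∃ e : IrrCharacter G → ℕ, (∀ ψ, e ψ = 0 ∨ e ψ = 1) ∧
      (∀ ψ, e ψ = 1 → ψ ∈ principalBlock Mp G) ∧
      (∀ ψ, ψ ∈ principalBlock Mp G → e ψ = 1) ∧
      ∀ g : G, p ∣ orderOf g → ∃ w : ℂ, IsIntegral ℤ w ∧
        ∑ᶠ ψ ∈ Bq, (e ψ : ℂ) * ((ψ : G → ℂ) 1 * (ψ : G → ℂ) g) = (q : ℂ) * w := by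
  classical
  have hp : p.Prime := Fact.out
  haveI := Cfsg.Agent.H4.finite_irr G
  have hfin : (principalBlock Mp G).Finite := Set.toFinite _
  have hfinQ : Bq.Finite := Set.toFinite _
  obtain ⟨B2, hB2⟩ : ∃ B2 : Finset (IrrCharacter G), B2 = hfin.toFinset := ⟨_, rfl⟩
  have hB2mem : ∀ ψ, ψ ∈ B2 ↔ ψ ∈ principalBlock Mp G := by
    intro ψ; rw [hB2, Set.Finite.mem_toFinset]
  obtain ⟨e, he⟩ : ∃ e : IrrCharacter G → ℕ,
      ∀ ψ, e ψ = if ψ ∈ principalBlock Mp G then 1 else 0 :=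
    ⟨fun ψ => if ψ ∈ principalBlock Mp G then 1 else 0, fun ψ => rfl⟩
  refine ⟨e, ?_, ?_, ?_, ?_⟩
  · intro ψ
    rw [he]
    by_cases h : ψ ∈ principalBlock Mp G
    · right; exact if_pos h
    · left; exact if_neg h
  · intro ψ h1
    by_contra hcon
    rw [he, if_neg hcon] at h1
    exact absurd h1 (by norm_num)
  · intro ψ h
    rw [he]
    exact if_pos h
  · intro g hg
    have hB : IsPBlock Mp (principalBlock Mp G) := ⟨Cfsg.Agent.H21.E2Block.triv G, rfl⟩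
    have h0 := Cfsg.Agent.S0907.result p Mp hMp (principalBlock Mp G) hB 1 g⁻¹
      (by rw [orderOf_one]; exact hp.not_dvd_one) (by rw [orderOf_inv]; exact hg)
    rw [finsum_mem_eq_finite_toFinset_sum _ hfin, ← hB2] at h0
    have h0' : ∑ ψ ∈ B2, (ψ : G → ℂ) 1 * (ψ : G → ℂ) g = 0 := by
      rw [← h0]
      refine Finset.sum_congr rfl fun ψ _ => ?_
      rw [← Cfsg.Agent.H81.irr_inv ψ g⁻¹, inv_inv]
    rw [← Finset.sum_filter_add_sum_filter_not B2 (· ∈ Bq)] at h0'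
    have hrest : ∃ w : ℂ, IsIntegral ℤ w ∧
        ∑ ψ ∈ B2.filter (fun ψ => ¬ ψ ∈ Bq), (ψ : G → ℂ) 1 * (ψ : G → ℂ) g = (q : ℂ) * w := by
      refine Finset.sum_induction _ (fun z : ℂ => ∃ w : ℂ, IsIntegral ℤ w ∧ z = (q : ℂ) * w)
        ?_ ?_ ?_
      · rintro z₁ z₂ ⟨w₁, hw₁, rfl⟩ ⟨w₂, hw₂, rfl⟩
        exact ⟨w₁ + w₂, hw₁.add hw₂, by ring⟩
      · exact ⟨0, isIntegral_zero, by simp⟩
      · intro ψ hψ
        rw [Finset.mem_filter] at hψ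
        obtain ⟨c, hc⟩ := hout ψ hψ.2
        refine ⟨(c : ℂ) * (ψ : G → ℂ) g, (Cfsg.Agent.H4.isIntegral_natCast_complex c).mul
          (Cfsg.Agent.H81.irr_isIntegral ψ g), ?_⟩
        rw [(Cfsg.Agent.H81.irr_charDegree ψ).1, hc]; push_cast; ring
    obtain ⟨w, hw, hw2⟩ := hrest
    rw [hw2] at h0'
    have hin : ∑ᶠ ψ ∈ Bq, (e ψ : ℂ) * ((ψ : G → ℂ) 1 * (ψ : G → ℂ) g) =
        ∑ ψ ∈ B2.filter (· ∈ Bq), (ψ : G → ℂ) 1 * (ψ : G → ℂ) g := by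
      rw [finsum_mem_eq_finite_toFinset_sum _ hfinQ]
      have hset : hfinQ.toFinset.filter (· ∈ principalBlock Mp G) = B2.filter (· ∈ Bq) := by
        ext ψ
        simp only [Finset.mem_filter, Set.Finite.mem_toFinset, hB2mem]
        tauto
      rw [← hset, Finset.sum_filter]
      refine Finset.sum_congr rfl fun ψ _ => ?_
      rw [he]
      split_ifs <;> simp
    exact ⟨-w, hw.neg, by rw [hin]; linear_combination h0'⟩

/-- The posted statement, verbatim. -/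
example {G : Type*} [Group G] [Finite G] (p : ℕ) [Fact p.Prime]
    (Mp : Ideal AlgInt) (hMp : IsPModular p Mp) (q : ℕ) (Bq : Set (IrrCharacter G))
    (hout : ∀ ψ : IrrCharacter G, ψ ∉ Bq → q ∣ charDegree (ψ : G → ℂ)) :
    ∃ e : IrrCharacter G → ℕ, (∀ ψ, e ψ = 0 ∨ e ψ = 1) ∧
      (∀ ψ, e ψ = 1 → ψ ∈ principalBlock Mp G) ∧
      (∀ ψ, ψ ∈ principalBlock Mp G → e ψ = 1) ∧
      ∀ g : G, p ∣ orderOf g → ∃ w : ℂ, IsIntegral ℤ w ∧
        ∑ᶠ ψ ∈ Bq, (e ψ : ℂ) * ((ψ : G → ℂ) 1 * (ψ : G → ℂ) g) = (q : ℂ) * w :=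
  wbo_mod p Mp hMp q Bq hout

end Cfsg.Agent.H80.Wbo
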